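import Cfsg.Agent.Lib.Fusion.Saturation

/-! Strongly `p`-embedded subgroups, essential subgroups and Alperin's fusion theorem. -/

set_option autoImplicit false

namespace Cfsg.Agent.Fusion

open Cfsg Cfsg.FusionSystem

section Group

variable {Γ : Type*} [Group Γ] {p : ℕ} [Fact p.Prime]

theorem not_pRankLE_zero_iff {Q : Subgroup Γ} [Finite Q] (hQ : IsPGroup p Q) :
    ¬ PRankLE p (1 - 1) Q ↔ Q ≠ ⊥ := by
  have hp : p.Prime := Fact.out
  constructor
  · rintro h rfl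
    apply h
    intro A _ _
    have : Nat.card A ≤ Nat.card (⊥ : Subgroup Γ) := Nat.card_le_card_of_injective _ A.subtype_injective
    simpa using this
  · intro h hr
    have : Nontrivial Q := (Subgroup.nontrivial_iff_ne_bot Q).2 h
    obtain ⟨n, hn, hc⟩ := hQ.nontrivial_iff_card.1 this
    have hd : p ∣ Nat.card Q := hc ▸ dvd_pow_self p hn.ne'
    obtain ⟨x, hx⟩ := exists_prime_orderOf_dvd_card' p hd
    have := hr (Subgroup.zpowers x) inferInstance (by
      rintro _ ⟨n, rfl⟩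
      show (x ^ n) ^ p = 1
      rw [← zpow_natCast, ← zpow_mul, mul_comm, zpow_mul, zpow_natCast, ← hx, pow_orderOf_eq_one,
        one_zpow])
    rw [Nat.card_zpowers, hx] at this
    simp at this
    exact absurd this (not_le.2 hp.one_lt)

theorem normalizer_le_kGeneratedCore [Finite Γ] {T Q : Subgroup Γ} (hT : IsPGroup p T) (hQ : Q ≤ T)
    (h : Q ≠ ⊥) : Subgroup.normalizer (Q : Set Γ) ≤ kGeneratedCore p 1 T :=
  le_iSup (fun Q : {Q : Subgroup Γ // Q ≤ T ∧ ¬ PRankLE p (1 - 1) Q} =>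
    Subgroup.normalizer ((Q : Subgroup Γ) : Set Γ))
    ⟨Q, hQ, (not_pRankLE_zero_iff (pgroup_of_le hT hQ)).2 h⟩

theorem kGeneratedCore_le [Finite Γ] {T M : Subgroup Γ} (hT : IsPGroup p T)
    (h : ∀ Q, Q ≤ T → Q ≠ ⊥ → Subgroup.normalizer (Q : Set Γ) ≤ M) : kGeneratedCore p 1 T ≤ M :=
  iSup_le fun Q => h Q Q.2.1 ((not_pRankLE_zero_iff (pgroup_of_le hT Q.2.1)).1 Q.2.2)

omit [Fact p.Prime] in
theorem mem_normalizer_map_conj {R : Subgroup Γ} {c n : Γ}
    (hn : n ∈ Subgroup.normalizer (R : Set Γ)) :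
    c * n * c⁻¹ ∈ Subgroup.normalizer ((R.map (MulAut.conj c).toMonoidHom : Subgroup Γ) : Set Γ) :=
  Subgroup.le_normalizer_map (MulAut.conj c).toMonoidHom ⟨n, hn, rfl⟩

/-- The basic property of a subgroup containing the normalizers of the nontrivial subgroups of a
Sylow subgroup. -/
theorem mem_of_normalizers_le [Finite Γ] {T M : Subgroup Γ} (hT : SylowIn p T ⊤)
    (h : ∀ Q, Q ≤ T → Q ≠ ⊥ → Subgroup.normalizer (Q : Set Γ) ≤ M) {γ σ : Γ} (hσ : σ ∈ M)
    (h1 : σ ≠ 1) (hσp : ∃ k, σ ^ p ^ k = 1) (h2 : γ * σ * γ⁻¹ ∈ M) : γ ∈ M := by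
  obtain ⟨k, hk⟩ := hσp
  have hTb : T ≠ ⊥ := by
    rintro rfl
    exact h1 (Subgroup.mem_bot.1 (hT.max _ le_top (pgroup_zpowers hk) bot_le
      (Subgroup.mem_zpowers σ)))
  have hTM : T ≤ M := Subgroup.le_normalizer.trans (h T le_rfl hTb)
  have hTM' := hT.of_le hTM le_top
  have a : ∀ R, R ≤ M → IsPGroup p R → R ≠ ⊥ → Subgroup.normalizer (R : Set Γ) ≤ M := by
    intro R hR hp hb n hn
    obtain ⟨c, hc, e⟩ := hTM'.conj hR hp
    have := h (R.map (MulAut.conj c).toMonoidHom) (by rintro _ ⟨x, hx, rfl⟩; exact e x hx)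
      (by rwa [Ne, Subgroup.map_eq_bot_iff_of_injective _ (MulAut.conj c).injective])
      (mem_normalizer_map_conj hn)
    have h3 := M.mul_mem (M.mul_mem (M.inv_mem hc) this) hc
    simpa [mul_assoc] using h3
  have b : ∀ U : Subgroup Γ, IsPGroup p U → U ⊓ M ≠ ⊥ → U ≤ M := by
    intro U hU hb
    by_contra hcon
    have hlt : U ⊓ M < U := lt_of_le_of_ne inf_le_left fun e => hcon (e ▸ inf_le_right)
    obtain ⟨g, g1, g2, g3⟩ := exists_mem_normalizer_of_lt hU hlt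
    exact g2 ⟨g1, a _ inf_le_right (pgroup_of_le hU inf_le_left) hb g3⟩
  obtain ⟨c, hc, ec⟩ := hTM'.conj ((Subgroup.zpowers_le).2 hσ) (pgroup_zpowers hk)
  have hcσ := ec σ (Subgroup.mem_zpowers σ)
  have hU := hT.conj_self (Subgroup.mem_top (γ * c⁻¹))
  have hUM := b _ hU.pgroup (by
    intro e
    have : γ * σ * γ⁻¹ ∈ T.map (MulAut.conj (γ * c⁻¹)).toMonoidHom ⊓ M :=
      ⟨⟨_, hcσ, by simp [mul_assoc]⟩, h2⟩
    rw [e, Subgroup.mem_bot] at this
    apply h1
    simpa using this)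
  obtain ⟨m, hm, em⟩ := hTM'.conj hUM hU.pgroup
  have : m * (γ * c⁻¹) ∈ Subgroup.normalizer (T : Set Γ) := by
    refine mem_normalizer_of_finite fun x hx => ?_
    have := em _ ⟨x, hx, rfl⟩
    simpa [mul_assoc] using this
  have h3 := M.mul_mem (M.mul_mem (M.inv_mem hm) (h T le_rfl hTb this)) hc
  simpa [mul_assoc] using h3

/-- The subgroup generated by the elements `γ` with `T ∩ T^γ ≠ 1`. -/
def tiGen (T : Subgroup Γ) : Subgroup Γ :=
  Subgroup.closure {γ | ∃ σ ∈ T, σ ≠ 1 ∧ γ * σ * γ⁻¹ ∈ T}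

omit [Fact p.Prime] in
theorem normalizer_le_tiGen {T Q : Subgroup Γ} (hQ : Q ≤ T) (h : Q ≠ ⊥) :
    Subgroup.normalizer (Q : Set Γ) ≤ tiGen T := by
  intro n hn
  obtain ⟨⟨σ, hσ⟩, h1⟩ := Subgroup.ne_bot_iff_exists_ne_one.1 h
  exact Subgroup.subset_closure ⟨σ, hQ hσ, fun e => h1 (Subtype.ext e),
    hQ (conj_mem_of_mem_normalizer hn hσ)⟩

theorem stronglyPEmbedded_tiGen [Finite Γ] {T : Subgroup Γ} (hT : SylowIn p T ⊤) (hb : T ≠ ⊥)
    (h : tiGen T ≠ ⊤) : IsStronglyPEmbedded p (tiGen T) := by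
  obtain ⟨R, hR⟩ := hT.exists_sylow_top
  refine ⟨?_, h, R, ?_⟩
  · have : Nontrivial T := (Subgroup.nontrivial_iff_ne_bot T).2 hb
    obtain ⟨n, hn, hc⟩ := hT.pgroup.nontrivial_iff_card.1 this
    exact (hc ▸ dvd_pow_self p hn.ne' : p ∣ Nat.card T).trans (Subgroup.card_subgroup_dvd_card T)
  · rw [hR]; exact kGeneratedCore_le hT.pgroup fun Q hQ hQb => normalizer_le_tiGen hQ hQb

/-- Elementwise form of strong embedding. -/
theorem IsStronglyPEmbedded.mem [Finite Γ] {Y : Subgroup Γ} (hY : IsStronglyPEmbedded p Y)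
    {γ σ : Γ} (hσ : σ ∈ Y) (h1 : σ ≠ 1) (hσp : ∃ k, σ ^ p ^ k = 1) (h2 : γ * σ * γ⁻¹ ∈ Y) :
    γ ∈ Y := by
  obtain ⟨-, -, R, hR⟩ := hY
  exact mem_of_normalizers_le (sylowIn_top R)
    (fun Q hQ hb => (normalizer_le_kGeneratedCore R.isPGroup' hQ hb).trans hR) hσ h1 hσp h2

theorem IsStronglyPEmbedded.exists_sylow [Finite Γ] {Y : Subgroup Γ}
    (hY : IsStronglyPEmbedded p Y) : ∃ R : Subgroup Γ, SylowIn p R ⊤ ∧ R ≠ ⊥ ∧ R ≤ Y := by
  obtain ⟨h1, -, R, hR⟩ := hY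
  have hb := R.ne_bot_of_dvd_card h1
  exact ⟨R, sylowIn_top R, hb, Subgroup.le_normalizer.trans
    ((normalizer_le_kGeneratedCore R.isPGroup' le_rfl hb).trans hR)⟩

theorem tiGen_ne_top [Finite Γ] {T Y : Subgroup Γ} (hT : SylowIn p T ⊤)
    (hY : IsStronglyPEmbedded p Y) : tiGen T ≠ ⊤ := by
  obtain ⟨R, hR, -, hRY⟩ := IsStronglyPEmbedded.exists_sylow hY
  obtain ⟨c, -, ec⟩ := hR.conj le_top hT.pgroup
  intro e
  apply hY.2.1
  have : tiGen T ≤ Y.comap (MulAut.conj c).toMonoidHom := by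
    rw [tiGen, Subgroup.closure_le]
    rintro γ ⟨σ, hσ, h1, h2⟩
    obtain ⟨k, hk⟩ := hT.pgroup ⟨σ, hσ⟩
    have hk' : σ ^ p ^ k = 1 := congrArg Subtype.val hk
    refine IsStronglyPEmbedded.mem hY (hRY (ec σ hσ)) (by simpa using h1)
      ⟨k, by rw [conj_pow, hk']; simp⟩ ?_
    have := hRY (ec _ h2)
    simpa [mul_assoc] using this
  rw [e, top_le_iff, eq_top_iff] at this
  rw [eq_top_iff]
  intro y _
  have := this (Subgroup.mem_top (c⁻¹ * y * c))
  simpa [mul_assoc] using this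

theorem pCore_eq_bot_of_stronglyPEmbedded [Finite Γ] {Y : Subgroup Γ}
    (hY : IsStronglyPEmbedded p Y) : pCore p Γ = ⊥ := by
  by_contra hb
  obtain ⟨R, hR, -, hRY⟩ := IsStronglyPEmbedded.exists_sylow hY
  have hn := pCore_normal p Γ
  have hle : pCore p Γ ≤ R :=
    hR.le_of_normal le_top (pCore_pgroup Γ) fun c _ d hd => hn.conj_mem d hd c
  obtain ⟨⟨σ, hσ⟩, h1⟩ := Subgroup.ne_bot_iff_exists_ne_one.1 hb
  obtain ⟨k, hk⟩ := pCore_pgroup (p := p) Γ ⟨σ, hσ⟩
  apply hY.2.1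
  rw [eq_top_iff]
  intro γ _
  exact IsStronglyPEmbedded.mem hY (hRY (hle hσ)) (fun e => h1 (Subtype.ext e))
    ⟨k, congrArg Subtype.val hk⟩ (hRY (hle (hn.conj_mem σ hσ γ)))

end Group

section Upstairs

variable {Γ : Type*} [Group Γ] {p : ℕ} [Fact p.Prime]

/-- Upstairs version of `tiGen`. -/
def tiGenUp (A T N : Subgroup Γ) : Subgroup Γ :=
  Subgroup.closure {α | α ∈ A ∧ ∃ σ ∈ T, σ ∉ N ∧ α * σ * α⁻¹ ∈ T}

omit [Fact p.Prime] in
theorem tiGenUp_le (A T N : Subgroup Γ) : tiGenUp A T N ≤ A := by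
  rw [tiGenUp, Subgroup.closure_le]; exact fun _ h => h.1

omit [Fact p.Prime] in
theorem tiGenUp_map {A T N : Subgroup Γ} (hTA : T ≤ A) (hNT : N ≤ T) [(N.subgroupOf A).Normal] :
    ((tiGenUp A T N).subgroupOf A).map (QuotientGroup.mk' (N.subgroupOf A)) =
      tiGen ((T.subgroupOf A).map (QuotientGroup.mk' (N.subgroupOf A))) := by
  have h1 : (tiGenUp A T N).subgroupOf A =
      Subgroup.closure {α : A | ∃ σ ∈ T, σ ∉ N ∧ (α : Γ) * σ * (α : Γ)⁻¹ ∈ T} := by
    apply Subgroup.map_injective A.subtype_injective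
    rw [Subgroup.map_subgroupOf_eq_of_le (tiGenUp_le A T N), MonoidHom.map_closure, tiGenUp]
    congr 1
    ext α
    constructor
    · rintro ⟨h, h'⟩; exact ⟨⟨α, h⟩, h', rfl⟩
    · rintro ⟨a, h, rfl⟩; exact ⟨a.2, h⟩
  have hker : ∀ a : A, QuotientGroup.mk' (N.subgroupOf A) a ∈
      (T.subgroupOf A).map (QuotientGroup.mk' (N.subgroupOf A)) ↔ (a : Γ) ∈ T := by
    intro a
    rw [← Subgroup.mem_comap, Subgroup.comap_map_eq_self]
    · rfl
    · rw [QuotientGroup.ker_mk']; exact fun x hx => hNT hx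
  rw [h1, MonoidHom.map_closure, tiGen]
  congr 1
  ext γ
  constructor
  · rintro ⟨α, ⟨σ, hσ, h1, h2⟩, rfl⟩
    refine ⟨QuotientGroup.mk' _ ⟨σ, hTA hσ⟩, (hker _).2 hσ, ?_, ?_⟩
    · intro e
      exact h1 ((QuotientGroup.eq_one_iff (N := N.subgroupOf A) ⟨σ, hTA hσ⟩).1 e)
    · rw [← map_mul, ← map_inv, ← map_mul, hker]; exact h2
  · rintro ⟨_, ⟨σ, hσ, rfl⟩, h1, h2⟩
    obtain ⟨α, rfl⟩ := QuotientGroup.mk'_surjective _ γ
    refine ⟨α, ⟨σ, hσ, fun e => h1 ((QuotientGroup.eq_one_iff (N := N.subgroupOf A) σ).2 e), ?_⟩,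
      rfl⟩
    rw [← map_mul, ← map_inv, ← map_mul, hker] at h2
    exact h2

theorem sylowIn_quot {A T N : Subgroup Γ} [Finite A] (hT : SylowIn p T A)
    [(N.subgroupOf A).Normal] :
    SylowIn p ((T.subgroupOf A).map (QuotientGroup.mk' (N.subgroupOf A))) ⊤ := by
  obtain ⟨R, hR⟩ := hT.exists_sylow
  have := (sylowIn_top R).map (QuotientGroup.mk' (N.subgroupOf A))
  rwa [hR, Subgroup.map_top_of_surjective _ (QuotientGroup.mk'_surjective _)] at this

theorem tiGenUp_dichotomy {A T N : Subgroup Γ} [Finite A] (hT : SylowIn p T A) (hNT : N < T)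
    [(N.subgroupOf A).Normal] :
    ((¬ ∃ E : Subgroup (A ⧸ N.subgroupOf A), IsStronglyPEmbedded p E) ∧ tiGenUp A T N = A) ∨
    IsStronglyPEmbedded p (((tiGenUp A T N).subgroupOf A).map
      (QuotientGroup.mk' (N.subgroupOf A))) := by
  have hS := sylowIn_quot (N := N) hT
  rw [tiGenUp_map hT.le hNT.le]
  obtain ⟨σ, hσ, hσN⟩ := SetLike.exists_of_lt hNT
  by_cases h : tiGen ((T.subgroupOf A).map (QuotientGroup.mk' (N.subgroupOf A))) = ⊤
  · left
    refine ⟨fun ⟨E, hE⟩ => tiGen_ne_top hS hE h, le_antisymm (tiGenUp_le _ _ _) ?_⟩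
    rw [← tiGenUp_map hT.le hNT.le] at h
    have h2 := congrArg (Subgroup.comap (QuotientGroup.mk' (N.subgroupOf A))) h
    rw [Subgroup.comap_map_eq_self, Subgroup.comap_top, Subgroup.subgroupOf_eq_top] at h2
    · exact h2
    · rw [QuotientGroup.ker_mk']
      intro x hx
      exact Subgroup.subset_closure ⟨x.2, σ, hσ, hσN,
        T.mul_mem (T.mul_mem (hNT.le hx) hσ) (T.inv_mem (hNT.le hx))⟩
  · right
    refine stronglyPEmbedded_tiGen hS ?_ h
    intro e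
    have : QuotientGroup.mk' (N.subgroupOf A) ⟨σ, hT.le hσ⟩ ∈
      (T.subgroupOf A).map (QuotientGroup.mk' (N.subgroupOf A)) := ⟨_, hσ, rfl⟩
    rw [e, Subgroup.mem_bot] at this
    exact hσN ((QuotientGroup.eq_one_iff (N := N.subgroupOf A) ⟨σ, hT.le hσ⟩).1 this)

end Upstairs

variable {Ω : Type*} [Group Ω] {S : Subgroup Ω} {F : FusionSystem S} {P Q R : Subgroup Ω}
  {f g : Ω → Ω} {p : ℕ}

theorem Inn_subgroupOf_normal (A : Subgroup (MulAut P)) : ((Inn P).subgroupOf A).Normal :=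
  inferInstance

/-- The subgroup generated by the automorphisms extending to a larger subgroup. -/
def extGen (F : FusionSystem S) (P : Subgroup Ω) : Subgroup (MulAut P) :=
  Subgroup.closure {α | ∃ Q g, P < Q ∧ Mor F Q g ∧ ∀ x ∈ P, g x = afun α x}

theorem extGen_le : extGen F P ≤ F.autGroup P := by
  rw [extGen, Subgroup.closure_le]
  rintro α ⟨Q, g, h1, h2, h3⟩
  exact (h2.mono h1.le).mem_autGroup fun x hx => (h3 x hx).symm

theorem extGen_eq : extGen F P = Subgroup.closure {α : MulAut P | ∃ (Q : Subgroup Ω) (hPQ : P < Q)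
    (φ : Q →* Ω), φ ∈ F.Hom Q ∧ ∀ x : P, φ (Subgroup.inclusion hPQ.le x) = α x} := by
  rw [extGen]; congr 1; ext α
  constructor
  · rintro ⟨Q, g, h1, ⟨φ, hφ, e⟩, h3⟩
    exact ⟨Q, h1, φ, hφ, fun x => by rw [e, ← afun_coe]; exact h3 x x.2⟩
  · rintro ⟨Q, h1, φ, hφ, e⟩
    refine ⟨Q, _, h1, mor_hfun hφ, fun x hx => ?_⟩
    rw [hfun_of_mem _ (h1.le hx), afun_of_mem _ hx, ← e]; rfl

theorem mem_of_cAut_mem_Inn (hC : centralizerIn S P ≤ P) (hP : P ≤ S) {s : Ω} (hs : s ∈ S)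
    {σ : MulAut P} (e : ∀ x ∈ P, afun σ x = s * x * s⁻¹) (h : σ ∈ Inn P) : s ∈ P := by
  obtain ⟨u, hu, e'⟩ := mem_Inn.1 h
  have : u⁻¹ * s ∈ centralizerIn S P := by
    rw [mem_centralizerIn]
    refine ⟨S.mul_mem (S.inv_mem (hP hu)) hs, fun x hx => ?_⟩
    calc _ = u⁻¹ * (s * x * s⁻¹) * u := by group
      _ = x := by rw [← e x hx, e' x hx]; group
  simpa using P.mul_mem hu (hC this)

theorem mem_Next_afun_iff {α σ : MulAut P} {s : Ω} (hs : s ∈ S)
    (e : ∀ x ∈ P, afun σ x = s * x * s⁻¹) :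
    s ∈ Next S P (afun α) ↔ α * σ * α⁻¹ ∈ autInducedBy S P := by
  constructor
  · rintro ⟨-, t, ht, e2⟩
    refine mem_autInducedBy.2 ⟨t, ht, fun x hx => ?_⟩
    rw [afun_mul _ _ hx, afun_mul _ _ (afun_mem _ hx), e _ (afun_mem _ hx), e2 _ (afun_mem _ hx),
      afun_afun_inv _ hx]
  · intro h
    obtain ⟨t, ht, e2⟩ := mem_autInducedBy.1 h
    refine ⟨⟨hs, mem_normalizer_of_afun e⟩, t, ht, fun x hx => ?_⟩
    rw [← e2 _ (afun_mem α hx), afun_mul _ _ (afun_mem α hx), afun_inv_afun _ hx,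
      afun_mul _ _ hx, e x hx]

variable [Fact p.Prime] [Finite S]

theorem extGen_eq_tiGenUp (hS : IsPGroup p S) (hr : F.IsReceptive P)
    (hC : centralizerIn S P ≤ P) :
    extGen F P = tiGenUp (F.autGroup P) (autInducedBy S P) (Inn P) := by
  rw [extGen, tiGenUp]; congr 1; ext α
  constructor
  · rintro ⟨Q, g, h1, h2, h3⟩
    have := finite_of_le h2.le
    obtain ⟨s, s1, s2, s3⟩ := exists_mem_normalizer_of_lt (pgroup_of_le hS h2.le) h1
    obtain ⟨σ, hσ⟩ := exists_cAut s3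
    refine ⟨(h2.mono h1.le).mem_autGroup fun x hx => (h3 x hx).symm, σ,
      mem_autInducedBy.2 ⟨s, h2.le s1, hσ⟩,
      fun h => s2 (mem_of_cAut_mem_Inn hC hr.1 (h2.le s1) hσ h), ?_⟩
    exact (mem_Next_afun_iff (h2.le s1) hσ).1 (h2.mem_Next_of_ext h1.le h3 s1 s3)
  · rintro ⟨hα, σ, hσ, h1, h2⟩
    obtain ⟨s, hs, e⟩ := mem_autInducedBy.1 hσ
    have hm := (mem_autGroup hr.1).1 hα
    obtain ⟨g, hg, e'⟩ := IsReceptive.ext hr hm (img_afun α)
    refine ⟨_, g, lt_of_le_of_ne hm.le_Next fun h => h1 ?_, hg, e'⟩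
    have : s ∈ P := h ▸ (mem_Next_afun_iff hs e).2 h2
    exact mem_Inn.2 ⟨s, this, e⟩

omit [Fact p.Prime] [Finite S] in
theorem extGen_eq_of_not_centric (hr : F.IsReceptive P) (hC : ¬ centralizerIn S P ≤ P) :
    extGen F P = F.autGroup P := by
  refine le_antisymm extGen_le fun α hα => Subgroup.subset_closure ?_
  have hm := (mem_autGroup hr.1).1 hα
  obtain ⟨g, hg, e'⟩ := IsReceptive.ext hr hm (img_afun α)
  exact ⟨_, g, lt_of_le_of_ne hm.le_Next fun h => hC (centralizerIn_le_Next.trans h.ge), hg, e'⟩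

theorem Inn_lt_autInducedBy (hS : IsPGroup p S) (hPS : P < S) (hC : centralizerIn S P ≤ P) :
    Inn P < autInducedBy S P := by
  obtain ⟨s, s1, s2, s3⟩ := exists_mem_normalizer_of_lt hS hPS
  obtain ⟨σ, hσ⟩ := exists_cAut s3
  refine lt_of_le_of_ne (Inn_le_autInducedBy hPS.le) fun h => s2 ?_
  exact mem_of_cAut_mem_Inn hC hPS.le s1 hσ (h ▸ mem_autInducedBy.2 ⟨s, s1, hσ⟩)

theorem essential_dichotomy (hS : IsPGroup p S) (hF : F.IsSaturated p) (hPS : P < S)
    (hP : F.IsFullyNormalized P) : (¬ F.IsEssential p P ∧ extGen F P = F.autGroup P) ∨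
      (F.IsEssential p P ∧ IsStronglyPEmbedded p (((extGen F P).subgroupOf (F.autGroup P)).map
        (QuotientGroup.mk' ((Inn P).subgroupOf (F.autGroup P))))) := by
  have hr := IsSaturated.receptive' hS hF hP
  by_cases hC : centralizerIn S P ≤ P
  · have := finite_autGroup F hP.1
    rw [extGen_eq_tiGenUp hS hr hC]
    rcases tiGenUp_dichotomy (IsFullyAutomized.sylowIn (IsSaturated.fullyAutomized hS hF hP))
      (Inn_lt_autInducedBy hS hPS hC) with h | h
    · exact Or.inl ⟨fun ⟨_, _, _, h'⟩ => h.1 h', h.2⟩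
    · exact Or.inr ⟨⟨isCentric_of_fullyCentralized (IsSaturated.fullyCentralized hS hF hP) hC, hP,
        inferInstance, _, h⟩, h⟩
  · exact Or.inl ⟨fun h => hC (IsCentric.cent_le h.1), extGen_eq_of_not_centric hr hC⟩

omit [Fact p.Prime] in
/-- Downward induction on subgroups of `S`. -/
theorem downward_induction {C : Subgroup Ω → Prop}
    (h : ∀ P, P ≤ S → (∀ Q, Q ≤ S → Nat.card P < Nat.card Q → C Q) → C P) :
    ∀ P, P ≤ S → C P := by
  have key : ∀ n : ℕ, ∀ P, P ≤ S → Nat.card S - Nat.card P = n → C P := by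
    intro n
    induction n using Nat.strong_induction_on with
    | _ n ih =>
    intro P hP hn
    refine h P hP fun Q hQ hlt => ih _ ?_ Q hQ rfl
    have : Nat.card Q ≤ Nat.card S := Subgroup.card_le_of_le hQ
    omega
  exact fun P hP => key _ P hP rfl

/-- One step of Alperin's argument, only using saturation of the class of `P`. -/
theorem alperin_step (hS : IsPGroup p S) {E : FusionSystem S} (hPS : P < S) (hsat : SatClass F p P)
    (ih : ∀ Q, Q ≤ S → Nat.card P < Nat.card Q → ∀ f, Mor F Q f → Mor E Q f)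
    (hE : ∀ P₀, F.IsConj P P₀ → F.IsFullyAutomized p P₀ → F.IsReceptive P₀ →
      F.autGroup P₀ ≤ E.autGroup P₀) (hf : Mor F P f) : Mor E P f := by
  obtain ⟨P₀, h0, hA, hR⟩ := hsat
  have key : ∀ Q, F.IsConj Q P₀ → ∃ g, Mor F Q g ∧ Mor E Q g ∧ img g Q = P₀ := by
    intro Q hQ
    obtain ⟨g, hg, e⟩ := exists_normalizer_mor hS hA hR hQ
    have hQS := isConj_le_left hQ
    have hc : Nat.card Q = Nat.card P := (isConj_card hQ).trans (isConj_card h0).symm
    have hlt : Q < S := lt_of_le_of_ne hQS fun e' => by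
      rw [e'] at hc; exact (card_lt_of_lt hPS).ne' hc
    have := finite_of_le (normalizerIn_le : normalizerIn S Q ≤ S)
    have h2 := ih _ normalizerIn_le (hc ▸ card_lt_of_lt (lt_normalizerIn hS hlt)) g hg
    exact ⟨g, hg.mono (le_normalizerIn hQS), h2.mono (le_normalizerIn hQS), e⟩
  obtain ⟨g, hg, hgE, e⟩ := key P h0
  obtain ⟨g', hg', hgE', e'⟩ := key (img f P) (isConj_trans (isConj_symm hf.isConj) h0)
  obtain ⟨i, hi, i1, i2, i3, i4⟩ := hg.inv' e
  obtain ⟨j, hj, j1, j2, j3, j4⟩ := hgE'.inv' e'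
  have hα : Mor F P₀ (fun x => g' (f (i x))) :=
    (hi.comp hf i2).comp hg' fun x hx => subset_img (i2 x hx)
  have hαm : ∀ x ∈ P₀, g' (f (i x)) ∈ P₀ := fun x hx => e' ▸ subset_img (subset_img (i2 x hx))
  have := finite_of_le hA.1
  obtain ⟨α, hαF, eα⟩ := hα.exists_aut (hα.img_eq_self hαm)
  have hαE := (mem_autGroup hA.1).1 (hE P₀ h0 hA hR hαF)
  have hgx : ∀ x ∈ P, g x ∈ P₀ := fun x hx => e ▸ subset_img hx
  refine ((hgE.comp hαE hgx).comp hj fun x hx => afun_mem _ (hgx x hx)).congr fun x hx => ?_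
  rw [eα _ (hgx x hx), i1 x hx, j1 _ (subset_img hx)]

omit [Fact p.Prime] in
theorem extGen_le_of_ih {E : FusionSystem S}
    (ih : ∀ Q, Q ≤ S → Nat.card P < Nat.card Q → ∀ f, Mor F Q f → Mor E Q f) :
    extGen F P ≤ E.autGroup P := by
  rw [extGen, Subgroup.closure_le]
  rintro α ⟨Q, g, h1, h2, h3⟩
  have := finite_of_le h2.le
  exact ((ih Q h2.le (card_lt_of_lt h1) g h2).mono h1.le).mem_autGroup fun x hx => (h3 x hx).symm

omit [Fact p.Prime] in
theorem mor_top_of_autGroup_le {E : FusionSystem S} (h : F.autGroup S ≤ E.autGroup S)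
    (hf : Mor F S f) : Mor E S f := by
  obtain ⟨α, hα, e⟩ := hf.exists_aut (hf.img_eq_self fun x hx => hf.mem hx)
  exact ((mem_autGroup le_rfl).1 (h hα)).congr e

theorem fullyNormalized_of_automized_receptive (hS : IsPGroup p S) (hA : F.IsFullyAutomized p P)
    (hR : F.IsReceptive P) : F.IsFullyNormalized P := by
  refine ⟨hA.1, fun Q hQ => ?_⟩
  obtain ⟨g, hg, e⟩ := exists_normalizer_mor hS hA hR (isConj_symm hQ)
  have := finite_of_le (normalizerIn_le : normalizerIn S P ≤ S)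
  exact hg.card_le fun x hx => e ▸ hg.normalizerIn_mem (isConj_le_right hQ) hx

/-- Alperin's fusion theorem. -/
theorem alperin (hS : IsPGroup p S) (hF : F.IsSaturated p) {E : FusionSystem S}
    (hE : ∀ P : Subgroup Ω, (P = S ∨ F.IsEssential p P) → F.autGroup P ≤ E.autGroup P) :
    F ≤ E := by
  rw [le_iff_mor]
  intro P f hf
  refine downward_induction (C := fun P => ∀ f, Mor F P f → Mor E P f) ?_ P hf.le f hf
  intro P hP ih f hf
  rcases hP.eq_or_lt with rfl | hlt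
  · exact mor_top_of_autGroup_le (hE _ (Or.inl rfl)) hf
  refine alperin_step hS hlt (hF P hP) ih (fun P₀ h0 hA hR => ?_) hf
  have hc := isConj_card h0
  have hlt0 : P₀ < S := lt_of_le_of_ne hA.1 fun e' => by
    rw [e'] at hc; exact (card_lt_of_lt hlt).ne hc
  rcases essential_dichotomy hS hF hlt0 (fullyNormalized_of_automized_receptive hS hA hR) with h | h
  · rw [← h.2]; exact extGen_le_of_ih (hc ▸ ih)
  · exact hE _ (Or.inr h.1)

/-- Alperin's theorem as an induction principle for a class of maps. -/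
theorem alperin_ind (hS : IsPGroup p S) (hF : F.IsSaturated p)
    {M : Subgroup Ω → (Ω → Ω) → Prop} (D : SysData S M)
    (hE : ∀ P : Subgroup Ω, (P = S ∨ F.IsEssential p P) → ∀ α ∈ F.autGroup P, M P (afun α))
    (hf : Mor F P f) : M P f := by
  have := alperin hS hF (E := D.sys) fun P hP α hα => (D.mor_iff.2 (hE P hP α hα)).mem_autGroup
    fun _ _ => rfl
  exact D.mor_iff.1 (le_iff_mor.1 this P f hf)

theorem isRadical_iff (hS : IsPGroup p S) : F.IsRadical p P ↔ P ≤ S ∧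
    ∀ N : Subgroup (MulAut P), N ≤ F.autGroup P → IsPGroup p N →
      (∀ a ∈ F.autGroup P, ∀ n ∈ N, a * n * a⁻¹ ∈ N) → N ≤ Inn P := by
  refine and_congr_right fun hP => ⟨fun h N h1 h2 h3 => ?_, fun h => le_antisymm ?_ ?_⟩
  · rw [← h]
    intro n hn
    exact ⟨⟨n, h1 hn⟩, le_pCore (N := N.subgroupOf _) ⟨fun x hx a => h3 a a.2 x hx⟩
      (pgroup_subgroupOf h2) hn, rfl⟩
  · refine h _ (Subgroup.map_subtype_le _) ((pCore_pgroup _).map _) ?_
    rintro a ha _ ⟨n, hn, rfl⟩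
    exact ⟨_, (pCore_normal p _).conj_mem n hn ⟨a, ha⟩, rfl⟩
  · intro n hn
    refine ⟨⟨n, Inn_le_autGroup F hP hn⟩, le_pCore (N := (Inn P).subgroupOf _) inferInstance
      (pgroup_subgroupOf ?_) hn, rfl⟩
    rw [Inn_eq_autInducedBy]; exact autInducedBy_pgroup (pgroup_of_le hS hP) P

theorem radical_of_essential (hS : IsPGroup p S) (hP : F.IsEssential p P) : F.IsRadical p P := by
  obtain ⟨hc, -, _, E, hE⟩ := hP
  have := finite_autGroup F hc.1
  have h0 := pCore_eq_bot_of_stronglyPEmbedded hE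
  rw [isRadical_iff hS]
  refine ⟨hc.1, fun N h1 h2 h3 n hn => ?_⟩
  have hn' : (N.subgroupOf (F.autGroup P)).Normal := ⟨fun x hx a => h3 a a.2 x hx⟩
  have := le_pCore (hn'.map _ (QuotientGroup.mk'_surjective ((Inn P).subgroupOf (F.autGroup P))))
    ((pgroup_subgroupOf h2).map _)
  rw [h0, le_bot_iff, Subgroup.map_eq_bot_iff, QuotientGroup.ker_mk'] at this
  exact this (show (⟨n, h1 hn⟩ : F.autGroup P) ∈ N.subgroupOf _ from hn)

theorem radical_top (hS : IsPGroup p S) (hF : F.IsSaturated p) : F.IsRadical p S := by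
  rw [isRadical_iff hS]
  refine ⟨le_rfl, fun N h1 h2 h3 => ?_⟩
  have := finite_autGroup F (le_refl S)
  rw [Inn_eq_autInducedBy]
  exact (IsFullyAutomized.sylowIn (IsSaturated.fullyAutomized hS hF
    (fullyNormalized_top F))).le_of_normal h1 h2 h3

/-- The members of the Alperin family are fully normalized, centric and radical. -/
theorem alperin_family (hS : IsPGroup p S) (hF : F.IsSaturated p)
    (hP : P = S ∨ F.IsEssential p P) :
    F.IsFullyNormalized P ∧ F.IsCentric P ∧ F.IsRadical p P := by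
  rcases hP with rfl | h
  · exact ⟨fullyNormalized_top F, isCentric_top F, radical_top hS hF⟩
  · exact ⟨h.2.1, h.1, radical_of_essential hS h⟩

end Cfsg.Agent.Fusion
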