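import Cfsg.Agent.Lib.Fusion.Coc

/-! The transfer theorems of Wielandt, Yoshida, Grün and Thompson for fusion systems. -/

set_option autoImplicit false

namespace Cfsg.Agent.Fusion

open Cfsg Cfsg.FusionSystem MulAction

universe u v

section Itc

variable {G : Type*} [Group G] {M : Subgroup G} {p : ℕ} {z x : G}

/-- the iterated commutator `[x, z, …, z]` -/
abbrev itc (z : G) (n : ℕ) (x : G) : G := (fun y : G => y⁻¹ * z⁻¹ * y * z)^[n] x

theorem itc_succ (z : G) (n : ℕ) (x : G) : itc z (n + 1) x = (itc z n x)⁻¹ * z⁻¹ * itc z n x * z :=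
  Function.iterate_succ_apply' _ _ _

theorem itc_mem (hz : z ∈ Subgroup.normalizer (M : Set G)) (hx : x ∈ M) (n : ℕ) : itc z n x ∈ M := by
  induction n with
  | zero => exact hx
  | succ n ih =>
    simpa [itc_succ, mul_assoc] using
      mul_mem (inv_mem ih) (conj_mem_of_mem_normalizer (inv_mem hz) ih)

theorem map_itc {G' : Type*} [Group G'] (φ : G →* G') (z : G) (n : ℕ) (x : G) :
    φ (itc z n x) = itc (φ z) n (φ x) := by
  induction n with
  | zero => rfl
  | succ n ih => simp only [itc_succ, map_mul, map_inv, ih]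

theorem choose_pred_modEq [hp : Fact p.Prime] {k : ℕ} (hk : k < p) :
    (p : ℤ) ∣ (-1) ^ (p - 1 - k) * ((p - 1).choose k : ℤ) - 1 := by
  have h1 : ∀ k < p, (((p - 1).choose k : ℕ) : ZMod p) = (-1) ^ k := fun k hk => by
    induction k with
    | zero => simp
    | succ k ih =>
      have := Nat.choose_succ_succ' (p - 1) k
      rw [Nat.sub_add_cancel hp.out.pos] at this
      have h2 := (ZMod.natCast_eq_zero_iff _ _).2 (hp.out.dvd_choose_self k.succ_ne_zero hk)
      rw [this, Nat.cast_add, ih (by omega)] at h2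
      rw [pow_succ]; linear_combination h2
  rw [← ZMod.intCast_zmod_eq_zero_iff_dvd]
  push_cast
  rw [h1 k hk, ← pow_add, Nat.sub_add_cancel (by omega), ZMod.pow_card_sub_one_eq_one (by simp),
    sub_self]

theorem prod_conj_eq_itc [hp : Fact p.Prime] [hM : M.Normal] {A : Type*} [CommGroup A]
    (hA : ∀ a : A, a ^ p = 1) (μ : M →* A) (z : G) (hx : x ∈ M) :
    ∏ i ∈ Finset.range p, ap μ ((z ^ i)⁻¹ * x * z ^ i) = ap μ (itc z (p - 1) x) := by
  have hz : ∀ z : G, z ∈ Subgroup.normalizer (M : Set G) := fun z => Subgroup.le_normalizer_of_normal (Subgroup.mem_top _)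
  have h1 : ∀ n i : ℕ, (fwdDiff 1)^[n] (fun i : ℕ => Additive.ofMul (ap μ ((z ^ i)⁻¹ * x * z ^ i))) i =
      Additive.ofMul (ap μ ((z ^ i)⁻¹ * itc z n x * z ^ i)) := fun n => by
    induction n with
    | zero => intro i; rfl
    | succ n ih =>
      intro i
      have hm := fun i : ℕ => hM.conj_mem' _ (itc_mem (hz z) hx n) (z ^ i)
      rw [Function.iterate_succ_apply', fwdDiff, ih, ih, ← ofMul_div, div_eq_inv_mul,
        ← ap_inv _ (hm _), ← ap_mul _ (inv_mem (hm _)) (hm _), itc_succ]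
      congr 2
      simp [pow_succ', mul_assoc, (Commute.self_pow z i).inv_inv.eq]
  have := h1 (p - 1) 0
  rw [fwdDiff_iter_eq_sum_shift, Nat.sub_add_cancel hp.out.pos] at this
  apply Additive.ofMul.injective
  rw [ofMul_prod, ← (by simp : (z ^ 0)⁻¹ * itc z (p - 1) x * z ^ 0 = itc z (p - 1) x), ← this]
  refine Finset.sum_congr rfl fun k hk => ?_
  obtain ⟨m, hm⟩ := choose_pred_modEq (Finset.mem_range.1 hk)
  rw [sub_eq_iff_eq_add.1 hm, add_smul, mul_comm, mul_smul, natCast_zsmul, ← ofMul_pow, hA]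
  simp

theorem transfer_eq_itc [hp : Fact p.Prime] [hM : M.Normal] [M.FiniteIndex] (hi : M.index = p)
    {A : Type*} [CommGroup A] (hA : ∀ a : A, a ^ p = 1) (μ : M →* A) (hz : z ∉ M) (hx : x ∈ M) :
    MonoidHom.transfer μ x = ap μ (itc z (p - 1) x) := by
  letI := M.fintypeQuotientOfFiniteIndex
  have ho : orderOf (z : G ⧸ M) = p := orderOf_eq_prime (by rw [← hi]; exact pow_card_eq_one')
    (mt (QuotientGroup.eq_one_iff z).1 hz)
  let e : Fin p ≃ G ⧸ M := Equiv.ofBijective (fun i => (z ^ i.1 : G)) ((Fintype.bijective_iff_injective_and_card _).2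
    ⟨fun i j h => Fin.ext (pow_injOn_Iio_orderOf (x := (z : G ⧸ M)) (ho ▸ i.2) (ho ▸ j.2) h),
      by rw [Fintype.card_fin, ← Nat.card_eq_fintype_card, ← hi]; rfl⟩)
  rw [transfer_eq_prod μ (t := fun k => z ^ (e.symm k).1) (fun k => e.apply_symm_apply k),
    ← prod_conj_eq_itc hA μ z hx, Finset.prod_range, ← e.prod_comp]
  refine Finset.prod_congr rfl fun i _ => ?_
  have : x • e i = e i := QuotientGroup.eq.2 (by simpa using hM.conj_mem' _ (inv_mem hx) (z ^ i.1))
  simp only [this, e.symm_apply_apply, ap_of_mem _ (hM.conj_mem' _ hx _)]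

theorem card_ge_of_itc [Finite G] [hp : Fact p.Prime] (hG : IsPGroup p G) [hM : M.Normal]
    (hc : ∀ a ∈ M, ∀ b ∈ M, a * b = b * a) (hx : x ∈ M) (h : itc z (p - 1) x ≠ 1) :
    p ^ (p + 1) ≤ Nat.card G := by
  have hz : ∀ z : G, z ∈ Subgroup.normalizer (M : Set G) := fun z => Subgroup.le_normalizer_of_normal (Subgroup.mem_top _)
  let δ : Monoid.End M := MonoidHom.mk' (fun a => ⟨itc z 1 a, itc_mem (hz z) a.2 1⟩) fun a b =>
    Subtype.ext (by
      have := hc _ (inv_mem b.2) _ (itc_mem (hz z) a.2 1)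
      change (a.1 * b)⁻¹ * z⁻¹ * (a * b) * z = itc z 1 a * (b.1⁻¹ * z⁻¹ * b * z)
      rw [← mul_assoc, ← mul_assoc, ← mul_assoc, ← mul_assoc, ← this]; simp [itc, mul_assoc])
  have hδ : ∀ n (a : M), ((δ ^ n) a).1 = itc z n a := fun n a => by
    induction n with
    | zero => rfl
    | succ n ih => rw [pow_succ', itc_succ, ← ih]; rfl
  have hn : ∃ n, itc z n x = 1 := by
    haveI := hG.isNilpotent
    obtain ⟨n, hn⟩ := Subgroup.nilpotent_iff_lowerCentralSeries.1 this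
    refine ⟨n, Subgroup.mem_bot.1 (hn ▸ ?_)⟩
    clear hn
    induction n with
    | zero => trivial
    | succ n ih =>
      simpa [itc_succ, commutatorElement_def] using Subgroup.commutator_mem_commutator (inv_mem ih)
        (Subgroup.mem_top z⁻¹)
  have h1 : ∀ j, (δ ^ j).ker ≤ (δ ^ (j + 1)).ker := fun j a ha => by
    rw [pow_succ']
    exact (congrArg δ ha).trans (map_one δ)
  have h2 : ∀ j < p, (δ ^ j).ker < (δ ^ (j + 1)).ker := fun j hj => (h1 j).lt_of_ne fun e => by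
    have h3 : ∀ k, (δ ^ (j + k)).ker ≤ (δ ^ j).ker := fun k => by
      induction k with
      | zero => exact le_rfl
      | succ k ih =>
        intro a ha
        have : δ a ∈ (δ ^ (j + k)).ker := by rwa [← add_assoc, pow_succ] at ha
        rw [e, pow_succ]; exact ih this
    obtain ⟨n, hn⟩ := hn
    exact h ((hδ _ ⟨x, hx⟩).symm.trans (congrArg Subtype.val (monotone_nat_of_le_succ h1
      (Nat.le_sub_one_of_lt hj) (h3 n (monotone_nat_of_le_succ h1 (Nat.le_add_left n j)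
        (Subtype.ext ((hδ _ _).trans hn)))))))
  have h4 : ∀ {H : Type _} [Group H] [Finite H], IsPGroup p H → ∀ {A B : Subgroup H}, A < B →
      p * Nat.card A ≤ Nat.card B := fun hH A B h => by
    obtain ⟨a, ha⟩ := (hH.to_subgroup A).exists_card_eq
    obtain ⟨b, hb⟩ := (hH.to_subgroup B).exists_card_eq
    have := card_lt_of_lt h
    rw [ha, hb] at this ⊢
    rw [← pow_succ']
    exact Nat.pow_le_pow_right hp.out.pos ((Nat.pow_lt_pow_iff_right hp.out.one_lt).1 this)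
  have h5 : ∀ j ≤ p, p ^ j ≤ Nat.card (δ ^ j).ker := fun j hj => by
    induction j with
    | zero => exact Nat.card_pos
    | succ j ih =>
      exact (pow_succ' p j).le.trans ((Nat.mul_le_mul_left p (ih (by omega))).trans
        (h4 (hG.to_subgroup M) (h2 j hj)))
  have h6 : M < ⊤ := lt_top_iff_ne_top.2 fun e => h (by
    rw [← Nat.sub_add_cancel (Nat.sub_pos_of_lt hp.out.one_lt), itc_succ, mul_assoc,
      hc _ (e.ge trivial) z (e.ge trivial)]; simp)
  exact (pow_succ' p p).le.trans ((Nat.mul_le_mul_left p ((h5 p le_rfl).trans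
    (Subgroup.card_le_card_group _))).trans ((h4 hG h6).trans Subgroup.card_top.le))

theorem exists_wreath [Finite G] [hp : Fact p.Prime] (hG : IsPGroup p G) [hM : M.Normal]
    (hi : M.index = p) (hx : x ∈ M) (h : itc z (p - 1) x ∉ (frattini M).map M.subtype) :
    ∃ (Q : Sylow p (Equiv.Perm (Fin (p ^ 2)))) (f : G →* Q), Function.Surjective f := by
  have hz : ∀ z : G, z ∈ Subgroup.normalizer (M : Set G) := fun z => Subgroup.le_normalizer_of_normal (Subgroup.mem_top _)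
  obtain ⟨B, hB, h1⟩ : ∃ B : Subgroup M, IsCoatom B ∧ ⟨_, itc_mem (hz z) hx (p - 1)⟩ ∉ B := by
    by_contra! h'
    exact h ⟨_, Solv.mem_frattini_iff.2 h', rfl⟩
  have h2 : Nat.card (G ⧸ B.map M.subtype) = p ^ 2 := by
    rw [← Subgroup.index, Subgroup.index_map_subtype, hi,
      Solv.index_eq_of_coatom_of_isPGroup (hG.to_subgroup M) hB, sq]
  let φ : G →* Equiv.Perm (Fin (p ^ 2)) := (Finite.equivFinOfCardEq h2).permCongrHom.toMonoidHom.comp
    (MulAction.toPermHom G (G ⧸ B.map M.subtype))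
  have hk : φ.ker = (B.map M.subtype).normalCore := by
    rw [Subgroup.normalCore_eq_ker, MonoidHom.ker_comp_of_injective _ _ (MulEquiv.injective _)]
  have h3 := hG.of_surjective _ φ.rangeRestrict_surjective
  haveI := hM.map _ φ.rangeRestrict_surjective
  have h4 := card_ge_of_itc h3 (M := M.map φ.rangeRestrict) (z := φ.rangeRestrict z) (by
    rintro _ ⟨a, ha, rfl⟩ _ ⟨b, hb, rfl⟩
    rw [← commutatorElement_eq_one_iff_mul_comm, ← map_commutatorElement, ← MonoidHom.mem_ker,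
      MonoidHom.ker_rangeRestrict, hk]
    exact Subgroup.normal_le_normalCore.2 ((commutator_le_frattini (hG.to_subgroup M)).trans
      (Subgroup.map_mono (Solv.le_frattini_iff.1 le_rfl B hB)))
      (Subgroup.commutator_mem_commutator ha hb)) ⟨x, hx, rfl⟩ fun e => h1 (by
    rw [← map_itc, ← MonoidHom.mem_ker, MonoidHom.ker_rangeRestrict, hk] at e
    exact (Subgroup.mem_map_iff_mem Subtype.val_injective).1 (Subgroup.normalCore_le _ e))
  obtain ⟨Q, hQ⟩ := (sylowIn_of_card_ge (C := ⊤) le_top h3 (by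
    have := Nat.factorization_factorial_mul (n := 1) hp.out
    have h5 : (p ^ 2).factorial.factorization p = p + 1 := by
      rw [sq, Nat.factorization_factorial_mul hp.out]; simp_all [add_comm]
    rwa [Subgroup.card_top, Nat.card_perm, Nat.card_eq_fintype_card, Fintype.card_fin,
      h5])).exists_sylow_top
  exact ⟨Q, (MulEquiv.subgroupCongr hQ.symm).toMonoidHom.comp φ.rangeRestrict,
    (MulEquiv.subgroupCongr hQ.symm).surjective.comp φ.rangeRestrict_surjective⟩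

end Itc

variable {Ω : Type u} [Group Ω] {S : Subgroup Ω} {F : FusionSystem S} {P Q R T D U W : Subgroup Ω}
  {p : ℕ} {f g : Ω → Ω}

theorem foc_stronglyClosed : F.StronglyClosed F.focalSubgroup :=
  stronglyClosed_iff.2 ⟨foc_le, fun _ _ hf _ hx h => by simpa using mul_mem h (hf.mem_foc hx)⟩

theorem exists_quot_hom (hD : ⁅S, S⁆ ≤ D) : ∃ (A : Type u) (_ : CommGroup A) (l : S →* A),
    Function.Surjective l ∧ ∀ x ∈ S, ap l x = 1 ↔ x ∈ D := by
  haveI : (D.subgroupOf S).Normal := ⟨fun a ha b => by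
    simpa [Subgroup.mem_subgroupOf] using
      mul_mem (show a.1 ∈ D from ha) (conj_mem_of_commutator_le hD b.2 a.2)⟩
  refine ⟨S ⧸ D.subgroupOf S, { (inferInstance : Group (S ⧸ D.subgroupOf S)) with
      mul_comm := fun a b => ?_ }, QuotientGroup.mk' _, QuotientGroup.mk'_surjective _,
    fun x hx => by rw [ap_of_mem _ hx]; exact QuotientGroup.eq_one_iff _⟩
  obtain ⟨a, rfl⟩ := QuotientGroup.mk_surjective a
  obtain ⟨b, rfl⟩ := QuotientGroup.mk_surjective b
  refine QuotientGroup.eq.2 ?_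
  simpa [Subgroup.mem_subgroupOf, mul_assoc] using
    conj_mem_of_commutator_le hD (inv_mem a.2) b.2

theorem Mor.orderOf_eq (hf : Mor F P f) {x : Ω} (hx : x ∈ P) : orderOf (f x) = orderOf x :=
  orderOf_eq_orderOf_iff.2 fun n => by rw [← hf.map_pow hx, hf.eq_one_iff (pow_mem hx n)]

variable [hp : Fact p.Prime] [Finite S]

theorem orderOf_pow_lt (hS : IsPGroup p S) {u : Ω} (hu : u ∈ S) (h1 : u ≠ 1) {k : ℕ} (hk : p ∣ k) :
    orderOf (u ^ k) < orderOf u := by
  obtain ⟨n, hn⟩ := IsPGroup.iff_orderOf.1 hS ⟨u, hu⟩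
  rw [Subgroup.orderOf_mk] at hn
  have h0 : 0 < orderOf u := hn ▸ pow_pos hp.out.pos n
  rw [(orderOf_pos_iff.1 h0).orderOf_pow]
  refine Nat.div_lt_self h0 (hp.out.one_lt.trans_le (Nat.le_of_dvd (Nat.gcd_pos_of_pos_left _ h0)
    (Nat.dvd_gcd (hn ▸ dvd_pow_self p ?_) hk)))
  rintro rfl
  exact h1 (orderOf_eq_one_iff.1 hn)

theorem foc_le_of_orbits (hS : IsPGroup p S) (hF : F.IsSaturated p) {A : Type*} [CommGroup A]
    (l : S →* A) (hl : ∀ x ∈ S, ap l x = 1 ↔ x ∈ D) (hW : W ≤ S)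
    (h1 : ∀ P f, Mor F P f → W ≤ P → ∀ x ∈ P, x⁻¹ * f x ∈ D)
    (h3 : ∀ u U (hu : u ∈ U), U = W ⊔ Subgroup.zpowers u → ∀ R : Subgroup U, R ≠ ⊤ → ⟨u, hu⟩ ∈ R →
      ∀ f, Mor F (R.map U.subtype) f → ap l (f u) ^ p = 1 →
      ∃ M : Subgroup U, R ≤ M ∧ ∀ (μ : M →* A) [M.FiniteIndex],
        (M = R → ∀ m : M, μ m = ap l (f m)) → MonoidHom.transfer μ ⟨u, hu⟩ = 1) :
    F.focalSubgroup ≤ D := by
  intro u hu
  induction h : orderOf u using Nat.strong_induction_on generalizing u with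
  | _ n ih =>
  subst h
  have huS := foc_le hu
  rcases eq_or_ne u 1 with rfl | hu1
  · exact one_mem _
  have h2 : ∀ (k : ℕ) P f, Mor F P f → u ^ k ∈ P → p ∣ k → ap l (f (u ^ k)) = 1 :=
    fun k P f hf hk hd => (hl _ (hf.mem hk)).2 (ih _ (by
      rw [hf.orderOf_eq hk]; exact orderOf_pow_lt hS huS hu1 hd)
      (StronglyClosed.mem foc_stronglyClosed hf hk (pow_mem hu k)) rfl)
  have hU := Subgroup.mem_sup_right (S := W) (Subgroup.mem_zpowers u)
  obtain ⟨n, hn, e⟩ := exists_pow_eq_one hS hF l (sup_le hW (Subgroup.zpowers_le.2 huS))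
    (u := ⟨u, hU⟩) hu (a₀ := ap l u) (fun f hf => by
      have := (hl _ (mul_mem (inv_mem huS) (hf.mem hU))).2 (h1 _ f hf le_sup_left u hU)
      rwa [ap_mul _ (inv_mem huS) (hf.mem hU), ap_inv _ huS, inv_mul_eq_one, eq_comm] at this)
    (fun k f hf hk => h2 k _ f hf (Subgroup.mem_zpowers _) hk) fun R hR huR f hf =>
      h3 u _ hU rfl R hR huR f hf (by
        have : u ∈ R.map (Subgroup.subtype _) := ⟨_, huR, rfl⟩
        rw [← ap_pow _ (hf.mem this), ← hf.map_pow this]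
        exact h2 p _ f hf (pow_mem this p) dvd_rfl)
  obtain ⟨k, hk⟩ := hS ⟨u, huS⟩
  rw [← ap_pow _ huS, hl _ (pow_mem huS n)] at e
  exact Transfer.mem_of_pow_mem_of_pow_mem (((Nat.Prime.coprime_iff_not_dvd hp.out).2 hn).pow_left k)
    (by rw [show u ^ p ^ k = 1 from congrArg Subtype.val hk]; exact one_mem _) e

/-- Grün's first theorem. -/
theorem gruen (hS : IsPGroup p S) (hF : F.IsSaturated p)
    (h1 : ∀ f, Mor F S f → ∀ x ∈ S, x⁻¹ * f x ∈ D)
    (h2 : ∀ P f, Mor F P f → ∀ x ∈ P, x ∈ ⁅S, S⁆ → f x ∈ D) : F.focalSubgroup ≤ D := by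
  obtain ⟨A, _, l, -, hl⟩ := exists_quot_hom (D := D) fun x hx =>
    h2 _ _ (mor_id F le_rfl) x (foc_le (commutator_le_foc (F := F) hx)) hx
  refine foc_le_of_orbits hS hF l hl le_rfl (fun P f hf hP x hx => h1 f (hf.mono hP) x (hf.le hx))
    fun u U hu hU R hR huR f hf e => ⟨R, le_rfl, fun μ _ hμ => ?_⟩
  have hUS : U ≤ S := hU ▸ sup_le le_rfl (Subgroup.zpowers_le.2 (hf.le ⟨_, huR, rfl⟩))
  haveI : Finite U := finite_of_le hUS
  obtain ⟨n, hn⟩ := (pgroup_of_le hS hUS).index R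
  obtain ⟨n, rfl⟩ := Nat.exists_eq_succ_of_ne_zero (n := n) (by
    rintro rfl; exact hR (Subgroup.index_eq_one.1 hn))
  rw [Transfer.transfer_eq_pow_of_mem μ huR fun k a ha => ?_, hn, pow_succ', pow_mul, hμ rfl, e,
    one_pow]
  have h3 : ∀ x ∈ R, x.1 ∈ R.map U.subtype := fun x hx => ⟨x, hx, rfl⟩
  have h4 := mul_mem (inv_mem (pow_mem huR k)) ha
  have := (hl _ (hf.mem (h3 _ h4))).2 (h2 _ f hf _ (h3 _ h4) (by
    simpa using conj_mem_of_commutator_le le_rfl (inv_mem (hUS a.2)) (pow_mem (hUS hu) k)))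
  rw [← hμ rfl ⟨_, h4⟩] at this
  rw [← map_pow, eq_comm, ← inv_mul_eq_one, ← map_inv, ← map_mul]
  exact this

/-- Wielandt's transfer theorem. -/
theorem wielandt (hS : IsPGroup p S) (hF : F.IsSaturated p) {E : FusionSystem S}
    (hE : E.IsSaturated p) (hEF : E.IsSubsystemOf F) (hW : W ≤ S)
    (hn : S ≤ Subgroup.normalizer (W : Set Ω)) (h1 : ∀ P f, Mor F P f → W ≤ P → Mor E P f)
    (h : E.focalSubgroup ≠ F.focalSubgroup) : ∃ x ∈ S, ∃ z ∈ W, ∃ W₀ : Subgroup W, IsCoatom W₀ ∧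
      (x ∈ W → x ∈ W₀.map W.subtype) ∧ itc z (p - 1) x ∈ W₀.map W.subtype ∧
      itc z (p - 1) x ∉ ((frattini W₀).map W₀.subtype).map W.subtype := by
  by_contra! hc
  suffices F.focalSubgroup ≤ (frattini S).map S.subtype ⊔ E.focalSubgroup from
    h (by rw [foc_eq_sup hS hF, foc_eq_sup hS hE, tate hS hF hE hEF (hyp_le_foc.trans this)])
  obtain ⟨A, _, l, hs, hl⟩ := exists_quot_hom ((commutator_le_frattini hS).trans
    (le_sup_left (b := E.focalSubgroup)))
  have hA : ∀ a : A, a ^ p = 1 := fun a => by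
    obtain ⟨s, rfl⟩ := hs a
    rw [← map_pow]
    exact (ap_of_mem l (pow_mem s.2 p)).symm.trans ((hl _ (pow_mem s.2 p)).2
      (Subgroup.mem_sup_left ⟨_, Solv.pow_mem_frattini hS s, rfl⟩))
  refine foc_le_of_orbits hS hF l hl hW (fun P f hf hP x hx =>
    Subgroup.mem_sup_right ((h1 P f hf hP).mem_foc hx)) fun u U hu hU R hR huR f hf _ => ?_
  have huS : u ∈ S := hf.le ⟨_, huR, rfl⟩
  have hUS : U ≤ S := hU ▸ sup_le hW (Subgroup.zpowers_le.2 huS)
  have hWU : W ≤ U := hU ▸ le_sup_left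
  haveI : Finite U := finite_of_le hUS
  haveI : Finite W := finite_of_le hW
  have hp' := pgroup_of_le hS hUS
  obtain ⟨M, hM, hRM⟩ := Solv.exists_coatom_ge hR
  haveI := hp'.isNilpotent
  haveI := Solv.coatom_normal_of_nilpotent hM
  have hi := Solv.index_eq_of_coatom_of_isPGroup hp' hM
  obtain ⟨z, hz, hzM⟩ : ∃ z, ∃ hz : z ∈ W, ⟨z, hWU hz⟩ ∉ M := by
    by_contra! h'
    refine hM.1 (eq_top_iff.2 fun a _ => (Subgroup.mem_map_iff_mem Subtype.val_injective).1 
      ((show U ≤ M.map U.subtype from hU.le.trans (sup_le (fun w hw => ⟨_, h' w hw, rfl⟩)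
        (Subgroup.zpowers_le.2 ⟨_, hRM huR, rfl⟩))) a.2))
  refine ⟨M, hRM, fun μ _ _ => ?_⟩
  rw [transfer_eq_itc hi hA μ hzM (hRM huR)]
  have h2 : itc z (p - 1) u ∈ W := by
    obtain ⟨n, e⟩ := Nat.exists_eq_succ_of_ne_zero (Nat.sub_pos_of_lt hp.out.one_lt).ne'
    rw [e, itc, Function.iterate_succ_apply]
    exact itc_mem (Subgroup.le_normalizer hz) (mul_mem (by
      simpa using conj_mem_of_mem_normalizer (inv_mem (hn huS)) (inv_mem hz)) hz) n
  have h3 := itc_mem (M := M) (z := ⟨z, hWU hz⟩) (Subgroup.le_normalizer_of_normal (Subgroup.mem_top _))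
    (hRM huR) (p - 1)
  have h4 : Subgroup.inclusion hWU ⟨_, h2⟩ = itc ⟨z, hWU hz⟩ (p - 1) ⟨u, hu⟩ :=
    Subtype.ext (map_itc U.subtype ⟨z, hWU hz⟩ _ ⟨u, hu⟩).symm
  have h5 : (M.comap (Subgroup.inclusion hWU)).index = p := by
    refine ((Nat.dvd_prime hp.out).1 (by
      rw [Subgroup.index_comap, ← hi]; exact Subgroup.relIndex_dvd_index_of_normal ..)).resolve_left fun e => ?_
    exact hzM ((Subgroup.index_eq_one.1 e).ge (Subgroup.mem_top ⟨z, hz⟩))
  obtain ⟨_, ⟨w, hw, rfl⟩, e⟩ := hc u huS z hz _ (Solv.isCoatom_of_index_prime (h5 ▸ hp.out))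
    (fun h => ⟨⟨u, h⟩, hRM huR, rfl⟩) ⟨⟨_, h2⟩, by rwa [← h4] at h3, rfl⟩
  have := Solv.frattini_le_of_commutator_le_of_pow_mem (p := p)
    (N := (μ.comp ((Subgroup.inclusion hWU).subgroupComap M)).ker)
    (Abelianization.commutator_subset_ker _) (fun a => by rw [MonoidHom.mem_ker, map_pow, hA]) hw
  rw [ap_of_mem _ h3, ← this]
  exact congrArg μ (Subtype.ext (h4.symm.trans (Subtype.ext e.symm)))

omit hp [Finite S] in
theorem foc_congr {E : FusionSystem T} (h : ∀ P f, Mor E P f ↔ Mor F P f) :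
    E.focalSubgroup = F.focalSubgroup :=
  le_antisymm (foc_mono (isSubsystemOf_iff.2 fun P f => (h P f).1))
    (foc_mono (isSubsystemOf_iff.2 fun P f => (h P f).2))

/-- Yoshida's theorem. -/
theorem yoshida (hS : IsPGroup p S) (hF : F.IsSaturated p) {E : FusionSystem S}
    (hE : E.IsSaturated p) (hEF : E.IsSubsystemOf F) (h1 : ∀ f, Mor F S f → Mor E S f)
    (h : E.focalSubgroup ≠ F.focalSubgroup) :
    ∃ (Q : Sylow p (Equiv.Perm (Fin (p ^ 2)))) (f : S →* Q), Function.Surjective f := by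
  obtain ⟨x, hx, z, hz, M, hM, h2, -, h3⟩ := wielandt hS hF hE hEF le_rfl Subgroup.le_normalizer
    (fun P f hf hP => (h1 f (hf.mono hP)).mono hf.le) h
  haveI := hS.isNilpotent
  haveI := Solv.coatom_normal_of_nilpotent hM
  refine exists_wreath hS (Solv.index_eq_of_coatom_of_isPGroup hS hM) (x := ⟨x, hx⟩) (z := ⟨z, hz⟩)
    ((Subgroup.mem_map_iff_mem Subtype.val_injective).1 (h2 hx)) fun h => h3 ⟨_, h, map_itc _ _ _ _⟩

theorem Mor.img_zpowers (hf : Mor F P f) {x : Ω} (hx : x ∈ P) :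
    img f (Subgroup.zpowers x) = Subgroup.zpowers (f x) :=
  le_antisymm (img_le_iff.2 (by rintro _ ⟨n, rfl⟩; exact ⟨n, (hf.map_zpow hx n).symm⟩))
    (Subgroup.zpowers_le.2 (subset_img (Subgroup.mem_zpowers x)))

omit hp [Finite S] in
theorem normalizerIn_zpowers_two {j : Ω} (hj : orderOf j = 2) :
    normalizerIn S (Subgroup.zpowers j) = centralizerIn S (Subgroup.zpowers j) :=
  le_antisymm (fun s hs => mem_centralizerIn.2 ⟨hs.1, by
    rintro _ ⟨n, rfl⟩
    obtain ⟨m, h1⟩ := conj_mem_of_mem_normalizerIn hs (Subgroup.mem_zpowers j)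
    beta_reduce at h1 ⊢
    rw [← zpow_mod_orderOf, hj] at h1
    rcases Int.emod_two_eq_zero_or_one m with h | h <;> simp only [Nat.cast_ofNat, h] at h1
    · rw [zpow_zero, eq_comm, conj_eq_one_iff] at h1
      simp [h1]
    · rw [← conj_zpow, ← h1, zpow_one]⟩) centralizerIn_le_normalizerIn

/-- Thompson's transfer lemma. -/
theorem thompson_foc [Finite Ω] (hS : IsPGroup 2 S) (hF : F.IsSaturated 2) (hT : T.relIndex S = 2) {i : Ω}
    (hi : i ∈ S) (hi2 : orderOf i = 2)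
    (h : ∀ j, F.IsConjElt i j → F.IsFullyNormalized (Subgroup.zpowers j) → j ∉ T) :
    i ∉ F.focalSubgroup := fun hf => by
  obtain ⟨Q, hQ, hQ'⟩ := exists_fullyNormalized F (Subgroup.zpowers_le.2 hi)
  obtain ⟨g, hg, rfl⟩ := isConj_iff.1 hQ
  have hi' := Subgroup.mem_zpowers i
  have hj := StronglyClosed.mem foc_stronglyClosed hg hi' hf
  have hj2 := (hg.orderOf_eq hi').trans hi2
  rw [hg.img_zpowers hi'] at hQ'
  obtain ⟨l, hl⟩ := Transfer.exists_signHom hT
  have hu : g i ∈ centralizerIn S (Subgroup.zpowers (g i)) := mem_centralizerIn.2 ⟨hg.mem hi', by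
    rintro _ ⟨n, rfl⟩; simp [← conj_zpow]⟩
  have hA : ∀ a : ℤˣ, a ^ 2 = 1 := Int.units_sq
  obtain ⟨n, hn, e⟩ := exists_pow_eq_one hS hF l centralizerIn_le (u := ⟨_, hu⟩) hj (a₀ := -1)
    (fun f hf => by
      rw [ap_of_mem _ (hf.mem hu), (hl _).2]
      refine h _ (isConjElt_iff.2 ⟨_, _, hg.comp hf (by
        rintro _ ⟨n, rfl⟩; rw [hg.map_zpow hi']; exact zpow_mem hu n), hi', rfl⟩)
        ⟨Subgroup.zpowers_le.2 (hf.mem hu), fun R hR => ?_⟩
      refine (hQ'.2 R (isConj_trans (hf.img_zpowers hu ▸ (hf.mono (Subgroup.zpowers_le.2 hu)).isConj)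
        hR)).trans ?_
      rw [normalizerIn_zpowers_two hj2]
      exact hf.card_le fun x hx => centralizerIn_le_normalizerIn (hf.img_zpowers hu ▸
        hf.mem_centralizer_img (Subgroup.zpowers_le.2 hu) hx (mem_centralizerIn.1 hx).2))
    (fun k f hf ⟨m, hk⟩ => by
      rw [show g i ^ k = 1 by rw [hk, pow_mul, ← hj2, pow_orderOf_eq_one, one_pow], hf.map_one,
        ap_one])
    fun R hR huR f hf => ⟨R, le_rfl, fun μ _ _ => by
      haveI : Finite (centralizerIn S (Subgroup.zpowers (g i))) := finite_of_le centralizerIn_le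
      obtain ⟨n, hn⟩ := (pgroup_of_le hS centralizerIn_le).index R
      obtain ⟨n, rfl⟩ := Nat.exists_eq_succ_of_ne_zero (n := n) (by
        rintro rfl; exact hR (Subgroup.index_eq_one.1 hn))
      rw [Transfer.transfer_eq_pow_of_mem μ huR fun k a ha => ?_, hn, pow_succ', pow_mul, hA,
        one_pow]
      rw [← map_pow]
      exact congrArg μ (Subtype.ext (Subtype.ext (by
        simpa using (mem_centralizerIn.1 a⁻¹.2).2 _ (pow_mem (Subgroup.mem_zpowers _) k))))⟩
  rw [(Nat.not_even_iff_odd.1 (mt even_iff_two_dvd.1 hn)).neg_one_pow] at e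
  exact absurd e (by decide)

/-- Grün's lemma. -/
theorem center_factor_eq_bot (hS : IsPGroup p S) (hF : F.IsSaturated p) (h : S ≤ F.focalSubgroup)
    {Ω' : Type*} [Group Ω'] {S' : Subgroup Ω'} {θ : S →* Ω'} {E : FusionSystem S'}
    (hθ : Surj F E θ) (hk : preimageAlong θ ⊥ = F.center) : E.center = ⊥ := by
  haveI := hθ.finite
  have hZ := center_isCentral F
  have hZ' := center_isCentral E
  have hc : ∀ c ∈ F.center, ∀ s ∈ S, s * c * s⁻¹ = c := fun c hc s hs =>
    IsCentral.fix hZ (mor_conj F hZ.1 hs) hc hc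
  have h0 : ∀ P f, Mor F P f → ∃ Q g, Mor F Q g ∧ P ≤ Q ∧ preimageAlong θ E.center ≤ Q ∧
      (∀ x ∈ P, (f x)⁻¹ * g x ∈ F.center) ∧ ∀ z ∈ preimageAlong θ E.center, z⁻¹ * g z ∈ F.center :=
    fun P f hf => by
      obtain ⟨f', hf', e⟩ := hθ.mor hf
      obtain ⟨g', hg', e1, e2⟩ := IsCentral.ext hZ' hf'
      obtain ⟨g, hg, e3⟩ := hθ.lift hg'
      have h1 := (le_preimage_image (α := θ) hf.le).trans (preimageAlong_mono (le_sup_left (b := E.center)))
      have h2 := preimageAlong_mono (α := θ) (le_sup_right (a := imageAlong θ P) (b := E.center))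
      refine ⟨_, g, hg, h1, h2, fun x hx => hk ▸ (mem_ker_iff (hf.mem hx) (hg.mem (h1 hx))).2 ?_,
        fun z hz => hk ▸ (mem_ker_iff (preimageAlong_le hz) (hg.mem (h2 hz))).2 ?_⟩
      · rw [← e3 x (h1 hx), e1 _ (ap_mem_imageAlong hf.le hx), e x hx]
      · rw [← e3 z (h2 hz), e2 _ (mem_preimageAlong.1 hz).2]
  have h1 : ∀ z ∈ preimageAlong θ E.center, ∀ s ∈ S, s * z * s⁻¹ = z := fun z hz s hs => by
    have hzS := preimageAlong_le hz
    have h2 : ∀ s ∈ S, z⁻¹ * (s * z * s⁻¹) ∈ F.center := fun s hs =>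
      hk ▸ (mem_ker_iff hzS (mul_mem (mul_mem hs hzS) (inv_mem hs))).2 (by
        rw [ap_conj _ hs hzS]
        exact (IsCentral.fix hZ' (mor_conj E hZ'.1 (hθ.mem s hs)) (mem_preimageAlong.1 hz).2
          (mem_preimageAlong.1 hz).2).symm)
    refine (mem_centralizerIn.1 (foc_le_iff (D := centralizerIn S (Subgroup.zpowers z)).2
      (fun P f hf x hx => mem_centralizerIn.2 ⟨mul_mem (inv_mem (hf.le hx)) (hf.mem hx), ?_⟩)
      (h hs))).2 z (Subgroup.mem_zpowers z)
    obtain ⟨Q, g, hg, a1, a2, a3, a4⟩ := h0 P f hf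
    have e1 := IsCentral.fix hZ hg (a2 (preimageAlong_mono bot_le (hk ▸ h2 x (hf.le hx))))
      (h2 x (hf.le hx))
    rw [hg.map_mul (inv_mem (a2 hz)) (mul_mem (mul_mem (a1 hx) (a2 hz)) (inv_mem (a1 hx))),
      hg.map_inv (a2 hz), hg.map_conj (a1 hx) (a2 hz), ← mul_inv_cancel_left z (g z),
      ← mul_inv_cancel_left (f x) (g x)] at e1
    have e2 := hc _ (a3 x hx) z hzS
    have e3 := hc _ (a4 z hz)
    have e5 := hZ.1 (a3 x hx)
    generalize (f x)⁻¹ * g x = c at e1 e2 e5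
    generalize z⁻¹ * g z = d at e1 e3
    have e4 : f x * z * (f x)⁻¹ = x * z * x⁻¹ := by
      refine mul_left_cancel (a := z⁻¹) (e1 ▸ ?_)
      have e6 := mul_inv_eq_iff_eq_mul.1
        (e3 _ (mul_mem (mul_mem (mul_mem (inv_mem hzS) (hf.mem hx)) e5) hzS))
      calc _ = z⁻¹ * f x * (z * c * z⁻¹) * z * c⁻¹ * (f x)⁻¹ := by group
        _ = d⁻¹ * (z⁻¹ * f x * c * z * d) * c⁻¹ * (f x)⁻¹ := by rw [e2, e6]; group
        _ = _ := by group
    rintro _ ⟨n, rfl⟩
    rw [← conj_zpow]; congr 1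
    calc _ = x⁻¹ * (f x * z * (f x)⁻¹) * x := by group
      _ = z := by rw [e4]; group
  have hU := hθ.toMorph.preimage_stronglyClosed (IsNormal.stronglyClosed (IsCentral.isNormal hZ'))
  have hN := normal_of_abelian hS hF hU fun x hx y hy =>
    mul_inv_eq_iff_eq_mul.1 (h1 y hy x (hU.1 hx))
  have hA := IsFullyAutomized.sylowIn (IsSaturated.fullyAutomized hS hF
    (fullyNormalized_of_normal hU.1 (StronglyClosed.le_normalizer hU)))
  rw [show autInducedBy S (preimageAlong θ E.center) = ⊥ from eq_bot_iff.2 fun α hα => by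
    obtain ⟨s, hs, e⟩ := mem_autInducedBy.1 hα
    exact aut_ext fun x hx => by rw [e x hx, h1 x hx s hs, afun_one]] at hA
  haveI := finite_autGroup F hU.1
  have hA' := hA.not_dvd_relIndex
  rw [Subgroup.relIndex_bot_left] at hA'
  refine eq_bot_iff.2 fun y hy => ?_
  obtain ⟨z, hz, rfl⟩ := hθ.pre hZ'.1 hy
  refine (mem_preimageAlong.1 (hk.ge ((mem_center_iff hS hF).2 ⟨hU.1 hz, fun P f hf hzP => ?_⟩))).2
  obtain ⟨g, hg, e1, e2⟩ := IsNormal.ext hN hf
  obtain ⟨α, hα, e3⟩ := (hg.mono le_sup_right).exists_aut e2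
  obtain ⟨Q, g', hg', a1, a2, a3, a4⟩ := h0 _ g hg
  have h3 : z⁻¹ * g z ∈ F.center := by
    simpa using mul_mem (a4 z hz) (inv_mem (a3 z (Subgroup.mem_sup_right hz)))
  have h4 := preimageAlong_mono (Q' := E.center) bot_le (hk ▸ h3)
  have h5 := afun_pow_of_step hz h4 (β := α) (by rw [e3 z hz, mul_inv_cancel_left])
    (by rw [e3 _ h4, IsCentral.fix hZ hg (Subgroup.mem_sup_right h4) h3])
    (Nat.card (F.autGroup (preimageAlong θ E.center)))
  rw [show α ^ Nat.card (F.autGroup (preimageAlong θ E.center)) = 1 from congrArg Subtype.val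
    (pow_card_eq_one' (x := (⟨α, hα⟩ : F.autGroup _))), afun_one, left_eq_mul] at h5
  obtain ⟨k, hk'⟩ := hS ⟨_, hZ.1 h3⟩
  have := Transfer.mem_of_pow_mem_of_pow_mem (N := ⊥) (c := z⁻¹ * g z)
    (((Nat.Prime.coprime_iff_not_dvd hp.out).2 hA').pow_left k) (Subgroup.mem_bot.2 (congrArg Subtype.val hk'))
    (Subgroup.mem_bot.2 h5)
  rw [← e1 z hzP, ← inv_mul_eq_one.1 (Subgroup.mem_bot.1 this)]

theorem exists_norm (hS : IsPGroup p S) (hF : F.IsSaturated p) (hQ : F.IsNormal Q)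
    (hZ : centralizerIn S S ≤ Q) : ∃ (n : ℕ) (N : centralizerIn S S →* Ω), ¬ p ∣ n ∧
      (∀ z, N z ∈ F.center ∧ (z.1 ^ n)⁻¹ * N z ∈ F.focalSubgroup) ∧
      ∀ z, z.1 ∈ F.center → N z = z.1 ^ n := by
  classical
  have hA := IsFullyAutomized.sylowIn (IsSaturated.fullyAutomized hS hF
    (fullyNormalized_of_normal hQ.1 (StronglyClosed.le_normalizer (IsNormal.stronglyClosed hQ))))
  haveI := finite_autGroup F hQ.1
  let B := (autInducedBy S Q).subgroupOf (F.autGroup Q)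
  haveI := Fintype.ofFinite (F.autGroup Q ⧸ B)
  letI : CommGroup (Subgroup.center Q) := { (inferInstance : Group (Subgroup.center Q)) with
    mul_comm := fun a b => Subtype.ext (Subgroup.mem_center_iff.1 b.2 a) }
  let j : centralizerIn S S →* Subgroup.center Q := (Subgroup.inclusion hZ).codRestrict _ fun z =>
    Subgroup.mem_center_iff.2 fun q => Subtype.ext
      (mul_inv_eq_iff_eq_mul.1 ((mem_centralizerIn.1 z.2).2 q (hQ.1 q.2))).symm
  let ρ : MulAut Q → Subgroup.center Q →* Subgroup.center Q := fun α =>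
    (α.toMonoidHom.comp (Subgroup.subtype _)).codRestrict _ fun z =>
      Subgroup.mem_center_iff.2 fun q => by
        obtain ⟨q, rfl⟩ := α.surjective q
        simpa using congrArg α (Subgroup.mem_center_iff.1 z.2 q)
  let r : Subgroup.center Q →* Ω := Q.subtype.comp (Subgroup.subtype _)
  have hρ : ∀ α w, r (ρ α w) = afun α (r w) := fun α w => (afun_of_mem α w.1.2).symm
  have hB : ∀ (a : F.autGroup Q) z, ρ (a : F.autGroup Q ⧸ B).out (j z) = ρ a (j z) := fun a z => by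
    obtain ⟨b, e⟩ := QuotientGroup.mk_out_eq_mul B a
    obtain ⟨s, hs, e'⟩ := mem_autInducedBy.1 b.2
    have : ρ b.1 (j z) = j z := Subtype.ext (Subtype.ext ((hρ _ _).trans ((e' _ (hZ z.2)).trans
      (mul_inv_eq_iff_eq_mul.2 (mul_inv_eq_iff_eq_mul.1 ((mem_centralizerIn.1 z.2).2 s hs)).symm))))
    rw [e]; exact congrArg (ρ a) this
  let N := ∏ q : F.autGroup Q ⧸ B, (ρ q.out).comp j
  have hN : ∀ z, N z = ∏ q : F.autGroup Q ⧸ B, ρ q.out (j z) := fun z => MonoidHom.finset_prod_apply ..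
  have hn : ∀ w : Subgroup.center Q, w ^ B.index = ∏ _q : F.autGroup Q ⧸ B, w := fun w => by
    rw [Finset.prod_const, Subgroup.index, Nat.card_eq_fintype_card]; rfl
  refine ⟨B.index, r.comp N, hA.not_dvd_relIndex, fun z => ⟨(mem_center_iff hS hF).2
    ⟨hQ.1 (N z).1.2, fun P f hf hP => ?_⟩, ?_⟩, fun z hz => ?_⟩
  · obtain ⟨g, hg, e1, e2⟩ := IsNormal.ext hQ hf
    obtain ⟨α, hα, e3⟩ := (hg.mono le_sup_right).exists_aut e2
    rw [← e1 _ hP, ← e3 ((r.comp N) z) (N z).1.2]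
    refine (hρ α _).symm.trans (congrArg r ?_)
    rw [hN, map_prod, ← Equiv.prod_comp (MulAction.toPerm (⟨α, hα⟩ : F.autGroup Q))
      fun q : F.autGroup Q ⧸ B => ρ q.out (j z)]
    refine Finset.prod_congr rfl fun q _ => ?_
    conv_rhs => rw [← q.out_eq', MulAction.toPerm_apply, MulAction.Quotient.smul_coe, hB]
    rfl
  · have : (j z ^ B.index)⁻¹ * N z ∈ F.focalSubgroup.comap r := by
      rw [hn, hN, ← Finset.prod_inv_distrib, ← Finset.prod_mul_distrib]
      refine Subgroup.prod_mem _ fun q _ => ?_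
      rw [Subgroup.mem_comap, map_mul, map_inv, hρ]
      exact ((mem_autGroup hQ.1).1 q.out.2).mem_foc (j z).1.2
    exact this
  · refine congrArg r ((hN z).trans ((Finset.prod_congr rfl fun q _ => ?_).trans (hn (j z)).symm))
    exact Subtype.ext (Subtype.ext ((hρ _ _).trans (IsCentral.fix (center_isCentral F)
      ((mem_autGroup hQ.1).1 q.out.2) (hZ z.2) hz)))

theorem center_complement (hS : IsPGroup p S) (hF : F.IsSaturated p) (hQ : F.IsNormal Q)
    (hZ : centralizerIn S S ≤ Q) : ∃ K ≤ centralizerIn S S, K ≤ F.focalSubgroup ⊔ F.center ∧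
      F.center ⊓ K = ⊥ ∧ F.center ⊔ K = centralizerIn S S := by
  obtain ⟨n, N, hn, h1, h2⟩ := exists_norm hS hF hQ hZ
  have h3 : ∀ {x} {D : Subgroup Ω}, x ∈ S → x ^ n ∈ D → x ∈ D := fun {x D} hx h => by
    obtain ⟨k, hk⟩ := hS ⟨_, hx⟩
    exact Transfer.mem_of_pow_mem_of_pow_mem
      (((Nat.Prime.coprime_iff_not_dvd hp.out).2 hn).pow_left k)
      (by rw [show x ^ p ^ k = 1 from congrArg Subtype.val hk]; exact one_mem _) h
  have h4 : F.center ≤ centralizerIn S S := fun z hz => mem_centralizerIn.2 ⟨center_le F hz,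
    fun s hs => mul_inv_eq_iff_eq_mul.2 (mul_inv_eq_iff_eq_mul.1 (IsCentral.fix (center_isCentral F)
      (mor_conj F (center_le F) hs) hz hz)).symm⟩
  refine ⟨N.ker.map (Subgroup.subtype _), Subgroup.map_subtype_le _, ?_, eq_bot_iff.2 ?_,
    le_antisymm (sup_le h4 (Subgroup.map_subtype_le _)) fun z hz => h3 hz.1 ?_⟩
  · rintro _ ⟨z, hz, rfl⟩
    refine h3 z.2.1 (Subgroup.mem_sup_left ?_)
    simpa [show N z = 1 from hz] using (h1 z).2
  · rintro _ ⟨hz', z, hz, rfl⟩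
    exact h3 z.2.1 (Subgroup.mem_bot.2 ((h2 z hz').symm.trans hz))
  · have h5 := (h1 ⟨z, hz⟩).1
    have : (⟨_, h4 h5⟩⁻¹ * ⟨z, hz⟩ ^ n : centralizerIn S S) ∈ N.ker := by
      rw [MonoidHom.mem_ker, map_mul, map_inv, map_pow, h2 _ h5, inv_mul_cancel]
    simpa using mul_mem (Subgroup.mem_sup_left h5) (Subgroup.mem_sup_right (S := F.center)
      (Subgroup.mem_map_of_mem (Subgroup.subtype _) this))

section Grp

variable {G : Type u} [Group G] [Finite G] {N : Subgroup G}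

theorem foc_group (S : Sylow p G) :
    (groupFusionSystem (S : Subgroup G)).focalSubgroup = S.1 ⊓ commutator G := by
  rw [groupFusionSystem_eq]; exact (foc_sub (sylowIn_top S)).1

theorem hyp_group (S : Sylow p G) :
    (groupFusionSystem (S : Subgroup G)).hyperfocalSubgroup p = S.1 ⊓ pResidual p G := by
  rw [groupFusionSystem_eq, ← Transfer.res_top]; exact hyp_sub (sylowIn_top S)

omit hp [Finite G] in
theorem sub_sub_group {S : Subgroup G} (h : S ≤ N) :
    (fusionSystemOfSubgroup N S h).IsSubsystemOf (groupFusionSystem S) :=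
  isSubsystemOf_iff.2 fun _ _ hf => by
    obtain ⟨a, b, g, -, e⟩ := mor_subgroup_iff.1 hf
    exact mor_group_iff.2 ⟨a, b, g, e⟩

omit hp in
theorem weak_normalizer {S W : Subgroup G} (hW : IsWeaklyClosed W S) {g : G}
    (h : ∀ x ∈ W, g * x * g⁻¹ ∈ S) : g ∈ Subgroup.normalizer (W : Set G) :=
  mem_normalizer_of_finite fun x hx => (hW.2 g (by rintro _ ⟨y, hy, rfl⟩; exact h y hy)).le ⟨x, hx, rfl⟩

theorem wielandt_group (S : Sylow p G) {W : Subgroup G} (hW : IsWeaklyClosed W S)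
    (hn : (S : Subgroup G) ≤ Subgroup.normalizer (W : Set G))
    (h : (fusionSystemOfSubgroup _ _ hn).focalSubgroup ≠ (groupFusionSystem S.1).focalSubgroup) :
    ∃ x ∈ S.1, ∃ z ∈ W, ∃ W₀ : Subgroup W, IsCoatom W₀ ∧
      (x ∈ W → x ∈ W₀.map W.subtype) ∧ itc z (p - 1) x ∈ W₀.map W.subtype ∧
      itc z (p - 1) x ∉ ((frattini W₀).map W₀.subtype).map W.subtype :=
  wielandt S.isPGroup' (group_saturated S) (sub_saturated ((sylowIn_top S).of_le hn le_top))
    (sub_sub_group hn) hW.1 hn (fun _ _ hf hP => by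
      obtain ⟨a, b, g, e⟩ := mor_group_iff.1 hf
      exact mor_subgroup_iff.2 ⟨a, b, g, weak_normalizer hW fun x hx => e x (hP hx) ▸ b x (hP hx),
        e⟩) h

theorem res_eq_of_foc (S : Sylow p G) (hn : (S : Subgroup G) ≤ N)
    (h : (fusionSystemOfSubgroup _ _ hn).focalSubgroup = (groupFusionSystem S.1).focalSubgroup) :
    Transfer.res p N = pResidual p G ⊓ N := by
  have h1 := (sylowIn_top S).of_le hn le_top
  have h2 := tate S.isPGroup' (group_saturated S) (sub_saturated h1) (sub_sub_group hn)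
    (hyp_le_foc.trans (h.ge.trans le_sup_right))
  rw [hyp_group, hyp_sub h1] at h2
  refine le_antisymm (le_inf (Transfer.res_le_pResidual N) (Transfer.res_le N)) fun x hx => ?_
  obtain ⟨s, hs, a, ha, rfl⟩ := Transfer.IsSyl.exists_mul_res
    ⟨h1.le, h1.pgroup, h1.not_dvd_relIndex⟩ hx.2
  exact mul_mem (h2.le ⟨hs, (mul_mem_cancel_right (Transfer.res_le_pResidual N ha)).1 hx.1⟩).2 ha

end Grp

end Cfsg.Agent.Fusion
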