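import Cfsg.Agent.Lib.Fusion.Model

/-! Quotients of groups and factor systems; rigidity of models; local models. -/

set_option autoImplicit false

namespace Cfsg.Agent.Fusion

open Cfsg Cfsg.FusionSystem

section Group

variable {G : Type*} [Group G] [Finite G] {p : ℕ} [Fact p.Prime]

theorem exists_lift_conj {S : Subgroup G} (hS : SylowIn p S ⊤) (H : Subgroup G) [H.Normal]
    {P : Subgroup G} (hP : P ≤ S) (g : G)
    (h : ∀ x ∈ P, (QuotientGroup.mk (g * x * g⁻¹) : G ⧸ H) ∈ S.map (QuotientGroup.mk' H)) :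
    ∃ k ∈ H, ∀ x ∈ P, k * g * x * (k * g)⁻¹ ∈ S := by
  obtain ⟨y, hy, e⟩ := (hS.of_le (le_sup_left : S ≤ S ⊔ H) le_top).conj
    (D := img (fun x => g * x * g⁻¹) P) (img_le_iff.2 fun x hx => by
      obtain ⟨s, hs, es⟩ := h x hx
      have := QuotientGroup.eq.1 es
      simpa using Subgroup.mul_mem _ (Subgroup.mem_sup_left hs) (Subgroup.mem_sup_right this))
    (by rw [img_conj]; exact (pgroup_of_le hS.pgroup hP).map _)
  obtain ⟨s, hs, k, hk, rfl⟩ := Subgroup.mem_sup_of_normal_right.1 hy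
  refine ⟨k, hk, fun x hx => ?_⟩
  have := S.mul_mem (S.mul_mem (S.inv_mem hs) (e _ (subset_img hx))) hs
  convert this using 1; group

omit [Finite G] [Fact p.Prime] in
theorem ap_comp_subtype {G' : Type*} [Group G'] (S : Subgroup G) (φ : G →* G') {x : G}
    (hx : x ∈ S) : ap (φ.comp S.subtype) x = φ x := ap_of_mem _ hx

theorem group_factor {S : Subgroup G} (hS : SylowIn p S ⊤) (H : Subgroup G) [H.Normal] :
    Factor (groupFusionSystem S) (S ⊓ H) ((QuotientGroup.mk' H).comp S.subtype)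
      (groupFusionSystem (S.map (QuotientGroup.mk' H))) := by
  have hr : ((QuotientGroup.mk' H).comp S.subtype).range = S.map (QuotientGroup.mk' H) := by
    rw [MonoidHom.range_comp, Subgroup.range_subtype]
  refine ⟨?_, hr, fun {P' f'} => ⟨fun hf => ?_, ?_⟩⟩
  · ext x
    rw [mem_preimageAlong, Subgroup.mem_inf, Subgroup.mem_bot]
    exact and_congr_right fun hx => by
      rw [ap_comp_subtype _ _ hx]; exact QuotientGroup.eq_one_iff x
  · obtain ⟨h1, h2, γ, e⟩ := mor_group_iff.1 hf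
    obtain ⟨g, rfl⟩ := QuotientGroup.mk_surjective γ
    have hm : ∀ x ∈ preimageAlong ((QuotientGroup.mk' H).comp S.subtype) P',
        (QuotientGroup.mk x : G ⧸ H) ∈ P' := fun x hx => by
      have := (mem_preimageAlong.1 hx).2
      rwa [ap_comp_subtype _ _ (preimageAlong_le hx)] at this
    obtain ⟨k, hk, ek⟩ := exists_lift_conj hS H preimageAlong_le g fun x hx => by
      have := h2 _ (hm x hx)
      rwa [e _ (hm x hx)] at this
    refine ⟨h1, _, mor_group_iff.2 ⟨preimageAlong_le, ek, _, fun _ _ => rfl⟩, fun x hx => ?_⟩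
    rw [ap_comp_subtype _ _ (preimageAlong_le hx), ap_comp_subtype _ _ (ek x hx)]
    refine (e _ (hm x hx)).trans ?_
    simp [(QuotientGroup.eq_one_iff k).2 hk]
  · rintro ⟨h1, f, hf, e⟩
    obtain ⟨-, h2, g, eg⟩ := mor_group_iff.1 hf
    have key : ∀ y ∈ P', ∃ x ∈ preimageAlong ((QuotientGroup.mk' H).comp S.subtype) P',
        QuotientGroup.mk x = y ∧ f' y = QuotientGroup.mk (f x) := fun y hy => by
      obtain ⟨x, hx, rfl⟩ := h1 hy
      have hx' : x ∈ preimageAlong ((QuotientGroup.mk' H).comp S.subtype) P' :=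
        mem_preimageAlong.2 ⟨hx, by rwa [ap_comp_subtype _ _ hx]⟩
      have := e x hx'
      rw [ap_comp_subtype _ _ hx, ap_comp_subtype _ _ (h2 x hx')] at this
      exact ⟨x, hx', rfl, this⟩
    refine mor_group_iff.2 ⟨h1, fun y hy => ?_, QuotientGroup.mk g, fun y hy => ?_⟩
    · obtain ⟨x, hx, -, e'⟩ := key y hy
      exact ⟨_, h2 x hx, e'.symm⟩
    · obtain ⟨x, hx, rfl, e'⟩ := key y hy
      rw [e', eg x hx]; rfl

/-- A cocycle with values in an abelian normal `p`-subgroup that is trivial on a subgroup of index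
prime to `p` is a coboundary. -/
theorem exists_coboundary {T C : Subgroup G} (hT : ¬ p ∣ T.index) (hn : C.Normal)
    (hp : IsPGroup p C) (hab : ∀ x ∈ C, ∀ y ∈ C, x * y = y * x) (c : G → G) (hc : ∀ g, c g ∈ C)
    (hmul : ∀ g h, c (g * h) = c g * (g * c h * g⁻¹)) (h1 : ∀ t ∈ T, c t = 1) :
    ∃ z ∈ C, ∀ g, c g = z * g * z⁻¹ * g⁻¹ := by
  classical
  letI : CommGroup C := { (inferInstance : Group C) with
    mul_comm := fun a b => Subtype.ext (hab a a.2 b b.2) }
  letI : Fintype (G ⧸ T) := Fintype.ofFinite _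
  obtain ⟨k, hk⟩ := IsPGroup.iff_card.1 hp
  obtain ⟨m, hm⟩ := exists_inv_exp (Z := C) (n := T.index) (by
    rw [hk]; exact ((Nat.Prime.coprime_iff_not_dvd Fact.out).2 hT).symm.pow_right k)
  let D : G ⧸ T → C := fun q => ⟨c q.out, hc _⟩
  refine ⟨((∏ q, D q) ^ m : C), Subtype.property _, fun g => ?_⟩
  let t : C →* C := (MulAut.conjNormal g : MulAut C).toMonoidHom
  have h2 : ∀ q, D (g • q) = ⟨c g, hc g⟩ * t (D q) := fun q => by
    apply Subtype.ext
    obtain ⟨⟨s, hs⟩, hb⟩ := QuotientGroup.mk_out_eq_mul T (g * q.out)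
    have h4 : g • q = QuotientGroup.mk (g * q.out) := by
      conv_lhs => rw [← q.out_eq]
      rfl
    show c (g • q).out = c g * (g * c q.out * g⁻¹)
    rw [h4, hb, hmul, h1 s hs, hmul]; simp
  have h3 : (∏ q, D q) ^ m = ⟨c g, hc g⟩ * t ((∏ q, D q) ^ m) := by
    conv_lhs => rw [← Equiv.prod_comp (MulAction.toPerm g)]
    simp only [MulAction.toPerm_apply, h2, Finset.prod_mul_distrib, Finset.prod_const,
      Finset.card_univ, mul_pow]
    rw [← map_prod, ← map_pow, ← Nat.card_eq_fintype_card]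
    congr 1; exact hm _
  have h4 := congrArg Subtype.val h3
  generalize ((∏ q, D q) ^ m : C) = z at h4
  change (z : G) = c g * (g * z * g⁻¹) at h4
  rw [show (z : G) * g * (z : G)⁻¹ * g⁻¹ = z * (g * z * g⁻¹)⁻¹ by group, eq_mul_inv_iff_mul_eq, ← h4]

theorem exists_conj_of_fix_sylow (T : Sylow p G)
    (hC : Subgroup.centralizer ((pCore p G : Subgroup G) : Set G) ≤ pCore p G) (ψ : G →* G)
    (hψ : ∀ x ∈ T, ψ x = x) :
    ∃ z ∈ T, (∀ t ∈ T, z * t = t * z) ∧ ∀ g, ψ g = z * g * z⁻¹ := by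
  have hn := pCore_normal p G
  have hle := pCore_le_sylow T
  have hcn : (Subgroup.centralizer (pCore p G : Set G)).Normal := inferInstance
  have h0 : ∀ g, ψ g * g⁻¹ ∈ Subgroup.centralizer (pCore p G : Set G) := fun g x hx => by
    have h1 := hψ _ (hle (hn.conj_mem x hx g⁻¹))
    rw [map_mul, map_mul, hψ x (hle hx), inv_inv, map_inv] at h1
    calc x * (ψ g * g⁻¹) = ψ g * ((ψ g)⁻¹ * x * ψ g) * g⁻¹ := by group
      _ = ψ g * g⁻¹ * x := by rw [h1]; group
  have h1 : ∀ g h, ψ (g * h) * (g * h)⁻¹ = ψ g * g⁻¹ * (g * (ψ h * h⁻¹) * g⁻¹) := fun g h => by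
    rw [map_mul]; group
  have h2 : ∀ t ∈ (T : Subgroup G), ψ t * t⁻¹ = 1 := fun t ht => by rw [hψ t ht, mul_inv_cancel]
  obtain ⟨z, hz, e⟩ := exists_coboundary (p := p) T.not_dvd_index hcn
    (pgroup_of_le (pCore_pgroup G) hC)
    (fun x hx y hy => (hx y (hC hy)).symm) (fun g => ψ g * g⁻¹) h0 h1 h2
  have e' : ∀ g, ψ g = z * g * z⁻¹ := fun g => mul_right_cancel (e g)
  exact ⟨z, hle (hC hz), fun t ht => by rw [← mul_inv_eq_iff_eq_mul, ← e', hψ t ht], e'⟩

end Group

universe u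

variable {Ω : Type u} [Group Ω] {S : Subgroup Ω} {F : FusionSystem S} {P Q R : Subgroup Ω} {p : ℕ}
  {f : Ω → Ω}

theorem normSys_mor_iff {E : FusionSystem (normalizerIn S Q)} (hE : F.IsNormalizerSystem Q E) :
    Mor E P f ↔ KMor F Q ⊤ (normalizerIn S Q) P f := isNormalizerSystem_iff.1 hE P f

theorem centSys_mor_iff {E : FusionSystem (centralizerIn S Q)} (hE : F.IsCentralizerSystem Q E) :
    Mor E P f ↔ KMor F Q ⊥ (centralizerIn S Q) P f := isCentralizerSystem_iff.1 hE P f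

theorem normSys_sub {E : FusionSystem (normalizerIn S Q)} (hE : F.IsNormalizerSystem Q E) :
    E.IsSubsystemOf F := isSubsystemOf_iff.2 fun _ _ h => ((normSys_mor_iff hE).1 h).mor

theorem centSys_sub {E : FusionSystem (centralizerIn S Q)} (hE : F.IsCentralizerSystem Q E) :
    E.IsSubsystemOf F := isSubsystemOf_iff.2 fun _ _ h => ((centSys_mor_iff hE).1 h).mor

theorem normSys_mor_of {E : FusionSystem (normalizerIn S Q)} (hE : F.IsNormalizerSystem Q E)
    {U : Subgroup Ω} {g : Ω → Ω} (hP : P ≤ normalizerIn S Q) (hg : Mor F U g) (hPU : P ≤ U)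
    (hQU : Q ≤ U) (e : img g Q = Q) : Mor E P g := by
  obtain ⟨α, -, eα⟩ := (hg.mono hQU).exists_aut e
  exact (normSys_mor_iff hE).2 (KMor.of_ext isKNorm_top hP hg hPU hQU (fun _ _ => rfl) trivial
    fun x hx => (eα x hx).symm)

theorem normSys_ext {E : FusionSystem (normalizerIn S Q)} (hE : F.IsNormalizerSystem Q E)
    (hf : Mor E P f) : ∃ g, Mor F (P ⊔ Q) g ∧ (∀ x ∈ P, g x = f x) ∧ img g Q = Q := by
  obtain ⟨-, -, g, hg, e, α, -, eα⟩ := (normSys_mor_iff hE).1 hf
  exact ⟨g, hg, e, img_eq_of_afun eα⟩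

theorem centSys_mor_of {E : FusionSystem (centralizerIn S Q)} (hE : F.IsCentralizerSystem Q E)
    {U : Subgroup Ω} {g : Ω → Ω} (hP : P ≤ centralizerIn S Q) (hg : Mor F U g) (hPU : P ≤ U)
    (hQU : Q ≤ U) (e : ∀ x ∈ Q, g x = x) : Mor E P g :=
  (centSys_mor_iff hE).2 (KMor.of_ext isKNorm_bot hP hg hPU hQU (fun _ _ => rfl)
    (Subgroup.one_mem _) fun x hx => by rw [afun_one, e x hx])

theorem centSys_ext {E : FusionSystem (centralizerIn S Q)} (hE : F.IsCentralizerSystem Q E)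
    (hf : Mor E P f) : ∃ g, Mor F (P ⊔ Q) g ∧ (∀ x ∈ P, g x = f x) ∧ ∀ x ∈ Q, g x = x := by
  obtain ⟨-, -, g, hg, e, α, hα, eα⟩ := (centSys_mor_iff hE).1 hf
  rw [Subgroup.mem_bot] at hα
  exact ⟨g, hg, e, fun x hx => by rw [eα x hx, hα, afun_one]⟩

theorem normSys_normal {E : FusionSystem (normalizerIn S Q)} (hE : F.IsNormalizerSystem Q E)
    (hQ : Q ≤ S) : E.IsNormal Q := by
  refine isNormal_iff.2 ⟨le_normalizerIn hQ, fun P f hf => ?_⟩
  obtain ⟨g, hg, e, e'⟩ := normSys_ext hE hf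
  exact ⟨g, normSys_mor_of hE (sup_le hf.le (le_normalizerIn hQ)) hg le_rfl le_sup_right e', e, e'⟩

theorem normSys_autGroup {E : FusionSystem (normalizerIn S Q)} (hE : F.IsNormalizerSystem Q E)
    (hQ : Q ≤ S) : E.autGroup Q = F.autGroup Q := by
  refine le_antisymm (IsSubsystemOf.autGroup_le (normSys_sub hE) (le_normalizerIn hQ))
    fun α hα => (mem_autGroup (le_normalizerIn hQ)).2 ?_
  exact normSys_mor_of hE (le_normalizerIn hQ) ((mem_autGroup hQ).1 hα) le_rfl le_rfl (img_afun α)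

theorem normSys_eq_of_normal {E : FusionSystem (normalizerIn S Q)} (hE : F.IsNormalizerSystem Q E)
    (hQ : F.IsNormal Q) : Mor E P f ↔ Mor F P f := by
  refine ⟨isSubsystemOf_iff.1 (normSys_sub hE) P f, fun hf => ?_⟩
  obtain ⟨g, hg, e, e'⟩ := IsNormal.ext hQ hf
  exact (normSys_mor_of hE (le_inf hf.le (hf.le.trans (WeaklyClosed.le_normalizer
    (IsNormal.weaklyClosed hQ)))) hg le_sup_left le_sup_right e').congr e

theorem normal_of_normSys {E : FusionSystem (normalizerIn S Q)} (hE : F.IsNormalizerSystem Q E)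
    (hQ : Q ≤ S) (h : ∀ P f, Mor F P f → Mor E P f) : F.IsNormal Q :=
  isNormal_iff.2 ⟨hQ, fun P f hf => normSys_ext hE (h P f hf)⟩

variable [Fact p.Prime] [Finite S]

theorem normSys_constrained (hS : IsPGroup p S) (hF : F.IsSaturated p)
    (hn : F.IsFullyNormalized Q) (hc : centralizerIn S Q ≤ Q) {E : FusionSystem (normalizerIn S Q)}
    (hE : F.IsNormalizerSystem Q E) : E.IsConstrained p :=
  isConstrained_of (normalizer_saturated hS hF hn hE) (normSys_normal hE hn.1)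
    ((centralizerIn_mono normalizerIn_le).trans hc)

theorem normSys_core (hS : IsPGroup p S) (hc : F.IsCentric Q) (hr : F.IsRadical p Q)
    {E : FusionSystem (normalizerIn S Q)} (hE : F.IsNormalizerSystem Q E) : E.core = Q := by
  have : Finite (normalizerIn S Q) := finite_of_le normalizerIn_le
  have hN := normSys_normal hE hc.1
  refine le_antisymm (IsNormal.le_of_radical (pgroup_of_le hS normalizerIn_le) (core_isNormal E)
    (isCentric_of_weaklyClosed (IsNormal.weaklyClosed hN)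
      ((centralizerIn_mono normalizerIn_le).trans (IsCentric.cent_le hc))) ?_)
    (IsNormal.le_core hN)
  rw [isRadical_iff (pgroup_of_le hS normalizerIn_le), normSys_autGroup hE hc.1]
  exact ⟨hN.1, ((isRadical_iff hS).1 hr).2⟩

end Cfsg.Agent.Fusion
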