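import Cfsg.Agent.Lib.Fusion.Simple
import Cfsg.Agent.Lib.Fusion.GroupQuot
import Cfsg.Agent.Lib.Transfer.Wr3
import Cfsg.Agent.S3116
import Cfsg.Agent.S1202
import Cfsg.Agent.S0107

/-! Criteria for the simplicity of the fusion system of a group. -/

set_option autoImplicit false
set_option linter.unusedSectionVars false

namespace Cfsg.Agent.Fusion

open Cfsg Cfsg.FusionSystem Subgroup

variable {G G' : Type*} [Group G] [Group G'] {p : ℕ} {S R T : Subgroup G} [Fact p.Prime] [Finite G]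

/-- strongly closed in `S` with respect to `G` -/
def SCl (S T : Subgroup G) : Prop := ∀ x ∈ T, ∀ g : G, g * x * g⁻¹ ∈ S → g * x * g⁻¹ ∈ T

theorem SCl.of_isConj (h : SCl S T) {x y : G} (hx : x ∈ T) (e : IsConj x y) (hy : y ∈ S) : y ∈ T := by
  obtain ⟨g, rfl⟩ := _root_.isConj_iff.1 e
  exact h x hx g hy

theorem SCl.conj (h : SCl S T) (hT : T ≤ S) {x s : G} (hx : x ∈ T) (hs : s ∈ S) : s * x * s⁻¹ ∈ T :=
  h x hx s (mul_mem (mul_mem hs (hT hx)) (inv_mem hs))

theorem SCl.le_normalizer (h : SCl S T) (hT : T ≤ S) : S ≤ normalizer (T : Set G) := fun s hs =>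
  mem_normalizer_iff.2 fun x => ⟨fun hx => h.conj hT hx hs, fun hx => by
    simpa [mul_assoc] using h.conj hT hx (inv_mem hs)⟩

/-- a nontrivial strongly closed subgroup contains an element of order `p` of the centre of `S` -/
theorem SCl.exists_central (h : SCl S T) (hT : T ≤ S) (hS : IsPGroup p S) (h1 : T ≠ ⊥) :
    ∃ x ∈ T, x ≠ 1 ∧ x ^ p = 1 ∧ ∀ s ∈ S, s * x = x * s := by
  obtain ⟨x, hx, h2, h3⟩ := Transfer.exists_pow_prime_eq_one ((hS.to_le hT).to_le inf_le_left)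
    (Transfer.inf_centralizer_ne_bot hS hT (h.le_normalizer hT) h1)
  exact ⟨x, hx.1, h2, h3, fun s hs => hx.2 s hs⟩

theorem mem_simpleGen_of_pNorm (hR : (groupFusionSystem S).IsCentric R) {g : G}
    (hg : g ∈ normalizer (S : Set G)) (h : g ∈ pNorm p R) : g ∈ simpleGen p S :=
  Subgroup.subset_closure ⟨hg, Or.inr ⟨R, hR, h⟩⟩

theorem norm_le_simpleGen (h : IsPGroup p (MulAut S)) : normalizer (S : Set G) ≤ simpleGen p S := by
  intro g hg
  obtain ⟨k, hk⟩ := h (cAut S ⟨g, hg⟩)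
  obtain ⟨m, h1, h2, h3⟩ := exists_pow_pelement (p := p) (isOfFinOrder_of_finite g) k
  obtain ⟨c, hc⟩ := (Nat.modEq_iff_dvd' h3).1 h2.symm
  have e : g = g ^ m * ((g ^ p ^ k) ^ c)⁻¹ := by
    rw [← pow_mul, ← hc, eq_mul_inv_iff_mul_eq, ← pow_succ', Nat.sub_add_cancel h3]
  rw [e]
  have c1 : g ^ p ^ k ∈ centralizer (S : Set G) := fun x hx => by
    have := afun_cAut (⟨g, hg⟩ ^ p ^ k) hx
    rw [map_pow, hk, afun_of_mem _ hx] at this
    exact (mul_inv_eq_iff_eq_mul.1 this.symm).symm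
  have c2 : g ^ p ^ k ∈ simpleGen p S := Subgroup.subset_closure ⟨Subgroup.pow_mem _ hg _, Or.inl c1⟩
  exact mul_mem (mem_simpleGen_of_pNorm (isCentric_top _) (Subgroup.pow_mem _ hg _)
    (Subgroup.subset_closure ⟨Subgroup.pow_mem _ hg _, h1⟩)) (inv_mem (Subgroup.pow_mem _ c2 _))

theorem sc_cyc (P : Sylow 2 G) (hG : ∀ H : Subgroup G, H.index ≠ 2) {s : G} (hs : s ∈ P.1) (k : ℕ) :
    ∀ T ≤ P.1, SCl P T → (∀ x ∈ P.1, ∃ i : ℤ, x * s ^ i ∈ T) → s ^ 2 ^ k ∈ T → s ∈ T := by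
  induction k with
  | zero => intro T _ _ _ h; simpa using h
  | succ k ih =>
    intro T hT h hc hk
    have cm : ∀ x ∈ P.1, ∀ y ∈ P.1, x * y * x⁻¹ * y⁻¹ ∈ T := fun x hx y hy => by
      obtain ⟨i, hi⟩ := hc x hx
      obtain ⟨j, hj⟩ := hc y hy
      have := mul_mem (mul_mem (mul_mem hi (h.conj hT hj (inv_mem (zpow_mem hs i))))
        (h.conj hT (inv_mem hi) (inv_mem (zpow_mem hs j)))) (inv_mem hj)
      convert this using 1
      have c : s ^ j * s ^ i * (s ^ j)⁻¹ = s ^ i := by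
        rw [← zpow_add, add_comm, zpow_add, mul_inv_cancel_right]
      calc x * y * x⁻¹ * y⁻¹ = x * y * (s ^ j * s ^ i * (s ^ j)⁻¹) * (s ^ i)⁻¹ * x⁻¹ * y⁻¹ := by
            rw [c]; group
        _ = _ := by group
    let T' : Subgroup G :=
      { carrier := {x | x ∈ P.1 ∧ x ^ 2 ∈ T}
        one_mem' := ⟨one_mem _, by simp⟩
        inv_mem' := fun hx => ⟨inv_mem hx.1, by rw [inv_pow]; exact inv_mem hx.2⟩
        mul_mem' := fun {x y} hx hy => ⟨mul_mem hx.1 hy.1, by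
          convert mul_mem (mul_mem (cm x hx.1 y hy.1) (h.conj hT hx.2 hy.1)) hy.2 using 1
          simp only [sq]; group⟩ }
    have h2 : s ^ 2 ∈ T := (ih T' (fun x hx => hx.1) (fun x hx g hg => ⟨hg, by
        rw [conj_pow]; exact h _ hx.2 g (by rw [← conj_pow]; exact pow_mem hg 2)⟩)
      (fun x hx => (hc x hx).imp fun i hi => ⟨hT hi, pow_mem hi 2⟩)
      ⟨pow_mem hs _, by rwa [← pow_mul, ← pow_succ]⟩).2
    have h3 : ∀ x ∈ P.1, x ∉ T → x * s ∈ T := fun x hx hn => by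
      obtain ⟨i, hi⟩ := hc x hx
      obtain ⟨j, rfl | rfl⟩ := Int.even_or_odd' i
      · rw [zpow_mul, zpow_ofNat] at hi
        exact absurd ((mul_mem_cancel_right (zpow_mem h2 j)).1 hi) hn
      · rw [add_comm, zpow_add, zpow_one, zpow_mul, zpow_ofNat, ← mul_assoc] at hi
        exact (mul_mem_cancel_right (zpow_mem h2 j)).1 hi
    have h4 := Transfer.focalSubgroup_le_of (P := P.1) (Q₁ := T) fun x hx g hg => by
      by_cases e : x ∈ T
      · exact mul_mem (h x e g hg) (inv_mem e)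
      · have := mul_mem (h3 _ hg fun e' => e (by simpa [mul_assoc] using h _ e' g⁻¹ (by
          simpa [mul_assoc] using hx))) (inv_mem (h3 x hx e))
        simpa [mul_assoc] using this
    rw [← Transfer.sylow_inf_commutator_sup_pResidual, Transfer.pResidual_two_eq_top_iff.2 hG] at h4
    exact h4 ⟨hs, by simp⟩

/-- one class of involutions, `S/Ω₁(S)` cyclic, no subgroup of index 2 and `Aut(S)` a 2-group -/
theorem simple_two (P : Sylow 2 G) (hG : ∀ H : Subgroup G, H.index ≠ 2) (h1 : P.1 ≠ ⊥)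
    (hI : ∀ x y : G, orderOf x = 2 → orderOf y = 2 → IsConj x y) {s : G} (hs : s ∈ P.1)
    (hg : ∀ K : Subgroup G, s ∈ K → (∀ x ∈ P.1, orderOf x = 2 → x ∈ K) → P.1 ≤ K)
    (hN : normalizer (P.1 : Set G) ≤ simpleGen 2 P.1) : (groupFusionSystem P.1).IsSimple 2 := by
  refine group_simple (sylowIn_top P) h1 (fun T hT h hb => ?_) hN
  replace h : SCl P T := h
  obtain ⟨z, hz, z1, z2, -⟩ := h.exists_central hT P.2 hb
  have i1 : ∀ x ∈ P.1, orderOf x = 2 → x ∈ T := fun x hx e =>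
    h.of_isConj hz (hI _ _ (orderOf_eq_prime z2 z1) e) hx
  let K : Subgroup G :=
    { carrier := {x | ∃ i : ℤ, x * s ^ i ∈ T}
      one_mem' := ⟨0, by simp⟩
      inv_mem' := fun {x} ⟨i, hi⟩ => ⟨-i, by
        convert h.conj hT (inv_mem hi) (zpow_mem hs i) using 1; group⟩
      mul_mem' := fun {x y} ⟨i, hi⟩ ⟨j, hj⟩ => ⟨j + i, by
        convert mul_mem hi (h.conj hT hj (inv_mem (zpow_mem hs i))) using 1; group⟩ }
  obtain ⟨k, hk⟩ := P.2 ⟨s, hs⟩
  exact hg T (sc_cyc P hG hs k T hT h (hg K ⟨-1, by simp⟩ fun x hx e => ⟨0, by simpa using i1 x hx e⟩)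
    (by rw [show s ^ 2 ^ k = 1 from congrArg Subtype.val hk]; exact one_mem _)) i1

theorem simple_dih (P : Sylow 2 G) (hG : ∀ H : Subgroup G, H.index ≠ 2) {n : ℕ} (hn : 2 ≤ n)
    (e : P.1 ≃* DihedralGroup (2 ^ n)) : (groupFusionSystem P.1).IsSimple 2 := by
  have h4 : 4 ≤ 2 ^ n := Nat.pow_le_pow_right two_pos hn
  have : NeZero (2 ^ n) := ⟨by omega⟩
  refine simple_two P hG (fun h => ?_) (fun x y hx hy => _root_.isConj_iff.2 (S0107.result P n hn ⟨e⟩
    (Transfer.pResidual_two_eq_top_iff.2 hG) x y hx hy)) (one_mem _) (fun K _ h x hx => ?_)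
    (norm_le_simpleGen (S3116.result P.2 (Or.inl ⟨_, h4, ⟨e⟩⟩)))
  · have := Nat.card_congr e.toEquiv
    rw [h, card_bot, DihedralGroup.nat_card] at this
    omega
  · have k : ∀ i, (e.symm (.sr i) : G) ∈ K := fun i => h _ (e.symm _).2 (by
      rw [Subgroup.orderOf_coe, MulEquiv.orderOf_eq, DihedralGroup.orderOf_sr])
    obtain ⟨y, hy⟩ := e.symm.surjective ⟨x, hx⟩
    rw [show x = e.symm y from congrArg Subtype.val hy.symm]
    obtain i | i := y
    · simpa [← coe_mul, ← map_mul] using mul_mem (k 0) (k i)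
    · exact k i

theorem simple_qw (P : Sylow 2 G) (hG : ∀ H : Subgroup G, H.index ≠ 2)
    (hP : IsQuasiDihedral P.1 ∨ IsWreathed P.1) : (groupFusionSystem P.1).IsSimple 2 := by
  have h := Transfer.qw_congr (.refl P.1) hP
  obtain ⟨t, -, -, -, -, -, h3, -, -, h4, -⟩ := Transfer.qw_data P h hG
  have hA : IsPGroup 2 (MulAut P.1) := hP.elim (fun h => S3116.result P.2 (Or.inr h)) fun h => by
    by_contra hA
    obtain ⟨n, -, hn, -⟩ := id h
    have := (S1202.result h n hn ⊤ le_top fun e => hA (e.of_equiv (MulAut.congr topEquiv))).1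
    rw [relIndex_top_left] at this
    omega
  have h1 : P.1 ≠ ⊥ := fun e => h4 (by rw [e]; infer_instance)
  have hI : ∀ x y : G, orderOf x = 2 → orderOf y = 2 → IsConj x y := fun x y hx hy =>
    (h3 x hx).symm.trans (h3 y hy)
  obtain ⟨a, b, n, h⟩ | ⟨x, y, z, n, h⟩ := h
  · have := h.eq
    exact simple_two P hG h1 hI (s := a) (this ▸ mem_sup_left (mem_zpowers a)) (fun K h1 h2 =>
      this.le.trans (sup_le (zpowers_le.2 h1) (zpowers_le.2 (h2 b (this ▸ mem_sup_right (mem_zpowers b))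
        h.ord_b)))) (norm_le_simpleGen hA)
  · refine simple_two P hG h1 hI (h.le Transfer.Wr.xU) (fun K h1 h2 => ?_) (norm_le_simpleGen hA)
    have hz := h2 z h.mem_z h.ord_z
    exact h.eq.le.trans (sup_le (sup_le (zpowers_le.2 h1) (zpowers_le.2
      (h.cnj ▸ mul_mem (mul_mem hz h1) (inv_mem hz)))) (zpowers_le.2 hz))

/-- certificate form: `z` lies in every nontrivial strongly closed subgroup -/
theorem simple_of_cert (hS : SylowIn p S ⊤) {z : G} (hz : z ∈ S) (z1 : z ≠ 1)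
    (hZ : ∀ x ∈ S, x ≠ 1 → x ^ p = 1 → (∀ s ∈ S, s * x = x * s) → ∃ k : ℕ, IsConj (x ^ k) z)
    (hT : ∀ T ≤ S, SCl S T → z ∈ T → S ≤ T) (hR : R ≤ S)
    (hC : ∀ c ∈ centralizer (R : Set G), (∃ k, c ^ p ^ k = 1) → c ∈ R)
    (hN : normalizer (S : Set G) ≤ pNorm p R) : (groupFusionSystem S).IsSimple p := by
  refine group_simple hS (fun e => z1 (by rwa [e] at hz)) (fun T h1 h h2 => ?_) fun g hg =>
    mem_simpleGen_of_pNorm (group_centric hR hS.pgroup hC) hg (hN hg)
  replace h : SCl S T := h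
  obtain ⟨x, hx, x1, x2, x3⟩ := h.exists_central h1 hS.pgroup h2
  obtain ⟨k, hk⟩ := hZ x (h1 hx) x1 x2 x3
  exact hT T h1 h (h.of_isConj (pow_mem hx k) hk hz)

/-- passage to the quotient by a normal subgroup meeting `S` trivially -/
theorem simple_quot (hS : SylowIn p S ⊤) (h : (groupFusionSystem S).IsSimple p) (H : Subgroup G)
    [H.Normal] (hH : S ⊓ H = ⊥) (T : Sylow p (G ⧸ H)) : (groupFusionSystem T.1).IsSimple p := by
  have h1 := hS.map (QuotientGroup.mk' H)
  rw [map_top_of_surjective _ (QuotientGroup.mk'_surjective H)] at h1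
  exact simple_of_equiv (.refl _) h1 ((FIso.of_factor (hH ▸ group_factor hS H)).simple hS.pgroup h) T

theorem sylow_equiv_of_hom [Finite G'] (f : G →* G') (P : Sylow p G) (hf : ∀ x ∈ P.1, f x = 1 → x = 1)
    (hc : (Nat.card G').factorization p ≤ (Nat.card G).factorization p) (Q : Sylow p G') :
    Nonempty (P.1 ≃* Q.1) := by
  have hi : Function.Injective (f.comp P.1.subtype) :=
    (injective_iff_map_eq_one _).2 fun x hx => Subtype.ext (hf x x.2 hx)
  have e := MonoidHom.ofInjective hi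
  obtain ⟨R, hR⟩ := (sylowIn_of_card_ge (B := (f.comp P.1.subtype).range) (C := ⊤) le_top
    (P.2.of_equiv e) (by
      rw [card_top, ← Nat.card_congr e.toEquiv, Sylow.card_eq_multiplicity]
      exact Nat.pow_le_pow_right (Fact.out : p.Prime).pos hc)).exists_sylow_top
  obtain ⟨g, rfl⟩ := MulAction.exists_smul_eq G' R Q
  exact ⟨(e.trans (MulEquiv.subgroupCongr hR.symm)).trans (Sylow.equivSMul R g)⟩

theorem qw_of_equiv {X Y : Type*} [Group X] [Group Y] (e : X ≃* Y) :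
    (IsQuasiDihedral X → IsQuasiDihedral Y) ∧ (IsWreathed X → IsWreathed Y) := by
  constructor
  · rintro ⟨n, h1, h2, x, y, h3, h4, h5⟩
    exact ⟨n, h1, Nat.card_congr e.toEquiv ▸ h2, e x, e y, by simpa, by simpa, by
      rw [← map_pow, ← h5]; simp⟩
  · rintro ⟨n, h1, h2, x, y, z, h3, h4, h5, h6, h7⟩
    refine ⟨n, h1, Nat.card_congr e.toEquiv ▸ h2, e x, e y, e z, by simpa, by
      rw [← map_mul, h4, map_mul], ?_, by simpa, by rw [← h7]; simp⟩
    have := congrArg (Subgroup.map e.toMonoidHom) h5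
    rwa [Subgroup.map_inf _ _ _ e.injective, MonoidHom.map_zpowers, MonoidHom.map_zpowers,
      Subgroup.map_bot] at this

theorem no_index_two [IsSimpleGroup G] (h : Nat.card G ≠ 2) (H : Subgroup G) : H.index ≠ 2 := fun e => by
  rcases (normal_of_index_eq_two e).eq_bot_or_eq_top with rfl | rfl
  · exact h (by simpa using e)
  · simp at e

end Cfsg.Agent.Fusion
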