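import Cfsg.Agent.Lib.Fusion.Basic

/-! Sylow subgroups of a subgroup, inside an ambient group; `p`-group odds and ends. -/

set_option autoImplicit false

namespace Cfsg.Agent.Fusion

variable {Γ : Type*} [Group Γ] {p : ℕ}

/-- `B` is a Sylow `p`-subgroup of `C` (both subgroups of `Γ`). -/
structure SylowIn (p : ℕ) (B C : Subgroup Γ) : Prop where
  le : B ≤ C
  pgroup : IsPGroup p B
  max : ∀ D : Subgroup Γ, D ≤ C → IsPGroup p D → B ≤ D → D ≤ B

theorem pgroup_subgroupOf {B C : Subgroup Γ} (h : IsPGroup p B) : IsPGroup p (B.subgroupOf C) :=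
  h.comap_subtype

theorem pgroup_of_subgroupOf {B C : Subgroup Γ} (hle : B ≤ C) (h : IsPGroup p (B.subgroupOf C)) :
    IsPGroup p B := h.of_equiv (Subgroup.subgroupOfEquivOfLe hle)

theorem sylowIn_iff {B C : Subgroup Γ} (hle : B ≤ C) :
    SylowIn p B C ↔ ∃ R : Sylow p C, (R : Subgroup C) = B.subgroupOf C := by
  constructor
  · intro h
    refine ⟨⟨B.subgroupOf C, pgroup_subgroupOf h.pgroup, fun {Q} hQ hBQ => ?_⟩, rfl⟩
    apply le_antisymm _ hBQ
    have := h.max (Q.map C.subtype) (Subgroup.map_subtype_le Q) (hQ.map _) (by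
      intro x hx; exact ⟨⟨x, hle hx⟩, hBQ hx, rfl⟩)
    intro x hx
    exact this ⟨x, hx, rfl⟩
  · rintro ⟨R, hR⟩
    refine ⟨hle, pgroup_of_subgroupOf hle (hR ▸ R.isPGroup'), fun D hD hp hBD => ?_⟩
    have := R.is_maximal' (Q := D.subgroupOf C) (pgroup_subgroupOf hp) (by
      show (R : Subgroup C) ≤ _
      rw [hR]; intro x hx; exact hBD hx)
    intro x hx
    have h2 : (⟨x, hD hx⟩ : C) ∈ (R : Subgroup C) := by
      show _ ∈ R.toSubgroup
      rw [← this]; exact hx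
    rw [hR] at h2; exact h2

theorem SylowIn.exists_sylow {B C : Subgroup Γ} (h : SylowIn p B C) :
    ∃ R : Sylow p C, (R : Subgroup C) = B.subgroupOf C := (sylowIn_iff h.le).1 h

theorem sylowIn_map_subtype {C : Subgroup Γ} (R : Sylow p C) :
    SylowIn p ((R : Subgroup C).map C.subtype) C := by
  rw [sylowIn_iff (Subgroup.map_subtype_le _)]
  exact ⟨R, (Subgroup.comap_map_eq_self_of_injective C.subtype_injective _).symm⟩

theorem sylowIn_top (R : Sylow p Γ) : SylowIn p (R : Subgroup Γ) ⊤ :=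
  ⟨le_top, R.isPGroup', fun _ _ hD h => (R.is_maximal' hD h).le⟩

theorem SylowIn.exists_sylow_top {B : Subgroup Γ} (h : SylowIn p B ⊤) :
    ∃ R : Sylow p Γ, (R : Subgroup Γ) = B :=
  ⟨⟨B, h.pgroup, fun {Q} hQ hBQ => le_antisymm (h.max Q le_top hQ hBQ) hBQ⟩, rfl⟩

theorem exists_sylowIn_ge {D C : Subgroup Γ} (hD : D ≤ C) (hp : IsPGroup p D) :
    ∃ B, SylowIn p B C ∧ D ≤ B := by
  obtain ⟨R, hR⟩ := (pgroup_subgroupOf (C := C) hp).exists_le_sylow
  exact ⟨_, sylowIn_map_subtype R, fun x hx => ⟨⟨x, hD hx⟩, hR hx, rfl⟩⟩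

theorem SylowIn.of_le {B C D : Subgroup Γ} (h : SylowIn p B C) (hBD : B ≤ D) (hDC : D ≤ C) :
    SylowIn p B D := ⟨hBD, h.pgroup, fun E hE => h.max E (hE.trans hDC)⟩

variable [Fact p.Prime]

theorem SylowIn.card_eq {B C : Subgroup Γ} [Finite C] (h : SylowIn p B C) :
    Nat.card B = p ^ (Nat.card C).factorization p := by
  obtain ⟨R, hR⟩ := h.exists_sylow
  rw [← R.card_eq_multiplicity, ← Nat.card_congr (Subgroup.subgroupOfEquivOfLe h.le).toEquiv, ← hR]

theorem SylowIn.conj {B C D : Subgroup Γ} [Finite C] (h : SylowIn p B C) (hD : D ≤ C)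
    (hp : IsPGroup p D) : ∃ c ∈ C, ∀ d ∈ D, c * d * c⁻¹ ∈ B := by
  obtain ⟨R, hR⟩ := h.exists_sylow
  obtain ⟨T, hT⟩ := (pgroup_subgroupOf (C := C) hp).exists_le_sylow
  obtain ⟨c, hc⟩ := MulAction.exists_smul_eq C T R
  refine ⟨c, c.2, fun d hd => ?_⟩
  have h1 : (⟨d, hD hd⟩ : C) ∈ (T : Subgroup C) := hT hd
  have h2 : c * ⟨d, hD hd⟩ * c⁻¹ ∈ (R : Subgroup C) := by
    rw [← hc, Sylow.coe_subgroup_smul]
    exact Subgroup.smul_mem_pointwise_smul _ _ _ h1
  rw [hR] at h2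
  exact h2

theorem SylowIn.card_le {B C D : Subgroup Γ} [Finite C] (h : SylowIn p B C) (hD : D ≤ C)
    (hp : IsPGroup p D) : Nat.card D ≤ Nat.card B := by
  obtain ⟨E, hE, hDE⟩ := exists_sylowIn_ge hD hp
  have := finite_of_le hE.le
  rw [h.card_eq, ← hE.card_eq]
  exact Subgroup.card_le_of_le hDE

theorem SylowIn.card_dvd {B C D : Subgroup Γ} [Finite C] (h : SylowIn p B C) (hD : D ≤ C)
    (hp : IsPGroup p D) : Nat.card D ∣ Nat.card B := by
  obtain ⟨E, hE, hDE⟩ := exists_sylowIn_ge hD hp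
  rw [h.card_eq, ← hE.card_eq]
  exact Subgroup.card_dvd_of_le hDE

theorem sylowIn_of_card_ge {B C : Subgroup Γ} [Finite C] (hB : B ≤ C) (hp : IsPGroup p B)
    (hc : p ^ (Nat.card C).factorization p ≤ Nat.card B) : SylowIn p B C := by
  obtain ⟨E, hE, hBE⟩ := exists_sylowIn_ge hB hp
  have := finite_of_le hE.le
  rw [← hE.card_eq] at hc
  rw [Subgroup.eq_of_le_of_card_ge hBE hc]; exact hE

theorem SylowIn.of_card_le {B C D : Subgroup Γ} [Finite C] (h : SylowIn p B C) (hD : D ≤ C)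
    (hp : IsPGroup p D) (hc : Nat.card B ≤ Nat.card D) : SylowIn p D C :=
  sylowIn_of_card_ge hD hp (h.card_eq ▸ hc)

theorem SylowIn.not_dvd_relIndex {B C : Subgroup Γ} [Finite C] (h : SylowIn p B C) :
    ¬ p ∣ B.relIndex C := by
  obtain ⟨R, hR⟩ := h.exists_sylow
  rw [Subgroup.relIndex, ← hR]
  exact R.not_dvd_index

theorem sylowIn_of_not_dvd_relIndex {B C : Subgroup Γ} [Finite C] (hB : B ≤ C)
    (hp : IsPGroup p B) (h : ¬ p ∣ B.relIndex C) : SylowIn p B C := by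
  rw [sylowIn_iff hB]
  exact ⟨(pgroup_subgroupOf hp).toSylow h, rfl⟩

/-- a normal `p`-subgroup lies in every Sylow subgroup -/
theorem SylowIn.le_of_normal {B C D : Subgroup Γ} [Finite C] (h : SylowIn p B C) (hD : D ≤ C)
    (hp : IsPGroup p D) (hn : ∀ c ∈ C, ∀ d ∈ D, c * d * c⁻¹ ∈ D) : D ≤ B := by
  obtain ⟨c, hc, e⟩ := h.conj hD hp
  intro d hd
  have := e _ (hn c⁻¹ (C.inv_mem hc) d hd)
  simpa [mul_assoc] using this

/-- Intersection of a Sylow subgroup with a normal subgroup. -/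
theorem SylowIn.inf_normal {B C N : Subgroup Γ} [Finite C] (h : SylowIn p B C) (hN : N ≤ C)
    (hn : ∀ c ∈ C, ∀ d ∈ N, c * d * c⁻¹ ∈ N) : SylowIn p (B ⊓ N) N := by
  have := finite_of_le hN
  have := finite_of_le h.le
  obtain ⟨E, hE, hle⟩ := exists_sylowIn_ge (inf_le_right : B ⊓ N ≤ N) (pgroup_of_le h.pgroup inf_le_left)
  obtain ⟨c, hc, e⟩ := h.conj (hE.le.trans hN) hE.pgroup
  refine hE.of_card_le inf_le_right (pgroup_of_le h.pgroup inf_le_left) ?_
  have := finite_of_le (inf_le_right : B ⊓ N ≤ N)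
  refine Nat.card_le_card_of_injective (fun d : E => (⟨c * d * c⁻¹, e d d.2, hn c hc d (hE.le d.2)⟩ :
    ↥(B ⊓ N))) ?_
  intro a b hab
  have := congrArg Subtype.val hab
  exact Subtype.ext (by simpa using this)

/-- Image of a Sylow subgroup under a homomorphism. -/
theorem SylowIn.map {Γ' : Type*} [Group Γ'] {B C : Subgroup Γ} [Finite C] (h : SylowIn p B C)
    (φ : Γ →* Γ') : SylowIn p (B.map φ) (C.map φ) := by
  have : Finite (C.map φ) := Finite.of_surjective _ (φ.subgroupMap_surjective C)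
  apply sylowIn_of_not_dvd_relIndex (Subgroup.map_mono h.le) (h.pgroup.map φ)
  intro hd
  apply h.not_dvd_relIndex
  refine hd.trans ?_
  have := Subgroup.index_map_dvd (B.subgroupOf C) (φ.subgroupMap_surjective C)
  refine dvd_trans (dvd_of_eq ?_) this
  rw [Subgroup.relIndex]
  congr 1
  ext ⟨y, hy⟩
  constructor
  · rintro ⟨x, hx, rfl⟩
    exact ⟨⟨x, h.le hx⟩, hx, rfl⟩
  · rintro ⟨x, hx, e⟩
    exact ⟨x, hx, congrArg Subtype.val e⟩

omit [Fact p.Prime] in
theorem SylowIn.conj_self {B C : Subgroup Γ} (h : SylowIn p B C) {c : Γ} (hc : c ∈ C) :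
    SylowIn p (B.map (MulAut.conj c).toMonoidHom) C := by
  refine ⟨?_, h.pgroup.map _, fun D hD hp hle => ?_⟩
  · rintro _ ⟨x, hx, rfl⟩
    exact C.mul_mem (C.mul_mem hc (h.le hx)) (C.inv_mem hc)
  · have := h.max (D.map (MulAut.conj c⁻¹).toMonoidHom) (by
      rintro _ ⟨x, hx, rfl⟩
      exact C.mul_mem (C.mul_mem (C.inv_mem hc) (hD hx)) (C.inv_mem (C.inv_mem hc))) (hp.map _) (by
      intro x hx
      exact ⟨_, hle ⟨x, hx, rfl⟩, by simp [mul_assoc]⟩)
    intro d hd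
    exact ⟨_, this ⟨d, hd, rfl⟩, by simp [mul_assoc]⟩

/-- In a finite `p`-group, a proper subgroup is properly contained in its normalizer. -/
theorem exists_mem_normalizer_of_lt {P R : Subgroup Γ} [Finite R] (hR : IsPGroup p R) (h : P < R) :
    ∃ g ∈ R, g ∉ P ∧ g ∈ Subgroup.normalizer (P : Set Γ) := by
  have := hR.isNilpotent
  have hlt : P.subgroupOf R < ⊤ := by
    rw [lt_top_iff_ne_top]
    intro e
    rw [Subgroup.subgroupOf_eq_top] at e
    exact h.not_ge e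
  have := Group.normalizerCondition_of_isNilpotent (G := R) _ hlt
  obtain ⟨g, hg, hg'⟩ := SetLike.exists_of_lt this
  refine ⟨g, g.2, hg', ?_⟩
  have := finite_of_le h.le
  refine mem_normalizer_of_finite fun x hx => ?_
  exact (Subgroup.mem_normalizer_iff.1 hg ⟨x, h.le hx⟩).1 hx

theorem lt_normalizerIn {S P : Subgroup Γ} [Finite S] (hS : IsPGroup p S) (h : P < S) :
    P < Cfsg.FusionSystem.normalizerIn S P := by
  obtain ⟨g, h1, h2, h3⟩ := exists_mem_normalizer_of_lt hS h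
  exact lt_of_le_of_ne (le_normalizerIn h.le) fun e => h2 (e ▸ ⟨h1, h3⟩)

/-- If `B` is a non-Sylow `p`-subgroup of `C`, some `p`-element of `C` outside `B` normalizes
`B`, inside a `p`-subgroup. -/
theorem exists_pgroup_normalizing_of_not_sylowIn {B C : Subgroup Γ} [Finite C] (hB : B ≤ C)
    (hp : IsPGroup p B) (h : ¬ SylowIn p B C) : ∃ g ∈ C, g ∉ B ∧
      g ∈ Subgroup.normalizer (B : Set Γ) ∧ ∃ k : ℕ, g ^ p ^ k = 1 := by
  obtain ⟨E, hE, hBE⟩ := exists_sylowIn_ge hB hp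
  have := finite_of_le hE.le
  have hlt : B < E := lt_of_le_of_ne hBE fun e => h (e ▸ hE)
  obtain ⟨g, h1, h2, h3⟩ := exists_mem_normalizer_of_lt hE.pgroup hlt
  obtain ⟨k, hk⟩ := hE.pgroup ⟨g, h1⟩
  exact ⟨g, hE.le h1, h2, h3, k, congrArg Subtype.val hk⟩

omit [Fact p.Prime] in
theorem pgroup_zpowers {g : Γ} {k : ℕ} (h : g ^ p ^ k = 1) : IsPGroup p (Subgroup.zpowers g) := by
  rintro ⟨_, n, rfl⟩
  refine ⟨k, Subtype.ext ?_⟩
  show (g ^ n) ^ p ^ k = 1
  rw [← zpow_natCast, ← zpow_mul, mul_comm, zpow_mul, zpow_natCast, h, one_zpow]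

/-- For an element of finite order there is a power `g ^ m` that is a `p`-element, with `m ≡ 1`
modulo any given power of `p`. -/
theorem exists_pow_pelement {g : Γ} (hg : IsOfFinOrder g) (k : ℕ) :
    ∃ m : ℕ, (∃ j : ℕ, (g ^ m) ^ p ^ j = 1) ∧ m ≡ 1 [MOD p ^ k] ∧ 0 < m := by
  have hp : p.Prime := Fact.out
  obtain ⟨j, n, hn, e⟩ := Nat.exists_eq_pow_mul_and_not_dvd hg.orderOf_pos.ne' p hp.ne_one
  have hcop : Nat.Coprime n (p ^ k) := ((Nat.Prime.coprime_iff_not_dvd hp).2 hn).symm.pow_right k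
  have hn0 : 0 < n := Nat.pos_of_ne_zero fun h => hn (h ▸ dvd_zero p)
  refine ⟨n ^ (p ^ k).totient, ⟨j, ?_⟩, Nat.ModEq.pow_totient hcop, by positivity⟩
  rw [← pow_mul, ← orderOf_dvd_iff_pow_eq_one, e, mul_comm]
  exact Nat.mul_dvd_mul_right (dvd_pow_self n (Nat.totient_pos.2 (pow_pos hp.pos k)).ne') _

theorem pCore_normal (p : ℕ) (G : Type*) [Group G] : (Cfsg.pCore p G).Normal :=
  Subgroup.sSup_normal _ fun _ h => h.1

omit [Fact p.Prime] in
theorem pCore_pgroup (G : Type*) [Group G] : IsPGroup p (Cfsg.pCore p G) := by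
  apply Sylow.sSup_of_normal
  · intro H hH; exact hH.2
  · intro H hH; exact hH.1

omit [Fact p.Prime] in
theorem le_pCore {G : Type*} [Group G] {N : Subgroup G} (hn : N.Normal) (hp : IsPGroup p N) :
    N ≤ Cfsg.pCore p G := le_sSup ⟨hn, hp⟩

end Cfsg.Agent.Fusion
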