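import Cfsg.Agent.Lib.Fusion.SimpleR

/-! Sylow subgroups of symmetric groups as wreath products. -/

set_option autoImplicit false
set_option linter.unusedSectionVars false

namespace Cfsg.Agent.Fusion.Sym

open Subgroup Equiv Equiv.Perm Sum

variable {I J : Type} {p : ℕ}

/-- blocks of size `p` and a remainder -/
abbrev Om (p : ℕ) (I J : Type) := (I × ZMod p) ⊕ J

/-- blockwise action -/
def fib : (I → Perm (ZMod p)) →* Perm (Om p I J) where
  toFun f := Equiv.sumCongr (Equiv.prodCongrRight f) (1 : Perm J)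
  map_one' := by ext (⟨i, x⟩ | j) <;> rfl
  map_mul' f g := by ext (⟨i, x⟩ | j) <;> rfl

/-- rigid permutation of the blocks -/
def bl : Perm I →* Perm (Om p I J) where
  toFun σ := Equiv.sumCongr (Equiv.prodCongrLeft fun _ => σ) (1 : Perm J)
  map_one' := by ext (⟨i, x⟩ | j) <;> rfl
  map_mul' f g := by ext (⟨i, x⟩ | j) <;> rfl

/-- translations -/
def bs (a : I → ZMod p) : Perm (Om p I J) := fib fun i => Equiv.addRight (a i)

@[simp] theorem fib_inl (f : I → Perm (ZMod p)) (i : I) (x : ZMod p) :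
    (fib f : Perm (Om p I J)) (inl (i, x)) = inl (i, f i x) := rfl
@[simp] theorem fib_inr (f : I → Perm (ZMod p)) (j : J) : (fib f : Perm (Om p I J)) (inr j) = inr j := rfl
@[simp] theorem bl_inl (σ : Perm I) (i : I) (x : ZMod p) :
    (bl σ : Perm (Om p I J)) (inl (i, x)) = inl (σ i, x) := rfl
@[simp] theorem bl_inr (σ : Perm I) (j : J) : (bl σ : Perm (Om p I J)) (inr j) = inr j := rfl
@[simp] theorem bs_inl (a : I → ZMod p) (i : I) (x : ZMod p) :
    (bs a : Perm (Om p I J)) (inl (i, x)) = inl (i, x + a i) := rfl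
@[simp] theorem bs_inr (a : I → ZMod p) (j : J) : (bs a : Perm (Om p I J)) (inr j) = inr j := rfl

theorem bs_add (a b : I → ZMod p) : (bs (a + b) : Perm (Om p I J)) = bs a * bs b := by
  ext (⟨i, x⟩ | j) <;> simp [add_right_comm, add_assoc]
@[simp] theorem bs_zero : (bs 0 : Perm (Om p I J)) = 1 := by ext (⟨i, x⟩ | j) <;> simp
theorem bs_neg (a : I → ZMod p) : (bs (-a) : Perm (Om p I J)) = (bs a)⁻¹ :=
  eq_inv_of_mul_eq_one_left (by rw [← bs_add, neg_add_cancel, bs_zero])
theorem bs_sub (a b : I → ZMod p) : (bs (a - b) : Perm (Om p I J)) = bs a * (bs b)⁻¹ := by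
  rw [sub_eq_add_neg, bs_add, bs_neg]
theorem bs_nsmul (a : I → ZMod p) (n : ℕ) : (bs (n • a) : Perm (Om p I J)) = bs a ^ n := by
  induction n with
  | zero => simp
  | succ n ih => rw [succ_nsmul, bs_add, ih, pow_succ]
theorem bs_pow (a : I → ZMod p) : (bs a : Perm (Om p I J)) ^ p = 1 := by
  rw [← bs_nsmul, show p • a = 0 by ext; simp, bs_zero]
theorem bl_bs (σ : Perm I) (a : I → ZMod p) : (bl σ * bs a : Perm (Om p I J)) = bs (a ∘ σ.symm) * bl σ := by
  ext (⟨i, x⟩ | j) <;> simp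
theorem bs_sum {T : Subgroup (Perm (Om p I J))} {α : Type*} (s : Finset α) (f : α → I → ZMod p)
    (h : ∀ i ∈ s, bs (f i) ∈ T) : bs (∑ i ∈ s, f i) ∈ T :=
  Finset.sum_induction f (fun a => bs a ∈ T) (fun a b ha hb => bs_add a b ▸ mul_mem ha hb)
    (bs_zero ▸ one_mem T) h

/-- the wreath product `C_p ≀ H` -/
def W (J : Type) (p : ℕ) (H : Subgroup (Perm I)) : Subgroup (Perm (Om p I J)) where
  carrier := {g | ∃ a, ∃ σ ∈ H, g = bs a * bl σ}
  one_mem' := ⟨0, 1, one_mem _, by simp⟩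
  mul_mem' := by
    rintro _ _ ⟨a, σ, h, rfl⟩ ⟨b, τ, h', rfl⟩
    exact ⟨a + b ∘ σ.symm, σ * τ, mul_mem h h', by
      rw [bs_add, map_mul, mul_assoc, ← mul_assoc (bl σ), bl_bs]; simp only [mul_assoc]⟩
  inv_mem' := by
    rintro _ ⟨a, σ, h, rfl⟩
    exact ⟨(-a) ∘ σ, σ⁻¹, inv_mem h, by rw [mul_inv_rev, ← map_inv, ← bs_neg, bl_bs]; rfl⟩

variable {H : Subgroup (Perm I)}

theorem bs_mem (a : I → ZMod p) : bs a ∈ W J p H := ⟨a, 1, one_mem _, by simp⟩
theorem bl_mem {σ : Perm I} (h : σ ∈ H) : bl σ ∈ W J p H := ⟨0, σ, h, by simp⟩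
theorem mem_W_bot {g : Perm (Om p I J)} : g ∈ W J p ⊥ ↔ ∃ a, g = bs a :=
  ⟨fun ⟨a, _, h, e⟩ => ⟨a, by simpa [mem_bot.1 h] using e⟩, fun ⟨a, e⟩ => e ▸ bs_mem a⟩
theorem W_mono {H' : Subgroup (Perm I)} (h : H ≤ H') : W J p H ≤ W J p H' :=
  fun _ ⟨a, σ, h1, e⟩ => ⟨a, σ, h h1, e⟩

theorem bl_injective : Function.Injective (bl : Perm I → Perm (Om p I J)) := fun σ τ e =>
  Equiv.ext fun i => by simpa using DFunLike.congr_fun e (inl (i, 0))

variable [Fintype I] [Fintype J] [DecidableEq I] [DecidableEq J] [hp : Fact p.Prime]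

theorem card_W : Nat.card (W J p H) = p ^ Fintype.card I * Nat.card H := by
  rw [← Nat.card_congr (Equiv.ofBijective (fun x : (I → ZMod p) × H =>
    (⟨_, x.1, x.2, x.2.2, rfl⟩ : W J p H)) ⟨fun x y e => ?_, fun ⟨_, a, σ, h, e⟩ =>
      ⟨(a, ⟨σ, h⟩), Subtype.ext e.symm⟩⟩)]
  · simp
  have h : ∀ i, x.2.1 i = y.2.1 i ∧ x.1 (x.2.1 i) = y.1 (y.2.1 i) := fun i => by
    simpa using DFunLike.congr_fun (congrArg Subtype.val e) (inl (i, 0))
  refine Prod.ext (funext fun i => ?_) (Subtype.ext (Equiv.ext fun i => (h i).1))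
  obtain ⟨i, rfl⟩ := x.2.1.surjective i
  rw [(h i).2, (h i).1]

theorem sylow_W (hJ : Fintype.card J < p) (P : Sylow p (Perm I)) : SylowIn p (W J p P.1) ⊤ := by
  have := P.card_eq_multiplicity
  refine sylowIn_of_card_ge le_top (IsPGroup.of_card (by rw [card_W, this, ← pow_add])) ?_
  rw [card_W, this, ← pow_add, card_top, Nat.card_perm, Nat.card_perm, Nat.factorization_def _ hp.out,
    Nat.factorization_def _ hp.out, show Nat.card (Om p I J) = p * Nat.card I + Fintype.card J by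
      simp [mul_comm], padicValNat_factorial_mul_add _ hJ, padicValNat_factorial_mul, add_comm,
    Nat.card_eq_fintype_card]

theorem exists_model {Ω : Type} [Fintype Ω] [DecidableEq Ω] (P : Sylow p (Perm Ω))
    (hc : Fintype.card Ω = p * Fintype.card I + Fintype.card J) (hJ : Fintype.card J < p)
    (Q : Sylow p (Perm I)) : ∃ e : Ω ≃ Om p I J, ∀ g, g ∈ P.1 ↔ e.permCongr g ∈ W J p Q.1 := by
  have e : Ω ≃ Om p I J := Fintype.equivOfCardEq (by simp [hc, mul_comm])
  have h := (sylowIn_top P).map e.permCongrHom.toMonoidHom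
  rw [map_top_of_surjective _ e.permCongrHom.surjective] at h
  obtain ⟨R, hR⟩ := h.exists_sylow_top
  obtain ⟨R', hR'⟩ := (sylow_W hJ Q).exists_sylow_top
  obtain ⟨g, rfl⟩ := MulAction.exists_smul_eq (Perm (Om p I J)) R R'
  refine ⟨e.trans g, fun x => ?_⟩
  rw [← hR', show (e.trans g).permCongr x = g * e.permCongrHom x * g⁻¹ from rfl, Sylow.coe_subgroup_smul,
    ← MulAut.conj_apply, ← MulAut.smul_def, smul_mem_pointwise_smul_iff, hR]
  exact (mem_map_iff_mem e.permCongrHom.injective).symm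

theorem sign_bl (σ : Perm I) : sign (bl σ : Perm (Om p I J)) = sign σ ^ p :=
  (sign_sumCongr _ _).trans (by simp [sign_prodCongrLeft])

theorem sign_fib (f : I → Perm (ZMod p)) : sign (fib f : Perm (Om p I J)) = ∏ i, sign (f i) :=
  (sign_sumCongr _ _).trans (by simp [sign_prodCongrRight])

theorem sign_of_pow {α : Type*} [Fintype α] [DecidableEq α] (h2 : p ≠ 2) {σ : Perm α} {k : ℕ}
    (h : σ ^ p ^ k = 1) : sign σ = 1 := by
  have := congrArg sign h
  rwa [map_pow, Int.units_pow_eq_pow_mod_two, Nat.odd_iff.1 (hp.out.odd_of_ne_two h2).pow, pow_one,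
    map_one] at this

theorem bl_mem_alt {σ : Perm I} (h : ∃ k, σ ^ p ^ k = 1) : bl σ ∈ alternatingGroup (Om p I J) := by
  rw [mem_alternatingGroup, sign_bl]
  by_cases h2 : p = 2
  · rw [h2, sq, Int.units_mul_self]
  · rw [sign_of_pow h2 h.choose_spec, one_pow]

omit [Fintype I] [Fintype J] [DecidableEq I] [DecidableEq J] in
/-- a Sylow subgroup of a symmetric group is generated by its elements of order `p` -/
theorem gen_sym (n : ℕ) : ∀ (Ω : Type) [Fintype Ω] [DecidableEq Ω], Fintype.card Ω = n →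
    ∀ (P : Sylow p (Perm Ω)) (T : Subgroup (Perm Ω)), (∀ x ∈ P.1, x ^ p = 1 → x ∈ T) → P.1 ≤ T := by
  induction n using Nat.strong_induction_on with
  | _ n ih =>
  intro Ω _ _ hn P T h x hx
  rcases n.eq_zero_or_pos with rfl | h0
  · have := Fintype.card_eq_zero_iff.1 hn
    rw [Subsingleton.elim x 1]; exact one_mem _
  obtain ⟨Q⟩ : Nonempty (Sylow p (Perm (Fin (n / p)))) := inferInstance
  obtain ⟨e, he⟩ := exists_model (J := Fin (n % p)) P (by simp [hn, Nat.div_add_mod])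
    (by simpa using Nat.mod_lt _ hp.out.pos) Q
  have k : ∀ y ∈ W _ p Q.1, y ^ p = 1 → e.permCongrHom.symm y ∈ T := fun y hy h1 =>
    h _ ((he _).2 ((e.permCongrHom.apply_symm_apply y).symm ▸ hy :  e.permCongrHom _ ∈ _)) (by rw [← map_pow, h1, map_one])
  obtain ⟨a, σ, h1, e1⟩ := (he x).1 hx
  rw [show x = e.permCongrHom.symm (bs a * bl σ) from e.permCongrHom.eq_symm_apply.2 e1, map_mul]
  exact mul_mem (k _ (bs_mem a) (bs_pow a)) (ih _ (Nat.div_lt_self h0 hp.out.one_lt) _ (by simp) Q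
    ((T.comap e.permCongrHom.symm.toMonoidHom).comap bl) (fun y hy h1 => k _ (bl_mem hy)
      (by rw [← map_pow, h1, map_one])) h1)

theorem gen_alt (Q : Sylow p (Perm I)) (T : Subgroup (Perm (Om p I J)))
    (h : ∀ x ∈ W J p Q.1 ⊓ alternatingGroup _, x ^ p = 1 → x ∈ T) : W J p Q.1 ⊓ alternatingGroup _ ≤ T := by
  rintro _ ⟨⟨a, σ, h1, rfl⟩, h2⟩
  have k : ∀ σ ∈ Q.1, bl σ ∈ alternatingGroup (Om p I J) := fun σ h =>
    bl_mem_alt ((Q.2 ⟨σ, h⟩).imp fun _ => congrArg Subtype.val)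
  exact mul_mem (h _ ⟨bs_mem a, (mul_mem_cancel_right (k σ h1)).1 h2⟩ (bs_pow a))
    (gen_sym _ I rfl Q (T.comap bl) (fun y hy h1 => h _ ⟨bl_mem hy, k y hy⟩
      (by rw [← map_pow, h1, map_one])) h1)

theorem sylow_alt (hJ : Fintype.card J < p) (P : Sylow p (Perm I)) :
    SylowIn p (W J p P.1 ⊓ alternatingGroup _) (alternatingGroup _) :=
  (sylow_W hJ P).inf_normal le_top fun c _ d hd => Normal.conj_mem inferInstance d hd c

theorem isConj_of_support {α : Type*} [Fintype α] [DecidableEq α] {x y : Perm α} (hx : x ^ p = 1)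
    (hy : y ^ p = 1) (h : x.support.card = y.support.card) : IsConj x y := by
  rw [← sum_cycleType, ← sum_cycleType, cycleType_of_pow_prime_eq_one hx, cycleType_of_pow_prime_eq_one hy,
    Multiset.sum_replicate, Multiset.sum_replicate, smul_eq_mul, smul_eq_mul] at h
  rw [isConj_iff_cycleType_eq, cycleType_of_pow_prime_eq_one hx, cycleType_of_pow_prime_eq_one hy,
    Nat.eq_of_mul_eq_mul_right hp.out.pos h]

theorem card_support {g : Perm (Om p I J)} {K : Finset I} (h1 : ∀ j, g (inr j) = inr j)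
    (h2 : ∀ i x, g (inl (i, x)) ≠ inl (i, x) ↔ i ∈ K) : g.support.card = K.card * p := by
  rw [show g.support = (K ×ˢ Finset.univ).map Function.Embedding.inl by
    ext (⟨i, x⟩ | j) <;> simp [h1, h2]]
  simp

/-- the indicator function -/
def ind (p : ℕ) (K : Finset I) : I → ZMod p := fun i => if i ∈ K then 1 else 0

theorem card_support_ind (K : Finset I) : (bs (ind p K) : Perm (Om p I J)).support.card = K.card * p :=
  card_support (fun _ => rfl) fun i x => by simp [ind]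

theorem conj_ind (h3 : 3 ≤ Fintype.card I) {x : Perm (Om p I J)} (hx : x ^ p = 1) {K : Finset I}
    (h : x.support.card = K.card * p) : ∃ g ∈ alternatingGroup (Om p I J), g * x * g⁻¹ = bs (ind p K) := by
  obtain ⟨g, hg⟩ := _root_.isConj_iff.1 (isConj_of_support hx (bs_pow _) (h.trans (card_support_ind K).symm))
  obtain ⟨t, h1, h2⟩ : ∃ t : Perm (Om p I J), sign t = -1 ∧ t * bs (ind p K) = bs (ind p K) * t := by
    by_cases h2 : p = 2
    · obtain ⟨i⟩ : Nonempty I := Fintype.card_pos_iff.1 (by omega)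
      refine ⟨bs (ind p {i}), ?_, by rw [← bs_add, ← bs_add, add_comm]⟩
      exact (card_support_eq_two.1 (by rw [card_support_ind, h2]; rfl)).sign_eq
    obtain ⟨i, j, h4, h5⟩ := Fintype.exists_ne_map_eq_of_card_lt (fun i => decide (i ∈ K)) (by simp; omega)
    refine ⟨bl (swap i j), by rw [sign_bl, sign_swap h4, (hp.out.odd_of_ne_two h2).neg_one_pow], ?_⟩
    rw [bl_bs]
    congr 2
    ext k
    simp only [ind, Function.comp, symm_swap, swap_apply_def]
    split_ifs <;> simp_all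
  rcases Int.units_eq_one_or (sign g) with e | e
  · exact ⟨g, e, hg⟩
  · exact ⟨t * g, by simp [mem_alternatingGroup, h1, e], by
      rw [mul_inv_rev, ← mul_assoc, mul_assoc t, mul_assoc t, hg, h2, mul_inv_cancel_right]⟩

theorem exists_ind (hJ : Fintype.card J < p) {x : Perm (Om p I J)} (hx : x ^ p = 1) :
    ∃ K : Finset I, x.support.card = K.card * p := by
  have h := x.support.card_le_univ
  rw [← sum_cycleType, cycleType_of_pow_prime_eq_one hx, Multiset.sum_replicate, smul_eq_mul] at h ⊢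
  obtain ⟨K, -, hK⟩ := Finset.exists_subset_card_eq (s := (Finset.univ : Finset I)) (n := x.cycleType.card) (by
    simp only [Fintype.card_sum, Fintype.card_prod, ZMod.card] at h
    rw [Finset.card_univ]
    exact Nat.le_of_lt_succ (Nat.lt_of_mul_lt_mul_right (a := p) (by rw [Nat.succ_mul]; omega)))
  exact ⟨K, by rw [hK]⟩

end Cfsg.Agent.Fusion.Sym
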