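import Cfsg.Agent.Lib.Fusion.PPrime
import Cfsg.Prelude.Def_PLocal

/-! Powers of the centre and small nilpotency class. -/

set_option autoImplicit false
set_option linter.unusedSectionVars false
set_option linter.unusedVariables false
open Cfsg Cfsg.FusionSystem
open scoped commutatorElement

namespace Cfsg.Agent.Fusion

theorem ring_agemo_comm {R : Type*} [CommRing R] {p n : ℕ} (hp : p.Prime) {t : R}
    (h1 : (t + 1) ^ p = 1) (h2 : t ^ (n * (p - 1) + 1) = 0) : (p : R) ^ n * t = 0 := by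
  obtain ⟨h, hh⟩ : t ^ 2 ∣ ∑ k ∈ (Finset.Ioo 0 p).erase 1, t ^ k * 1 ^ (p - k) * ↑(p.choose k / p) :=
    Finset.dvd_sum fun k hk => by
      simp only [Finset.mem_erase, Finset.mem_Ioo] at hk
      exact ((pow_dvd_pow t (by omega)).mul_right _).mul_right _
  rw [add_pow_prime_eq' hp, ← Finset.add_sum_erase _ _ (a := 1) (by simpa using hp.one_lt), hh,
    Nat.choose_one_right, Nat.div_self hp.pos] at h1
  obtain ⟨q, rfl⟩ : ∃ q, p = q + 1 := ⟨p - 1, by have := hp.pos; omega⟩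
  have h3 : t ^ q * t = -((q + 1 : ℕ) * (1 + t * h)) * t := by
    simp only [one_pow, pow_one, mul_one, Nat.cast_one] at h1
    linear_combination h1
  have h4 : ∀ k, t ^ (k * q + 1) = (-((q + 1 : ℕ) * (1 + t * h))) ^ k * t := fun k => by
    induction k with
    | zero => simp
    | succ k ih =>
      rw [show (k + 1) * q + 1 = k * q + 1 + q by ring, pow_add, ih, mul_assoc, mul_comm t (t ^ q), h3]; ring
  have hu : IsUnit (1 + t * h) := IsNilpotent.isUnit_one_add
    ((Commute.all _ _).isNilpotent_mul_right ⟨_, h2⟩)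
  rw [Nat.add_sub_cancel, h4, neg_mul_eq_mul_neg, mul_pow, mul_right_comm] at h2
  exact (hu.neg.pow n).mul_left_eq_zero.1 h2

theorem ring_agemo {R : Type*} [Ring R] {p n : ℕ} (hp : p.Prime) {t : R}
    (h1 : (t + 1) ^ p = 1) (h2 : t ^ (n * (p - 1) + 1) = 0) : (p : R) ^ n * t = 0 := by
  let φ := (Polynomial.aeval (R := ℤ) t).toRingHom
  let π := Ideal.Quotient.mk (RingHom.ker φ)
  have k : ∀ {a b}, π a = π b ↔ φ a = φ b := fun {a b} => by
    rw [Ideal.Quotient.eq, RingHom.mem_ker, map_sub, sub_eq_zero]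
  have := ring_agemo_comm (n := n) hp (t := π Polynomial.X)
    (by rw [← map_one π, ← map_add, ← map_pow, k]; simpa [φ] using h1)
    (by rw [← map_zero π, ← map_pow, k]; simpa [φ] using h2)
  rw [← map_natCast π, ← map_pow, ← map_mul, ← map_zero π, k] at this
  simpa [φ] using this

variable {Ω : Type*} [Group Ω] {S P U Z : Subgroup Ω} {F E : FusionSystem S} {p n : ℕ}

theorem pow_cent (hp : p.Prime) (hab : ∀ a ∈ Z, ∀ b ∈ Z, a * b = b * a) {x : Ω}
    (hx : x ∈ Subgroup.normalizer (Z : Set Ω)) (h1 : ∀ v ∈ Z, x ^ p * v * (x ^ p)⁻¹ = v)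
    {C : ℕ → Subgroup Ω} (h0 : Z ≤ C 0) (hs : ∀ j, ∀ w ∈ C j, ⁅x, w⁆ ∈ C (j + 1))
    (hb : C (n * (p - 1) + 1) = ⊥) : ∀ v ∈ Z, x * v ^ p ^ n * x⁻¹ = v ^ p ^ n := by
  letI : CommGroup Z := { (inferInstance : Group Z) with
    mul_comm := fun a b => Subtype.ext (hab a a.2 b b.2) }
  let σ : AddMonoid.End (Additive Z) := MonoidHom.toAdditive (cAut Z ⟨x, hx⟩).toMonoidHom
  have e : ∀ v : Additive Z, ((σ v).toMul : Ω) = x * v.toMul * x⁻¹ := fun v => rfl
  have e1 : ∀ k, ∀ v : Additive Z, (((σ ^ k) v).toMul : Ω) = x ^ k * v.toMul * (x ^ k)⁻¹ := fun k => by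
    induction k with
    | zero => simp
    | succ k ih => intro v; rw [pow_succ', AddMonoid.End.coe_mul, Function.comp_apply, e, ih]; group
  have e2 : ∀ v : Additive Z, (((σ - 1) v).toMul : Ω) = ⁅x, (v.toMul : Ω)⁆ := fun v => by
    rw [commutatorElement_def, ← e]
    show (((σ v - v).toMul : Z) : Ω) = _
    rw [sub_eq_add_neg]; rfl
  have e3 : ∀ k, ∀ v : Additive Z, ((((σ - 1) ^ k) v).toMul : Ω) ∈ C k := fun k => by
    induction k with
    | zero => exact fun v => h0 v.toMul.2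
    | succ k ih =>
      intro v; rw [pow_succ', AddMonoid.End.coe_mul, Function.comp_apply, e2]; exact hs _ _ (ih v)
  have := ring_agemo (n := n) hp (t := σ - 1)
    (by rw [sub_add_cancel]; exact AddMonoidHom.ext fun v => Subtype.ext ((e1 p v).trans (h1 _ v.toMul.2)))
    (AddMonoidHom.ext fun v => Subtype.ext (Subgroup.mem_bot.1 (hb ▸ e3 _ v)))
  intro v hv
  rw [← Nat.cast_pow, Nat.cast_comm] at this
  have h2 := e2 ((p ^ n : ℕ) • Additive.ofMul ⟨v, hv⟩)
  have h3 : (σ - 1) ((p ^ n : ℕ) • Additive.ofMul ⟨v, hv⟩) = 0 := DFunLike.congr_fun this _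
  rw [h3] at h2
  exact mul_inv_eq_one.1 h2.symm

variable [hp : Fact p.Prime] [Finite S]

theorem alperin_normalSub (hS : IsPGroup p S) (hF : F.IsSaturated p)
    (h0 : F.autGroup S ≤ E.autGroup S) (h : ∀ P, P < S → centralizerIn S P ≤ P →
      ∃ N : Subgroup (MulAut P), N ≤ E.autGroup P ∧ N ≤ F.autGroup P ∧
        (∀ a ∈ F.autGroup P, ∀ b ∈ N, a * b * a⁻¹ ∈ N) ∧
        ∃ σ ∈ autInducedBy S P, σ ∈ N ∧ σ ∉ Inn P) : F ≤ E := by
  rw [le_iff_mor]
  intro P f hf
  refine downward_induction (C := fun P => ∀ f, Mor F P f → Mor E P f) ?_ P hf.le f hf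
  intro P hP ih f hf
  rcases hP.eq_or_lt with rfl | hlt
  · exact mor_top_of_autGroup_le h0 hf
  refine alperin_step hS hlt (hF P hP) ih (fun Q h0 hA hR => ?_) hf
  have hc := isConj_card h0
  have hlt0 : Q < S := lt_of_le_of_ne hA.1 fun e' => by
    rw [e'] at hc; exact (card_lt_of_lt hlt).ne hc
  have h1 := extGen_le_of_ih (hc ▸ ih)
  by_cases hC : centralizerIn S Q ≤ Q
  · obtain ⟨N, n1, n2, n3, σ, s1, s2, s3⟩ := h Q hlt0 hC
    rw [extGen_eq_tiGenUp hS hR hC] at h1
    have := finite_of_le hA.1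
    have := finite_mulAut Q
    intro α hα
    obtain ⟨k, hk⟩ := autInducedBy_pgroup hS Q ⟨σ, s1⟩
    obtain ⟨c, c1, c2⟩ := ((IsFullyAutomized.sylowIn hA).inf_normal n2 n3).conj
      (D := Subgroup.zpowers (α * σ * α⁻¹)) ((Subgroup.zpowers_le).2 (n3 α hα σ s2))
      (pgroup_zpowers (k := k) (by rw [conj_pow, show σ ^ p ^ k = 1 from congrArg Subtype.val hk]; group))
    refine (Subgroup.mul_mem_cancel_left _ (n1 c1)).1 (h1 (Subgroup.subset_closure
      ⟨mul_mem (n2 c1) hα, σ, s1, s3, ?_⟩))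
    rw [show c * α * σ * (c * α)⁻¹ = c * (α * σ * α⁻¹) * c⁻¹ by group]
    exact (c2 _ (Subgroup.mem_zpowers _)).1
  · rwa [extGen_eq_of_not_centric hR hC] at h1

theorem presData (hU : S ≤ Subgroup.normalizer (U : Set Ω)) :
    SysData S fun P f => Mor F P f ∧ ∀ x ∈ P, x ∈ U ↔ f x ∈ U :=
  SysData.ofSub F (fun h => h.1) (fun h => h.1.le) (fun h _ hx => h.1.mem hx)
    (fun h e => ⟨h.1.congr e, fun x hx => e x hx ▸ h.2 x hx⟩)
    (fun hP hs => ⟨mor_conj F hP hs, fun x _ => Subgroup.mem_normalizer_iff.1 (hU hs) x⟩)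
    (fun hf hg m => ⟨hf.1.comp hg.1 m, fun x hx => (hf.2 x hx).trans (hg.2 _ (m x hx))⟩)
    fun hf hg e => ⟨hg, fun y hy => by
      obtain ⟨x, hx, rfl⟩ := hf.1.mem_img.1 hy
      rw [e x hx]; exact (hf.2 x hx).symm⟩

theorem exists_pstep (hS : IsPGroup p S) (h : P < S) : ∃ x ∈ normalizerIn S P, x ∉ P ∧ x ^ p ∈ P := by
  classical
  obtain ⟨g, h1, h2⟩ := SetLike.exists_of_lt (lt_normalizerIn hS h)
  obtain ⟨k, hk⟩ := hS ⟨g, h1.1⟩
  have hx : ∃ i, g ^ p ^ i ∈ P := ⟨k, (show g ^ p ^ k = 1 from congrArg Subtype.val hk) ▸ P.one_mem⟩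
  obtain ⟨i, hi⟩ := Nat.exists_eq_succ_of_ne_zero (n := Nat.find hx) fun e => by
    have := Nat.find_spec hx
    rw [e, pow_zero, pow_one] at this
    exact h2 this
  have := Nat.find_spec hx
  rw [hi, pow_succ, pow_mul] at this
  exact ⟨_, pow_mem h1 _, Nat.find_min hx (m := i) (by omega), this⟩

theorem mem_normalizer_zc [Finite P] {x : Ω} (hx : x ∈ Subgroup.normalizer (P : Set Ω)) :
    x ∈ Subgroup.normalizer (centralizerIn P P : Set Ω) :=
  have := finite_of_le (centralizerIn_le (S := P) (P := P))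
  mem_normalizer_of_finite fun v hv => mem_centralizerIn.2 ⟨conj_mem_of_mem_normalizer hx hv.1,
    fun y hy => by
      have := (mem_centralizerIn.1 hv).2 _ (conj_mem_of_mem_normalizer (inv_mem hx) hy)
      calc _ = x * (v * (x⁻¹ * y * x⁻¹⁻¹) * v⁻¹) * x⁻¹ := by group
        _ = y := by rw [this]; group⟩

theorem agemo_normal (hS : IsPGroup p S) (hF : F.IsSaturated p)
    (hcl : S.lowerCentralSeries (n * (p - 1) + 1) = ⊥) :
    F.IsNormal (powerClosure p n (centralizerIn S S)) := by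
  have hU : ∀ P : Subgroup Ω, powerClosure p n (centralizerIn P P) ≤ centralizerIn P P := fun P =>
    (Subgroup.closure_le _).2 (by rintro _ ⟨x, hx, rfl⟩; exact pow_mem hx _)
  have ha : ∀ (P : Subgroup Ω) (α : MulAut P), ∀ x ∈ powerClosure p n (centralizerIn P P),
      afun α x ∈ powerClosure p n (centralizerIn P P) := fun P α x hx => by
    have hm := (mem_autGroup (F := groupFusionSystem P) le_rfl (α := α))
    induction hx using Subgroup.closure_induction with
    | mem y hy =>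
      obtain ⟨x, hx, rfl⟩ := hy
      refine Subgroup.subset_closure ⟨afun α x, ⟨afun_mem _ hx.1, fun y hy => ?_⟩, ?_⟩
      · rw [← afun_afun_inv α hy, ← afun_map_mul _ (afun_mem _ hy) hx.1,
          ← afun_map_mul _ hx.1 (afun_mem _ hy), hx.2 _ (afun_mem _ hy)]
      · rw [afun_of_mem _ hx.1, afun_of_mem _ (pow_mem hx.1 _), ← Subgroup.coe_pow, ← map_pow]; rfl
    | one => rw [afun_of_mem _ P.one_mem]; exact (congrArg Subtype.val (map_one α)).symm ▸ one_mem _
    | mul x y hx hy h1 h2 => rw [afun_map_mul _ (hU P hx).1 (hU P hy).1]; exact mul_mem h1 h2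
    | inv x hx h1 =>
      rw [afun_of_mem _ (hU P hx).1] at h1
      rw [afun_of_mem _ (inv_mem (hU P hx).1)]
      exact (congrArg Subtype.val (map_inv α ⟨x, (hU P hx).1⟩)).symm ▸ inv_mem h1
  have hn : S ≤ Subgroup.normalizer (powerClosure p n (centralizerIn S S) : Set Ω) := fun s hs =>
    Subgroup.centralizer_le_normalizer _ fun x hx => ((hU S hx).2 s hs).symm
  have D := presData (F := F) hn
  have h1 := alperin_normalSub hS hF (E := D.sys) (fun α hα => (mem_autGroup le_rfl).2 (D.mor_iff.2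
    ⟨(mem_autGroup le_rfl).1 hα, fun x hx => ⟨ha S α x, fun h => afun_inv_afun α hx ▸ ha S α⁻¹ _ h⟩⟩))
    fun P hP hC => by
      have := finite_of_le hP.le
      obtain ⟨x, x1, x2, x3⟩ := exists_pstep hS hP
      obtain ⟨σ, hσ⟩ := exists_cAut x1.2
      have m := mem_autInducedBy.2 ⟨x, x1.1, hσ⟩
      have hle : powerClosure p n (centralizerIn S S) ≤ powerClosure p n (centralizerIn P P) :=
        Subgroup.closure_mono fun _ ⟨y, hy, e⟩ => ⟨y, ⟨hC ⟨hy.1, fun z hz => hy.2 z (hP.le hz)⟩,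
          fun z hz => hy.2 z (hP.le hz)⟩, e⟩
      have hV := (hU P).trans centralizerIn_le
      have fx : ∀ {β}, β ∈ resPre hV ⊥ ↔ ∀ y ∈ powerClosure p n (centralizerIn P P), afun β y = y :=
        fun {β} => (mem_resPre hV).trans ⟨fun ⟨γ, h1, h2⟩ y hy => by
          rw [h2 y hy, Subgroup.mem_bot.1 h1, afun_one], fun h => ⟨1, one_mem _, fun y hy => by
            rw [h y hy, afun_one]⟩⟩
      refine ⟨F.autGroup P ⊓ resPre hV ⊥, fun β hβ => (mem_autGroup hP.le).2 (D.mor_iff.2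
        ⟨(mem_autGroup hP.le).1 hβ.1, fun y hy => ⟨fun h => by rwa [fx.1 hβ.2 y (hle h)], fun h => ?_⟩⟩),
        inf_le_left, fun a a1 b hb => ⟨Subgroup.mul_mem _ (Subgroup.mul_mem _ a1 hb.1) (Subgroup.inv_mem _ a1), fx.2 fun y hy => ?_⟩,
        σ, m, ⟨autInducedBy_le_autGroup F hP.le m, fx.2 fun y hy => ?_⟩,
        fun h => x2 (mem_of_cAut_mem_Inn hC hP.le x1.1 hσ h)⟩
      · have := fx.1 (inv_mem hβ.2) _ (hle h)
        rw [afun_inv_afun _ hy] at this
        rwa [this]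
      · rw [afun_mul _ _ (hV hy), afun_mul _ _ (afun_mem _ (hV hy)), fx.1 hb.2 _ (ha P a⁻¹ y hy),
          afun_afun_inv _ (hV hy)]
      · rw [hσ y (hV hy), mul_inv_eq_iff_eq_mul]
        have : powerClosure p n (centralizerIn P P) ≤ Subgroup.centralizer {x} :=
          (Subgroup.closure_le _).2 (by
            rintro _ ⟨v, hv, rfl⟩ _ rfl
            exact mul_inv_eq_iff_eq_mul.1 (pow_cent hp.out (Z := centralizerIn P P) (fun a ha b hb => hb.2 a ha.1)
              (mem_normalizer_zc x1.2) (fun v hv => by rw [hv.2 _ x3]; group)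
              (C := S.lowerCentralSeries) (centralizerIn_le.trans hP.le) (fun j w hw =>
                (Subgroup.commutator_comm _ _).le (Subgroup.commutator_mem_commutator x1.1 hw)) hcl v hv))
        exact this hy x rfl
  exact normal_of_abelian hS hF (stronglyClosed_iff.2 ⟨(hU S).trans centralizerIn_le,
    fun P f hf x hx m => ((D.mor_iff.1 (le_iff_mor.1 h1 P f hf)).2 x hx).1 m⟩)
    fun x hx y hy => (hU S hy).2 x (hU S hx).1

theorem pow_mem_upper {G : Type*} [Group G] {m : ℕ} (h : ∀ z ∈ Subgroup.center G, z ^ m = 1) (i : ℕ) :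
    ∀ x ∈ Subgroup.upperCentralSeries G (i + 1), x ^ m ∈ Subgroup.upperCentralSeries G i := by
  induction i with
  | zero => exact fun x hx => h x (Subgroup.upperCentralSeries_one G ▸ hx)
  | succ i ih =>
    intro x hx
    rw [Subgroup.mem_upperCentralSeries_succ_iff] at hx ⊢
    intro y
    have h1 := ih _ (hx y)
    have h2 := Subgroup.mem_upperCentralSeries_succ_iff.1 (hx y) x
    let π := QuotientGroup.mk' (Subgroup.upperCentralSeries G i)
    have k : ∀ {a}, π a = 1 ↔ a ∈ Subgroup.upperCentralSeries G i := QuotientGroup.eq_one_iff _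
    rw [← k] at h1 h2 ⊢
    have c : Commute (π (x * y * x⁻¹ * y⁻¹)) (π x) := by
      rw [← commutatorElement_eq_one_iff_commute, ← map_commutatorElement]; exact h2
    have e : π y * (π x)⁻¹ * (π y)⁻¹ = (π x)⁻¹ * π (x * y * x⁻¹ * y⁻¹) := by
      simp only [map_mul, map_inv]; group
    have : π (x ^ m * y * (x ^ m)⁻¹ * y⁻¹) = π x ^ m * (π y * (π x)⁻¹ * (π y)⁻¹) ^ m := by
      simp only [map_mul, map_inv, map_pow, conj_pow]; group
    rw [commutatorElement_def] at h1 ⊢
    rw [this, e, c.symm.inv_left.mul_pow, ← map_pow _ (x * y * x⁻¹ * y⁻¹), h1]; group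

theorem pow_eq_one_upper {G : Type*} [Group G] {m : ℕ} (h : ∀ z ∈ Subgroup.center G, z ^ m = 1) (i : ℕ) :
    ∀ x ∈ Subgroup.upperCentralSeries G i, x ^ m ^ i = 1 := by
  induction i with
  | zero => exact fun x hx => by rw [Subgroup.mem_bot.1 hx, one_pow]
  | succ i ih => exact fun x hx => by rw [pow_succ', pow_mul]; exact ih _ (pow_mem_upper h i x hx)

end Cfsg.Agent.Fusion
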