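import Cfsg.Agent.Lib.Fusion.Glaub
import Cfsg.Agent.Lib.Transfer.NPC

/-! Criteria for a fusion system to be inner; sparse systems. -/

set_option autoImplicit false

namespace Cfsg.Agent.Fusion

open Cfsg Cfsg.FusionSystem
open scoped commutatorElement

universe u v

variable {Ω : Type u} [Group Ω] {S : Subgroup Ω} {F : FusionSystem S} {P Q R T A U : Subgroup Ω}
  {p : ℕ} {f g φ : Ω → Ω}

/-- `F` is the inner system. -/
def IsInner (F : FusionSystem S) : Prop := F.IsSubsystemOf (innerFusionSystem S)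

theorem isInner_iff : IsInner F ↔ ∀ P f, Mor F P f → ∃ s ∈ S, ∀ x ∈ P, f x = s * x * s⁻¹ :=
  isSubsystemOf_iff.trans (forall₂_congr fun _ _ => imp_congr_right fun hf =>
    mor_inner_iff.trans (and_iff_right hf.le))

theorem isInner_iff_hom : IsInner F ↔ ∀ P, F.Hom P = (innerFusionSystem S).Hom P :=
  ⟨fun h P => Set.Subset.antisymm (h P) (inner_le F P), fun h P => (h P).subset⟩

theorem IsInner.conj (h : IsInner F) (hf : Mor F P f) : ∃ s ∈ S, ∀ x ∈ P, f x = s * x * s⁻¹ :=
  isInner_iff.1 h P f hf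

theorem IsInner.of_sub {D : FusionSystem S} (h : IsInner F) (hD : D.IsSubsystemOf F) : IsInner D :=
  IsSubsystemOf.trans hD h

theorem IsInner.normal_top (h : IsInner F) : F.IsNormal S := isNormal_iff.2 ⟨le_rfl, fun P f hf => by
  obtain ⟨s, hs, e⟩ := h.conj hf
  have := mor_conj F (sup_le hf.le le_rfl) hs
  exact ⟨_, this, fun x hx => (e x hx).symm, WeaklyClosed.img_eq (IsNormal.weaklyClosed
    (inner_normal_top S)) (mor_conj _ le_rfl hs) le_rfl⟩⟩

theorem isInner_normSys_iff (hQ : Q ≤ S) {N : FusionSystem (normalizerIn S Q)}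
    (hN : F.IsNormalizerSystem Q N) : IsInner N ↔ HasN F (innerFusionSystem S) Q := by
  rw [hasN_iff hN hQ]
  refine ⟨fun h => isSubsystemOf_iff.2 fun P f hf => ?_, fun h => isInner_iff.2 fun P f hf => ?_⟩
  · obtain ⟨s, hs, e⟩ := h.conj hf
    exact mor_inner_iff.2 ⟨hf.le.trans normalizerIn_le, s, hs.1, e⟩
  · obtain ⟨g, hg, e1, e2⟩ := IsNormal.ext (normSys_normal hN hQ) hf
    obtain ⟨-, s, hs, e⟩ := mor_inner_iff.1 (isSubsystemOf_iff.1 h _ _ hg)
    obtain ⟨α, -, eα⟩ := (hg.mono le_sup_right).exists_aut e2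
    exact ⟨s, ⟨hs, mem_normalizer_of_afun fun x hx => by
      rw [eα x hx, e x (Subgroup.mem_sup_right hx)]⟩,
      fun x hx => by rw [← e1 x hx, e x (Subgroup.mem_sup_left hx)]⟩

theorem isInner_normSys (h : IsInner F) (hQ : Q ≤ S) {N : FusionSystem (normalizerIn S Q)}
    (hN : F.IsNormalizerSystem Q N) : IsInner N :=
  (isInner_normSys_iff hQ hN).2 fun _ _ hg _ _ _ => isSubsystemOf_iff.1 h _ _ hg

theorem hasN_of_forall (hQ : Q ≤ S) (h : ∀ N : FusionSystem (normalizerIn S Q),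
    F.IsNormalizerSystem Q N → ∀ P, N.Hom P = (innerFusionSystem (normalizerIn S Q)).Hom P) :
    HasN F (innerFusionSystem S) Q :=
  (isInner_normSys_iff hQ (normSys_spec F hQ)).1 (isInner_iff_hom.2 (h _ (normSys_spec F hQ)))

theorem HasN.mono {D E : FusionSystem S} (h : HasN F E Q) (hD : D.IsSubsystemOf F) : HasN D E Q :=
  fun P g hg => h P g (isSubsystemOf_iff.1 hD _ _ hg)

theorem IsRealizedBy.surj_quot [Fact p.Prime] {L M : Type*} [Group L] [Group M] [Finite L]
    {ι : S →* L} (hL : F.IsRealizedBy ι) (hT : SylowIn p ι.range ⊤) (π : L →* M)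
    (hπ : Function.Surjective π) : Surj F (groupFusionSystem (ι.range.map π)) (π.comp ι) := by
  have e : ∀ x ∈ S, ap (π.comp ι) x = π (ap ι x) := fun x hx => by
    rw [ap_of_mem _ hx, ap_of_mem _ hx]; rfl
  have hm : ∀ x ∈ S, ap (π.comp ι) x ∈ ι.range.map π := fun x hx =>
    e x hx ▸ Subgroup.mem_map_of_mem _ (ap_mem_range _ hx)
  refine ⟨⟨hm, fun {P f} hf => ?_⟩, (MonoidHom.map_range _ _).symm, fun {P' f'} hf => ?_⟩
  · obtain ⟨g, eg⟩ := IsRealizedBy.exists_elt hL hf
    have key : ∀ x ∈ P, π g * ap (π.comp ι) x * (π g)⁻¹ = ap (π.comp ι) (f x) := fun x hx => by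
      rw [e _ (hf.le hx), e _ (hf.mem hx), eg x hx, map_mul, map_mul, map_inv]
    refine ⟨fun y => π g * y * (π g)⁻¹, mor_group_iff.2 ⟨(imageAlong_le_iff hf.le).2
      fun x hx => hm x (hf.le hx), fun y hy => ?_, π g, fun _ _ => rfl⟩, key⟩
    obtain ⟨x, hx, rfl⟩ := (mem_imageAlong' hf.le).1 hy
    rw [key x hx]; exact hm _ (hf.mem hx)
  · obtain ⟨h1, h2, g', eg⟩ := mor_group_iff.1 hf
    obtain ⟨g, rfl⟩ := hπ g'
    obtain ⟨k, k1, k2⟩ := exists_lift_conj' hT π
      (imageAlong_le_range (α := ι) (P := preimageAlong (π.comp ι) P')) g fun y hy => by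
        obtain ⟨x, hx, rfl⟩ := (mem_imageAlong' preimageAlong_le).1 hy
        obtain ⟨hx1, hx2⟩ := mem_preimageAlong.1 hx
        rw [map_mul, map_mul, map_inv, ← e x hx1, ← eg _ hx2]
        exact h2 _ hx2
    obtain ⟨f, hf, ef⟩ := IsRealizedBy.exists_mor hL preimageAlong_le k
      fun x hx => k2 _ (ap_mem_imageAlong preimageAlong_le hx)
    refine ⟨f, hf, fun x hx => ?_⟩
    obtain ⟨hx1, hx2⟩ := mem_preimageAlong.1 hx
    rw [eg _ hx2, e _ (hf.mem hx), ef x hx, map_mul, map_mul, map_inv, k1, e x hx1]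

theorem hasNPC_of_isInner [Fact p.Prime] {G : Type*} [Group G] [Finite G] {T : Subgroup G}
    (hT : SylowIn p T ⊤) (h : IsInner (groupFusionSystem T)) : HasNormalPComplement p G := by
  obtain ⟨P, rfl⟩ := hT.exists_sylow_top
  refine Transfer.hasNPC_of_controls_self P fun x hx g hg => ?_
  obtain ⟨s, hs, e⟩ := h.conj (P := Subgroup.zpowers x) (f := fun y => g * y * g⁻¹)
    (mor_group_iff.2 ⟨Subgroup.zpowers_le.2 hx, by
      rintro _ ⟨k, rfl⟩
      beta_reduce
      rw [← conj_zpow]; exact Subgroup.zpow_mem _ hg k, g, fun _ _ => rfl⟩)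
  exact ⟨s, hs, (e x (Subgroup.mem_zpowers x)).symm⟩

theorem isInner_of_hasNPC [Fact p.Prime] {G : Type*} [Group G] [Finite G] {T H : Subgroup G}
    (hT : SylowIn p T H) (h : HasNormalPComplement p H) :
    IsInner (fusionSystemOfSubgroup H T hT.le) := isInner_iff.2 fun P f hf => by
  obtain ⟨h1, h2, g, hg, e⟩ := mor_subgroup_iff.1 hf
  obtain ⟨s, hs, es⟩ := (SylowIn.isSyl hT).exists_conj_of_hasNPC h hg
  exact ⟨s, hs, fun x hx => by rw [es x (h1 hx) (e x hx ▸ h2 x hx), e x hx]⟩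

variable [Fact p.Prime] [Finite S] {Bad : ∀ (H : Type v) [Group H], Prop}

theorem IsModel.range_eq_of_inner {L : Type*} [Group L] {ι : S →* L}
    (hL : F.IsModel p L ι) {H : Subgroup L} {D : FusionSystem S}
    (hm : ∀ A f, Mor D A f ↔ Mor F A f ∧ ∃ g ∈ H, ∀ x ∈ A, ap ι (f x) = g * ap ι x * g⁻¹)
    (hD : IsInner D) : H ≤ ι.range := fun g hg => by
  have hn := core_isNormal F
  obtain ⟨f, hf, e⟩ := IsRealizedBy.exists_mor hL.2.1 hn.1 g fun x hx => imageAlong_le_range
    ((IsModel.image_normal hL hn).conj_mem _ (ap_mem_imageAlong hn.1 hx) g)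
  obtain ⟨s, hs, e'⟩ := hD.conj ((hm _ _).2 ⟨hf, g, hg, e⟩)
  have : (ap ι s)⁻¹ * g ∈ Subgroup.centralizer (imageAlong ι F.core : Set L) := fun y hy => by
    obtain ⟨x, hx, rfl⟩ := (mem_imageAlong' hn.1).1 hy
    have := e x hx
    rw [e' x hx, ap_conj _ hs (hn.1 hx)] at this
    calc ap ι x * ((ap ι s)⁻¹ * g) = (ap ι s)⁻¹ * (ap ι s * ap ι x * (ap ι s)⁻¹) * g := by group
      _ = _ := by rw [this]; group
  have := imageAlong_le_range (IsModel.centralizer_le hL hn
    (isConstrained_iff.1 (IsModel.constrained hL)).2 this)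
  simpa using ι.range.mul_mem (ap_mem_range ι hs) this

omit [Fact p.Prime] [Finite S] in
theorem IsRealizedBy.isInner_of_top {L : Type*} [Group L] {ι : S →* L} (hL : F.IsRealizedBy ι)
    (h : ι.range = ⊤) : IsInner F := isInner_iff.2 fun P f hf => by
  obtain ⟨g, e⟩ := IsRealizedBy.exists_elt hL hf
  obtain ⟨s, hs, rfl⟩ := mem_range_iff.1 (h.ge (Subgroup.mem_top g))
  exact ⟨s, hs, fun x hx => ap_inj hL.1 (hf.mem hx)
    (S.mul_mem (S.mul_mem hs (hf.le hx)) (S.inv_mem hs)) (by rw [e x hx, ap_conj _ hs (hf.le hx)])⟩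

omit [Fact p.Prime] in
theorem Surj.hasN_inner {Ω' : Type*} [Group Ω'] {S' U' : Subgroup Ω'} {θ : S →* Ω'}
    {F' : FusionSystem S'} (h : Surj F F' θ)
    (hU : HasN F (innerFusionSystem S) (preimageAlong θ U')) (hU' : U' ≤ S') :
    HasN F' (innerFusionSystem S') U' := fun P' g' hg' h1 h2 h3 => by
  obtain ⟨g, hg, e1, e2⟩ := h.lift_norm hg' h1 h3
  obtain ⟨-, s, hs, e⟩ := mor_inner_iff.1 (hU _ g hg (preimageAlong_mono h1)
    (h.preimage_normalizerIn hU' ▸ preimageAlong_mono h2) e1)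
  refine mor_inner_iff.2 ⟨hg'.le, _, h.mem s hs, fun y hy => ?_⟩
  obtain ⟨x, hx, rfl⟩ := h.pre hg'.le hy
  rw [e2 x hx, e x hx, ap_conj _ hs (preimageAlong_le hx)]

omit [Fact p.Prime] [Finite S] in
theorem hasN_of_nSys {E : FusionSystem S} {hQ : Q ≤ S} {hn : S ≤ Subgroup.normalizer (Q : Set Ω)}
    (h : (nSys F hQ hn).IsSubsystemOf E) : HasN F E Q :=
  fun _ _ hg h1 _ h2 => isSubsystemOf_iff.1 h _ _ (nSys_mor_of hg le_rfl h1 h2)

omit [Fact p.Prime] [Finite S] in
theorem le_normalizer_center : S ≤ Subgroup.normalizer (centralizerIn S S : Set Ω) :=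
  le_normalizer_of_conj_mem fun _ hs _ hx =>
    centralizerIn_conj_mem (le_normalizerIn le_rfl hs) hx

/-- `E` contains the centralizer system of `Q`. -/
def HasC (F E : FusionSystem S) (Q : Subgroup Ω) : Prop :=
  ∀ P g, Mor F P g → Q ≤ P → (∀ x ∈ Q, g x = x) → Mor E P g

omit [Finite S] in
theorem functor_inner {W : ∀ (Q : Type u) [Group Q], Subgroup Q} (hW : IsCharPFunctor p W)
    (c : Prop) (hbase : ∀ (L : Type u) [Group L] [Finite L] (P : Sylow p L),
      Subgroup.centralizer (pCore p L : Set L) ≤ pCore p L →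
      (∀ (H : Type v) [Group H], Bad H → ¬ Involves H L) →
      HasNormalPComplement p (L ⧸ pCore p L) → IsCoatom (P : Subgroup L) →
      (inducedFunctor W (P : Subgroup L)).Normal ∨
        (c ∧ centralizerIn (P : Subgroup L) P ≤ Subgroup.center L))
    [Finite S] (F : FusionSystem S) :
    IsPGroup p S → F.IsSaturated p → Free p Bad F →
      HasN F (innerFusionSystem S) (inducedFunctor W S) →
      (c → HasC F (innerFusionSystem S) (centralizerIn S S)) → IsInner F := by
  refine sys_induction (C := fun {Ω} _ {S} F => IsPGroup p S → F.IsSaturated p → Free p Bad F →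
      HasN F (innerFusionSystem S) (inducedFunctor W S) →
      (c → HasC F (innerFusionSystem S) (centralizerIn S S)) → IsInner F) ?_ F
  intro Ω _ S _ F ih1 ih2 hS hF hfree h0 hC
  have ihS : ∀ D : FusionSystem S, Loc.{u, v} p F D → ¬ F.IsSubsystemOf D → IsInner D :=
    fun D hD hne => ih2 D hD.sub hne hS hD.sat (hfree.loc hD) (h0.mono hD.sub)
      fun h P g hg => hC h P g (isSubsystemOf_iff.1 hD.sub _ _ hg)
  have hquot : ∀ {Ω' : Type u} [Group Ω'] {S' : Subgroup Ω'} {θ : S →* Ω'}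
      {F' : FusionSystem S'}, Surj F F' θ → preimageAlong θ ⊥ = F.core → F.core ≠ ⊥ →
      F.core ≠ S → IsInner F' := by
    intro Ω' _ S' θ F' h hk h1 h2
    have := h.finite
    have hS' := h.pgroup hS
    have hb := h.ne_bot (hk ▸ h2)
    have key : ∀ U', U' ≤ S' → U' ≠ ⊥ → S' ≤ Subgroup.normalizer (U' : Set Ω') →
        HasN F' (innerFusionSystem S') U' := fun U' hU hb hn =>
      h.hasN_inner (hasN_of_nSys (ihS (nSys F preimageAlong_le (h.preimage_le_normalizer hn))
        (loc_nSys hS hF) fun h' => (h.ker_lt hU hb).not_ge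
          (hk ▸ IsNormal.le_core (normal_of_nSys h')))) hU
    exact ih1 F' (h.card_lt (hk ▸ h1)) hS' (h.saturated hS hF) (hfree.surj hS hF h)
      (key _ (ind_le W S') (ind_ne_bot hW hS' hb) (ind_le_normalizer hW hS'))
      fun _ P g hg h1 h2 => key _ centralizerIn_le (centralizerIn_self_ne_bot hS' hb)
        le_normalizer_center P g hg h1
        (by rw [normalizerIn_eq_of_le le_normalizer_center]; exact hg.le) (img_of_eq_id h2)
  refine reduce_ind.{u, v} hW hS hF h0 (fun {T} D hD hne h => ?_) (fun hc => ?_) fun h1 h2 h3 => ?_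
  · have hT := IsSubsystemOf.le hD.sub
    have : Finite T := finite_of_le hT
    have := ih2 D hD.sub hne (pgroup_of_le hS hT) hD.sat (hfree.loc hD)
      (fun P g hg h1 _ h2 => mor_inner_iff.2 ⟨hg.le, hD.conj
        (C := fun P g => inducedFunctor W T ≤ P ∧ img g (inducedFunctor W T) = inducedFunctor W T)
        (fun P g Q g' h _ h1 e => ⟨h.1.trans h1, (img_congr fun x hx => e x (h.1 hx)).trans h.2⟩)
        (fun P g hg hc => (mor_inner_iff.1 (h P g hg hc.1 hc.2)).2) hg ⟨h1, h2⟩⟩)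
      fun hc P g hg h1 h2 => mor_inner_iff.2 ⟨hg.le, hD.conj
        (C := fun P g => centralizerIn S S ≤ P ∧ ∀ x ∈ centralizerIn S S, g x = x)
        (fun P g Q g' h _ h1 e => ⟨h.1.trans h1, fun x hx => by rw [e x (h.1 hx), h.2 x hx]⟩)
        (fun P g hg h => (mor_inner_iff.1 (hC hc P g (isSubsystemOf_iff.1 hD.sub _ _ hg)
          h.1 h.2)).2) hg ⟨fun x hx => h1 ⟨hD.cen hx, (centralizerIn_anti hT hx).2⟩,
          fun x hx => h2 x ⟨hD.cen hx, (centralizerIn_anti hT hx).2⟩⟩⟩
    exact isSubsystemOf_iff.2 fun P f hf => by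
      obtain ⟨s, hs, e⟩ := this.conj hf
      exact mor_inner_iff.2 ⟨hf.le.trans hT, s, hT hs, e⟩
  · by_cases h2 : F.core = S
    · exact isSubsystemOf_iff.2 fun P f hf => h0.of_normal (ind_normal hW hS
        (by have := core_isNormal F; rwa [h2] at this)) hf
    have h1 : F.core ≠ ⊥ := fun h1 => h2 (le_antisymm (core_le F) fun x hx =>
      (isConstrained_iff.1 hc).2 (h1 ▸ mem_centralizerIn.2 ⟨hx, fun y hy => by
        rw [Subgroup.mem_bot.1 hy]; simp⟩))
    obtain ⟨L, _, ι, hL⟩ := exists_model hS hc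
    have : Finite L := hL.1
    obtain ⟨P, hP⟩ := hL.2.2.1
    by_cases ht : ι.range = ⊤
    · exact IsRealizedBy.isInner_of_top hL.2.1 ht
    have := pCore_normal p L
    have hs := IsRealizedBy.surj_quot hL.2.1 (IsModel.sylowIn hL) (QuotientGroup.mk' (pCore p L))
      (QuotientGroup.mk'_surjective _)
    have hq := hquot hs (by
      ext x
      rw [mem_preimageAlong]
      refine ⟨fun ⟨hx, e⟩ => ?_, fun hx => ⟨core_le F hx, ?_⟩⟩
      · rw [ap_of_mem _ hx] at e
        refine (ap_mem_image_iff hL.2.1.1 (core_le F) hx).1 ?_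
        rw [IsModel.image_core hL, ap_of_mem _ hx]
        exact (QuotientGroup.eq_one_iff _).1 e
      · have := ap_mem_imageAlong (α := ι) (core_le F) hx
        rw [IsModel.image_core hL, ap_of_mem _ (core_le F hx)] at this
        rw [ap_of_mem _ (core_le F hx)]
        exact (QuotientGroup.eq_one_iff _).2 this) h1 h2
    have hnpc := hasNPC_of_isInner (by
      have := (IsModel.sylowIn hL).map (QuotientGroup.mk' (pCore p L))
      rwa [Subgroup.map_top_of_surjective _ (QuotientGroup.mk'_surjective _)] at this) hq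
    rcases hbase L P hL.2.2.2 (fun H _ hH => IsModel.not_involves hL (hfree H hH)) hnpc
      ⟨hP ▸ ht, fun H hH => by
        by_contra hne
        obtain ⟨D, hD, hm, ht⟩ := exists_pull.{u, v} hS hL (hP ▸ hH.le)
        exact hH.not_ge (hP ▸ IsModel.range_eq_of_inner hL hm (ihS D hD fun h => hne (ht h)))⟩
      with h | ⟨hc', h⟩
    · rw [IsModel.ind_eq hW hS hL hP] at h
      exact isSubsystemOf_iff.2 fun P f hf =>
        h0.of_normal (IsRealizedBy.normal_of hL.2.1 (ind_le W S) h) hf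
    · refine isSubsystemOf_iff.2 fun A f hf => ?_
      have hZ : F.IsCentral (centralizerIn S S) := by
        refine central_of_fix hS hF centralizerIn_le fun A f hf x hx hxz => ?_
        obtain ⟨g, e⟩ := IsRealizedBy.exists_elt hL.2.1 hf
        refine ap_inj hL.2.1.1 (hf.mem hx) (hf.le hx) ?_
        rw [e x hx]
        have : ap ι x ∈ centralizerIn (P : Subgroup L) P := by
          rw [hP, ← imageAlong_top, ← imageAlong_centralizerIn hL.2.1.1 imageAlong_top.symm le_rfl]
          exact ap_mem_imageAlong centralizerIn_le hxz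
        rw [Subgroup.mem_center_iff.1 (h this) g]; group
      obtain ⟨g, hg, e1, e2⟩ := IsCentral.ext hZ hf
      exact ((hC hc' _ g hg le_sup_right e2).mono le_sup_left).congr e1
  · obtain ⟨Ω', _, S', _, θ, F', h, hk, hS', hF', hc, hb, hn⟩ := exists_quot_core hW hS hF h1 h2
    exact absurd (h.normal_preimage hS hF (hk ▸ core_isNormal F)
      (hk ▸ pgroup_of_le (autInducedBy_pgroup hS _) h3) (hquot h hk h1 h2).normal_top)
      (hn _ le_rfl hb)

end Cfsg.Agent.Fusion
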