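import Cfsg.Agent.Lib.Fusion.Sparse
import Cfsg.Agent.Lib.BG.Meta
import Cfsg.Agent.Lib.Solv.PCyc
import Cfsg.Agent.Lib.Solv.MaxCl

/-! Strongly closed metacyclic and generalized extraspecial subgroups. -/

set_option autoImplicit false
set_option linter.unusedSectionVars false
set_option linter.unusedVariables false
open Cfsg

namespace Cfsg.Agent.MCyc

open Subgroup Cfsg.Agent.BG Cfsg.Agent.Fusion
open scoped commutatorElement

universe u
variable {G : Type u} [Group G] [Finite G] {p : ℕ} [hp : Fact p.Prime]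

/-- The Frattini subgroup of a subgroup, inside the ambient group. -/
abbrev Ph (A : Subgroup G) : Subgroup G := (frattini A).map A.subtype

theorem actKer_normal (X C : Subgroup G) [hX : X.Normal] [hC : C.Normal] :
    (Comp.actKer X C).Normal := ⟨fun n hn g => ⟨by rw [normalizer_eq_top]; trivial, fun c hc => by
  have := hX.conj_mem _ (hn.2 _ (hC.conj_mem c hc g⁻¹)) g
  convert this using 1
  simp only [commutatorElement_def]; group⟩⟩

theorem pgroup_of_coprime {K : Subgroup G}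
    (h : ∀ g ∈ K, (orderOf g).Coprime p → g = 1) : IsPGroup p K :=
  Comp.isPGroup_of_forall fun x hx => by
    obtain ⟨k, m, hm, e⟩ := Nat.exists_eq_pow_mul_and_not_dvd (orderOf_pos x).ne' p hp.out.ne_one
    refine ⟨k, h _ (K.pow_mem hx _) ?_⟩
    rw [orderOf_pow, e, Nat.gcd_mul_right_left, Nat.mul_div_cancel_left _ (pow_pos hp.out.pos _)]
    exact (hp.out.coprime_iff_not_dvd.2 hm).symm

theorem mem_core (hc : Con p G) {A U : Subgroup G} [A.Normal] [U.Normal] (hA : A ≤ pCore p G)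
    {x : G} (h1 : ∀ r ∈ pCore p G, ⁅x, r⁆ ∈ A) (h2 : ∀ r ∈ A, ⁅x, r⁆ ∈ U)
    (h3 : ∀ r ∈ U, ⁅x, r⁆ ∈ Ph A) : x ∈ pCore p G := by
  have := actKer_normal A (pCore p G)
  have := actKer_normal U A
  have := actKer_normal (Ph A) U
  have top : ∀ (N : Subgroup G) [N.Normal] (g : G), g ∈ Nm(N) := fun N _ g => by
    rw [normalizer_eq_top]; trivial
  refine Solv.le_pCore (N := Comp.actKer A (pCore p G) ⊓ Comp.actKer U A ⊓ Comp.actKer (Ph A) U)
    (pgroup_of_coprime fun g hg hco => ?_) ⟨⟨⟨top _ _, h1⟩, top _ _, h2⟩, top _ _, h3⟩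
  have cop : ∀ B : Subgroup G, B ≤ pCore p G → (Nat.card (zpowers g)).Coprime (Nat.card B) :=
    fun B hB => by
      obtain ⟨n, hn⟩ := IsPGroup.iff_card.1 ((Solv.isPGroup_pCore p G).to_le hB)
      rw [hn, Nat.card_zpowers]; exact hco.pow_right n
  have k : ∀ {X C : Subgroup G}, g ∈ Comp.actKer X C → ⁅C, zpowers g⁆ ≤ X := fun h => by
    rw [commutator_comm]; exact (Comp.le_actKer_iff.1 (zpowers_le.2 h)).2
  have a1 : ⁅A, zpowers g⁆ ≤ Ph A := by
    rw [← Solv.coprime_commutator_commutator (fun y _ => top A y) (cop A hA)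
      (.inr (haveI := ((Solv.isPGroup_pCore p G).to_le hA).isNilpotent; inferInstance))]
    exact (commutator_mono (k hg.1.2) le_rfl).trans (k hg.2)
  have a2 := Solv.coprime_frattini_le_centralizer (A := zpowers g) (K := A) (by
    have := cop (Ph A) ((map_subtype_le _).trans hA)
    rwa [Comp.card_map_subtype] at this) a1 fun y _ => top A y
  have a3 := hc (Solv.coprime_le_centralizer_of_commutator_le (cop A hA) (k hg.1.1) a2
    (mem_zpowers g))
  have a4 := cop _ (zpowers_le.2 a3)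
  rw [Nat.coprime_self, Nat.card_zpowers] at a4
  exact orderOf_eq_one_iff.1 a4

theorem mem_pow {a x : G} {H : Subgroup G} (ha : IsPGroup p (zpowers a)) (hx : x ∈ zpowers a)
    (h1 : x ∈ H) (h2 : a ∉ H) : x ∈ zpowers (a ^ p) := by
  obtain ⟨k, rfl⟩ := mem_powers_iff_mem_zpowers.2 hx
  obtain ⟨n, hn⟩ := IsPGroup.iff_card.1 ha
  rw [Nat.card_zpowers] at hn
  by_cases hk : p ∣ k
  · obtain ⟨j, rfl⟩ := hk
    exact ⟨j, by simp [pow_mul]⟩
  · exact absurd (zpowers_le.2 h1 (mem_zpowers_pow_iff.2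
      (hn ▸ (hp.out.coprime_iff_not_dvd.2 hk).symm.pow_right n))) h2

theorem mem_zp {z u : G} (hz : z ^ p = 1) (hu : u ∈ zpowers z) (h1 : u ≠ 1) : z ∈ zpowers u :=
  by_contra fun h => h1 (by
    simpa [hz] using mem_pow (p := p) (Solv.isPGroup_of_pow_eq_one fun _ hx =>
      Solv.pow_eq_one_of_mem_zpowers hz hx) hu (mem_zpowers u) h)

omit [Finite G] in
theorem transv {x a b s : G} {i : ℤ} (h1 : x * a * x⁻¹ = s ^ i * a) (h2 : x * b * x⁻¹ = s * b)
    (c1 : Commute s a) (c2 : Commute s b) : Commute x (a * b ^ (-i)) := by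
  have : x * (a * b ^ (-i)) * x⁻¹ = a * b ^ (-i) := by
    calc x * (a * b ^ (-i)) * x⁻¹ = (x * a * x⁻¹) * (x * b * x⁻¹) ^ (-i) := by
          rw [conj_zpow]; group
      _ = _ := by
          rw [h1, h2, c2.mul_zpow, (c1.zpow_left i).eq]; group
  exact mul_inv_eq_iff_eq_mul.1 this

omit [Finite G] in
theorem word {x y u v : G} (c : Commute u v) (h1 : x * u * x⁻¹ = u) (h2 : x * v * x⁻¹ = u * v)
    (h3 : y * v * y⁻¹ = v) (h4 : y * u * y⁻¹ = v⁻¹ * u) :
    (x * y * x) ^ 2 * u * ((x * y * x) ^ 2)⁻¹ = u⁻¹ ∧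
      (x * y * x) ^ 2 * v * ((x * y * x) ^ 2)⁻¹ = v⁻¹ := by
  have a : (x * y * x) * u * (x * y * x)⁻¹ = v⁻¹ := by
    calc _ = x * (y * (x * u * x⁻¹) * y⁻¹) * x⁻¹ := by group
      _ = x * (v⁻¹ * u) * x⁻¹ := by rw [h1, h4]
      _ = (x * v * x⁻¹)⁻¹ * (x * u * x⁻¹) := by group
      _ = _ := by rw [h1, h2]; group
  have b : (x * y * x) * v * (x * y * x)⁻¹ = u := by
    calc _ = x * (y * (x * v * x⁻¹) * y⁻¹) * x⁻¹ := by group
      _ = x * ((y * u * y⁻¹) * (y * v * y⁻¹)) * x⁻¹ := by rw [h2]; group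
      _ = _ := by rw [h3, h4, mul_assoc v⁻¹, c.eq, inv_mul_cancel_left, h1]
  set w := x * y * x
  constructor
  · calc _ = w * (w * u * w⁻¹) * w⁻¹ := by rw [sq]; group
      _ = (w * v * w⁻¹)⁻¹ := by rw [a]; group
      _ = _ := by rw [b]
  · calc _ = w * (w * v * w⁻¹) * w⁻¹ := by rw [sq]; group
      _ = _ := by rw [b, a]

theorem sl2 (hp2 : p ≠ 2) {A N : Subgroup G} [hA : A.Normal] [hN : N.Normal]
    (hab : ∀ a ∈ A, ∀ b ∈ A, Commute a b) (hexp : ∀ a ∈ A, a ^ p = 1) {x : G} (hx : x ∈ N)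
    (hz : x ^ p ∈ A) (hz1 : x ^ p ≠ 1) (hc : ∀ a ∈ A, ⁅x, a⁆ ∈ zpowers (x ^ p))
    (h1 : ∀ g, g * x ^ p * g⁻¹ ∉ zpowers (x ^ p) → ¬ Commute x (g * x ^ p * g⁻¹))
    (h2 : ∃ g, g * x ^ p * g⁻¹ ∉ zpowers (x ^ p))
    (H : ∀ h ∈ N, (∀ a ∈ A, Commute ⁅h, x⁆ a) → ⁅h, x⁆ ∈ A) : False := by
  obtain ⟨g, hg⟩ := h2
  set z := x ^ p with hzd
  have hg' : g⁻¹ * z * g⁻¹⁻¹ ∉ zpowers z := fun h => hg (conj_mem_of_mem_normalizer
    (by simpa using inv_mem (Solv.mem_normalizer_zpowers h)) (mem_zpowers z))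
  set v := g * z * g⁻¹ with hv
  set y := g * x * g⁻¹ with hy
  have vA : v ∈ A := hA.conj_mem z hz g
  have zA : zpowers z ≤ A := zpowers_le.2 hz
  have vA' : zpowers v ≤ A := zpowers_le.2 vA
  have xz : ∀ s ∈ zpowers z, Commute x s := fun s hs =>
    Solv.Commute.of_mem_zpowers (Commute.self_pow x p) (mem_zpowers x) hs
  have yv : Commute y v := (Commute.self_pow x p).map (MulAut.conj g)
  have hcy : ∀ a ∈ A, ⁅y, a⁆ ∈ zpowers v := fun a ha => by
    obtain ⟨k, hk⟩ := hc _ (hA.conj_mem a ha g⁻¹)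
    refine ⟨k, ?_⟩
    simp only [hv, conj_zpow, hy] at hk ⊢
    rw [hk]; simp only [commutatorElement_def]; group
  have cj : ∀ a b : G, a * b * a⁻¹ = ⁅a, b⁆ * b := fun a b => by
    simp only [commutatorElement_def]; group
  set u := ⁅x, v⁆ with hu
  have uz := hc v vA
  have uA := zA uz
  have u1 : u ≠ 1 := fun e => h1 g hg (commutatorElement_eq_one_iff_commute.1 e)
  have zu : z ∈ zpowers u := mem_zp (hexp z hz) uz u1
  set w := ⁅y, u⁆ with hw
  have wv := hcy u uA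
  have w1 : w ≠ 1 := fun e => h1 g⁻¹ hg' (by
    have := (Solv.Commute.of_mem_zpowers (commutatorElement_eq_one_iff_commute.1 e)
      (mem_zpowers y) zu).map (MulAut.conj g⁻¹)
    simpa [hy, mul_assoc] using this)
  have vw : v ∈ zpowers w := mem_zp (hexp v vA) wv w1
  obtain ⟨k, hk⟩ := mem_powers_iff_mem_zpowers.2 (inv_mem vw)
  have yw : Commute y w := Solv.Commute.of_mem_zpowers yv (mem_zpowers y) wv
  have hY : ∀ k : ℕ, y ^ k * u * (y ^ k)⁻¹ = w ^ k * u := fun k => by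
    induction k with
    | zero => simp
    | succ k ih =>
      calc _ = y * (y ^ k * u * (y ^ k)⁻¹) * y⁻¹ := by group
        _ = (y * w ^ k * y⁻¹) * (y * u * y⁻¹) := by rw [ih]; group
        _ = _ := by rw [(yw.pow_right k).eq, cj y u, mul_inv_cancel_right, pow_succ, mul_assoc]
  obtain ⟨e1, e2⟩ := word (x := x) (y := y ^ k) (hab u uA v vA)
    (mul_inv_eq_iff_eq_mul.2 (xz u uz).eq) (cj x v)
    (mul_inv_eq_iff_eq_mul.2 (yv.pow_left k).eq) (by rw [hY]; exact congrArg (· * u) hk)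
  set h := (x * y ^ k * x) ^ 2 with hh
  have hN' : h ∈ N := pow_mem (mul_mem (mul_mem hx (pow_mem (hN.conj_mem x hx g) k)) hx) 2
  have inv : ∀ s ∈ zpowers u, h * s * h⁻¹ = s⁻¹ := fun s hs => Transfer.inverts_of_mem_zpowers e1 hs
  have key : A ≤ MonoidHom.eqLocus (MulAut.conj (h * x)).toMonoidHom
      (MulAut.conj (x * h)).toMonoidHom := fun a ha => by
    set E := MonoidHom.eqLocus (MulAut.conj (h * x)).toMonoidHom (MulAut.conj (x * h)).toMonoidHom
    have mE : ∀ {b}, h * (x * b * x⁻¹) * h⁻¹ = x * (h * b * h⁻¹) * x⁻¹ → b ∈ E := fun e => by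
      change h * x * _ * (h * x)⁻¹ = x * h * _ * (x * h)⁻¹
      simpa [mul_assoc] using e
    have uE : u ∈ E := mE (by
      rw [(xz u uz).eq, mul_inv_cancel_right, e1, (xz u uz).inv_right.eq, mul_inv_cancel_right])
    have vE : v ∈ E := mE (by
      calc _ = h * (u * v) * h⁻¹ := by rw [cj x v]
        _ = (h * u * h⁻¹) * (h * v * h⁻¹) := by group
        _ = (v * u)⁻¹ := by rw [e1, e2, mul_inv_rev v u]
        _ = (x * v * x⁻¹)⁻¹ := by rw [cj x v, ← (hab u uA v vA).eq]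
        _ = _ := by rw [e2]; group)
    obtain ⟨i, hi⟩ := zpowers_le.2 zu (hc a ha)
    have c1 := transv (x := x) (a := a) (b := v) (s := u) (i := i) (by rw [cj, ← hi]) (cj x v)
      (hab u uA a ha) (hab u uA v vA)
    have a'A := mul_mem ha (zpow_mem vA (-i))
    obtain ⟨j, hj⟩ := zpowers_le.2 vw (hcy _ a'A)
    have c2 := transv (x := y) (a := a * v ^ (-i)) (b := u) (s := w) (i := j) (by rw [cj, ← hj])
      (cj y u) (hab w (vA' wv) _ a'A) (hab w (vA' wv) u uA)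
    have c3 := c1.mul_right ((xz u uz).zpow_right (-j))
    have c4 : Commute h (a * v ^ (-i) * u ^ (-j)) :=
      (((c3.mul_left (c2.pow_left k)).mul_left c3).pow_left 2)
    have dE : a * v ^ (-i) * u ^ (-j) ∈ E := mE (by
      rw [c3.eq, mul_inv_cancel_right, c4.eq, mul_inv_cancel_right, c3.eq, mul_inv_cancel_right])
    simpa [mul_assoc] using mul_mem (mul_mem dE (zpow_mem uE j)) (zpow_mem vE i)
  have rA := H h hN' fun a ha => by
    have : h * x * ((x * h)⁻¹ * a * (x * h)⁻¹⁻¹) * (h * x)⁻¹ =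
      x * h * ((x * h)⁻¹ * a * (x * h)⁻¹⁻¹) * (x * h)⁻¹ := key (hA.conj_mem a ha _)
    calc ⁅h, x⁆ * a = h * x * ((x * h)⁻¹ * a * (x * h)⁻¹⁻¹) * (h * x)⁻¹ * ⁅h, x⁆ := by
          simp only [commutatorElement_def]; group
      _ = a * ⁅h, x⁆ := by rw [this]; group
  set r := ⁅h, x⁆
  have sz := hc r rA
  have e3 : (r * x) ^ p = z := by
    rw [Solv.mul_pow_prime_of_comm hp.out hp2 (hab r rA _ (zA sz)) (xz _ sz) (by
      rw [mul_assoc, (xz _ sz).eq, ← mul_assoc, (hab r rA _ (zA sz)).eq]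
      simp only [commutatorElement_def]; group) (hexp _ (zA sz)), hexp r rA, one_mul]
  rw [← cj, conj_pow, ← hzd, inv z zu] at e3
  have e4 : z ^ 2 = 1 := by rw [sq]; nth_rw 1 [← e3]; exact inv_mul_cancel z
  have e5 := pow_gcd_eq_one.2 ⟨e4, hexp z hz⟩
  rw [(Nat.coprime_primes Nat.prime_two hp.out).2 hp2.symm, pow_one] at e5
  exact hz1 e5

/-- The local configuration of a strongly closed subgroup which is not normal. -/
structure LM (p : ℕ) (S T : Subgroup G) : Prop where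
  con : Con p G
  syl : SylowIn p S ⊤
  core : pCore p G ≤ S
  sc : IsStronglyClosed T S
  nle : ¬ T ≤ pCore p G

variable {S T : Subgroup G}

theorem LM.normal (h : LM p S T) : (T ⊓ pCore p G).Normal := ⟨fun n hn g =>
  have := (inferInstance : (pCore p G).Normal).conj_mem n hn.2 g
  ⟨h.sc.2 n hn.1 g (h.core this), this⟩⟩

theorem LM.pT (h : LM p S T) : IsPGroup p T := h.syl.pgroup.to_le h.sc.1

theorem LM.pA (h : LM p S T) : IsPGroup p (T ⊓ pCore p G : Subgroup G) := h.pT.to_le inf_le_left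

theorem LM.comm' (h : LM p S T) {x g : G} (hx : x ∈ T) (hg : ⁅g, x⁆ ∈ pCore p G) :
    ⁅g, x⁆ ∈ T ⊓ pCore p G :=
  ⟨T.mul_mem (h.sc.2 x hx g (by
    simpa [commutatorElement_def] using mul_mem (h.core hg) (h.sc.1 hx))) (T.inv_mem hx), hg⟩

theorem LM.comm (h : LM p S T) {x r : G} (hx : x ∈ T) (hr : r ∈ pCore p G) :
    ⁅x, r⁆ ∈ T ⊓ pCore p G := by
  rw [← commutatorElement_inv]
  refine inv_mem (h.comm' hx ?_)
  simpa [commutatorElement_def, mul_assoc] using
    mul_mem hr ((inferInstance : (pCore p G).Normal).conj_mem _ (inv_mem hr) x)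

theorem LM.mem (h : LM p S T) {U : Subgroup G} [U.Normal] {x : G} (hx : x ∈ T)
    (h2 : ∀ r ∈ T ⊓ pCore p G, ⁅x, r⁆ ∈ U) (h3 : ∀ r ∈ U, ⁅x, r⁆ ∈ Ph (T ⊓ pCore p G)) :
    x ∈ pCore p G :=
  haveI := h.normal
  mem_core h.con inf_le_right (fun r hr => h.comm hx hr) h2 h3

theorem LM.mem' (h : LM p S T) {x : G} (hx : x ∈ T)
    (h3 : ∀ r ∈ T ⊓ pCore p G, ⁅x, r⁆ ∈ Ph (T ⊓ pCore p G)) : x ∈ pCore p G :=
  haveI := h.normal
  h.mem hx (fun r hr => h.comm hx hr.2) h3

/-- The structure of a metacyclic strongly closed subgroup in a local configuration. -/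
structure MS (p : ℕ) (T A : Subgroup G) (a : G) : Prop where
  mem : a ∈ T
  nm : T ≤ Nm(zpowers a)
  nA : a ∉ A
  pow : a ^ p ∈ A
  nP : a ^ p ∉ Ph A
  comm : ∀ r ∈ A, ⁅a, r⁆ ∈ zpowers (a ^ p)
  nc : ¬ ∀ r ∈ A, ⁅a, r⁆ ∈ Ph A
  ex : ∃ g, g * a ^ p * g⁻¹ ∉ zpowers (a ^ p) ⊔ Ph A
  gen : ∀ v ∈ A, v ∉ zpowers (a ^ p) ⊔ Ph A → zpowers (a ^ p) ⊔ zpowers v = A

theorem LM.ms (h : LM p S T) (hm : Meta T) : ∃ a, MS p T (T ⊓ pCore p G) a := by
  obtain ⟨a, b, hb, e⟩ := hm
  have := h.normal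
  set A := T ⊓ pCore p G with hA
  have aT : zpowers a ≤ T := e ▸ le_sup_left
  have bT : zpowers b ≤ T := e ▸ le_sup_right
  have nm : T ≤ Nm(zpowers a) := e ▸ sup_le le_normalizer (zpowers_le.2 hb)
  have pa := h.pT.to_le aT
  have dec : ∀ r ∈ T, ∃ s ∈ zpowers a, ∃ t ∈ zpowers b, r = s * t := fun r hr =>
    (Solv.mem_sup_of_le_normalizer' (zpowers_le.2 hb)).1 (e ▸ hr)
  have pw : ∀ r ∈ A, r ^ p ∈ Ph A := fun r hr => Solv.pow_mem_map_frattini h.pA hr
  have nA : a ∉ A := fun ha => h.nle (e ▸ sup_le (zpowers_le.2 ha.2) (zpowers_le.2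
      (h.mem' (bT (mem_zpowers b)) fun r hr => by
    obtain ⟨s, hs, t, ht, rfl⟩ := dec r hr.1
    have c := Solv.commute_of_mem_zpowers ht
    have e1 : ⁅b, s * t⁆ = ⁅s, b⁆⁻¹ := by
      simp only [commutatorElement_def]
      calc _ = b * s * (t * b⁻¹ * t⁻¹) * s⁻¹ := by group
        _ = _ := by rw [c.inv_right.eq]; group
    rw [e1]
    by_cases a1 : zpowers a = ⊥
    · simp [mem_bot.1 (a1 ▸ hs)]
    have lt := commutator_lt_of_isPGroup h.pT pa nm a1
    have := commutator_mem_commutator hs (bT (mem_zpowers b))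
    exact inv_mem (zpowers_le.2 (pw a ha) (mem_pow pa (lt.le this) this fun x =>
      lt.not_ge (zpowers_le.2 x))))))
  have aT' := aT (mem_zpowers a)
  have cz : ∀ r ∈ T, r * a * r⁻¹ ∈ zpowers a := fun r hr =>
    conj_mem_of_mem_normalizer (nm hr) (mem_zpowers a)
  have comm : ∀ r ∈ A, ⁅a, r⁆ ∈ zpowers (a ^ p) := fun r hr => mem_pow pa (by
    simpa [commutatorElement_def, mul_assoc] using mul_mem (mem_zpowers a) (inv_mem (cz r hr.1)))
    (h.comm aT' hr.2) nA
  have pow : a ^ p ∈ A := ⟨pow_mem aT' p, h.mem' (pow_mem aT' p) fun r hr => by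
    have : ⁅a ^ p, r⁆ = ⁅a, r⁆ ^ p := by
      rw [show ⁅a, r⁆ = a * (r * a * r⁻¹)⁻¹ by simp only [commutatorElement_def]; group,
        (Solv.commute_of_mem_zpowers (cz r hr.1)).symm.inv_right.mul_pow, inv_pow, conj_pow]
      simp only [commutatorElement_def]; group
    exact this ▸ pw _ (h.comm aT' hr.2)⟩
  have nc : ¬ ∀ r ∈ A, ⁅a, r⁆ ∈ Ph A := fun x => nA ⟨aT', h.mem' aT' x⟩
  have top : ∀ (N : Subgroup G) [N.Normal] (B : Subgroup G), B ≤ Nm(N) := fun N _ _ g _ => by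
    rw [normalizer_eq_top]; trivial
  refine ⟨a, aT', nm, nA, pow, fun x => nc fun r hr => zpowers_le.2 x (comm r hr), comm, nc,
    by_contra fun x => ?_, fun v hv hv' => ?_⟩
  · push Not at x
    have : (zpowers (a ^ p) ⊔ Ph A).Normal := ⟨fun n hn g => (sup_le
      (c := (zpowers (a ^ p) ⊔ Ph A).comap (MulAut.conj g).toMonoidHom) (zpowers_le.2 (x g))
      (fun y hy => mem_sup_right ((inferInstance : (Ph A).Normal).conj_mem y hy g))) hn⟩
    refine nA ⟨aT', h.mem (U := zpowers (a ^ p) ⊔ Ph A) aT' (fun r hr => mem_sup_left (comm r hr)) fun r hr => ?_⟩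
    refine Comp.commutator_sup_right_le (C := zpowers a) (X := Ph A) (top _ _) (top _ _) ?_
      (commutator_le_right _ _) (commutator_mem_commutator (mem_zpowers a) hr)
    exact commutator_le.2 fun s hs t ht => by
      rw [commutatorElement_eq_one_iff_commute.2
        (Solv.Commute.of_mem_zpowers (Commute.self_pow a p) hs ht)]
      exact one_mem _
  · have := isCyclic_of_injective _ (inclusion_injective
      (inf_le_left : zpowers b ⊓ (zpowers a ⊔ A) ≤ zpowers b))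
    obtain ⟨b', hb'⟩ := (Subgroup.isCyclic_iff_exists_zpowers_eq_top _).1 this
    obtain ⟨s, hs, c, hc, e1⟩ := (Solv.mem_sup_of_le_normalizer (top A _)).1
      (hb'.le (mem_zpowers b')).2
    have dec2 : ∀ r ∈ A, ∃ s ∈ zpowers (a ^ p), ∃ t ∈ zpowers c, r = s * t := fun r hr => by
      obtain ⟨s', hs', t, ht, rfl⟩ := dec r hr.1
      have h1 : t ∈ zpowers b' := hb'.ge ⟨ht, by
        simpa using mul_mem (mem_sup_left (inv_mem hs')) (mem_sup_right (S := zpowers a) hr)⟩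
      have h2 : zpowers b' ≤ zpowers a ⊔ zpowers c :=
        zpowers_le.2 (e1 ▸ mul_mem_sup hs (mem_zpowers c))
      obtain ⟨s, hs, t', ht', e2⟩ := (Solv.mem_sup_of_le_normalizer' (zpowers_le.2 (nm hc.1))).1
        (mul_mem (mem_sup_left hs') (h2 h1))
      refine ⟨s, mem_pow pa hs (H := A) ?_ nA, t', ht', e2⟩
      simpa [e2] using mul_mem hr (inv_mem (zpowers_le.2 hc ht'))
    refine le_antisymm (sup_le (zpowers_le.2 pow) (zpowers_le.2 hv)) fun r hr => ?_
    obtain ⟨s, hs, t, ht, rfl⟩ := dec2 v hv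
    have hc' : c ∈ zpowers (a ^ p) ⊔ zpowers (s * t) := by_contra fun x => hv' (mul_mem_sup hs
      (zpowers_le.2 (pw c hc) (mem_pow (h.pA.to_le (zpowers_le.2 hc)) ht (by
        simpa using mul_mem_sup (inv_mem hs) (mem_zpowers (s * t))) x)))
    obtain ⟨s, hs, t, ht, rfl⟩ := dec2 r hr
    exact mul_mem (mem_sup_left hs) (zpowers_le.2 hc' ht)

theorem LM.not_meta (hp2 : p ≠ 2) (h : LM p S T) : ¬ Meta T := fun hm => by
  obtain ⟨a, m⟩ := h.ms hm
  have := h.normal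
  set A := T ⊓ pCore p G with hA
  have := actKer_normal A (pCore p G)
  let π := QuotientGroup.mk' (Ph A)
  have sj : Function.Surjective π := QuotientGroup.mk'_surjective _
  have k1 : ∀ {x}, π x = 1 ↔ x ∈ Ph A := QuotientGroup.eq_one_iff _
  have k2 : ∀ {x}, π x ∈ zpowers (π a ^ p) ↔ x ∈ zpowers (a ^ p) ⊔ Ph A := fun {x} => by
    rw [← map_pow, ← MonoidHom.map_zpowers, ← mem_comap, comap_map_eq, QuotientGroup.ker_mk']
  have top : ∀ (N : Subgroup G) [N.Normal] (g : G), g ∈ Nm(N) := fun N _ g => by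
    rw [normalizer_eq_top]; trivial
  have := (inferInstance : A.Normal).map π sj
  have := (inferInstance : (Comp.actKer A (pCore p G)).Normal).map π sj
  refine sl2 hp2 (A := A.map π) (N := (Comp.actKer A (pCore p G)).map π) (x := π a) ?_ ?_
    ⟨a, ⟨top _ _, fun r hr => h.comm m.mem hr⟩, rfl⟩ ⟨_, m.pow, map_pow _ _ _⟩
    (fun e => m.nP (k1.1 (by rwa [map_pow]))) ?_ ?_ ?_ ?_
  · rintro _ ⟨x, hx, rfl⟩ _ ⟨y, hy, rfl⟩
    rw [← commutatorElement_eq_one_iff_commute, ← map_commutatorElement, k1]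
    exact Solv.commutator_le_map_frattini h.pA.isNilpotent (commutator_mem_commutator hx hy)
  · rintro _ ⟨x, hx, rfl⟩
    rw [← map_pow, k1]; exact Solv.pow_mem_map_frattini h.pA hx
  · rintro _ ⟨x, hx, rfl⟩
    rw [← map_commutatorElement, k2]; exact mem_sup_left (m.comm x hx)
  · intro g hg hc
    obtain ⟨g, rfl⟩ := sj g
    rw [← map_pow, ← map_inv, ← map_mul, ← map_mul] at hc
    replace hg : g * a ^ p * g⁻¹ ∉ zpowers (a ^ p) ⊔ Ph A := fun x => hg (by simpa using k2.2 x)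
    refine m.nc fun r hr => ?_
    rw [← k1, map_commutatorElement, commutatorElement_eq_one_iff_commute]
    rw [← m.gen _ ((inferInstance : A.Normal).conj_mem _ m.pow g) hg] at hr
    exact ((sup_le (c := (C1(π a)).comap π) (zpowers_le.2 (by
      simpa [mem_centralizer_singleton_iff] using (Commute.self_pow (π a) p).symm.eq))
      (zpowers_le.2 (mem_centralizer_singleton_iff.2 hc.symm.eq))) hr _ rfl)
  · obtain ⟨g, hg⟩ := m.ex
    exact ⟨π g, fun x => hg (k2.1 (by simpa using x))⟩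
  · rintro _ ⟨g, hg, rfl⟩ hc
    rw [← map_commutatorElement] at hc ⊢
    refine ⟨_, h.comm' m.mem (mem_core (A := A) (U := A) h.con inf_le_right (fun r hr => ?_)
      (fun r hr => ?_) fun r hr => ?_), rfl⟩
    · have := (inferInstance : (Comp.actKer A (pCore p G)).Normal).conj_mem _ (inv_mem hg) a
      exact (mul_mem hg this).2 r hr |> fun x => by simpa [commutatorElement_def, mul_assoc] using x
    · simpa [commutatorElement_def, mul_assoc] using
        mul_mem ((inferInstance : A.Normal).conj_mem r hr ⁅g, a⁆) (inv_mem hr)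
    · rw [← k1, map_commutatorElement, commutatorElement_eq_one_iff_commute]
      exact hc _ ⟨r, hr, rfl⟩

theorem MS.two {A : Subgroup G} [hn : A.Normal] {a : G} (m : MS 2 T A a) (hA : IsPGroup 2 A)
    (hAT : A ≤ T) : Nat.card A = 2 ^ 2 ∨ Nat.card A = 2 ^ 3 ∧ ¬ IsMulCommutative A := by
  obtain ⟨g, hg⟩ := m.ex
  set u := a ^ 2 with hu
  set v := g * u * g⁻¹ with hv
  have vA : v ∈ A := hn.conj_mem u m.pow g
  have gen := m.gen v vA hg
  set s := ⁅a, v⁆ with hs
  have su : s ∈ zpowers u := m.comm v vA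
  have pu := hA.to_le (zpowers_le.2 m.pow)
  have us : u ∈ zpowers s := by_contra fun x => m.nc fun r hr => by
    refine Comp.commutator_sup_right_le (C := zpowers a) (X := Ph A) (fun _ _ => by
      rw [normalizer_eq_top]; trivial) (fun _ _ => by rw [normalizer_eq_top]; trivial) ?_ ?_
      (commutator_mem_commutator (mem_zpowers a) (gen.ge hr))
    · exact commutator_le.2 fun s hs t ht => by
        rw [commutatorElement_eq_one_iff_commute.2
          (Solv.Commute.of_mem_zpowers (Commute.self_pow a 2) hs ht)]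
        exact one_mem _
    · have h1 : s ∈ Ph A := zpowers_le.2 (Solv.pow_mem_map_frattini hA m.pow)
        (mem_pow pu su (mem_zpowers s) x)
      let π := QuotientGroup.mk' (Ph A)
      have k1 : ∀ {x}, π x = 1 ↔ x ∈ Ph A := QuotientGroup.eq_one_iff _
      refine commutator_le.2 fun y hy t ht => ?_
      rw [← k1, map_commutatorElement, commutatorElement_eq_one_iff_commute] at h1 ⊢
      exact Solv.Commute.of_mem_zpowers h1 (MonoidHom.map_zpowers π a ▸ mem_map_of_mem π hy)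
        (MonoidHom.map_zpowers π v ▸ mem_map_of_mem π ht)
  have sa : Commute s a := Solv.commute_of_mem_zpowers (zpowers_le.2 (pow_mem (mem_zpowers a) 2) su)
  have e1 : v * u * v⁻¹ = (s ^ 2)⁻¹ * u := by
    rw [hu, ← conj_pow, show v * a * v⁻¹ = s⁻¹ * a by simp only [hs, commutatorElement_def]; group,
      sa.inv_left.mul_pow, inv_pow]
  have su2 : Commute (s ^ 2) u := (sa.pow_left 2).pow_right 2
  have e2 : ⁅u, v⁆ = s ^ 2 := by
    calc _ = u * (v * u * v⁻¹)⁻¹ := by simp only [commutatorElement_def]; group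
      _ = _ := by rw [e1]; group
  have sq : ∀ {x y : G}, x ∈ zpowers y → x ^ 2 ∈ zpowers (y ^ 2) := by
    rintro _ y ⟨k, rfl⟩
    exact ⟨k, by simp only [← zpow_natCast, ← zpow_mul, mul_comm]⟩
  have nm : ∀ k : ℕ, A ≤ Nm(zpowers (a ^ k)) := fun k r hr => Solv.mem_normalizer_zpowers (by
    obtain ⟨j, hj⟩ := conj_mem_of_mem_normalizer (m.nm (hAT hr)) (mem_zpowers a)
    exact ⟨j, by
      rw [← conj_pow, ← hj]; simp only [← zpow_natCast, ← zpow_mul, mul_comm]⟩)
  have d1 : ⁅A, A⁆ ≤ zpowers (u ^ 2) := der_le_of_gen2 (Z := ⊥) (a := u) (b := v)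
    (by rw [hu, ← pow_mul]; exact nm _) (by rw [bot_sup_eq, gen]) (by simp) (e2 ▸ sq su)
  have d2 : u ^ 2 ∈ ⁅A, A⁆ := zpowers_le.2 (e2 ▸ commutator_mem_commutator m.pow vA) (sq us)
  have c1 : Commute v (u ^ 2) := by
    obtain ⟨k, hk⟩ := d1 ((inferInstance : (⁅A, A⁆).Normal).conj_mem _ d2 g⁻¹)
    have : u ^ 2 = (v ^ 2) ^ k := by
      simp only [hv, conj_pow, conj_zpow] at hk ⊢
      rw [hk]; group
    rw [this]; exact (Commute.self_pow v 2).zpow_right k
  have e3 : (s ^ 2) ^ 2 = 1 := by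
    have : v * u ^ 2 * v⁻¹ = ((s ^ 2) ^ 2)⁻¹ * u ^ 2 := by
      rw [← conj_pow, e1, su2.inv_left.mul_pow, inv_pow]
    rw [c1.eq, mul_inv_cancel_right] at this
    simpa using this
  have e4 : u ^ 2 ^ 2 = 1 := by
    simpa [← pow_mul] using Solv.pow_eq_one_of_mem_zpowers e3 (sq us)
  have e5 : Nat.card A = 2 * orderOf u := by
    rw [← gen, Transfer.card_sup_zpowers (nm 2 vA) (zpowers_le.2 (pow_mem (mem_zpowers u) 2) (d1 (by
      simpa [hv] using (inferInstance : (⁅A, A⁆).Normal).conj_mem _ d2 g)))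
      fun x => hg (mem_sup_left x), Nat.card_zpowers]
  have u1 : u ≠ 1 := fun e => m.nP (by rw [← hu, e]; exact one_mem _)
  by_cases h : u ^ 2 = 1
  · exact .inl (by rw [e5, orderOf_eq_prime h u1]; rfl)
  · refine .inr ⟨by rw [e5, orderOf_eq_prime_pow (n := 1) (by simpa using h) e4]; rfl, fun hc => h ?_⟩
    have : ⁅u, v⁆ = 1 := commutatorElement_eq_one_iff_mul_comm.2
      (congrArg Subtype.val (hc.is_comm.comm ⟨u, m.pow⟩ ⟨v, vA⟩))
    simpa [← e2, this] using sq us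

theorem iso_of_two {P : Type u} [Group P] [Finite P] (hP : IsPGroup 2 P) {Q : Subgroup P}
    (hQ : Q ≠ ⊤) (hC : Ct(Q) ≤ Q)
    (h : Nat.card Q = 2 ^ 2 ∨ Nat.card Q = 2 ^ 3 ∧ ¬ IsMulCommutative Q) :
    (∃ m, Nonempty (P ≃* DihedralGroup (2 ^ (m + 1)))) ∨
      (∃ m, 1 ≤ m ∧ Nonempty (P ≃* QuaternionGroup (2 ^ m))) ∨ IsQuasiDihedral P := by
  obtain ⟨n, hn⟩ := IsPGroup.iff_card.1 hP
  have h1 : Group.nilpotencyClass P = n - 1 := h.elim
    (fun h => Solv.maxClass_of_centralizer P n hn _ h hC) fun h => Solv.maxClass_of_cube hn h.1 h.2 hC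
  have h2 : 3 ≤ n := by
    have := Comp.card_lt_of_lt hQ.lt_top
    rw [card_top, hn] at this
    rcases h with h | ⟨h, -⟩ <;> rw [h, Nat.pow_lt_pow_iff_right one_lt_two] at this <;> omega
  obtain ⟨a, b, h⟩ := Solv.nf2_of_maxClass hn h1 h2
  obtain e | e | ⟨h3, h4, h5⟩ := h.iso
  · exact .inl ⟨_, e⟩
  · exact .inr (.inl ⟨_, by omega, e⟩)
  · exact .inr (.inr ⟨_, by omega, h.card, a, b, h.ord, h4, h5⟩)

theorem meta_of_inj {H K : Type*} [Group H] [Group K] (f : H →* K) (hf : Function.Injective f)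
    (h : IsMetacyclic K) : IsMetacyclic H := by
  obtain ⟨N, _, h1, h2⟩ := h
  refine ⟨N.comap f, inferInstance, isCyclic_of_injective (f.subgroupComap N) fun x y e =>
    Subtype.ext (hf (congrArg Subtype.val e)), isCyclic_of_injective
      (QuotientGroup.map _ N f le_rfl) ((injective_iff_map_eq_one _).2 fun x hx => ?_)⟩
  induction x using QuotientGroup.induction_on with | H z => ?_
  exact (QuotientGroup.eq_one_iff _).2 ((QuotientGroup.eq_one_iff (f z)).1 hx)

section Sys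

open Cfsg.FusionSystem

variable {Ω : Type u} [Group Ω] {S : Subgroup Ω} [Finite S] {F : FusionSystem S} {P : Subgroup Ω}

theorem local_model (hS : IsPGroup p S) (hF : F.IsSaturated p) (hP : F.StronglyClosed P)
    (hn : ¬ F.IsNormal P) : ∃ (R : Subgroup Ω) (L : Type u) (_ : Group L) (_ : Finite L)
      (ι : normalizerIn S R →* L), R ≤ S ∧ ¬ P ≤ R ∧ Function.Injective ι ∧
      LM p ι.range (imageAlong ι (P ⊓ normalizerIn S R)) ∧
      imageAlong ι (P ⊓ R) = imageAlong ι (P ⊓ normalizerIn S R) ⊓ pCore p L ∧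
      imageAlong ι R = pCore p L ∧ centralizerIn P (P ⊓ R) ≤ R ∧ centralizerIn S R ≤ R := by
  obtain ⟨R, h1, h2, h3, h4⟩ : ∃ R, F.IsFullyNormalized R ∧ F.IsCentric R ∧ F.IsRadical p R ∧
      ¬ P ≤ R := by_contra fun h => hn (normal_of_le_family hS hF (StronglyClosed.weaklyClosed hP)
        fun R a b c => by_contra fun d => h ⟨R, a, b, c, d⟩)
  have hE := normSys_spec F h1.1
  have : Finite (normalizerIn S R) := finite_of_le normalizerIn_le
  obtain ⟨L, _, ι, hL⟩ := exists_model (pgroup_of_le hS normalizerIn_le)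
    (normSys_constrained hS hF h1 (IsCentric.cent_le h2) hE)
  have := hL.1
  have hi := hL.2.1.1
  have e := IsModel.image_core hL
  rw [normSys_core hS h2 h3 hE] at e
  have hR := le_normalizerIn h1.1
  have lm : LM p ι.range (imageAlong ι (P ⊓ normalizerIn S R)) := ⟨hL.2.2.2, IsModel.sylowIn hL,
    IsModel.pCore_le hL, IsRealizedBy.sc_image hL.2.1 (stronglyClosed_iff.2 ⟨inf_le_right,
      fun Q f hf x hx h => ⟨StronglyClosed.mem hP (isSubsystemOf_iff.1 (normSys_sub hE) _ _ hf) hx h.1,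
        hf.mem hx⟩⟩), fun h => h4 (le_of_normalizer_inf_le hS h1.1 hP.1
      (h1.1.trans (StronglyClosed.le_normalizer hP)) fun s a b =>
        (imageAlong_le_imageAlong_iff hi inf_le_right hR).1 (e ▸ h) ⟨a, hP.1 a, b⟩)⟩
  have e2 : imageAlong ι (P ⊓ R) = imageAlong ι (P ⊓ normalizerIn S R) ⊓ pCore p L := by
    refine le_antisymm (le_inf (imageAlong_mono (inf_le_inf_left _ hR))
      (e ▸ imageAlong_mono inf_le_right)) fun y hy => ?_
    obtain ⟨x, hx, rfl⟩ := (mem_imageAlong' inf_le_right).1 hy.1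
    obtain ⟨x', hx', e'⟩ := (mem_imageAlong' hR).1 (e.ge hy.2)
    exact ap_mem_imageAlong (inf_le_right.trans hR) ⟨hx.1, ap_inj hi (hR hx') hx.2 e' ▸ hx'⟩
  refine ⟨R, L, _, this, ι, h1.1, h4, hi, lm, e2, e, le_of_normalizer_inf_le hS h1.1
    (centralizerIn_le.trans hP.1) (le_normalizer_of_conj_mem fun r hr x hx =>
      ⟨StronglyClosed.conj_mem hP (h1.1 hr) hx.1, fun y hy => ?_⟩) fun s a b => ?_,
    IsCentric.cent_le h2⟩
  · have := hx.2 (r⁻¹ * y * r⁻¹⁻¹) ⟨StronglyClosed.conj_mem hP (h1.1 (R.inv_mem hr)) hy.1,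
      R.mul_mem (R.mul_mem (R.inv_mem hr) hy.2) (R.inv_mem (R.inv_mem hr))⟩
    calc y * (r * x * r⁻¹) = r * (r⁻¹ * y * r⁻¹⁻¹ * x) * r⁻¹ := by group
      _ = _ := by rw [this]; group
  · have hs : s ∈ normalizerIn S R := ⟨hP.1 a.1, b⟩
    have := lm.mem' (ap_mem_imageAlong inf_le_right ⟨a.1, hs⟩) fun r hr => by
      obtain ⟨x, hx, rfl⟩ := (mem_imageAlong' (inf_le_right.trans hR)).1 (e2.ge hr)
      rw [commutatorElement_eq_one_iff_mul_comm.2 (by
        rw [← ap_mul _ hs (hR hx.2), ← ap_mul _ (hR hx.2) hs, a.2 x hx])]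
      exact one_mem _
    obtain ⟨x', hx', e'⟩ := (mem_imageAlong' hR).1 (e.ge this)
    exact ap_inj hi (hR hx') hs e' ▸ hx'

/-- the image of a subgroup along an injective map is isomorphic to it -/
theorem exists_equiv_image {T Q : Subgroup Ω} {L : Type*} [Group L] {ι : T →* L}
    (hi : Function.Injective ι) (hQ : Q ≤ T) : Nonempty (imageAlong ι Q ≃* Q) :=
  ⟨(equivMapOfInjective _ ι hi).symm.trans (subgroupOfEquivOfLe hQ)⟩

theorem meta_image {T : Subgroup Ω} {L : Type u} [Group L] [Finite L] {ι : T →* L}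
    (hi : Function.Injective ι) (hm : IsMetacyclic P) : Meta (imageAlong ι (P ⊓ T)) := by
  obtain ⟨e⟩ := exists_equiv_image hi (inf_le_right : P ⊓ T ≤ T)
  exact meta_iff.2 (meta_of_inj ((inclusion inf_le_left).comp e.toMonoidHom)
    ((inclusion_injective inf_le_left).comp e.injective) hm)

theorem normal_odd (hp2 : p ≠ 2) (hS : IsPGroup p S) (hF : F.IsSaturated p)
    (hP : F.StronglyClosed P) (hm : IsMetacyclic P) : F.IsNormal P := by_contra fun hn => by
  obtain ⟨R, L, _, _, ι, -, -, hi, lm, -⟩ := local_model hS hF hP hn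
  exact lm.not_meta hp2 (meta_image hi hm)

theorem normal_two (hS : IsPGroup 2 S) (hF : F.IsSaturated 2)
    (hP : F.StronglyClosed P) (hm : IsMetacyclic P) (hn : ¬ F.IsNormal P) :
    (∃ m, Nonempty (P ≃* DihedralGroup (2 ^ (m + 1)))) ∨
      (∃ m, 1 ≤ m ∧ Nonempty (P ≃* QuaternionGroup (2 ^ m))) ∨ IsQuasiDihedral P := by
  obtain ⟨R, L, _, _, ι, h1, h2, hi, lm, e, -, hC, -⟩ := local_model hS hF hP hn
  obtain ⟨a, m⟩ := lm.ms (meta_image hi hm)
  have := lm.normal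
  have h3 := m.two lm.pA inf_le_left
  rw [← e] at h3
  obtain ⟨φ⟩ := exists_equiv_image hi (inf_le_right.trans (le_normalizerIn h1) : P ⊓ R ≤ _)
  let ψ := φ.trans (subgroupOfEquivOfLe (inf_le_left : P ⊓ R ≤ P)).symm
  have := finite_of_le hP.1
  refine iso_of_two (Q := (P ⊓ R).subgroupOf P) (pgroup_of_le hS hP.1)
    (fun e => h2 ((subgroupOf_eq_top.1 e).trans inf_le_right))
    (fun x hx => ⟨x.2, hC ⟨x.2, fun y hy => congrArg Subtype.val (hx ⟨y, hy.1⟩ hy)⟩⟩) ?_
  rw [← Nat.card_congr ψ.toEquiv]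
  exact h3.imp_right fun h => ⟨h.1, fun c => h.2 ⟨⟨fun x y => ψ.injective (by
    rw [map_mul, map_mul, c.is_comm.comm])⟩⟩⟩

end Sys

end Cfsg.Agent.MCyc
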