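import Cfsg.Agent.Lib.Fusion.Focal
import Cfsg.Agent.Lib.Fusion.MCyc
import Cfsg.Agent.Lib.Fusion.Inner
import Cfsg.Agent.Lib.Solv.PCyc

/-! Small exponent subgroups control fusion. -/

set_option autoImplicit false
set_option linter.unusedSectionVars false

namespace Cfsg.Agent.Fusion

open Cfsg Cfsg.FusionSystem Subgroup
open scoped commutatorElement

/-- small elements -/
def Sm (p : ℕ) {P : Type*} [Group P] (x : P) : Prop := x ^ p = 1 ∨ (p = 2 ∧ x ^ 4 = 1)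

section
variable {P : Type*} [Group P] [Finite P] {p : ℕ} [hp : Fact p.Prime] {β : MulAut P}

omit [Finite P] in
theorem sm_iff {x : P} : Sm p x ↔ x ^ (if p = 2 then 4 else p) = 1 := by
  unfold Sm
  split_ifs with h
  · subst h
    exact ⟨fun h => h.elim (fun h => by rw [show 4 = 2 * 2 from rfl, pow_mul, h, one_pow]) (·.2), fun h => .inr ⟨rfl, h⟩⟩
  · simp [h]

theorem fix_step (hP : IsPGroup p P) (hβ : (orderOf β).Coprime p) {x : P}
    (h : β (x⁻¹ * β x) = x⁻¹ * β x) : β x = x := by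
  have k : ∀ j : ℕ, (β ^ j) x = x * (x⁻¹ * β x) ^ j := fun j => by
    induction j with
    | zero => simp
    | succ j ih => rw [pow_succ', MulAut.mul_apply, ih, map_mul, map_pow, h, pow_succ', ← mul_assoc,
        mul_inv_cancel_left]
  have := k (orderOf β)
  rw [pow_orderOf_eq_one, MulAut.one_apply, left_eq_mul] at this
  exact (inv_mul_eq_one.1 (Transfer.eq_one_of_coprime_of_isPGroup hP
    (hβ.coprime_dvd_left (orderOf_dvd_of_pow_eq_one this)))).symm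

theorem fix_of_selfcent (hP : IsPGroup p P) (hβ : (orderOf β).Coprime p) {U V : Subgroup P}
    (hV : ∀ x ∈ V, β x ∈ V) (hn : ∀ x ∈ V, ∀ u ∈ U, x * u * x⁻¹ ∈ U) (hc : V ⊓ centralizer (U : Set P) ≤ U)
    (hU : ∀ u ∈ U, β u = u) : ∀ x ∈ V, β x = x := fun x hx =>
  fix_step hP hβ (hU _ (hc ⟨V.mul_mem (V.inv_mem hx) (hV x hx), fun u hu => by
    have := hU _ (hn x hx u hu)
    rw [map_mul, map_mul, hU u hu, map_inv, mul_inv_eq_iff_eq_mul] at this
    rw [mul_assoc, this]; group⟩))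

/-- an invariant version of Thompson's critical subgroup, of small exponent -/
theorem exists_crit (hP : IsPGroup p P) {G : Subgroup (MulAut P)} (hG : Inn P ≤ G) {T : Subgroup P}
    (hT : ∀ α ∈ G, ∀ x ∈ T, α x ∈ T) : ∃ D ≤ T, (∀ α ∈ G, ∀ x ∈ D, α x ∈ D) ∧ (∀ x ∈ D, Sm p x) ∧
      ⁅D, ⊤⁆ ≤ D ⊓ centralizer (D : Set P) ∧ ∀ α ∈ G, (orderOf α).Coprime p → (∀ x, x⁻¹ * α x ∈ T) →
        (∀ x ∈ D, α x = x) → α = 1 := by
  have nm : ∀ A : Subgroup P, (∀ α ∈ G, ∀ x ∈ A, α x ∈ A) → A.Normal := fun A h =>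
    ⟨fun x hx g => h _ (hG ⟨g, rfl⟩) x hx⟩
  have ci : ∀ A : Subgroup P, (∀ α ∈ G, ∀ x ∈ A, α x ∈ A) → ∀ α ∈ G, ∀ x ∈ centralizer (A : Set P),
      α x ∈ centralizer (A : Set P) := fun A h α hα x hx a ha => by
    simpa using congrArg α (hx _ (h _ (inv_mem hα) a ha))
  obtain ⟨A, -, ⟨hAT, hA, hAc⟩, hmax⟩ := Solv.exists_maximal_ge (P := fun A : Subgroup P => A ≤ T ∧
    (∀ α ∈ G, ∀ x ∈ A, α x ∈ A) ∧ A ≤ centralizer (A : Set P)) (N := ⊥) ⟨bot_le, by simp, bot_le⟩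
  have := nm A hA
  let C : Subgroup P := (omegaOne p (center (P ⧸ A))).comap (QuotientGroup.mk' A) ⊓ (T ⊓ centralizer (A : Set P))
  have hC : ∀ x, x ∈ C ↔ ((∀ g : P, ⁅x, g⁆ ∈ A) ∧ x ^ p ∈ A) ∧ x ∈ T ⊓ centralizer (A : Set P) := fun x => by
    refine and_congr_left' ?_
    show (x : P ⧸ A) ∈ omegaOne p _ ↔ _
    rw [Transfer.mem_omegaOne_iff inferInstance, ← QuotientGroup.mk_pow, QuotientGroup.eq_one_iff, Subgroup.mem_center_iff,
      (QuotientGroup.mk_surjective).forall]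
    refine and_congr_left' (forall_congr' fun g => ?_)
    rw [← QuotientGroup.eq_one_iff, ← QuotientGroup.mk'_apply A ⁅x, g⁆, map_commutatorElement,
      commutatorElement_eq_one_iff_mul_comm, eq_comm]
    rfl
  have hCc : ∀ α ∈ G, ∀ x ∈ C, α x ∈ C := fun α hα x hx => by
    rw [hC] at hx ⊢
    exact ⟨⟨fun g => by simpa [map_commutatorElement] using hA α hα _ (hx.1.1 (α.symm g)),
      by simpa using hA α hα _ hx.1.2⟩, hT α hα x hx.2.1, ci A hA α hα x hx.2.2⟩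
  have hAC : A ≤ C := fun x hx => (hC x).2
    ⟨⟨fun g => commutator_le_left A ⊤ (commutator_mem_commutator hx (mem_top g)), pow_mem hx p⟩, hAT hx, hAc hx⟩
  have hAC' : A ≤ centralizer (C : Set P) := le_centralizer_iff.1 (inf_le_right.trans inf_le_right)
  have hZ : C ⊓ centralizer (C : Set P) = A := hmax _ ⟨inf_le_left.trans (inf_le_right.trans inf_le_left),
    fun α hα x hx => ⟨hCc α hα x hx.1, ci C hCc α hα x hx.2⟩, fun x hx y hy => hx.2 y hy.1⟩ (le_inf hAC hAC')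
  have hS : T ⊓ centralizer (C : Set P) ≤ C := by
    by_contra hn
    have := nm (T ⊓ centralizer (C : Set P)) fun α hα x hx => ⟨hT α hα x hx.1, ci C hCc α hα x hx.2⟩
    obtain ⟨x, hx, h1, h2, h3⟩ := Solv.exists_central_mod_pow (L := ⊤) (M := T ⊓ centralizer (C : Set P)) (N := A)
      (hP.to_subgroup ⊤).isNilpotent (hP.to_subgroup _) le_top le_normalizer_of_normal
      le_normalizer_of_normal fun e => hn (e.trans hAC)
    exact h1 (hZ.le ⟨(hC x).2 ⟨⟨fun g => h3 g (mem_top g), h2⟩, hx.1, centralizer_le hAC hx.2⟩, hx.2⟩)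
  have mp : ∀ x ∈ C, ∀ y ∈ C, ∀ n, (x * y) ^ (p * n) = x ^ (p * n) * y ^ (p * n) *
      ⁅y⁻¹, x⁻¹⁆ ^ (p * n).choose 2 ∧ ⁅y⁻¹, x⁻¹⁆ ^ p = 1 := fun x hx y hy n => by
    have h1 := hAC' (((hC _).1 (inv_mem hy)).1.1 x⁻¹)
    have h2 : y * x = x * y * ⁅y⁻¹, x⁻¹⁆ := by rw [commutatorElement_def]; group
    refine ⟨Solv.mul_pow_of_comm (h1 x hx) (h1 y hy) h2 _, ?_⟩
    have := Solv.pow_mul_of_comm (h1 y hy) h2 p
    rwa [← hAC' ((hC y).1 hy).1.2 x hx, left_eq_mul] at this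
  have ms : ∀ x ∈ C, ∀ y ∈ C, (x * y) ^ (if p = 2 then 4 else p) =
      x ^ (if p = 2 then 4 else p) * y ^ (if p = 2 then 4 else p) := fun x hx y hy => by
    split_ifs with h
    · subst h
      obtain ⟨h1, h2⟩ := mp x hx y hy 2
      rw [h1, show Nat.choose (2 * 2) 2 = 2 * 3 from rfl, pow_mul _ 2 3, h2, one_pow, mul_one]
    · obtain ⟨h1, h2⟩ := mp x hx y hy 1
      obtain ⟨k, hk⟩ := hp.out.dvd_choose_self (k := 2) two_ne_zero (lt_of_le_of_ne hp.out.two_le (Ne.symm h))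
      rwa [mul_one, hk, pow_mul, h2, one_pow, mul_one] at h1
  let D : Subgroup P :=
    { carrier := {x | x ∈ C ∧ x ^ (if p = 2 then 4 else p) = 1}
      one_mem' := ⟨one_mem _, one_pow _⟩
      mul_mem' := fun h1 h2 => ⟨mul_mem h1.1 h2.1, by rw [ms _ h1.1 _ h2.1, h1.2, h2.2, one_mul]⟩
      inv_mem' := fun h => ⟨inv_mem h.1, by rw [inv_pow, h.2, inv_one]⟩ }
  have hD : ∀ α ∈ G, ∀ x ∈ D, α x ∈ D := fun α hα x hx => ⟨hCc α hα x hx.1, by rw [← map_pow, hx.2, map_one]⟩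
  have := nm D hD
  have := nm C hCc
  refine ⟨D, fun x hx => hx.1.2.1, hD, fun x hx => sm_iff.2 hx.2, le_inf (commutator_le_left _ _)
    (commutator_le.2 fun x hx g _ y hy => hAC' (((hC x).1 hx.1).1.1 g) y hy.1), fun α hα hc h1 h2 => ?_⟩
  have h3 : ∀ k, ∀ x ∈ C, x ^ p ^ k = 1 → α x = x := fun k => by
    induction k with
    | zero => intro x _ h; simp [show x = 1 by simpa using h]
    | succ k ih =>
      intro x hx h
      have h4 := ih _ (pow_mem hx p) (by rw [← pow_mul, ← pow_succ', h])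
      refine fix_step hP hc (h2 _ ⟨mul_mem (inv_mem hx) (hCc α hα x hx), ?_⟩)
      rw [ms _ (inv_mem hx) _ (hCc α hα x hx), ← map_pow, inv_pow, inv_mul_eq_one]
      split_ifs with h
      · subst h
        rw [show 4 = 2 * 2 from rfl, pow_mul, map_pow, h4]
      · exact h4.symm
  exact MulEquiv.ext fun x => fix_step hP hc (fix_of_selfcent hP hc (hT α hα) (fun x _ u hu =>
    Normal.conj_mem ‹_› u hu x) hS (fun x hx => (hP x).elim fun k => h3 k x hx) _ (h1 x))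

theorem crit_max (hP : IsPGroup p P) {G : Subgroup (MulAut P)} {D A : Subgroup P}
    (h1 : ∀ α ∈ G, ∀ x ∈ D, α x ∈ D) (h2 : ⁅D, ⊤⁆ ≤ D ⊓ centralizer (D : Set P))
    (h3 : ∀ α ∈ G, (orderOf α).Coprime p → (∀ x ∈ D, α x = x) → α = 1) (hA : A ≤ D) (hc : IsMulCommutative A)
    (hm : ∀ B : Subgroup P, A ≤ B → B ≤ D → IsMulCommutative B → B = A) :
    A.Normal ∧ IsPGroup p (G ⊓ fixingSubgroup (MulAut P) (A : Set P) : Subgroup _) := by
  have m : D ⊓ centralizer (A : Set P) ≤ A := fun x hx => by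
    have : IsMulCommutative (closure (insert x (A : Set P))) := isMulCommutative_closure (by
      rintro a (rfl | ha) b (rfl | hb)
      · rfl
      · exact (hx.2 b hb).symm
      · exact hx.2 a ha
      · exact congrArg Subtype.val (hc.is_comm.comm ⟨a, ha⟩ ⟨b, hb⟩))
    rw [← hm _ (fun a ha => Subgroup.subset_closure (Set.mem_insert_of_mem _ ha)) ((closure_le _).2
      (Set.insert_subset hx.1 hA)) this]
    exact Subgroup.subset_closure (Set.mem_insert _ _)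
  have n : A.Normal := ⟨fun a ha g => by
    have := h2 (commutator_mem_commutator (hA (inv_mem ha)) (mem_top g))
    simpa [commutatorElement_def, mul_assoc] using mul_mem ha (m ⟨this.1, centralizer_le hA this.2⟩)⟩
  exact ⟨n, MCyc.pgroup_of_coprime fun α hα hc => h3 α hα.1 hc (fix_of_selfcent hP hc (h1 α hα.1)
    (fun x _ u hu => n.conj_mem u hu x) m ((mem_fixingSubgroup_iff _).1 hα.2))⟩

theorem crit_ab (hP : IsPGroup p P) {G B : Subgroup (MulAut P)} {D : Subgroup P} (hB : SylowIn p B G)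
    (h1 : ∀ α ∈ G, ∀ x ∈ D, α x ∈ D) (h2 : ⁅D, ⊤⁆ ≤ D ⊓ centralizer (D : Set P))
    (h3 : ∀ α ∈ G, (orderOf α).Coprime p → (∀ x ∈ D, α x = x) → α = 1) :
    ∃ A ≤ D, IsMulCommutative A ∧ A.Normal ∧ ∀ α ∈ G, (∀ x ∈ A, α x = x) → α ∈ B := by
  obtain ⟨A, -, ⟨k1, k2⟩, hm⟩ := Solv.exists_maximal_ge (P := fun A : Subgroup P => A ≤ D ∧ IsMulCommutative A)
    (N := ⊥) ⟨bot_le, inferInstance⟩
  obtain ⟨k3, k4⟩ := crit_max hP h1 h2 h3 k1 k2 fun B a b c => hm B ⟨b, c⟩ a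
  obtain ⟨c, hc, e⟩ := hB.conj inf_le_left k4
  refine ⟨A.map c.toMonoidHom, ?_, inferInstance, k3.map _ c.surjective, fun α hα h => ?_⟩
  · rintro _ ⟨x, hx, rfl⟩
    exact h1 c hc x (k1 hx)
  · simpa [mul_assoc] using e (c⁻¹ * α * c) ⟨G.mul_mem (G.mul_mem (G.inv_mem hc) hα) hc,
      (mem_fixingSubgroup_iff _).2 fun x hx => by simpa using congrArg c.symm (h _ ⟨x, hx, rfl⟩)⟩

end

universe u
variable {Ω : Type u} [Group Ω] {S : Subgroup Ω} {F : FusionSystem S} {P Q T A : Subgroup Ω} {p : ℕ}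
  {f : Ω → Ω} [hp : Fact p.Prime] [Finite S]

theorem Mor.sm (hf : Mor F P f) {x : Ω} (hx : x ∈ P) (h : Sm p x) : Sm p (f x) :=
  h.imp (fun h => by rw [← hf.map_pow hx, h, hf.map_one]) fun h => ⟨h.1, by rw [← hf.map_pow hx, h.2, hf.map_one]⟩

theorem exists_crit' (hS : IsPGroup p S) (hP : P ≤ S) (hT : F.StronglyClosed T) :
    ∃ D ≤ P ⊓ T, (∀ α ∈ F.autGroup P, ∀ x ∈ D, afun α x ∈ D) ∧ (∀ x ∈ D, Sm p x) ∧
      ∀ α ∈ modKer F P T, (orderOf α).Coprime p → (∀ x ∈ D, afun α x = x) → α = 1 := by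
  have := finite_of_le hP
  obtain ⟨D, h1, h2, h3, -, h5⟩ := exists_crit (pgroup_of_le hS hP) (Inn_le_autGroup F hP) (T := T.subgroupOf P)
    fun α hα x hx => mem_subgroupOf.2 (afun_of_mem α x.2 ▸ StronglyClosed.mem hT ((mem_autGroup hP).1 hα) x.2 hx)
  refine ⟨D.map P.subtype, ?_, ?_, ?_, fun α hα hc h => h5 α hα.1 hc (fun x => mem_subgroupOf.2
    (afun_of_mem α x.2 ▸ hα.2 x x.2 :)) fun x hx => Subtype.ext ((afun_of_mem α x.2).symm.trans (h _ ⟨x, hx, rfl⟩))⟩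
  · rintro _ ⟨x, hx, rfl⟩
    exact ⟨x.2, h1 hx⟩
  · rintro α hα _ ⟨x, hx, rfl⟩
    exact ⟨_, h2 α hα x hx, (afun_of_mem α x.2).symm⟩
  · rintro _ ⟨x, hx, rfl⟩
    exact (h3 x hx).imp (congrArg Subtype.val) fun h => ⟨h.1, congrArg Subtype.val h.2⟩

theorem afun_fix_of_chain (hP : IsPGroup p P) [Finite P] {α : MulAut P} (hc : (orderOf α).Coprime p)
    {C : ℕ → Subgroup Ω} (h0 : C 0 ≤ ⊥) {n : ℕ} (h : ∀ i < n, ∀ x ∈ P, x ∈ C (i + 1) → x⁻¹ * afun α x ∈ C i) :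
    ∀ x ∈ P, x ∈ C n → afun α x = x := by
  induction n with
  | zero => intro x _ hx; rw [mem_bot.1 (h0 hx), afun_map_one]
  | succ n ih =>
    intro x hx hx'
    have := ih (fun i hi => h i (by omega)) _ (mul_mem (inv_mem hx) (afun_mem α hx)) (h n (by omega) x hx hx')
    rw [afun_of_mem α hx] at this ⊢
    rw [afun_of_mem α (mul_mem (inv_mem hx) (α ⟨x, hx⟩).2)] at this
    exact congrArg Subtype.val (fix_step hP hc (x := ⟨x, hx⟩) (Subtype.ext this))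

theorem inner_of_chain (hS : IsPGroup p S) (hF : F.IsSaturated p) {C : ℕ → Subgroup Ω} (h0 : C 0 = ⊥) {n : ℕ}
    (hn : ∀ x ∈ F.hyperfocalSubgroup p, Sm p x → x ∈ C n)
    (h : ∀ i P f, Mor F P f → ∀ x ∈ P, x ∈ F.hyperfocalSubgroup p → Sm p x → x ∈ C (i + 1) → x⁻¹ * f x ∈ C i) :
    IsInner F := by
  refine isSubsystemOf_iff.2 fun P f => inner_of_hyp_eq_bot hS hF (eq_bot_iff.2 (hyp_le_iff.2
    fun P hP α hα hc x hx => ?_))
  have := finite_of_le hP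
  obtain ⟨D, h1, h2, h3, h4⟩ := exists_crit' hS hP (hyp_stronglyClosed hS hF)
  rw [h4 α ⟨hα, fun x => mem_hyp hP hα hc⟩ hc fun x hx => afun_fix_of_chain (pgroup_of_le hS hP) hc
    (C := fun i => D ⊓ C i) (inf_le_right.trans h0.le) (fun i _ x hx hx' => ⟨D.mul_mem (D.inv_mem hx'.1)
    (h2 α hα x hx'.1), h i P _ ((mem_autGroup hP).1 hα) x hx (h1 hx'.1).2 (h3 x hx'.1) hx'.2⟩) x (h1 hx).1
    ⟨hx, hn x (h1 hx).2 (h3 x hx)⟩, afun_one]
  simp

theorem normal_of_small_chain (hS : IsPGroup p S) (hF : F.IsSaturated p) (hT : F.StronglyClosed T)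
    (hQ : F.StronglyClosed Q) (hQT : ∀ P ≤ S, ∀ α ∈ modKer F P Q, (orderOf α).Coprime p → α ∈ modKer F P T)
    {C : ℕ → Subgroup Ω} (h0 : C 0 = ⊥) {n : ℕ} (hn : ∀ x ∈ T, Sm p x → x ∈ C n)
    (hi : ∀ i P f, Mor F P f → ∀ x ∈ P, x ∈ T → Sm p x → x ∈ C i → f x ∈ C i)
    (h : ∀ i < n, ∀ s ∈ Q, ∀ x ∈ T, Sm p x → x ∈ C (i + 1) → x⁻¹ * (s * x * s⁻¹) ∈ C i) : F.IsNormal Q := by
  refine normal_of_le_family hS hF (StronglyClosed.weaklyClosed hQ) fun P _ hc hr => le_of_normalizer_inf_le hS hc.1 hQ.1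
    (hc.1.trans (StronglyClosed.le_normalizer hQ)) fun s hs hs' => ?_
  have hP := hc.1
  have := finite_of_le hP
  have := finite_mulAut P
  obtain ⟨D, h1, h2, h3, h4⟩ := exists_crit' hS hP hT
  obtain ⟨σ, e⟩ := exists_cAut hs'
  have hσ := autInducedBy_le_autGroup F hP (mem_autInducedBy.2 ⟨s, hQ.1 hs, e⟩)
  have hv : ∀ α ∈ F.autGroup P, ∀ i, ∀ x ∈ P, x ∈ D ⊓ C i → afun α x ∈ D ⊓ C i := fun α hα i x hx hx' =>
    ⟨h2 α hα x hx'.1, hi i P _ ((mem_autGroup hP).1 hα) x hx (h1 hx'.1).2 (h3 x hx'.1) hx'.2⟩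
  refine mem_of_cAut_mem_Inn (IsCentric.cent_le hc) hP (hQ.1 hs) e (((isRadical_iff hS).1 hr).2
    (chainStab (modKer F P Q) (fun i => D ⊓ C i) n fun α hα => hv α hα.1) (fun _ h => h.1.1)
    (MCyc.pgroup_of_coprime fun α hα hc => h4 α (hQT P hP α hα.1 hc) hc fun x hx => afun_fix_of_chain
      (pgroup_of_le hS hP) hc (C := fun i => D ⊓ C i) (inf_le_right.trans h0.le) hα.2 x (h1 hx).1
      ⟨hx, hn x (h1 hx).2 (h3 x hx)⟩) (chainStab_conj _ hv (modKer_conj hQ hP))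
    ⟨⟨hσ, fun x hx => ?_⟩, fun i hi x hx hx' => ⟨D.mul_mem (D.inv_mem hx'.1) (h2 σ hσ x hx'.1), ?_⟩⟩)
  · rw [e x hx]
    simpa [mul_assoc] using Q.mul_mem (StronglyClosed.conj_mem hQ (S.inv_mem (hP hx)) hs) (Q.inv_mem hs)
  · rw [e x hx]
    exact h i hi s hs x (h1 hx'.1).2 (h3 x hx'.1) hx'.2

theorem bgh_main (hS : IsPGroup p S) {E : FusionSystem S} (hE : E.IsSaturated p) (hEF : E.IsSubsystemOf F)
    (hr : F.IsReceptive P) (ih : ∀ Q, Q ≤ S → Nat.card P < Nat.card Q → ∀ f, Mor F Q f → Mor E Q f)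
    (hA : A ≤ P) (hn : P ≤ normalizer (A : Set Ω)) (hAE : ∀ f, Mor F A f → Mor E A f)
    (hC : ∀ α ∈ F.autGroup P, (∀ x ∈ A, afun α x = x) → α ∈ autInducedBy S P) :
    F.autGroup P ≤ E.autGroup P := fun φ hφ => by
  have hP := hr.1
  have := finite_of_le hP
  have sub := isSubsystemOf_iff.1 hEF
  have m1 := (mem_autGroup hP).1 hφ
  have m2 := (mem_autGroup hP).1 (inv_mem hφ)
  have hC' : ∀ f, Mor F P f → (∀ x ∈ P, f x ∈ P) → (∀ x ∈ A, f x = x) → ∃ s ∈ S, ∀ x ∈ P, f x = s * x * s⁻¹ :=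
    fun f h1 h2 h3 => by
      obtain ⟨α, hα, e⟩ := h1.exists_aut (h1.img_eq_self h2)
      obtain ⟨s, hs, e'⟩ := mem_autInducedBy.1 (hC α hα fun x hx => (e x (hA hx)).trans (h3 x hx))
      exact ⟨s, hs, fun x hx => (e x hx).symm.trans (e' x hx)⟩
  obtain ⟨ξ, hξ, hN⟩ := IsSaturated.exists_normalizer_mor' hS hE (hA.trans hP)
  replace hξ := hξ.mono (le_inf hP hn)
  obtain ⟨g, hg, g1, g2, g3, g4⟩ := (hAE _ (m2.mono hA)).inv
  have hB : img (afun φ⁻¹) A ≤ P := img_le_iff.2 fun x hx => afun_mem _ (hA hx)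
  have eg : ∀ x ∈ img (afun φ⁻¹) A, afun φ x = g x := fun x hx => by
    rw [← g3 x hx, afun_afun_inv _ (hA (g2 x hx)), g3 x hx]
  obtain ⟨ψ, hψ, eψ⟩ := IsReceptive.ext (IsSaturated.receptive' hS hE hN) (hg.comp (hξ.mono hA) g2)
    (by rw [hg.img_comp', g4])
  replace hψ : Mor E P ψ := hψ.mono fun y hy => (m1.comp (sub _ _ hξ) fun x => afun_mem _).mem_Next_of_ext hB
    (fun x hx => by simp only [eg x hx]) hy (by
      have := (m2.mem_normalizer_img hA (afun_mem φ hy) (hn (afun_mem φ hy))).2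
      rwa [afun_inv_afun _ hy] at this)
  have e1 : ∀ x ∈ A, ψ (afun φ⁻¹ x) = ξ x := fun x hx => by rw [eψ _ (subset_img hx), g1 x hx]
  obtain ⟨j, hj, j1, j2, j3, j4⟩ := hψ.inv
  have e2 : ∀ x ∈ A, afun φ (j (ξ x)) = x := fun x hx => by
    rw [← e1 x hx, j1 _ (afun_mem _ (hA hx)), afun_afun_inv _ (hA hx)]
  have m3 := m2.comp (sub _ _ hψ) fun x => afun_mem _
  by_cases hc : centralizerIn S (img ξ A) ≤ img ψ P
  · have h1 : ∀ y ∈ P, ξ y ∈ img ψ P := fun y hy => by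
      refine (mul_mem_cancel_left (inv_mem (subset_img (afun_mem φ⁻¹ hy)))).1 (hc (mem_centralizerIn.2
        ⟨mul_mem (inv_mem (m3.mem hy)) (hξ.mem hy), fun x hx' => ?_⟩))
      obtain ⟨x, hx, rfl⟩ := (hξ.mem_img' hA).1 hx'
      have := m3.map_conj hy (hA hx)
      rw [e1 _ (conj_mem_of_mem_normalizer (hn hy) hx), hξ.map_conj hy (hA hx), e1 x hx] at this
      calc _ = (ψ (afun φ⁻¹ y))⁻¹ * (ξ y * ξ x * (ξ y)⁻¹) * ψ (afun φ⁻¹ y) := by group
        _ = _ := by rw [this]; group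
    have h2 := hξ.comp hj h1
    have h3 : ∀ y ∈ P, j (ξ y) ∈ P := fun y hy => j2 _ (h1 y hy)
    obtain ⟨κ, hκ, e⟩ := h2.exists_aut (h2.img_eq_self h3)
    obtain ⟨s, hs, e'⟩ := hC' _ ((sub _ _ h2).comp m1 h3) (fun y hy => afun_mem _ (h3 y hy)) e2
    exact (mul_mem_cancel_right hκ).1 ((mor_conj E hP hs).mem_autGroup fun x hx => by
      rw [afun_mul _ _ hx, e x hx, e' x hx])
  obtain ⟨s, hs, h1, h2⟩ : ∃ s ∈ centralizerIn S (img ξ A), s ∈ normalizer (img ψ P : Set Ω) ∧ s ∉ img ψ P := by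
    by_contra! h
    refine hc (le_of_normalizer_inf_le hS hψ.img_le centralizerIn_le (fun y hy' => Transfer.mem_normalizer_inf
      (le_normalizer (hψ.img_le hy')) (Transfer.mem_normalizer_centralizer ?_)) h)
    obtain ⟨y, hy, rfl⟩ := hψ.mem_img.1 hy'
    have := (m3.mem_normalizer_img hA (afun_mem φ hy) (hn (afun_mem φ hy))).2
    rwa [img_congr e1, afun_inv_afun _ hy] at this
  have hτ := (sub _ _ hj).comp m1 j2
  have h3 : ∀ y ∈ P, s * ψ (afun φ⁻¹ y) * s⁻¹ ∈ img ψ P := fun y hy =>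
    conj_mem_of_mem_normalizer h1 (subset_img (afun_mem _ hy))
  obtain ⟨t, ht, e⟩ := hC' _ ((m3.comp (mor_conj F le_rfl hs.1) fun _ => m3.mem).comp hτ h3)
    (fun y hy => afun_mem _ (j2 _ (h3 y hy))) fun x hx => by
      rw [e1 x hx, (mem_centralizerIn.1 hs).2 _ (subset_img hx), e2 x hx]
  obtain ⟨k, hk, ek⟩ := IsReceptive.ext hr hτ (by rw [(sub _ _ hj).img_comp', j4, img_afun])
  have h4 : img ψ P < Next S (img ψ P) fun x => afun φ (j x) := lt_of_le_of_ne hτ.le_Next fun e' => h2 (by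
    rw [e']
    refine mem_Next.2 ⟨⟨hs.1, h1⟩, t, ht, fun x hx => ?_⟩
    rw [← e _ (afun_mem φ (j2 x hx)), afun_inv_afun _ (j2 x hx), j3 x hx])
  have := finite_of_le (Next_le : Next S (img ψ P) (fun x => afun φ (j x)) ≤ S)
  exact (mem_autGroup hP).2 ((hψ.comp (ih _ Next_le (hψ.card_img ▸ card_lt_of_lt h4) k hk) fun x hx =>
    h4.le (subset_img hx)).congr fun x hx => by rw [ek _ (subset_img hx), j1 x hx])

theorem bgh (hS : IsPGroup p S) (hF : F.IsSaturated p) {E : FusionSystem S} (hE : E.IsSaturated p)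
    (hEF : E.IsSubsystemOf F) (h : ∀ A ≤ F.hyperfocalSubgroup p, IsMulCommutative A → (∀ x ∈ A, Sm p x) →
      ∀ f, Mor F A f → Mor E A f) (hf : Mor F P f) : Mor E P f := by
  have key : ∀ P, F.IsFullyAutomized p P → F.IsReceptive P → (∀ Q, Q ≤ S → Nat.card P < Nat.card Q →
      ∀ f, Mor F Q f → Mor E Q f) → F.autGroup P ≤ E.autGroup P := fun P hA hr ih => by
    have hP := hr.1
    have := finite_of_le hP
    obtain ⟨D, h1, h2, h3, h4, h5⟩ := exists_crit (pgroup_of_le hS hP) (Inn_le_autGroup F hP)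
      (T := (F.hyperfocalSubgroup p).subgroupOf P) fun α hα x hx => mem_subgroupOf.2
      (afun_of_mem α x.2 ▸ StronglyClosed.mem (hyp_stronglyClosed hS hF) ((mem_autGroup hP).1 hα) x.2 hx)
    obtain ⟨A, k1, k2, k3, k4⟩ := crit_ab (pgroup_of_le hS hP) (IsFullyAutomized.sylowIn hA) h2 h4
      fun α hα hc => h5 α hα hc fun x => mem_subgroupOf.2 (afun_of_mem α x.2 ▸ mem_hyp hP hα hc x.2 :)
    refine bgh_main hS hE hEF hr ih (map_subtype_le A) (le_normalizer_of_conj_mem ?_) (h _ ?_ inferInstance ?_)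
      fun α hα e => k4 α hα fun x hx => Subtype.ext ((afun_of_mem α x.2).symm.trans (e _ ⟨x, hx, rfl⟩))
    · rintro s hs _ ⟨x, hx, rfl⟩
      exact ⟨_, k3.conj_mem x hx ⟨s, hs⟩, rfl⟩
    · rintro _ ⟨x, hx, rfl⟩
      exact h1 (k1 hx)
    · rintro _ ⟨x, hx, rfl⟩
      exact (h3 x (k1 hx)).imp (congrArg Subtype.val) fun h => ⟨h.1, congrArg Subtype.val h.2⟩
  refine downward_induction (C := fun P => ∀ f, Mor F P f → Mor E P f) ?_ P hf.le f hf
  intro P hP ih f hf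
  rcases hP.eq_or_lt with rfl | hlt
  · exact mor_top_of_autGroup_le (key _ (IsSaturated.fullyAutomized hS hF (fullyNormalized_top F))
      (IsSaturated.receptive' hS hF (fullyNormalized_top F)) ih) hf
  exact alperin_step hS hlt (hF P hP) ih (fun P₀ h0 hA hR => key P₀ hA hR (isConj_card h0 ▸ ih)) hf

theorem card_of_sm {x : Ω} (h : Sm p x) (h1 : x ≠ 1) : Nat.card (zpowers x) = p ∨ Nat.card (zpowers x) = 4 := by
  rw [Nat.card_zpowers]
  by_cases h2 : x ^ p = 1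
  · exact .inl (orderOf_eq_prime h2 h1)
  obtain ⟨rfl, h3⟩ := h.resolve_left h2
  exact .inr (orderOf_eq_prime_pow (p := 2) (n := 1) h2 h3)

end Cfsg.Agent.Fusion
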