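import Cfsg.Agent.Lib.Fusion.YData

/-! E-balance. -/

set_option autoImplicit false
set_option linter.unusedSectionVars false

namespace Cfsg.Agent.Fusion

open Cfsg Cfsg.FusionSystem
open scoped commutatorElement

variable {Ω : Type*} [Group Ω] {S : Subgroup Ω} {F : FusionSystem S} {p : ℕ}
  {P Q T U K M M' A X Y Z W : Subgroup Ω} {E : FusionSystem T} {C : FusionSystem U}
  {f g θ : Ω → Ω}

noncomputable def YX (F : FusionSystem S) (E : FusionSystem T) (p : ℕ) (hX : X ≤ S)
    (W : Subgroup Ω) : Subgroup (MulAut W) :=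
  modKer (centSys F hX) W (centralizerIn T X) ⊓
    resImg (le_sup_left : W ≤ W ⊔ X) (GE F E p _ ⊓ resPre le_sup_right ⊥)

theorem mem_YX (hE : E.IsInvariantIn F) (hX : X ≤ S) (hW : W ≤ centralizerIn S X) {b : MulAut W}
    {c : MulAut (W ⊔ X : Subgroup Ω)} (hc : c ∈ GE F E p _) (e1 : ∀ x ∈ X, afun c x = x)
    (e2 : ∀ x ∈ W, afun c x = afun b x) : b ∈ YX F E p hX W := by
  have h1 := (GE_le hE hc).1
  refine ⟨⟨(mem_autGroup hW).2 ((centSys_mor_of (centSys_spec F hX) hW ((mem_autGroup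
    (sup_le (hW.trans centralizerIn_le) hX)).1 h1.1) le_sup_left le_sup_right e1).congr e2),
    fun x hx => ⟨?_, (hW (mul_mem (inv_mem hx) (afun_mem _ hx))).2⟩⟩, (mem_resImg _).2 ⟨c, ⟨hc,
      (mem_resPre _).2 ⟨1, one_mem _, fun x hx => by rw [e1 x hx, afun_one]⟩⟩, e2⟩⟩
  rw [← e2 x hx]
  exact h1.2 x (Subgroup.mem_sup_left hx)

theorem fix_of_resPre {c : MulAut W} {h : X ≤ W} (hc : c ∈ resPre h ⊥) : ∀ x ∈ X, afun c x = x := by
  obtain ⟨a, ha, e⟩ := (mem_resPre _).1 hc
  intro x hx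
  rw [e x hx, Subgroup.mem_bot.1 ha, afun_one]

variable [hp : Fact p.Prime] [Finite S]

theorem centric_Vc (hK : F.IsFullyCentralized K) : F.IsCentric (Vc S K) :=
  isCentric_iff.2 ⟨Vc_le hK.1, fun f hf => (centralizerIn_anti (img_mono le_sup_left)).trans (by
    rw [← hf.img_centralizerIn le_sup_left le_sup_right hK]; exact img_mono le_sup_right)⟩

theorem cent_sc (hT : F.StronglyClosed T) (hX : X ≤ S) :
    (centSys F hX).StronglyClosed (centralizerIn T X) :=
  stronglyClosed_iff.2 ⟨centralizerIn_mono hT.1, fun _ _ hf _ hx hx' =>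
    ⟨StronglyClosed.mem hT (hf.sub (centSys_sub (centSys_spec F hX))) hx hx'.1, (hf.mem hx).2⟩⟩

theorem ydata_cent (hS : IsPGroup p S) (hE : E.IsNormalIn F p) (hX : F.IsFullyCentralized X) :
    YData (centSys F hX.1) (centralizerIn T X) p (YX F E p hX.1) := by
  have hF := hE.1.2.1
  have hT := IsNormalIn.sc hE
  have hN := centSys_spec F hX.1
  have := finite_of_le (centralizerIn_le : centralizerIn S X ≤ S)
  have hcen : ∀ {K M : Subgroup Ω}, (centSys F hX.1).IsFullyCentralized K →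
      Vc (centralizerIn S X) K ≤ M → M ≤ centralizerIn S X → F.IsCentric (M ⊔ X) :=
    fun hK h1 h2 => cent_centric (IsSaturated.receptive hS hF hX) hN
      (isCentric_of_le (centric_Vc hK) h1 h2)
  have hgood : ∀ {M : Subgroup Ω} {b : MulAut M}, F.IsCentric (M ⊔ X) → b ∈ YX F E p hX.1 M →
      (orderOf b).Coprime p → ∃ c : MulAut (M ⊔ X : Subgroup Ω), EGood F E p c ∧
        (∀ x ∈ X, afun c x = x) ∧ ∀ x ∈ M, afun c x = afun b x := by
    intro M b hM hb hc
    have := finite_of_le hM.1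
    obtain ⟨c, c1, c2, c3⟩ := exists_coprime_lift le_sup_left hb.2 hc
    exact ⟨c, (good_main hS hE _ hM.1 hM).2.1 c c1.1 c2, fix_of_resPre c1.2, c3⟩
  refine ⟨cent_sc hT hX.1, fun h => h.1, fun W W' f b b' hf e hb e' => ?_,
    fun {K M M' b b'} hK h1 h2 h3 hb hc e => ?_, fun {W t σ} hW ht e => ?_,
    fun {K M W β b} hK h1 h2 h3 hβ hc hb e => ?_, fun {U s r} hU hs hr e => ?_⟩
  · obtain ⟨c, ⟨c1, c2⟩, c3⟩ := (mem_resImg _).1 hb.2
    obtain ⟨g, hg, e1, e2⟩ := centSys_ext hN hf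
    have e3 : img g (W ⊔ X) = W' ⊔ X := by rw [hg.img_sup' e1 (img_of_eq_id e2), e]
    obtain ⟨τ, hτ, -⟩ := hg.exists_transport e3
    refine mem_YX hE.1.2.2 hX.1 (e ▸ hf.img_le) (GE_transport hg e3 c1 (hτ c)) (fun x hx => ?_)
      fun y hy => ?_
    · conv_lhs => rw [← e2 x hx, hτ c x (Subgroup.mem_sup_right hx), fix_of_resPre c2 x hx, e2 x hx]
    · obtain ⟨x, hx, rfl⟩ := hf.mem_img.1 (e.symm ▸ hy)
      rw [e' x hx, ← e1 x hx, hτ c x (Subgroup.mem_sup_left hx), c3 x hx, e1 _ (afun_mem _ hx)]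
  · obtain ⟨c, c1, c2, c3⟩ := hgood (hcen hK h1 h2) hb hc
    have hle : M' ⊔ X ≤ M ⊔ X := sup_le_sup_right h3 X
    have hm := ((mem_autGroup c1.le).1 (c1.mem_YE hE.1.2.2).1.1).mono hle
    obtain ⟨d, -, ed⟩ := hm.exists_aut (by
      rw [hm.img_sup' (f := afun b') (fun x hx => by rw [c3 x (h3 hx), e x hx]) (img_of_eq_id c2),
        img_afun])
    exact mem_YX hE.1.2.2 hX.1 (h3.trans h2) (c1.res hle fun x hx => (ed x hx).symm).mem_GE
      (fun x hx => by rw [ed x (Subgroup.mem_sup_right hx), c2 x hx])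
      fun x hx => by rw [ed x (Subgroup.mem_sup_left hx), c3 x (h3 hx), e x hx]
  · have hWS := sup_le (hW.trans centralizerIn_le) hX.1
    have hm := mor_conj F hWS (hT.1 ht.1)
    obtain ⟨d, -, ed⟩ := hm.exists_aut (by
      rw [hm.img_sup' (f := afun σ) (fun x hx => (e x hx).symm)
        (img_of_eq_id (mem_centralizerIn.1 ht).2), img_afun])
    exact mem_YX hE.1.2.2 hX.1 hW (autT_le_GE hT.1 hWS (mem_autInducedBy.2 ⟨t, ht.1, ed⟩))
      (fun x hx => by rw [ed x (Subgroup.mem_sup_right hx), (mem_centralizerIn.1 ht).2 x hx])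
      fun x hx => by rw [ed x (Subgroup.mem_sup_left hx), e x hx]
  · have hW := h3.trans normalizerIn_le
    have hM := hcen hK h1 (h2.trans hW)
    obtain ⟨c, c1, c2, c3⟩ := hgood hM hb (coprime_res h2 e hc)
    obtain ⟨g, hg, e1, e2⟩ := centSys_ext hN ((mem_autGroup hW).1 hβ)
    obtain ⟨d, d1, d2, d3, d4⟩ := exists_coprime_ext_fix hg e1 e2 hc
    have hle : M ⊔ X ≤ W ⊔ X := sup_le_sup_right h2 X
    exact mem_YX hE.1.2.2 hX.1 hW ((good_main hS hE _ hM.1 hM).1 _ hle hg.le d d1 d2 c c1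
      ((((mem_autGroup hg.le).1 d1).mono hle).eq_on_sup
        ((mem_autGroup hM.1).1 (c1.mem_YE hE.1.2.2).1.1)
        (fun x hx => by rw [d3 x (h2 hx), e x hx, c3 x hx])
        fun x hx => by rw [d4 x hx, c2 x hx])).mem_GE d4 d3
  · have hM := hcen hU le_rfl (Vc_le hU.1)
    obtain ⟨c, ⟨c1, c2⟩, c3⟩ := (mem_resImg _).1 hr.2
    have e1 := ((mem_autGroup hM.1).1 (GE_le hE.1.2.2 c1).1.1).eq_on_sup (mor_conj F hM.1 hs.1)
      (fun x hx => by rw [c3 x hx, e x hx])
      fun x hx => by rw [fix_of_resPre c2 x hx, (mem_centralizerIn.1 hs).2 x hx]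
    obtain ⟨t, ht, et⟩ := mem_autInducedBy.1 ((good_main hS hE _ hM.1 hM).2.2
      ⟨c1, mem_autInducedBy.2 ⟨s, hs.1, e1⟩⟩)
    have key : ∀ x ∈ Vc (centralizerIn S X) U ⊔ X, t⁻¹ * s * x * (t⁻¹ * s)⁻¹ = x := fun x hx => by
      calc _ = t⁻¹ * (s * x * s⁻¹) * t := by group
        _ = x := by rw [← e1 x hx, et x hx]; group
    have h1 : t⁻¹ * s ∈ centralizerIn S X := mem_centralizerIn.2
      ⟨mul_mem (inv_mem (hT.1 ht)) hs.1, fun x hx => key x (Subgroup.mem_sup_right hx)⟩
    refine ⟨t⁻¹ * s, Subgroup.mem_sup_right (mem_centralizerIn.2 ⟨h1, fun x hx =>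
      key x (Subgroup.mem_sup_left (Subgroup.mem_sup_left hx))⟩), ?_, (mul_mem hs (inv_mem h1)).2⟩
    simpa using ht

theorem exists_CX (hS : IsPGroup p S) (hE : E.IsNormalIn F p) (hX : F.IsFullyCentralized X) :
    ∃ D : FusionSystem (centralizerIn T X), D.IsWeaklyNormalIn (centSys F hX.1) p ∧
      D.IsSubsystemOf E := by
  have := finite_of_le (centralizerIn_le : centralizerIn S X ≤ S)
  have hS' := pgroup_of_le hS (centralizerIn_le : centralizerIn S X ≤ S)
  have hN := centSys_spec F hX.1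
  have hsat := centralizer_saturated hS hE.1.2.1 hX hN
  have hT := IsNormalIn.sc hE
  have hT' := cent_sc hT hX.1
  obtain ⟨D, d1, -, -, d4⟩ := (YData.wdata hS' hsat (ydata_cent hS hE hX)).exists_sys hS' hsat
  refine ⟨D, d1, d4 E centralizerIn_le fun U hU a ha => ?_⟩
  obtain ⟨U', hU', hc⟩ := exists_fullyCentralized (centSys F hX.1) (hU.1.trans hT'.1)
  obtain ⟨θ, hθ, rfl⟩ := isConj_iff.1 hU'
  obtain ⟨τ, hτ, -⟩ := hθ.exists_transport rfl
  obtain ⟨b, hb, eb⟩ := (mem_resImg _).1 (spread_out ha hθ rfl hc (hτ a))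
  obtain ⟨c, ⟨c1, -⟩, c3⟩ := (mem_resImg _).1 hb.2
  refine (IsInvariantIn.strongInv hE.1.2.2).mem_of_conj hT (hU.1.trans centralizerIn_le)
    (hθ.sub (centSys_sub hN)) ((GE_le hE.1.2.2 c1).2.mono (le_inf (le_sup_left.trans le_sup_left)
      ((StronglyClosed.img_le hT' hθ hU.1).trans centralizerIn_le))) fun x hx => ?_
  rw [c3 _ (Subgroup.mem_sup_left (subset_img hx)), eb _ (subset_img hx), hτ a x hx]

theorem czS_of_step (hS : IsPGroup p S) (hF : F.IsSaturated p) (hZ : F.IsCentral Z)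
    (hA : F.StronglyClosed A) (hZA : Z ≤ A) (h : ∀ P f, Mor F P f → ∀ a ∈ P, a ∈ A → a⁻¹ * f a ∈ Z)
    (hC : C.IsSaturated p) (hh : C.hyperfocalSubgroup p = U) (hsub : C.IsSubsystemOf F) :
    U ≤ centralizerIn S A ∧ CzS F C A := by
  have hn : F.IsNormal A := by
    refine normal_of_chain hS hF hA (C := fun i => if i = 0 then ⊥ else if i = 1 then Z else A)
      (n := 2) (by simp) (by simp) (fun i _ => ?_) (fun i _ => ?_) fun i hi x hx y hy => ?_
    · split_ifs
      exacts [bot_le, hZA, le_rfl]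
    · split_ifs
      exacts [StronglyClosed.weaklyClosed (stronglyClosed_bot F),
        IsNormal.weaklyClosed (IsCentral.isNormal hZ), StronglyClosed.weaklyClosed hA]
    · obtain rfl | rfl : i = 0 ∨ i = 1 := by omega
      · have := IsCentral.fix hZ (mor_conj F le_rfl (hA.1 hy)) (hZ.1 (by simpa using hx))
          (by simpa using hx)
        simp only [if_true, Subgroup.mem_bot, commutatorElement_eq_one_iff_mul_comm]
        rw [mul_inv_eq_iff_eq_mul] at this
        exact this.symm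
      · have hx' : x ∈ A := by simpa using hx
        have := h _ _ (mor_conj F le_rfl (hA.1 hy)) _ (hA.1 (inv_mem hx')) (inv_mem hx')
        simpa [commutatorElement_def, mul_assoc] using this
  have hU := IsSubsystemOf.le hsub
  refine czS_of_coprime hS hC hU hh hA.1 (hU.trans (StronglyClosed.le_normalizer hA))
    fun P hP α hα hc => ?_
  obtain ⟨g, hg, e1, e2⟩ := IsNormal.ext hn (((mem_autGroup hP).1 hα).sub hsub)
  obtain ⟨β, b1, -, b2, b3⟩ := exists_coprime_ext le_sup_left hg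
    (by rw [hg.img_sup' e1 e2, img_afun]) e1 hc
  have hm := (mem_autGroup hg.le).1 b1
  refine ⟨_, hm, b3, fun x hx => afun_fix_step (pgroup_of_le hS hg.le) b2
    (Subgroup.mem_sup_right hx) ?_⟩
  have := h _ _ hm x (Subgroup.mem_sup_right hx) hx
  exact IsCentral.fix hZ hm (Subgroup.mem_sup_right (hZA this)) this

theorem czS_norm_step (hS : IsPGroup p S) (hF : F.IsSaturated p) (hT : F.StronglyClosed T)
    (hn : F.IsFullyNormalized Y) (hY : centralizerIn T Y ≤ Y) (hC : C.IsSaturated p)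
    (hh : C.hyperfocalSubgroup p = U) (h1 : U ≤ centralizerIn S Y) (h2 : CzS F C Y) :
    U ≤ centralizerIn S (normalizerIn T Y ⊔ Y) ∧ CzS F C (normalizerIn T Y ⊔ Y) := by
  have hS' := pgroup_of_le hS (normalizerIn_le : normalizerIn S Y ≤ S)
  have := finite_of_le (normalizerIn_le : normalizerIn S Y ≤ S)
  have hN := normSys_spec F hn.1
  have hsat := normalizer_saturated hS hF hn hN
  have hYn := normSys_normal hN hn.1
  have hE' := cent_normal hS' hsat hYn
  have hc := centSys_spec (normSys F hn.1) hYn.1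
  have hQ : (normSys F hn.1).StronglyClosed (normalizerIn T Y ⊔ Y) := stronglyClosed_sup hS' hsat
    (stronglyClosed_iff.2 ⟨normalizerIn_mono hT.1, fun _ _ hf _ hx hx' =>
      ⟨StronglyClosed.mem hT (hf.sub (normSys_sub hN)) hx hx'.1, (hf.mem hx).2⟩⟩)
    (IsNormal.stronglyClosed hYn)
  have hU : U ≤ centralizerIn (normalizerIn S Y) Y :=
    le_inf (h1.trans centralizerIn_le_normalizerIn) (h1.trans inf_le_right)
  have hsub : C.IsSubsystemOf (centSys _ hYn.1) := (sub_centSys_iff hYn.1 hU).2 fun P f hf => by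
    obtain ⟨g, hg, e1, e2⟩ := h2 P f hf
    exact ⟨g, normSys_mor_of hN (sup_le (hf.le.trans (h1.trans centralizerIn_le_normalizerIn))
      hYn.1) hg le_rfl le_sup_right (img_of_eq_id e2), e1, e2⟩
  have := finite_of_le (IsNormalIn.sc hE').1
  have hS'' := pgroup_of_le hS' (IsNormalIn.sc hE').1
  obtain ⟨k1, k2⟩ := czS_of_step hS'' (IsNormalIn.sat hE')
    (Z := Y ⊓ centralizerIn (normalizerIn S Y) Y)
    (A := (normalizerIn T Y ⊔ Y) ⊓ centralizerIn (normalizerIn S Y) Y)
    (central_of_fix hS'' (IsNormalIn.sat hE') inf_le_right fun P f hf x hx hx' => by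
      obtain ⟨g, -, e1, e2⟩ := centSys_ext hc hf
      rw [← e1 x hx, e2 x hx'.1])
    (sc_of_sub (stronglyClosed_inf hQ (IsNormalIn.sc hE')) (IsNormalIn.sub hE') inf_le_right)
    (inf_le_inf_right _ le_sup_right) (fun P f hf a ha ha' => by
      refine Subgroup.mem_inf.2 ⟨?_, Subgroup.mul_mem _ (Subgroup.inv_mem _ ha'.2) (hf.mem ha)⟩
      obtain ⟨g, hg, e1, e2⟩ := centSys_ext hc hf
      obtain ⟨t, ht, y, hy, rfl⟩ := (mem_sup_of_le_normalizer inf_le_right).1 ha'.1
      have hy' : y ∈ P ⊔ Y := Subgroup.mem_sup_right hy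
      have ht' : t ∈ P ⊔ Y := (Subgroup.mul_mem_cancel_right _ hy').1 (Subgroup.mem_sup_left ha)
      have hgF := hg.sub (normSys_sub hN)
      have k : t⁻¹ * g t ∈ Y := hY (mem_centralizerIn.2 ⟨mul_mem (inv_mem ht.1)
        (StronglyClosed.mem hT hgF ht' ht.1), fun x hx => by
          have := hg.map_conj ht' (Subgroup.mem_sup_right hx)
          rw [e2 _ (conj_mem_of_mem_normalizerIn ht hx), e2 x hx] at this
          calc _ = t⁻¹ * (g t * x * (g t)⁻¹) * t := by group
            _ = x := by rw [← this]; group⟩)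
      rw [← e1 _ ha, hg.map_mul ht' hy', e2 y hy]
      have := mul_mem (mul_mem (inv_mem hy) k) hy
      convert this using 1
      group) hC hh hsub
  obtain ⟨k3, k4⟩ := czS_up' hS' hE' hQ hC hh k1 k2
  refine ⟨k3.trans (centralizerIn_mono normalizerIn_le), fun P f hf => ?_⟩
  obtain ⟨g, hg, e⟩ := k4 P f hf
  exact ⟨g, hg.sub (normSys_sub hN), e⟩

theorem exists_push_cz (hS : IsPGroup p S) (hθ : Mor F M θ) (hU : U ≤ M) (hY : Y ≤ M)
    (hC : C.IsSaturated p) (hh : C.hyperfocalSubgroup p = U) (h2 : CzS F C Y) :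
    ∃ C' : FusionSystem (img θ U), C'.IsSaturated p ∧ C'.hyperfocalSubgroup p = img θ U ∧
      CzS F C' (img θ Y) := by
  have := finite_of_le (hU.trans hθ.le)
  rw [← imageAlong_mkHom (h := fun _ hx _ hy => hθ.map_mul hx hy) hU]
  obtain ⟨C', h⟩ := exists_push (α := mkHom M θ fun _ hx _ hy => hθ.map_mul hx hy)
    (fun a b e => Subtype.ext (hθ.inj a.2 b.2 e)) hU C
  refine ⟨C', h.toSurj.saturated (pgroup_of_le hS (hU.trans hθ.le)) hC, ?_, fun P' f' hf => ?_⟩
  · rw [h.toSurj.hyp_eq, hh, imageAlong_res hU le_rfl]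
  obtain ⟨P, f, k, rfl, e⟩ := h.toSurj.lift' hf
  obtain ⟨g, hg, e1, e2⟩ := h2 P f k
  have hl : P ⊔ Y ≤ M := sup_le (k.le.trans hU) hY
  obtain ⟨g', hg', e3⟩ := hθ.conj_mor hg hl (hg.mem_of_sup
    (fun x hx => hU (e1 x hx ▸ k.mem hx)) fun x hx => hY ((e2 x hx).symm ▸ hx))
  rw [(hθ.mono hl).img_sup] at hg'
  rw [imageAlong_res hU k.le, imageAlong_mkHom (k.le.trans hU)]
  refine ⟨g', hg', fun y hy => ?_, fun y hy => ?_⟩
  · obtain ⟨x, hx, rfl⟩ := (hθ.mono (k.le.trans hU)).mem_img.1 hy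
    have := e x hx
    rw [ap_res hU (k.le hx), ap_res hU (k.mem hx), ap_mkHom (hU (k.le hx)),
      ap_mkHom (hU (k.mem hx))] at this
    rw [this, e3 x (Subgroup.mem_sup_left hx), e1 x hx]
  · obtain ⟨x, hx, rfl⟩ := (hθ.mono hY).mem_img.1 hy
    rw [e3 x (Subgroup.mem_sup_right hx), e2 x hx]

theorem le_CE_of_Y (hS : IsPGroup p S) (hE : E.IsNormalIn F p) : ∀ Y, Y ≤ S →
    (∀ θ, Mor F Y θ → centralizerIn T (img θ Y) ≤ img θ Y) → ∀ (U : Subgroup Ω) (C : FusionSystem U),
      C.IsSaturated p → C.hyperfocalSubgroup p = U → U ≤ centralizerIn S Y → CzS F C Y →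
        U ≤ CE F E p := by
  have hF := hE.1.2.1
  have hT := IsNormalIn.sc hE
  refine downward_induction fun Y hY ih h U C hC hh h1 h2 => ?_
  by_cases hTY : T ≤ Y
  · exact le_CE_of_cent hS hE.1 hh (h1.trans (centralizerIn_anti hTY)) (h2.mono hTY)
  obtain ⟨θ, hθ, hn⟩ := IsSaturated.exists_normalizer_mor' hS hF hY
  have hl := le_normalizerIn hY
  have hU := h1.trans centralizerIn_le_normalizerIn
  obtain ⟨C', c1, c2, c3⟩ := exists_push_cz hS hθ hU hl hC hh h2
  obtain ⟨k1, k2⟩ := czS_norm_step hS hF hT hn (h θ (hθ.mono hl)) c1 c2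
    (img_le_iff.2 fun x hx => hθ.centralizerIn_mem hY (h1 hx)) c3
  have hQ : normalizerIn T (img θ Y) ⊔ img θ Y ≤ S := sup_le (normalizerIn_le.trans hT.1) hn.1
  have := finite_of_le hQ
  have h3 := ih _ hQ (by
    rw [← (hθ.mono hl).card_img]
    refine card_lt_of_lt (lt_normalizerIn_sup hS hT.1 hn.1
      (hn.1.trans (StronglyClosed.le_normalizer hT)) fun k => hTY ?_)
    obtain ⟨i, hi, -, -, -, i4⟩ := (hθ.mono hl).inv
    rw [← StronglyClosed.img_eq hT hi k, ← i4]
    exact img_mono k) (fun φ hφ => by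
      have := h _ ((hθ.mono hl).comp hφ fun x hx => Subgroup.mem_sup_right (subset_img hx))
      rw [(hθ.mono hl).img_comp'] at this
      exact (centralizerIn_anti (img_mono le_sup_right)).trans (this.trans (img_mono le_sup_right)))
    _ C' c1 c2 k1 k2
  exact fun x hx => (StronglyClosed.mem_iff (CE_stronglyClosed hS hE) hθ (hU hx)).1
    (h3 (subset_img hx))

theorem balance_dich (hS : IsPGroup p S) (hE : E.IsNormalIn F p) (hX : F.IsFullyCentralized X)
    (hC : C.IsComponentIn (centSys F hX.1) p) : U ≤ T ∨ U ≤ CE F E p := by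
  have := finite_of_le (centralizerIn_le : centralizerIn S X ≤ S)
  have hS' := pgroup_of_le hS (centralizerIn_le : centralizerIn S X ≤ S)
  have hN := centSys_spec F hX.1
  have hT := IsNormalIn.sc hE
  obtain ⟨D, d1, d2⟩ := exists_CX hS hE hX
  rcases comp_dich hC.1 hp hC.2 ‹_› hS' d1 with h | ⟨h1, h2⟩
  · exact .inl ((IsSubsystemOf.le (IsSubnormalIn.sub h)).trans centralizerIn_le)
  refine .inr (le_CE_of_Y hS hE (centralizerIn T X ⊔ X) (sup_le (centralizerIn_le.trans hT.1) hX.1)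
    (fun θ hθ => ?_) U C hC.2.1 hC.2.2.1 (fun u hu => mem_centralizerIn.2 ⟨(h1 hu).1.1, ?_⟩)
    fun P f hf => ?_)
  · refine (centralizerIn_anti (img_mono le_sup_right)).trans (le_trans (le_of_eq ?_)
      (img_mono le_sup_left))
    have := finite_of_le hT.1
    have := finite_of_le (centralizerIn_le : centralizerIn T (img θ X) ≤ T)
    have := finite_of_le (centralizerIn_le : centralizerIn T X ≤ T)
    obtain ⟨i, hi, -, -, -, i4⟩ := (hθ.mono le_sup_right).inv
    obtain ⟨g, hg, e⟩ := IsReceptive.ext (IsSaturated.receptive hS hE.1.2.1 hX) hi i4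
    have hN := (centralizerIn_mono hT.1).trans
      (centralizerIn_le_Next (S := S) (P := img θ X) (f := i))
    exact ((hθ.mono le_sup_left).img_eq_of_card_le (Q := centralizerIn T (img θ X)) (fun x hx =>
      ⟨StronglyClosed.mem hT hθ (Subgroup.mem_sup_left hx) hx.1, (hθ.mem_centralizer_img le_sup_right
        (Subgroup.mem_sup_left hx) (mem_centralizerIn.1 hx).2).2⟩) ((hg.mono hN).card_le fun x hx =>
      ⟨StronglyClosed.mem hT hg (hN hx) hx.1, by
        have := hg.mem_centralizer_img hi.le_Next (hN hx) (mem_centralizerIn.1 hx).2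
        rw [img_congr e, i4] at this
        exact this.2⟩)).symm
  · exact (mor_conj F (sup_le (centralizerIn_le.trans hT.1) hX.1) (h1 hu).1.1).eq_on_sup
      (mor_id F (sup_le (centralizerIn_le.trans hT.1) hX.1)) (mem_centralizerIn.1 (h1 hu)).2
      (mem_centralizerIn.1 (h1 hu).1).2
  · obtain ⟨g, hg, e1, e2⟩ := h2 P f hf
    obtain ⟨k, hk, e3, e4⟩ := centSys_ext hN hg
    rw [sup_assoc] at hk
    refine ⟨k, hk, fun x hx => by rw [e3 x (Subgroup.mem_sup_left hx), e1 x hx], ?_⟩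
    exact (hk.mono le_sup_right).eq_on_sup (mor_id F (le_sup_right.trans hk.le))
      (fun x hx => by rw [e3 x (Subgroup.mem_sup_right hx), e2 x hx]) e4

theorem CE_cent_core (hS : IsPGroup p S) (hE : E.IsLayerOf F p) {x : Ω} (hx : x ∈ CE F E p)
    (hx' : x ∈ centralizerIn S F.core) : x ∈ F.core := by
  obtain ⟨M, m1, m2, -⟩ := exists_CF' hS hE.1
  have hs := (IsNormalIn.sc m1).1
  have := finite_of_le hs
  have hc : M.IsConstrained p := by
    by_contra hc
    obtain ⟨U, C, hC⟩ := exists_comp (pgroup_of_le hS hs) (IsNormalIn.sat m1) hc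
    have hC' : C.IsComponentIn F p := ⟨.step hC.1 m1, hC.2⟩
    exact comp_not_cent hS hC' (IsSubsystemOf.le (hE.2.1 U C hC'))
      fun P f hf => m2 P f (hf.sub (IsSubnormalIn.sub hC.1))
  have h1 := IsNormal.le_core (IsInvariantIn.core_normal hS hE.1.1.2.1 (IsNormalIn.inv m1))
  exact h1 ((isConstrained_iff.1 hc).2 (mem_centralizerIn.2 ⟨hx, fun y hy =>
    (mem_centralizerIn.1 hx').2 y (h1 hy)⟩))

theorem comp_le_layer (hS : IsPGroup p S) (hE : E.IsLayerOf F p) (hX : F.IsFullyCentralized X)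
    (hC : C.IsComponentIn (centSys F hX.1) p) : U ≤ T := by
  have := finite_of_le (centralizerIn_le : centralizerIn S X ≤ S)
  have hS' := pgroup_of_le hS (centralizerIn_le : centralizerIn S X ≤ S)
  have hQ := inner_isNormalIn hS hE.1.1.2.1 (core_isNormal F)
  have hU := IsSubsystemOf.le (IsSubnormalIn.sub hC.1)
  have h1 : ¬ U ≤ F.core := fun h => by
    obtain ⟨D, d1, d2⟩ := exists_CX hS hQ hX
    have h2 := comp_of_le hS' hC d1 (le_inf h (hU.trans inf_le_right))
    have := finite_of_le (core_le F)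
    have h3 := hyp_mono (p := p) (IsSubsystemOf.trans (IsSubnormalIn.sub h2.1) d2)
    rw [hC.2.2.1, IsInner.hyp_eq_bot (pgroup_of_le hS (core_le F)) (isInner_iff_hom.2 fun _ => rfl)] at h3
    have := finite_of_le hU
    exact (qs_core (pgroup_of_le hS' hU) hC.2).2 (h3.trans bot_le)
  rcases balance_dich hS hE.1 hX hC with h | h
  · exact h
  rcases balance_dich hS hQ hX hC with h' | h'
  · exact absurd h' h1
  · exact absurd (fun x hx => CE_cent_core hS hE (h hx) (CE_le (h' hx))) h1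

theorem layer_cent_le (hS : IsPGroup p S) (hE : E.IsLayerOf F p) (hX : F.IsFullyCentralized X)
    {L : FusionSystem U} (hL : L.IsLayerOf (centSys F hX.1) p) : L.IsSubsystemOf E := by
  have := finite_of_le (centralizerIn_le : centralizerIn S X ≤ S)
  obtain ⟨D, d1, d2⟩ := exists_CX hS hE.1 hX
  exact IsSubsystemOf.trans (layer_le_weakly (pgroup_of_le hS centralizerIn_le) hL d1
    fun V C hC => le_inf (comp_le_layer hS hE hX hC)
      ((IsSubsystemOf.le (IsSubnormalIn.sub hC.1)).trans inf_le_right)) d2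

theorem layer_congr {T' : Subgroup Ω} {E' : FusionSystem T'} (e : T = T')
    (h : ∀ P f, Mor E P f ↔ Mor E' P f) {L : FusionSystem U} (hL : L.IsLayerOf E' p) :
    L.IsLayerOf E p := by
  subst e
  rwa [sys_ext h]

theorem e_balance (hS : IsPGroup p S) (hE : E.IsLayerOf F p) (hX : F.IsFullyNormalized X)
    {N : FusionSystem (normalizerIn S X)} (hN : F.IsNormalizerSystem X N)
    {L : FusionSystem U} (hL : L.IsLayerOf N p) : L.IsSubsystemOf E := by
  have hF := hE.1.1.2.1
  have := finite_of_le (normalizerIn_le : normalizerIn S X ≤ S)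
  have hS' := pgroup_of_le hS (normalizerIn_le : normalizerIn S X ≤ S)
  have hsat := normalizer_saturated hS hF hX hN
  have hn := normSys_normal hN hX.1
  have h1 := cent_normal hS' hsat hn
  have := finite_of_le (IsNormalIn.sc h1).1
  obtain ⟨V, L', hL'⟩ := exists_layer (pgroup_of_le hS' (IsNormalIn.sc h1).1) (IsNormalIn.sat h1)
  obtain ⟨e1, e2⟩ := norm_cent hN hX.1
  refine IsSubsystemOf.trans (layer_le_weakly hS' hL (layer_weakly hS' h1.1 hL') fun W C hC =>
    IsSubsystemOf.le (hL'.2.1 W C (comp_of_le hS' hC h1.1 ?_)))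
    (layer_cent_le hS hE (IsSaturated.fullyCentralized hS hF hX) (layer_congr e1 e2 hL'))
  exact (comp_cent_core hC.1 hp hC.2 ‹_› hS').1.trans (centralizerIn_anti (IsNormal.le_core hn))

end Cfsg.Agent.Fusion
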