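import Cfsg.Prelude.Def_FusionSystem

/-! Function-style interface for fusion systems: a map of the system is seen as a function on the
ambient group, restricted to a subgroup. -/

set_option autoImplicit false

namespace Cfsg.Agent.Fusion

open Cfsg Cfsg.FusionSystem
open scoped commutatorElement

variable {Ω : Type*} [Group Ω] {S : Subgroup Ω}

/-- `f` restricted to `P` is a map of `F`. -/
def Mor (F : FusionSystem S) (P : Subgroup Ω) (f : Ω → Ω) : Prop :=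
  ∃ φ ∈ F.Hom P, ∀ x : P, φ x = f x

/-- The image subgroup of `P` under the function `f`. -/
def img (f : Ω → Ω) (P : Subgroup Ω) : Subgroup Ω := Subgroup.closure (f '' P)

open Classical in
/-- A homomorphism on a subgroup, as a function on the ambient group. -/
noncomputable def hfun {P : Subgroup Ω} (φ : P →* Ω) : Ω → Ω :=
  fun x => if h : x ∈ P then φ ⟨x, h⟩ else x

open Classical in
/-- An automorphism of a subgroup, as a function on the ambient group. -/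
noncomputable def afun {P : Subgroup Ω} (α : MulAut P) : Ω → Ω :=
  fun x => if h : x ∈ P then (α ⟨x, h⟩ : P) else x

@[simp] theorem hfun_coe {P : Subgroup Ω} (φ : P →* Ω) (x : P) : hfun φ x = φ x := by
  simp [hfun]

theorem hfun_of_mem {P : Subgroup Ω} (φ : P →* Ω) {x : Ω} (hx : x ∈ P) : hfun φ x = φ ⟨x, hx⟩ := by
  simp [hfun, hx]

@[simp] theorem afun_coe {P : Subgroup Ω} (α : MulAut P) (x : P) : afun α x = (α x : P) := by
  simp [afun]

theorem afun_of_mem {P : Subgroup Ω} (α : MulAut P) {x : Ω} (hx : x ∈ P) :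
    afun α x = (α ⟨x, hx⟩ : P) := by
  simp [afun, hx]

theorem afun_mem {P : Subgroup Ω} (α : MulAut P) {x : Ω} (hx : x ∈ P) : afun α x ∈ P := by
  rw [afun_of_mem α hx]; exact Subtype.property _

theorem afun_mul {P : Subgroup Ω} (α β : MulAut P) {x : Ω} (hx : x ∈ P) :
    afun (α * β) x = afun α (afun β x) := by
  rw [afun_of_mem β hx, afun_coe, afun_of_mem _ hx]; rfl

theorem afun_one {P : Subgroup Ω} (x : Ω) : afun (1 : MulAut P) x = x := by
  unfold afun; split_ifs <;> rfl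

theorem afun_inv_afun {P : Subgroup Ω} (α : MulAut P) {x : Ω} (hx : x ∈ P) :
    afun α⁻¹ (afun α x) = x := by
  rw [← afun_mul _ _ hx, inv_mul_cancel, afun_one]

theorem afun_afun_inv {P : Subgroup Ω} (α : MulAut P) {x : Ω} (hx : x ∈ P) :
    afun α (afun α⁻¹ x) = x := by
  rw [← afun_mul _ _ hx, mul_inv_cancel, afun_one]

theorem aut_ext {P : Subgroup Ω} {α β : MulAut P} (h : ∀ x ∈ P, afun α x = afun β x) : α = β := by
  ext x
  simpa using h x x.2

theorem finite_of_le {P Q : Subgroup Ω} [Finite Q] (h : P ≤ Q) : Finite P :=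
  Finite.of_injective _ (Subgroup.inclusion_injective h)

theorem pgroup_of_le {p : ℕ} {P Q : Subgroup Ω} (hQ : IsPGroup p Q) (h : P ≤ Q) : IsPGroup p P :=
  hQ.of_injective _ (Subgroup.inclusion_injective h)

theorem mem_centralizerIn {P : Subgroup Ω} {g : Ω} :
    g ∈ centralizerIn S P ↔ g ∈ S ∧ ∀ x ∈ P, g * x * g⁻¹ = x := by
  simp only [centralizerIn, Subgroup.mem_inf, Subgroup.mem_centralizer_iff, SetLike.mem_coe]
  refine and_congr_right fun _ => forall_congr' fun x => imp_congr_right fun _ => ?_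
  constructor
  · intro h; rw [← h]; group
  · intro h; conv_lhs => rw [← h]
    group

theorem mem_normalizerIn {P : Subgroup Ω} {g : Ω} :
    g ∈ normalizerIn S P ↔ g ∈ S ∧ ∀ x, x ∈ P ↔ g * x * g⁻¹ ∈ P := by
  simp only [normalizerIn, Subgroup.mem_inf, Subgroup.mem_normalizer_iff]

theorem mem_normalizer_of_finite {P : Subgroup Ω} [Finite P] {g : Ω}
    (h : ∀ x ∈ P, g * x * g⁻¹ ∈ P) : g ∈ Subgroup.normalizer (P : Set Ω) :=
  Subgroup.mem_normalizer_fintype (S := (P : Set Ω)) h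

theorem centralizerIn_le_normalizerIn {P : Subgroup Ω} : centralizerIn S P ≤ normalizerIn S P := by
  intro g hg
  rw [mem_centralizerIn] at hg
  rw [mem_normalizerIn]
  refine ⟨hg.1, ?_⟩
  intro x
  constructor
  · intro hx; rw [hg.2 x hx]; exact hx
  · intro hx
    have := hg.2 _ hx
    have h2 : g * x * g⁻¹ = x := by
      have h3 : g * (g * x * g⁻¹) * g⁻¹ = g * x * g⁻¹ := this
      have := mul_right_cancel h3
      exact mul_left_cancel this
    rwa [h2] at hx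

theorem le_normalizerIn {P : Subgroup Ω} (hP : P ≤ S) : P ≤ normalizerIn S P :=
  le_inf hP Subgroup.le_normalizer

theorem normalizerIn_le {P : Subgroup Ω} : normalizerIn S P ≤ S := inf_le_left

theorem centralizerIn_le {P : Subgroup Ω} : centralizerIn S P ≤ S := inf_le_left

theorem conj_mem_of_mem_normalizerIn {P : Subgroup Ω} {g x : Ω} (hg : g ∈ normalizerIn S P)
    (hx : x ∈ P) : g * x * g⁻¹ ∈ P := ((mem_normalizerIn.1 hg).2 x).1 hx

theorem conj_mem_of_mem_normalizer {P : Subgroup Ω} {g x : Ω}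
    (hg : g ∈ Subgroup.normalizer (P : Set Ω)) (hx : x ∈ P) : g * x * g⁻¹ ∈ P :=
  ((Subgroup.mem_normalizer_iff.1 hg) x).1 hx

theorem subset_img {f : Ω → Ω} {P : Subgroup Ω} {x : Ω} (hx : x ∈ P) : f x ∈ img f P :=
  Subgroup.subset_closure ⟨x, hx, rfl⟩

theorem img_le_iff {f : Ω → Ω} {P Q : Subgroup Ω} : img f P ≤ Q ↔ ∀ x ∈ P, f x ∈ Q := by
  rw [img, Subgroup.closure_le]
  constructor
  · intro h x hx; exact h ⟨x, hx, rfl⟩
  · rintro h _ ⟨x, hx, rfl⟩; exact h x hx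

theorem img_mono {f : Ω → Ω} {P Q : Subgroup Ω} (h : P ≤ Q) : img f P ≤ img f Q :=
  img_le_iff.2 fun _ hx => subset_img (h hx)

theorem img_congr {f g : Ω → Ω} {P : Subgroup Ω} (h : ∀ x ∈ P, f x = g x) : img f P = img g P := by
  unfold img; congr 1; exact Set.image_congr h

theorem img_id (P : Subgroup Ω) : img (fun x => x) P = P := by
  simp [img]

theorem img_of_eq_id {f : Ω → Ω} {P : Subgroup Ω} (h : ∀ x ∈ P, f x = x) : img f P = P := by
  rw [img_congr h, img_id]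

theorem img_hfun {P : Subgroup Ω} (φ : P →* Ω) : img (hfun φ) P = φ.range := by
  apply le_antisymm
  · rw [img_le_iff]; intro x hx; rw [hfun_of_mem φ hx]; exact ⟨_, rfl⟩
  · rintro _ ⟨x, rfl⟩; rw [← hfun_coe]; exact subset_img x.2

theorem img_eq_range {P : Subgroup Ω} {φ : P →* Ω} {f : Ω → Ω} (h : ∀ x : P, φ x = f x) :
    img f P = φ.range := by
  rw [← img_hfun]; apply img_congr; intro x hx; rw [hfun_of_mem φ hx, h]

theorem img_eq_map {P R : Subgroup Ω} (hR : R ≤ P) {φ : P →* Ω} {f : Ω → Ω}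
    (h : ∀ x : P, φ x = f x) : img f R = (R.subgroupOf P).map φ := by
  apply le_antisymm
  · rw [img_le_iff]; intro x hx
    exact ⟨⟨x, hR hx⟩, hx, h _⟩
  · rintro _ ⟨x, hx, rfl⟩; rw [h]; exact subset_img hx

theorem img_conj (g : Ω) (P : Subgroup Ω) :
    img (fun x => g * x * g⁻¹) P = P.map (MulAut.conj g).toMonoidHom := by
  rw [img_eq_range (φ := conjHom P g) (fun _ => rfl)]
  ext y; simp [conjHom]

theorem img_afun {P : Subgroup Ω} (α : MulAut P) : img (afun α) P = P := by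
  apply le_antisymm
  · exact img_le_iff.2 fun x hx => afun_mem α hx
  · intro x hx
    rw [← afun_afun_inv α hx]; exact subset_img (afun_mem _ hx)

variable {F : FusionSystem S} {P Q R : Subgroup Ω} {f g : Ω → Ω}

theorem mor_hfun {φ : P →* Ω} (h : φ ∈ F.Hom P) : Mor F P (hfun φ) :=
  ⟨φ, h, fun x => (hfun_coe φ x).symm⟩

theorem Mor.mem_Hom (h : Mor F P f) {φ : P →* Ω} (hφ : ∀ x : P, φ x = f x) : φ ∈ F.Hom P := by
  obtain ⟨ψ, hψ, e⟩ := h
  have : φ = ψ := by ext x; rw [hφ, e]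
  rwa [this]

theorem mem_Hom_iff {φ : P →* Ω} : φ ∈ F.Hom P ↔ Mor F P (hfun φ) :=
  ⟨mor_hfun, fun h => h.mem_Hom fun x => (hfun_coe φ x).symm⟩

theorem Mor.le (h : Mor F P f) : P ≤ S := by
  obtain ⟨φ, hφ, -⟩ := h; exact (F.le_of_mem hφ).1

theorem Mor.mem (h : Mor F P f) {x : Ω} (hx : x ∈ P) : f x ∈ S := by
  obtain ⟨φ, hφ, e⟩ := h
  rw [← e ⟨x, hx⟩]; exact (F.le_of_mem hφ).2 _

theorem Mor.img_le (h : Mor F P f) : img f P ≤ S := img_le_iff.2 fun _ hx => h.mem hx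

theorem Mor.map_mul (h : Mor F P f) {x y : Ω} (hx : x ∈ P) (hy : y ∈ P) :
    f (x * y) = f x * f y := by
  obtain ⟨φ, -, e⟩ := h
  rw [← e ⟨x, hx⟩, ← e ⟨y, hy⟩, ← _root_.map_mul]
  exact (e ⟨x * y, P.mul_mem hx hy⟩).symm

theorem Mor.map_one (h : Mor F P f) : f 1 = 1 := by
  obtain ⟨φ, -, e⟩ := h
  exact (e 1).symm.trans φ.map_one

theorem Mor.map_inv (h : Mor F P f) {x : Ω} (hx : x ∈ P) : f x⁻¹ = (f x)⁻¹ := by
  obtain ⟨φ, -, e⟩ := h
  rw [← e ⟨x, hx⟩, ← _root_.map_inv]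
  exact (e ⟨x⁻¹, P.inv_mem hx⟩).symm

theorem Mor.map_conj (h : Mor F P f) {x y : Ω} (hx : x ∈ P) (hy : y ∈ P) :
    f (x * y * x⁻¹) = f x * f y * (f x)⁻¹ := by
  rw [h.map_mul (P.mul_mem hx hy) (P.inv_mem hx), h.map_mul hx hy, h.map_inv hx]

theorem Mor.map_pow (h : Mor F P f) {x : Ω} (hx : x ∈ P) (n : ℕ) : f (x ^ n) = f x ^ n := by
  induction n with
  | zero => simpa using h.map_one
  | succ n ih => rw [pow_succ, h.map_mul (P.pow_mem hx n) hx, ih, pow_succ]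

theorem Mor.map_zpow (h : Mor F P f) {x : Ω} (hx : x ∈ P) (n : ℤ) : f (x ^ n) = f x ^ n := by
  obtain ⟨φ, -, e⟩ := h
  rw [← e ⟨x, hx⟩, ← _root_.map_zpow]
  exact (e ⟨x ^ n, P.zpow_mem hx n⟩).symm

theorem Mor.map_commutator (h : Mor F P f) {x y : Ω} (hx : x ∈ P) (hy : y ∈ P) :
    f ⁅x, y⁆ = ⁅f x, f y⁆ := by
  rw [commutatorElement_def, commutatorElement_def,
    h.map_mul (P.mul_mem (P.mul_mem hx hy) (P.inv_mem hx)) (P.inv_mem hy), h.map_conj hx hy,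
    h.map_inv hy]

theorem Mor.inj (h : Mor F P f) {x y : Ω} (hx : x ∈ P) (hy : y ∈ P) (e : f x = f y) : x = y := by
  obtain ⟨φ, hφ, e'⟩ := h
  have := F.injective_of_mem hφ (a₁ := ⟨x, hx⟩) (a₂ := ⟨y, hy⟩) (by rw [e', e']; exact e)
  exact congrArg Subtype.val this

theorem Mor.eq_one_iff (h : Mor F P f) {x : Ω} (hx : x ∈ P) : f x = 1 ↔ x = 1 :=
  ⟨fun e => h.inj hx P.one_mem (e.trans h.map_one.symm), fun e => e ▸ h.map_one⟩

theorem Mor.congr (h : Mor F P f) (e : ∀ x ∈ P, f x = g x) : Mor F P g := by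
  obtain ⟨φ, hφ, e'⟩ := h
  exact ⟨φ, hφ, fun x => (e' x).trans (e x x.2)⟩

theorem mor_conj (F : FusionSystem S) (hP : P ≤ S) {s : Ω} (hs : s ∈ S) :
    Mor F P (fun x => s * x * s⁻¹) :=
  ⟨conjHom P s, F.conj_mem hP hs, fun _ => rfl⟩

theorem mor_id (F : FusionSystem S) (hP : P ≤ S) : Mor F P (fun x => x) :=
  (mor_conj F hP S.one_mem).congr (by simp)

theorem Mor.comp (hf : Mor F P f) (hg : Mor F Q g) (h : ∀ x ∈ P, f x ∈ Q) :
    Mor F P (fun x => g (f x)) := by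
  obtain ⟨φ, hφ, e⟩ := hf
  obtain ⟨ψ, hψ, e'⟩ := hg
  have h' : ∀ x : P, φ x ∈ Q := fun x => e x ▸ h x x.2
  refine ⟨_, F.comp_mem hφ hψ h', fun x => ?_⟩
  show ψ ⟨φ x, h' x⟩ = _
  rw [e']; simp only [e x]

theorem Mor.mono (hf : Mor F P f) (h : R ≤ P) : Mor F R f :=
  (mor_id F (h.trans hf.le)).comp hf h

theorem Mor.mem_img (hf : Mor F P f) {y : Ω} : y ∈ img f P ↔ ∃ x ∈ P, f x = y := by
  obtain ⟨φ, -, e⟩ := hf
  rw [img_eq_range e]
  constructor
  · rintro ⟨x, rfl⟩; exact ⟨x, x.2, (e x).symm⟩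
  · rintro ⟨x, hx, rfl⟩; exact ⟨⟨x, hx⟩, e _⟩

theorem Mor.mem_img' (hf : Mor F P f) (h : R ≤ P) {y : Ω} : y ∈ img f R ↔ ∃ x ∈ R, f x = y :=
  (hf.mono h).mem_img

theorem Mor.apply_mem_img_iff (hf : Mor F P f) (h : R ≤ P) {x : Ω} (hx : x ∈ P) :
    f x ∈ img f R ↔ x ∈ R := by
  rw [hf.mem_img' h]
  constructor
  · rintro ⟨y, hy, e⟩; rwa [← hf.inj (h hy) hx e]
  · intro h; exact ⟨x, h, rfl⟩

/-- The inverse of a map of the system. -/
theorem Mor.inv (hf : Mor F P f) : ∃ g : Ω → Ω, Mor F (img f P) g ∧ (∀ x ∈ P, g (f x) = x) ∧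
    (∀ y ∈ img f P, g y ∈ P) ∧ (∀ y ∈ img f P, f (g y) = y) ∧ img g (img f P) = P := by
  have hf' := hf
  obtain ⟨φ, hφ, e⟩ := hf
  obtain ⟨ψ, hψ, e'⟩ := F.inv_mem hφ
  have h1 : ∀ x ∈ P, hfun ψ (f x) = x := by
    intro x hx
    rw [← e ⟨x, hx⟩, hfun_of_mem ψ ⟨_, rfl⟩, e']
  have h2 : ∀ y ∈ img f P, hfun ψ y ∈ P := by
    intro y hy
    obtain ⟨x, hx, rfl⟩ := hf'.mem_img.1 hy
    rw [h1 x hx]; exact hx
  refine ⟨hfun ψ, ?_, h1, h2, ?_, ?_⟩
  · rw [img_eq_range e]; exact mor_hfun hψ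
  · intro y hy
    obtain ⟨x, hx, rfl⟩ := hf'.mem_img.1 hy
    rw [h1 x hx]
  · apply le_antisymm (img_le_iff.2 h2)
    intro x hx
    rw [← h1 x hx]; exact subset_img (subset_img hx)

theorem Mor.inv' (hf : Mor F P f) (hQ : img f P = Q) : ∃ g : Ω → Ω, Mor F Q g ∧
    (∀ x ∈ P, g (f x) = x) ∧ (∀ y ∈ Q, g y ∈ P) ∧ (∀ y ∈ Q, f (g y) = y) ∧ img g Q = P := by
  subst hQ; exact hf.inv

theorem Mor.img_comp' (hf : Mor F P f) (g : Ω → Ω) :
    img (fun x => g (f x)) P = img g (img f P) := by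
  apply le_antisymm
  · exact img_le_iff.2 fun x hx => subset_img (subset_img hx)
  · rw [img_le_iff]; intro y hy
    obtain ⟨x, hx, rfl⟩ := hf.mem_img.1 hy
    exact subset_img (f := fun x => g (f x)) hx

theorem Mor.img_sup (hf : Mor F (P ⊔ Q) f) : img f (P ⊔ Q) = img f P ⊔ img f Q := by
  obtain ⟨φ, -, e⟩ := hf
  rw [img_eq_map le_rfl e, img_eq_map le_sup_left e, img_eq_map le_sup_right e,
    ← Subgroup.map_sup, ← Subgroup.subgroupOf_sup le_sup_left le_sup_right]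

theorem Mor.img_inf (hf : Mor F R f) (hP : P ≤ R) (hQ : Q ≤ R) :
    img f (P ⊓ Q) = img f P ⊓ img f Q := by
  apply le_antisymm (le_inf (img_mono inf_le_left) (img_mono inf_le_right))
  rintro y ⟨h1, h2⟩
  obtain ⟨x, hx, rfl⟩ := (hf.mem_img' hP).1 h1
  exact subset_img ⟨hx, (hf.apply_mem_img_iff hQ (hP hx)).1 h2⟩

/-- The isomorphism `P ≃* Q` given by a map of the system with image `Q`. -/
theorem Mor.exists_equiv (hf : Mor F P f) (hQ : img f P = Q) :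
    ∃ e : P ≃* Q, ∀ x : P, (e x : Ω) = f x := by
  subst hQ
  have hf' := hf
  obtain ⟨φ, hφ, e⟩ := hf
  have hm : ∀ x : P, φ x ∈ img f P := fun x => e x ▸ subset_img x.2
  refine ⟨MulEquiv.ofBijective (φ.codRestrict _ hm) ⟨?_, ?_⟩, fun x => e x⟩
  · intro a b hab
    exact F.injective_of_mem hφ (congrArg Subtype.val hab)
  · rintro ⟨y, hy⟩
    obtain ⟨x, hx, rfl⟩ := hf'.mem_img.1 hy
    exact ⟨⟨x, hx⟩, Subtype.ext (e _)⟩

theorem Mor.card_img (hf : Mor F P f) : Nat.card (img f P) = Nat.card P := by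
  obtain ⟨e, -⟩ := hf.exists_equiv rfl
  exact (Nat.card_congr e.toEquiv).symm

theorem Mor.card_le (hf : Mor F P f) [Finite Q] (h : ∀ x ∈ P, f x ∈ Q) :
    Nat.card P ≤ Nat.card Q := by
  rw [← hf.card_img]; exact Subgroup.card_le_of_le (img_le_iff.2 h)

theorem Mor.img_eq_of_card_le (hf : Mor F P f) [Finite Q] (h : ∀ x ∈ P, f x ∈ Q)
    (hc : Nat.card Q ≤ Nat.card P) : img f P = Q :=
  Subgroup.eq_of_le_of_card_ge (img_le_iff.2 h) (by rwa [hf.card_img])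

theorem Mor.img_eq_self (hf : Mor F P f) [Finite P] (h : ∀ x ∈ P, f x ∈ P) : img f P = P :=
  hf.img_eq_of_card_le h le_rfl

theorem Mor.eq_on_sup (hf : Mor F (P ⊔ Q) f) (hg : Mor F (P ⊔ Q) g) (h1 : ∀ x ∈ P, f x = g x)
    (h2 : ∀ x ∈ Q, f x = g x) : ∀ x ∈ P ⊔ Q, f x = g x := by
  intro x hx
  rw [Subgroup.sup_eq_closure] at hx
  have hle : Subgroup.closure ((P : Set Ω) ∪ Q) = P ⊔ Q := (Subgroup.sup_eq_closure P Q).symm
  induction hx using Subgroup.closure_induction with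
  | mem x hx => exact hx.elim (h1 x) (h2 x)
  | one => rw [hf.map_one, hg.map_one]
  | mul x y hx hy ihx ihy =>
    rw [hle] at hx hy; rw [hf.map_mul hx hy, hg.map_mul hx hy, ihx, ihy]
  | inv x hx ih => rw [hle] at hx; rw [hf.map_inv hx, hg.map_inv hx, ih]

/-- A map carries normalizing elements to normalizing elements of the image. -/
theorem Mor.mem_normalizer_img (hf : Mor F R f) (hP : P ≤ R) {s : Ω} (hs : s ∈ R)
    (hn : s ∈ Subgroup.normalizer (P : Set Ω)) : f s ∈ normalizerIn S (img f P) := by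
  rw [mem_normalizerIn]
  refine ⟨hf.mem hs, fun y => ⟨fun hy => ?_, fun hy => ?_⟩⟩
  · obtain ⟨x, hx, rfl⟩ := (hf.mem_img' hP).1 hy
    rw [← hf.map_conj hs (hP hx)]
    exact subset_img (conj_mem_of_mem_normalizer hn hx)
  · obtain ⟨x, hx, e⟩ := (hf.mem_img' hP).1 hy
    have : y = f (s⁻¹ * x * s⁻¹⁻¹) := by
      rw [hf.map_conj (R.inv_mem hs) (hP hx), e, hf.map_inv hs]; group
    rw [this]
    exact subset_img (conj_mem_of_mem_normalizer (Subgroup.inv_mem _ hn) hx)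

theorem Mor.mem_centralizer_img (hf : Mor F R f) (hP : P ≤ R) {s : Ω} (hs : s ∈ R)
    (hn : ∀ x ∈ P, s * x * s⁻¹ = x) : f s ∈ centralizerIn S (img f P) := by
  rw [mem_centralizerIn]
  refine ⟨hf.mem hs, fun y hy => ?_⟩
  obtain ⟨x, hx, rfl⟩ := (hf.mem_img' hP).1 hy
  rw [← hf.map_conj hs (hP hx), hn x hx]

theorem isConj_iff : F.IsConj P Q ↔ ∃ f, Mor F P f ∧ img f P = Q := by
  constructor
  · rintro ⟨φ, hφ, e⟩; exact ⟨hfun φ, mor_hfun hφ, (img_hfun φ).trans e⟩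
  · rintro ⟨f, ⟨φ, hφ, e⟩, h⟩; exact ⟨φ, hφ, (img_eq_range e).symm.trans h⟩

theorem Mor.isConj (hf : Mor F P f) : F.IsConj P (img f P) := isConj_iff.2 ⟨f, hf, rfl⟩

theorem isConj_refl (F : FusionSystem S) (hP : P ≤ S) : F.IsConj P P :=
  isConj_iff.2 ⟨_, mor_id F hP, img_id P⟩

theorem isConj_symm (h : F.IsConj P Q) : F.IsConj Q P := by
  obtain ⟨f, hf, rfl⟩ := isConj_iff.1 h
  obtain ⟨g, hg, -, -, -, e⟩ := hf.inv
  exact isConj_iff.2 ⟨g, hg, e⟩

theorem isConj_trans (h : F.IsConj P Q) (h' : F.IsConj Q R) : F.IsConj P R := by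
  obtain ⟨f, hf, rfl⟩ := isConj_iff.1 h
  obtain ⟨g, hg, rfl⟩ := isConj_iff.1 h'
  exact isConj_iff.2 ⟨_, hf.comp hg fun x hx => subset_img hx, hf.img_comp' g⟩

theorem isConj_le_left (h : F.IsConj P Q) : P ≤ S := by
  obtain ⟨f, hf, -⟩ := isConj_iff.1 h; exact hf.le

theorem isConj_le_right (h : F.IsConj P Q) : Q ≤ S := by
  obtain ⟨f, hf, rfl⟩ := isConj_iff.1 h; exact hf.img_le

theorem isConj_card (h : F.IsConj P Q) : Nat.card P = Nat.card Q := by
  obtain ⟨f, hf, rfl⟩ := isConj_iff.1 h; exact hf.card_img.symm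

/-! ### automorphism groups -/

theorem mem_autGroup (hP : P ≤ S) {α : MulAut P} : α ∈ F.autGroup P ↔ Mor F P (afun α) := by
  constructor
  · intro h
    induction h using Subgroup.closure_induction with
    | mem x hx => exact ⟨_, hx, fun y => by simp⟩
    | one => exact (mor_id F hP).congr fun x _ => (afun_one x).symm
    | mul x y _ _ ihx ihy =>
      exact (ihy.comp ihx fun z hz => afun_mem y hz).congr fun z hz => (afun_mul x y hz).symm
    | inv x _ ih =>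
      obtain ⟨g, hg, h1, -, -, -⟩ := ih.inv' (img_afun x)
      refine hg.congr fun z hz => ?_
      conv_lhs => rw [← afun_afun_inv x hz]
      exact h1 _ (afun_mem _ hz)
  · intro h
    exact Subgroup.subset_closure (h.mem_Hom fun x => by simp)

theorem Mor.mem_autGroup (hf : Mor F P f) {α : MulAut P} (h : ∀ x ∈ P, afun α x = f x) :
    α ∈ F.autGroup P :=
  (Fusion.mem_autGroup hf.le).2 (hf.congr fun x hx => (h x hx).symm)

theorem Mor.exists_aut (hf : Mor F P f) (h : img f P = P) :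
    ∃ α ∈ F.autGroup P, ∀ x ∈ P, afun α x = f x := by
  obtain ⟨e, he⟩ := hf.exists_equiv h
  have : ∀ x ∈ P, afun e x = f x := fun x hx => by rw [afun_of_mem _ hx, he]
  exact ⟨e, hf.mem_autGroup this, this⟩

theorem mem_autInducedBy {K : Subgroup Ω} {α : MulAut P} :
    α ∈ autInducedBy K P ↔ ∃ g ∈ K, ∀ x ∈ P, afun α x = g * x * g⁻¹ := by
  constructor
  · intro h
    induction h using Subgroup.closure_induction with
    | mem x hx =>
      obtain ⟨g, hg, e⟩ := hx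
      exact ⟨g, hg, fun y hy => by rw [afun_of_mem _ hy, e]⟩
    | one => exact ⟨1, K.one_mem, fun x _ => by simp [afun_one]⟩
    | mul x y _ _ ihx ihy =>
      obtain ⟨g, hg, e⟩ := ihx
      obtain ⟨k, hk, e'⟩ := ihy
      refine ⟨g * k, K.mul_mem hg hk, fun z hz => ?_⟩
      rw [afun_mul _ _ hz, e _ (afun_mem _ hz), e' _ hz]; group
    | inv x _ ih =>
      obtain ⟨g, hg, e⟩ := ih
      refine ⟨g⁻¹, K.inv_mem hg, fun z hz => ?_⟩
      have := e _ (afun_mem x⁻¹ hz)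
      rw [afun_afun_inv _ hz] at this
      rw [this, ← this]
      conv_rhs => rw [this]
      group
  · rintro ⟨g, hg, e⟩
    exact Subgroup.subset_closure ⟨g, hg, fun x => by rw [← e x x.2, afun_coe]⟩

theorem mem_normalizer_of_afun {α : MulAut P} {g : Ω} (e : ∀ x ∈ P, afun α x = g * x * g⁻¹) :
    g ∈ Subgroup.normalizer (P : Set Ω) := by
  rw [Subgroup.mem_normalizer_iff]
  intro x
  constructor
  · intro hx; rw [← e x hx]; exact afun_mem _ hx
  · intro hx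
    have h1 := e _ (afun_mem α⁻¹ hx)
    rw [afun_afun_inv _ hx] at h1
    have : x = afun α⁻¹ (g * x * g⁻¹) := mul_left_cancel (mul_right_cancel h1)
    rw [this]; exact afun_mem _ hx

/-- conjugation by a normalizing element as an automorphism -/
def cAut (P : Subgroup Ω) : Subgroup.normalizer (P : Set Ω) →* MulAut P :=
  Subgroup.normalizerMonoidHom P

theorem afun_cAut (g : Subgroup.normalizer (P : Set Ω)) {x : Ω} (hx : x ∈ P) :
    afun (cAut P g) x = g * x * (g : Ω)⁻¹ := by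
  rw [afun_of_mem _ hx]; rfl

theorem exists_cAut {g : Ω} (hg : g ∈ Subgroup.normalizer (P : Set Ω)) :
    ∃ α : MulAut P, ∀ x ∈ P, afun α x = g * x * g⁻¹ :=
  ⟨cAut P ⟨g, hg⟩, fun _ hx => afun_cAut _ hx⟩

theorem autInducedBy_eq_map (K P : Subgroup Ω) : autInducedBy K P =
    (K.subgroupOf (Subgroup.normalizer (P : Set Ω))).map (cAut P) := by
  ext α
  rw [mem_autInducedBy]
  constructor
  · rintro ⟨g, hg, e⟩
    refine ⟨⟨g, mem_normalizer_of_afun e⟩, hg, aut_ext fun x hx => ?_⟩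
    rw [afun_cAut _ hx, e x hx]
  · rintro ⟨g, hg, rfl⟩
    exact ⟨g, hg, fun x hx => afun_cAut _ hx⟩

theorem autInducedBy_mono {K L : Subgroup Ω} (h : K ≤ L) : autInducedBy K P ≤ autInducedBy L P := by
  intro α hα
  obtain ⟨g, hg, e⟩ := mem_autInducedBy.1 hα
  exact mem_autInducedBy.2 ⟨g, h hg, e⟩

theorem autInducedBy_pgroup {p : ℕ} {K : Subgroup Ω} (hK : IsPGroup p K) (P : Subgroup Ω) :
    IsPGroup p (autInducedBy K P) := by
  rw [autInducedBy_eq_map]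
  exact (hK.comap_subtype).map _

theorem autInducedBy_le_autGroup (F : FusionSystem S) (hP : P ≤ S) :
    autInducedBy S P ≤ F.autGroup P := by
  intro α hα
  obtain ⟨g, hg, e⟩ := mem_autInducedBy.1 hα
  exact (mor_conj F hP hg).mem_autGroup e

theorem mem_Inn {α : MulAut P} : α ∈ Inn P ↔ ∃ g ∈ P, ∀ x ∈ P, afun α x = g * x * g⁻¹ := by
  constructor
  · rintro ⟨g, rfl⟩
    exact ⟨g, g.2, fun x hx => by rw [afun_of_mem _ hx]; rfl⟩
  · rintro ⟨g, hg, e⟩
    refine ⟨⟨g, hg⟩, aut_ext fun x hx => ?_⟩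
    rw [e x hx, afun_of_mem _ hx]; rfl

theorem Inn_eq_autInducedBy : Inn P = autInducedBy P P := by
  ext α; rw [mem_Inn, mem_autInducedBy]

theorem Inn_le_autInducedBy (hP : P ≤ S) : Inn P ≤ autInducedBy S P := by
  rw [Inn_eq_autInducedBy]; exact autInducedBy_mono hP

theorem Inn_le_autGroup (F : FusionSystem S) (hP : P ≤ S) : Inn P ≤ F.autGroup P :=
  (Inn_le_autInducedBy hP).trans (autInducedBy_le_autGroup F hP)

theorem card_autInducedBy (K P : Subgroup Ω) :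
    Nat.card (autInducedBy K P) * Nat.card (centralizerIn K P) = Nat.card (normalizerIn K P) := by
  let φ : normalizerIn K P →* MulAut P := (cAut P).comp (Subgroup.inclusion inf_le_right)
  have hr : φ.range = autInducedBy K P := by
    ext α
    rw [mem_autInducedBy]
    constructor
    · rintro ⟨g, rfl⟩
      exact ⟨g, g.2.1, fun x hx => afun_cAut _ hx⟩
    · rintro ⟨g, hg, e⟩
      refine ⟨⟨g, hg, mem_normalizer_of_afun e⟩, aut_ext fun x hx => ?_⟩
      rw [e x hx]; exact afun_cAut _ hx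
  have hk : φ.ker = (centralizerIn K P).subgroupOf (normalizerIn K P) := by
    ext g
    rw [MonoidHom.mem_ker, Subgroup.mem_subgroupOf, mem_centralizerIn]
    constructor
    · intro h
      refine ⟨g.2.1, fun x hx => ?_⟩
      have := afun_cAut (Subgroup.inclusion inf_le_right g) hx
      rw [show cAut P (Subgroup.inclusion inf_le_right g) = 1 from h, afun_one] at this
      exact this.symm
    · intro h
      refine aut_ext fun x hx => ?_
      rw [afun_one]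
      exact (afun_cAut _ hx).trans (h.2 x hx)
  rw [← hr, ← Subgroup.index_ker, mul_comm, ← Subgroup.card_mul_index φ.ker, hk,
    Nat.card_congr (Subgroup.subgroupOfEquivOfLe centralizerIn_le_normalizerIn).toEquiv]

/-! ### the extender -/

/-- `N_f`: function version of `extender`. -/
def Next (S P : Subgroup Ω) (f : Ω → Ω) : Subgroup Ω where
  carrier := {g | g ∈ normalizerIn S P ∧ ∃ h ∈ S, ∀ x ∈ P, f (g * x * g⁻¹) = h * f x * h⁻¹}
  one_mem' := ⟨Subgroup.one_mem _, 1, S.one_mem, fun x _ => by simp⟩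
  mul_mem' := by
    rintro a b ⟨ha, h, hh, e⟩ ⟨hb, k, hk, e'⟩
    refine ⟨Subgroup.mul_mem _ ha hb, h * k, S.mul_mem hh hk, fun x hx => ?_⟩
    have : a * b * x * (a * b)⁻¹ = a * (b * x * b⁻¹) * a⁻¹ := by group
    rw [this, e _ (conj_mem_of_mem_normalizerIn hb hx), e' x hx]; group
  inv_mem' := by
    rintro a ⟨ha, h, hh, e⟩
    refine ⟨Subgroup.inv_mem _ ha, h⁻¹, S.inv_mem hh, fun x hx => ?_⟩
    have h1 := e _ (conj_mem_of_mem_normalizerIn (Subgroup.inv_mem _ ha) hx)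
    have : a * (a⁻¹ * x * a⁻¹⁻¹) * a⁻¹ = x := by group
    rw [this] at h1
    rw [h1]; group

theorem mem_Next {g : Ω} : g ∈ Next S P f ↔
    g ∈ normalizerIn S P ∧ ∃ h ∈ S, ∀ x ∈ P, f (g * x * g⁻¹) = h * f x * h⁻¹ := Iff.rfl

theorem Next_le_normalizerIn : Next S P f ≤ normalizerIn S P := fun _ h => h.1

theorem Next_le : Next S P f ≤ S := Next_le_normalizerIn.trans normalizerIn_le

theorem centralizerIn_le_Next : centralizerIn S P ≤ Next S P f := by
  intro g hg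
  refine ⟨centralizerIn_le_normalizerIn hg, 1, S.one_mem, fun x hx => ?_⟩
  rw [(mem_centralizerIn.1 hg).2 x hx]; simp

theorem Mor.le_Next (hf : Mor F P f) : P ≤ Next S P f := by
  intro g hg
  exact ⟨le_normalizerIn hf.le hg, f g, hf.mem hg, fun x hx => hf.map_conj hg hx⟩

/-- If `f` extends to `R`, then `N_R(P) ≤ N_f`. -/
theorem Mor.mem_Next_of_ext (hg : Mor F R g) (hP : P ≤ R) (e : ∀ x ∈ P, g x = f x) {s : Ω}
    (hs : s ∈ R) (hn : s ∈ Subgroup.normalizer (P : Set Ω)) : s ∈ Next S P f := by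
  refine ⟨⟨hg.le hs, hn⟩, g s, hg.mem hs, fun x hx => ?_⟩
  rw [← e _ (conj_mem_of_mem_normalizer hn hx), ← e x hx, hg.map_conj hs (hP hx)]

theorem extender_eq_Next {φ : P →* Ω} (e : ∀ x : P, φ x = f x) : extender S P φ = Next S P f := by
  unfold extender
  rw [← Subgroup.closure_eq (Next S P f)]
  congr 1
  ext g
  constructor
  · rintro ⟨h1, h2, h, hh, e'⟩
    refine ⟨⟨h1, h2⟩, h, hh, fun x hx => ?_⟩
    have := e' ⟨x, hx⟩ (conj_mem_of_mem_normalizer h2 hx)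
    rwa [e, e] at this
  · rintro ⟨⟨h1, h2⟩, h, hh, e'⟩
    refine ⟨h1, h2, h, hh, fun x hx => ?_⟩
    rw [e, e]; exact e' x x.2

theorem isReceptive_iff : F.IsReceptive Q ↔ Q ≤ S ∧ ∀ (P : Subgroup Ω) (f : Ω → Ω),
    Mor F P f → img f P = Q → ∃ g, Mor F (Next S P f) g ∧ ∀ x ∈ P, g x = f x := by
  refine and_congr_right fun _ => ⟨fun h P f hf hQ => ?_, fun h P φ hφ hQ => ?_⟩
  · have hf' := hf
    obtain ⟨φ, hφ, e⟩ := hf
    obtain ⟨ψ, hψ, e'⟩ := h P φ hφ ((img_eq_range e).symm.trans hQ)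
    have hN := extender_eq_Next (S := S) e
    refine ⟨hfun ψ, hN ▸ mor_hfun hψ, fun x hx => ?_⟩
    have hx' : x ∈ extender S P φ := hN ▸ hf'.le_Next hx
    rw [hfun_of_mem _ hx', e' x hx hx', e]
  · obtain ⟨g, hg, e⟩ := h P (hfun φ) (mor_hfun hφ) ((img_hfun φ).trans hQ)
    rw [← extender_eq_Next (S := S) (φ := φ) (fun x => (hfun_coe φ x).symm)] at hg
    obtain ⟨ψ, hψ, e'⟩ := hg
    refine ⟨ψ, hψ, fun x hP hN => ?_⟩
    rw [e', e x hP, hfun_of_mem]

theorem IsReceptive.ext (h : F.IsReceptive Q) (hf : Mor F P f) (hQ : img f P = Q) :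
    ∃ g, Mor F (Next S P f) g ∧ ∀ x ∈ P, g x = f x := (isReceptive_iff.1 h).2 P f hf hQ

/-! ### normal, central, closed subgroups -/

theorem isNormal_iff : F.IsNormal Q ↔ Q ≤ S ∧ ∀ (P : Subgroup Ω) (f : Ω → Ω), Mor F P f →
    ∃ g, Mor F (P ⊔ Q) g ∧ (∀ x ∈ P, g x = f x) ∧ img g Q = Q := by
  refine and_congr_right fun _ => ⟨fun h P f hf => ?_, fun h P φ hφ => ?_⟩
  · obtain ⟨φ, hφ, e⟩ := hf
    obtain ⟨ψ, hψ, e', h2⟩ := h P φ hφ
    refine ⟨hfun ψ, mor_hfun hψ, fun x hx => ?_, ?_⟩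
    · rw [hfun_of_mem _ ((le_sup_left : P ≤ P ⊔ Q) hx), ← e ⟨x, hx⟩, ← e']; rfl
    · rw [img_eq_map le_sup_right (φ := ψ) (fun x => (hfun_coe ψ x).symm), h2]
  · obtain ⟨g, ⟨ψ, hψ, e⟩, e', h2⟩ := h P _ (mor_hfun hφ)
    refine ⟨ψ, hψ, fun x => ?_, ?_⟩
    · rw [e]; exact (e' x x.2).trans (hfun_coe _ _)
    · rw [← img_eq_map le_sup_right e, h2]

theorem isCentral_iff : F.IsCentral Q ↔ Q ≤ S ∧ ∀ (P : Subgroup Ω) (f : Ω → Ω), Mor F P f →
    ∃ g, Mor F (P ⊔ Q) g ∧ (∀ x ∈ P, g x = f x) ∧ ∀ x ∈ Q, g x = x := by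
  refine and_congr_right fun _ => ⟨fun h P f hf => ?_, fun h P φ hφ => ?_⟩
  · obtain ⟨φ, hφ, e⟩ := hf
    obtain ⟨ψ, hψ, e', h2⟩ := h P φ hφ
    refine ⟨hfun ψ, mor_hfun hψ, fun x hx => ?_, fun x hx => ?_⟩
    · rw [hfun_of_mem _ ((le_sup_left : P ≤ P ⊔ Q) hx), ← e ⟨x, hx⟩, ← e']; rfl
    · rw [hfun_of_mem _ ((le_sup_right : Q ≤ P ⊔ Q) hx)]; exact h2 ⟨x, hx⟩
  · obtain ⟨g, ⟨ψ, hψ, e⟩, e', h2⟩ := h P _ (mor_hfun hφ)
    refine ⟨ψ, hψ, fun x => ?_, fun x => ?_⟩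
    · rw [e]; exact (e' x x.2).trans (hfun_coe _ _)
    · rw [e]; exact h2 x x.2

theorem stronglyClosed_iff : F.StronglyClosed Q ↔ Q ≤ S ∧ ∀ (P : Subgroup Ω) (f : Ω → Ω),
    Mor F P f → ∀ x ∈ P, x ∈ Q → f x ∈ Q := by
  refine and_congr_right fun _ => ⟨fun h P f hf x hx hQ => ?_, fun h P hP φ hφ x => ?_⟩
  · obtain ⟨φ, hφ, e⟩ := hf.mono (inf_le_left : P ⊓ Q ≤ P)
    have := h _ inf_le_right φ hφ ⟨x, hx, hQ⟩
    rwa [e] at this
  · have := h P _ (mor_hfun hφ) x x.2 (hP x.2)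
    rwa [hfun_coe] at this

theorem StronglyClosed.mem (h : F.StronglyClosed Q) (hf : Mor F P f) {x : Ω} (hx : x ∈ P)
    (hQ : x ∈ Q) : f x ∈ Q := (stronglyClosed_iff.1 h).2 P f hf x hx hQ

theorem weaklyClosed_iff : F.WeaklyClosed Q ↔ Q ≤ S ∧ ∀ (f : Ω → Ω), Mor F Q f → img f Q = Q := by
  refine and_congr_right fun _ => ⟨fun h f hf => ?_, fun h φ hφ => ?_⟩
  · obtain ⟨φ, hφ, e⟩ := hf
    rw [img_eq_range e, h φ hφ]
  · rw [← img_hfun, h _ (mor_hfun hφ)]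

theorem isConjElt_iff {x y : Ω} :
    F.IsConjElt x y ↔ ∃ P f, Mor F P f ∧ x ∈ P ∧ f x = y := by
  constructor
  · rintro ⟨φ, hφ, e⟩
    exact ⟨_, _, mor_hfun hφ, Subgroup.mem_zpowers x, by rw [hfun_of_mem _ (Subgroup.mem_zpowers x), e]⟩
  · rintro ⟨P, f, hf, hx, rfl⟩
    obtain ⟨φ, hφ, e⟩ := hf.mono ((Subgroup.zpowers_le).2 hx)
    exact ⟨φ, hφ, e _⟩

/-! ### comparing and building systems -/

theorem le_iff_mor {E : FusionSystem S} : F ≤ E ↔ ∀ P f, Mor F P f → Mor E P f := by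
  constructor
  · rintro h P f ⟨φ, hφ, e⟩; exact ⟨φ, h P hφ, e⟩
  · intro h P φ hφ; exact mem_Hom_iff.2 (h P _ (mor_hfun hφ))

theorem isSubsystemOf_iff {T : Subgroup Ω} {E : FusionSystem T} :
    E.IsSubsystemOf F ↔ ∀ P f, Mor E P f → Mor F P f := by
  constructor
  · rintro h P f ⟨φ, hφ, e⟩; exact ⟨φ, h P hφ, e⟩
  · intro h P φ hφ; exact mem_Hom_iff.2 (h P _ (mor_hfun hφ))

theorem hom_eq_iff {T : Subgroup Ω} {E : FusionSystem T} :
    (∀ P, E.Hom P = F.Hom P) ↔ ∀ P f, Mor E P f ↔ Mor F P f := by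
  constructor
  · intro h P f; unfold Mor; rw [h P]
  · intro h P; ext φ; rw [mem_Hom_iff, mem_Hom_iff, h]

theorem sys_ext {E : FusionSystem S} (h : ∀ P f, Mor E P f ↔ Mor F P f) : E = F := by
  have := funext (hom_eq_iff.2 h)
  cases E; cases F; simp only at this; subst this; rfl

theorem sys_le_antisymm {E : FusionSystem S} (h1 : E ≤ F) (h2 : F ≤ E) : E = F :=
  sys_ext fun P f => ⟨le_iff_mor.1 h1 P f, le_iff_mor.1 h2 P f⟩

/-- Data for a fusion system over `T` given by a predicate on pairs (subgroup, function). -/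
structure SysData (T : Subgroup Ω) (M : Subgroup Ω → (Ω → Ω) → Prop) : Prop where
  le : ∀ {P f}, M P f → P ≤ T
  mem : ∀ {P f}, M P f → ∀ x ∈ P, f x ∈ T
  map_mul : ∀ {P f}, M P f → ∀ x ∈ P, ∀ y ∈ P, f (x * y) = f x * f y
  inj : ∀ {P f}, M P f → ∀ x ∈ P, ∀ y ∈ P, f x = f y → x = y
  congr : ∀ {P f g}, M P f → (∀ x ∈ P, f x = g x) → M P g
  conj : ∀ {P s}, P ≤ T → s ∈ T → M P (fun x => s * x * s⁻¹)
  comp : ∀ {P Q f g}, M P f → M Q g → (∀ x ∈ P, f x ∈ Q) → M P (fun x => g (f x))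
  inv : ∀ {P f}, M P f → ∃ g, M (img f P) g ∧ ∀ x ∈ P, g (f x) = x

/-- The homomorphism given by a function multiplicative on `P`. -/
def mkHom (P : Subgroup Ω) (f : Ω → Ω) (h : ∀ x ∈ P, ∀ y ∈ P, f (x * y) = f x * f y) : P →* Ω :=
  MonoidHom.mk' (fun x => f x) (fun x y => h x x.2 y y.2)

/-- The fusion system given by a `SysData`. -/
def SysData.sys {T : Subgroup Ω} {M : Subgroup Ω → (Ω → Ω) → Prop} (D : SysData T M) :
    FusionSystem T where
  Hom P := {φ | M P (hfun φ)}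
  le_of_mem h := ⟨D.le h, fun x => by rw [← hfun_coe]; exact D.mem h x x.2⟩
  injective_of_mem h a b e := Subtype.ext (D.inj h a a.2 b b.2 (by simpa using e))
  conj_mem hP hg := D.congr (D.conj hP hg) fun x hx => by rw [hfun_of_mem _ hx]; rfl
  comp_mem := by
    intro P Q φ ψ hφ hψ h
    refine D.congr (D.comp hφ hψ fun x hx => by rw [hfun_of_mem _ hx]; exact h _) fun x hx => ?_
    rw [hfun_of_mem _ hx, hfun_of_mem _ hx, hfun_of_mem _ (h _)]; rfl
  inv_mem := by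
    intro P φ hφ
    obtain ⟨g, hg, e⟩ := D.inv hφ
    rw [img_hfun] at hg
    refine ⟨mkHom _ g (D.map_mul hg), D.congr hg fun x hx => by rw [hfun_of_mem _ hx]; rfl,
      fun x => ?_⟩
    have := e x x.2
    rw [hfun_coe] at this
    exact this

theorem SysData.mor_iff {T : Subgroup Ω} {M : Subgroup Ω → (Ω → Ω) → Prop} (D : SysData T M) :
    Mor D.sys P f ↔ M P f := by
  constructor
  · rintro ⟨φ, hφ, e⟩
    exact D.congr hφ fun x hx => by rw [hfun_of_mem _ hx, e]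
  · intro h
    exact ⟨mkHom P f (D.map_mul h), D.congr h fun x hx => by rw [hfun_of_mem _ hx]; rfl,
      fun _ => rfl⟩

/-- Subsystem data: the multiplicativity and injectivity come from the big system. -/
theorem SysData.ofSub (F : FusionSystem S) {T : Subgroup Ω} {M : Subgroup Ω → (Ω → Ω) → Prop}
    (sub : ∀ {P f}, M P f → Mor F P f)
    (le : ∀ {P f}, M P f → P ≤ T)
    (mem : ∀ {P f}, M P f → ∀ x ∈ P, f x ∈ T)
    (congr : ∀ {P f g}, M P f → (∀ x ∈ P, f x = g x) → M P g)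
    (conj : ∀ {P s}, P ≤ T → s ∈ T → M P (fun x => s * x * s⁻¹))
    (comp : ∀ {P Q f g}, M P f → M Q g → (∀ x ∈ P, f x ∈ Q) → M P (fun x => g (f x)))
    (inv : ∀ {P f g}, M P f → Mor F (img f P) g → (∀ x ∈ P, g (f x) = x) → M (img f P) g) :
    SysData T M where
  le := le
  mem := mem
  map_mul h _ hx _ hy := (sub h).map_mul hx hy
  inj h _ hx _ hy e := (sub h).inj hx hy e
  congr := congr
  conj := conj
  comp := comp
  inv h := by
    obtain ⟨g, hg, e, -⟩ := (sub h).inv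
    exact ⟨g, inv h hg e, e⟩

/-! ### the concrete systems -/

theorem mor_group_iff {G : Type*} [Group G] {S P : Subgroup G} {f : G → G} :
    Mor (groupFusionSystem S) P f ↔
      P ≤ S ∧ (∀ x ∈ P, f x ∈ S) ∧ ∃ g : G, ∀ x ∈ P, f x = g * x * g⁻¹ := by
  constructor
  · rintro ⟨φ, ⟨h1, h2, g, h3⟩, e⟩
    exact ⟨h1, fun x hx => e ⟨x, hx⟩ ▸ h2 _, g, fun x hx => (e ⟨x, hx⟩).symm.trans (h3 _)⟩
  · rintro ⟨h1, h2, g, h3⟩
    refine ⟨conjHom P g, ⟨h1, fun x => ?_, g, fun _ => rfl⟩, fun x => (h3 x x.2).symm⟩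
    have := h2 x x.2
    rwa [h3 x x.2] at this

theorem mor_subgroup_iff {H T : Subgroup Ω} {hTH : T ≤ H} :
    Mor (fusionSystemOfSubgroup H T hTH) P f ↔
      P ≤ T ∧ (∀ x ∈ P, f x ∈ T) ∧ ∃ g ∈ H, ∀ x ∈ P, f x = g * x * g⁻¹ := by
  constructor
  · rintro ⟨φ, ⟨h1, h2, g, hg, h3⟩, e⟩
    exact ⟨h1, fun x hx => e ⟨x, hx⟩ ▸ h2 _, g, hg, fun x hx => (e ⟨x, hx⟩).symm.trans (h3 _)⟩
  · rintro ⟨h1, h2, g, hg, h3⟩
    refine ⟨conjHom P g, ⟨h1, fun x => ?_, g, hg, fun _ => rfl⟩, fun x => (h3 x x.2).symm⟩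
    have := h2 x x.2
    rwa [h3 x x.2] at this

theorem mor_inner_iff : Mor (innerFusionSystem S) P f ↔
    P ≤ S ∧ ∃ g ∈ S, ∀ x ∈ P, f x = g * x * g⁻¹ := by
  constructor
  · rintro ⟨φ, ⟨h1, g, hg, h3⟩, e⟩
    exact ⟨h1, g, hg, fun x hx => (e ⟨x, hx⟩).symm.trans (h3 _)⟩
  · rintro ⟨h1, g, hg, h3⟩
    exact ⟨conjHom P g, ⟨h1, g, hg, fun _ => rfl⟩, fun x => (h3 x x.2).symm⟩

theorem inner_le (F : FusionSystem S) : innerFusionSystem S ≤ F := by
  rw [le_iff_mor]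
  intro P f hf
  obtain ⟨h1, g, hg, e⟩ := mor_inner_iff.1 hf
  exact (mor_conj F h1 hg).congr fun x hx => (e x hx).symm

end Cfsg.Agent.Fusion
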