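import Cfsg.Agent.Lib.Fusion.Invariant

/-! Abstract lemmas on equivariant bundles over a set with a group action. -/

set_option autoImplicit false

namespace Cfsg.Agent.Fusion

universe u v

theorem exists_equiv_over {H X X' B : Type*} [Group H] (ρ : H →* Equiv.Perm X)
    (ρ' : H →* Equiv.Perm X') (σ : H →* Equiv.Perm B) (π : X → B) (π' : X' → B)
    (hπ : ∀ h x, π (ρ h x) = σ h (π x)) (hπ' : ∀ h x, π' (ρ' h x) = σ h (π' x))
    (tr : ∀ x y, π x = π y → ∃ h, ρ h x = y) (tr' : ∀ x y, π' x = π' y → ∃ h, ρ' h x = y)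
    (hex : ∀ b, ∃ x x', π x = b ∧ π' x' = b ∧ ∀ h, ρ h x = x ↔ ρ' h x' = x') :
    ∃ β : X ≃ X', (∀ x, π' (β x) = π x) ∧ ∀ h x, β (ρ h x) = ρ' h (β x) := by
  let s : Setoid B := ⟨fun a b => ∃ h, σ h a = b, fun a => ⟨1, by simp⟩,
    fun ⟨h, e⟩ => ⟨h⁻¹, by simp [← e]⟩, fun ⟨h, e⟩ ⟨k, e'⟩ => ⟨k * h, by simp [e, e']⟩⟩
  let r : B → B := fun b => (Quotient.mk s b).out
  have hr : ∀ b, ∃ h, σ h (r b) = b := fun b => Quotient.mk_out (s := s) b
  have hr' : ∀ h b, r (σ h b) = r b := fun h b => by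
    simp only [r]; congr 1; exact (Quotient.sound (s := s) ⟨h, rfl⟩).symm
  choose x₀ x₀' h1 h2 h3 using hex
  have e1 : ∀ x, ∃ h, ρ h (x₀ (r (π x))) = x := fun x => by
    obtain ⟨h, e⟩ := hr (π x)
    obtain ⟨k, ek⟩ := tr (ρ h (x₀ (r (π x)))) x (by rw [hπ, h1, e])
    exact ⟨k * h, by simpa using ek⟩
  have e2 : ∀ x, ∃ h, ρ' h (x₀' (r (π' x))) = x := fun x => by
    obtain ⟨h, e⟩ := hr (π' x)
    obtain ⟨k, ek⟩ := tr' (ρ' h (x₀' (r (π' x)))) x (by rw [hπ', h2, e])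
    exact ⟨k * h, by simpa using ek⟩
  choose t ht using e1
  have e3 : ∀ b h k, ρ h (x₀ b) = ρ k (x₀ b) ↔ ρ' h (x₀' b) = ρ' k (x₀' b) := fun b h k => by
    have := h3 b (k⁻¹ * h)
    simpa [Equiv.symm_apply_eq, Equiv.Perm.inv_eq_iff_eq] using this
  let β : X → X' := fun x => ρ' (t x) (x₀' (r (π x)))
  have hβ : ∀ x, π' (β x) = π x := fun x => by
    simp only [β]; rw [hπ', h2]
    conv_rhs => rw [← ht x, hπ, h1]
  have hβ' : ∀ h x, β (ρ h x) = ρ' h (β x) := fun h x => by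
    simp only [β]
    have e : r (π (ρ h x)) = r (π x) := by rw [hπ, hr']
    rw [e, ← Equiv.Perm.mul_apply, ← map_mul, ← e3, ← e, ht, e, map_mul, Equiv.Perm.mul_apply, ht]
  refine ⟨Equiv.ofBijective β ⟨fun x y e => ?_, fun y => ?_⟩, hβ, hβ'⟩
  · have e' : π x = π y := by rw [← hβ, e, hβ]
    simp only [β] at e
    rw [e', ← e3] at e
    rw [← ht x, e', e, ht]
  · obtain ⟨h, e⟩ := e2 y
    refine ⟨ρ h (x₀ (r (π' y))), ?_⟩
    rw [hβ']
    refine Eq.trans ?_ e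
    congr 1
    simp only [β]
    have e4 : r (r (π' y)) = r (π' y) := by
      obtain ⟨k, ek⟩ := hr (π' y)
      conv_rhs => rw [← ek, hr']
    have := ht (x₀ (r (π' y)))
    rw [h1, e4] at this
    rw [h1, e4]
    exact (h3 _ _).1 this

theorem exists_bundle {H : Type u} {B : Type u} [Group H] [Finite H] [Finite B]
    (σ : H →* Equiv.Perm B) (L : B → Subgroup H) (hL : ∀ b, ∀ h ∈ L b, σ h b = b) :
    ∃ (X : Type u) (_ : Finite X) (ρ : H →* Equiv.Perm X) (π : X → B),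
      (∀ h x, π (ρ h x) = σ h (π x)) ∧ (∀ b, ∃ x, π x = b) ∧
      (∀ x y, π x = π y → ∃ h, ρ h x = y) ∧
      ∀ x, ∃ b h, σ h b = π x ∧ ∀ k, ρ k x = x ↔ h⁻¹ * k * h ∈ L b := by
  let s : Setoid B := ⟨fun a b => ∃ h, σ h a = b, fun a => ⟨1, by simp⟩,
    fun ⟨h, e⟩ => ⟨h⁻¹, by simp [← e]⟩, fun ⟨h, e⟩ ⟨k, e'⟩ => ⟨k * h, by simp [e, e']⟩⟩
  let X := Σ o : Quotient s, H ⧸ L o.out
  let π : X → B := fun x => Quotient.liftOn' x.2 (fun h => σ h x.1.out) fun a b hab => by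
    have := hL _ _ (QuotientGroup.leftRel_apply.1 hab)
    rw [map_mul, Equiv.Perm.mul_apply, map_inv, Equiv.Perm.inv_eq_iff_eq] at this
    exact this.symm
  have hπ : ∀ (o : Quotient s) (h : H), π ⟨o, QuotientGroup.mk h⟩ = σ h o.out := fun _ _ => rfl
  have hρ : ∀ (k : H) (o : Quotient s) (h : H), MulAction.toPermHom H X k ⟨o, QuotientGroup.mk h⟩ =
      ⟨o, QuotientGroup.mk (k * h)⟩ := fun _ _ _ => rfl
  refine ⟨X, inferInstance, MulAction.toPermHom H X, π, ?_, fun b => ?_, ?_, ?_⟩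
  · rintro k ⟨o, q⟩
    induction q using QuotientGroup.induction_on with
    | H h => rw [hρ, hπ, hπ]; simp
  · obtain ⟨h, e⟩ := Quotient.mk_out (s := s) b
    exact ⟨⟨Quotient.mk s b, QuotientGroup.mk h⟩, e⟩
  · rintro ⟨o, q⟩ ⟨o', q'⟩ e
    induction q using QuotientGroup.induction_on with
    | H h =>
    induction q' using QuotientGroup.induction_on with
    | H h' =>
    rw [hπ, hπ] at e
    have : o = o' := by
      rw [← o.out_eq, ← o'.out_eq]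
      exact Quotient.sound (s := s) ⟨h'⁻¹ * h, by simp [e]⟩
    subst this
    exact ⟨h' * h⁻¹, by rw [hρ]; simp⟩
  · rintro ⟨o, q⟩
    induction q using QuotientGroup.induction_on with
    | H h =>
    refine ⟨o.out, h, rfl, fun k => ?_⟩
    rw [hρ, Sigma.mk.inj_iff, heq_eq_eq, eq_comm (b := QuotientGroup.mk h), QuotientGroup.eq]
    simp [mul_assoc]

end Cfsg.Agent.Fusion
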