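import Cfsg.Agent.Lib.Fusion.Yosh
import Cfsg.Prelude.Def_ConjugacyFunctors

/-! Conjugacy functors, conjugation families and well-placed subgroups in finite groups. -/

set_option autoImplicit false

namespace Cfsg.Agent.Fusion

open Cfsg Cfsg.FusionSystem

universe u v

section Ex

variable {Ω : Type u} [Group Ω] {S : Subgroup Ω} {F : FusionSystem S} {p : ℕ} [Fact p.Prime]
  [Finite S]

theorem alperin_ex (hS : IsPGroup p S) (hF : F.IsSaturated p) {E : FusionSystem S}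
    (h : ∀ P, P ≤ S → ∃ U, F.IsConj P U ∧ F.IsFullyNormalized U ∧
      ((U = S ∨ F.IsEssential p U) → F.autGroup U ≤ E.autGroup U)) : F.IsSubsystemOf E := by
  refine isSubsystemOf_iff.2 fun P f hf => downward_induction
    (C := fun P => ∀ f, Mor F P f → Mor E P f) (fun P hP ih f hf => ?_) P hf.le f hf
  obtain ⟨U, h1, h2, h3⟩ := h P hP
  rcases hP.eq_or_lt with rfl | hlt
  · obtain rfl : U = P := Subgroup.eq_of_le_of_card_ge h2.1 (isConj_card h1).le
    exact mor_top_of_autGroup_le (h3 (Or.inl rfl)) hf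
  have hc := isConj_card h1
  have h4 : F.autGroup U ≤ E.autGroup U := by
    have hU : U < S := h2.1.lt_of_ne fun e => (card_lt_of_lt hlt).ne (e ▸ hc)
    rcases essential_dichotomy hS hF hU h2 with h | h
    · exact h.2.ge.trans (extGen_le_of_ih (hc ▸ ih))
    · exact h3 (Or.inr h.1)
  have key : ∀ R, F.IsConj R U → ∃ g, Mor E R g ∧ Mor F R g ∧ img g R = U := fun R hR => by
    obtain ⟨g, hg, e⟩ := IsSaturated.exists_normalizer_mor hS hF h2 hR
    have h5 := isConj_le_left hR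
    have h6 : Nat.card R = Nat.card P := (isConj_card hR).trans hc.symm
    haveI : Finite (normalizerIn S R) := finite_of_le normalizerIn_le
    exact ⟨g, (ih _ normalizerIn_le (h6 ▸ card_lt_of_lt (lt_normalizerIn hS (h5.lt_of_ne fun e =>
      (card_lt_of_lt hlt).ne (e ▸ h6.symm)))) g hg).mono (le_normalizerIn h5),
      hg.mono (le_normalizerIn h5), e⟩
  obtain ⟨a, ha, ha', ea⟩ := key P h1
  obtain ⟨b, hb, hb', eb⟩ := key _ (isConj_trans (isConj_symm hf.isConj) h1)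
  obtain ⟨a', h5, a1, a2, -, a4⟩ := ha'.inv' ea
  obtain ⟨b', h6, b1, -⟩ := hb.inv' eb
  have h7 := (h5.comp hf a2).comp hb' fun x hx => subset_img (a2 x hx)
  haveI : Finite U := finite_of_le h2.1
  obtain ⟨α, hα, e⟩ := h7.exists_aut (h7.img_eq_self fun x hx => eb ▸ subset_img (subset_img (a2 x hx)))
  refine ((ha.comp ((mem_autGroup h2.1).1 (h4 hα)) fun x hx => ea ▸ subset_img hx).comp h6
    fun x hx => afun_mem _ (ea ▸ subset_img hx)).congr fun x hx => ?_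
  rw [e _ (ea ▸ subset_img hx), a1 x hx, b1 _ (subset_img hx)]

end Ex

variable {G : Type u} [Group G] {S T H P Q A U : Subgroup G} {p : ℕ} {W : Subgroup G → Subgroup G}
  {𝓦 : Set (Subgroup G → Subgroup G)}

theorem mem_map_conj {g x : G} : x ∈ P.map (MulAut.conj g).toMonoidHom ↔ g⁻¹ * x * g ∈ P := by
  rw [← img_conj, mem_img_conj]

theorem cf_img {F : FusionSystem S} (hW : IsConjugacyFunctor p W) (hS : IsPGroup p S)
    (hF : F.IsSubsystemOf (groupFusionSystem S)) {f : G → G} (hf : Mor F T f) :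
    img f (W T) = W (img f T) := by
  obtain ⟨h1, -, g, e⟩ := mor_group_iff.1 (isSubsystemOf_iff.1 hF _ _ hf)
  have h := hW T (pgroup_of_le hS h1)
  rw [img_congr e, img_congr fun x hx => e x (h.1 hx), img_conj, img_conj, h.2.2]

theorem cf_normalizer (hW : IsConjugacyFunctor p W) (hT : IsPGroup p T) :
    Subgroup.normalizer (T : Set G) ≤ Subgroup.normalizer (W T : Set G) := fun g hg => by
  have := (hW T hT).2.2 g
  rw [show T.map (MulAut.conj g).toMonoidHom = T from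
    Subgroup.mem_normalizer_iff_map_conj_eq.1 hg] at this
  exact Subgroup.mem_normalizer_iff_map_conj_eq.2 this.symm

theorem mem_cf_conj (hW : IsConjugacyFunctor p W) (hT : IsPGroup p T) {c n : G}
    (hn : n ∈ Subgroup.normalizer (W T : Set G)) :
    c * n * c⁻¹ ∈ Subgroup.normalizer (W (T.map (MulAut.conj c).toMonoidHom) : Set G) :=
  (hW T hT).2.2 c ▸ mem_normalizer_map_conj hn

/-- chains of conjugations inside members of `𝒩` keeping `A` in `T` -/
inductive Chain (𝒩 : G → Prop) (T : Subgroup G) (A : Set G) : G → Prop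
  | one : Chain 𝒩 T A 1
  | step {c n : G} : Chain 𝒩 T A c → 𝒩 n → (∀ a ∈ A, n * c * a * (n * c)⁻¹ ∈ T) → Chain 𝒩 T A (n * c)

variable {𝒩 : G → Prop} {X Y : Set G} {c d : G}

theorem Chain.mem (h : Chain 𝒩 T X c) (hX : X ⊆ T) : ∀ a ∈ X, c * a * c⁻¹ ∈ T := by
  cases h with
  | one => exact fun a ha => by simpa using hX ha
  | step _ _ h => exact h

theorem Chain.mono (h : Chain 𝒩 T Y c) (hX : X ⊆ Y) : Chain 𝒩 T X c := by
  induction h with
  | one => exact .one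
  | step _ h1 h2 ih => exact ih.step h1 fun a ha => h2 a (hX ha)

theorem Chain.trans (h : Chain 𝒩 T X c) (h' : Chain 𝒩 T Y d) (e : ∀ a ∈ X, c * a * c⁻¹ ∈ Y) :
    Chain 𝒩 T X (d * c) := by
  induction h' with
  | one => simpa using h
  | step _ h1 h2 ih =>
    rw [mul_assoc]
    exact ih.step h1 fun a ha => by simpa [mul_assoc] using h2 _ (e a ha)

theorem Chain.symm (h : Chain 𝒩 T X c) (hX : X ⊆ T) (hi : ∀ n, 𝒩 n → 𝒩 n⁻¹) :
    Chain 𝒩 T ((fun a => c * a * c⁻¹) '' X) c⁻¹ := by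
  induction h with
  | one => simpa using .one
  | @step c n h0 h1 h2 ih =>
    rw [mul_inv_rev]
    refine ((Chain.one.step (hi n h1) ?_).trans ih ?_).mono le_rfl |> fun h => by simpa using h
    · rintro _ ⟨a, ha, rfl⟩; simpa [mul_assoc] using h0.mem hX a ha
    · rintro _ ⟨a, ha, rfl⟩; exact ⟨a, ha, by simp [mul_assoc]⟩

theorem Chain.closure (h : Chain 𝒩 T X c) : Chain 𝒩 T (Subgroup.closure X : Subgroup G) c := by
  induction h with
  | one => exact .one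
  | @step c n _ h1 h2 ih =>
    exact ih.step h1 fun a ha => (Subgroup.closure_le (T.comap (MulAut.conj (n * c)).toMonoidHom)).2
      h2 ha

theorem Chain.conj (h : Chain 𝒩 T X c) {𝒩' : G → Prop} (g : G) (hn : ∀ n, 𝒩 n → 𝒩' (g * n * g⁻¹)) :
    Chain 𝒩' (T.map (MulAut.conj g).toMonoidHom) ((fun a => g * a * g⁻¹) '' X) (g * c * g⁻¹) := by
  induction h with
  | one => simpa using .one
  | @step c n _ h1 h2 ih =>
    rw [show g * (n * c) * g⁻¹ = g * n * g⁻¹ * (g * c * g⁻¹) by group]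
    refine ih.step (hn n h1) ?_
    rintro _ ⟨a, ha, rfl⟩
    exact mem_map_conj.2 (by simpa [mul_assoc] using h2 a ha)

theorem Chain.mor (h : Chain 𝒩 T A c) {E : FusionSystem S} (hA : A ≤ T) (hT : T ≤ S)
    (hE : ∀ n, 𝒩 n → ∀ B ≤ T, (∀ x ∈ B, n * x * n⁻¹ ∈ T) → Mor E B fun x => n * x * n⁻¹) :
    Mor E A fun x => c * x * c⁻¹ := by
  induction h with
  | one => simpa using mor_id E (hA.trans hT)
  | @step c n h0 h1 h2 ih =>
    refine (ih.comp (hE n h1 _ (img_le_iff.2 (h0.mem hA)) fun y hy => ?_)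
      fun x hx => subset_img hx).congr fun x _ => by group
    obtain ⟨x, hx, rfl⟩ := ih.mem_img.1 hy
    simpa [mul_assoc] using h2 x hx

theorem chain_iff (hX : X ⊆ T) : Chain 𝒩 T X d ↔ ∃ (n : ℕ) (c : Fin (n + 1) → G), c 0 = 1 ∧
    (∀ i : Fin n, 𝒩 (c i.succ * (c i.castSucc)⁻¹)) ∧
    (∀ i : Fin (n + 1), (fun a => c i * a * (c i)⁻¹) '' X ⊆ T) ∧ c (Fin.last n) = d := by
  constructor
  · intro h
    induction h with
    | one => exact ⟨0, fun _ => 1, rfl, fun i => i.elim0, fun _ => by simpa using hX, rfl⟩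
    | @step d m _ h1 h2 ih =>
      obtain ⟨n, c, a1, a2, a3, rfl⟩ := ih
      refine ⟨n + 1, Fin.snoc c (m * c (Fin.last n)), by simpa using a1, fun i => ?_, fun i => ?_,
        by simp⟩
      · refine Fin.lastCases (by simpa using h1) (fun i => ?_) i
        rw [Fin.succ_castSucc, Fin.snoc_castSucc, Fin.snoc_castSucc]; exact a2 i
      · refine Fin.lastCases ?_ (fun i => by simpa using a3 i) i
        rw [Fin.snoc_last]; rintro _ ⟨a, ha, rfl⟩; exact h2 a ha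
  · rintro ⟨n, c, a1, a2, a3, rfl⟩
    have : ∀ i, Chain 𝒩 T X (c i) := fun i => by
      induction i using Fin.induction with
      | zero => exact a1 ▸ .one
      | succ i ih =>
        simpa using ih.step (a2 i) fun a ha => by simpa using a3 i.succ ⟨a, ha, rfl⟩
    exact this _

/-- the elements of the local subgroups `N_H(W T)` -/
def FamN (𝓦 : Set (Subgroup G → Subgroup G)) (H T : Subgroup G) (n : G) : Prop :=
  ∃ W ∈ 𝓦, n ∈ H ⊓ Subgroup.normalizer (W T : Set G)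

/-- control of strong fusion at the Sylow subgroup `T` -/
def SFC (𝒩 : G → Prop) (H T : Subgroup G) : Prop :=
  ∀ A ≤ T, ∀ h ∈ H, (∀ a ∈ A, h * a * h⁻¹ ∈ T) →
    ∃ c, Chain 𝒩 T A c ∧ ∀ a ∈ A, c * a * c⁻¹ = h * a * h⁻¹

theorem SFC.set (h : SFC 𝒩 H T) (hX : X ⊆ T) {g : G} (hg : g ∈ H) (e : ∀ a ∈ X, g * a * g⁻¹ ∈ T) :
    ∃ c, Chain 𝒩 T X c ∧ ∀ a ∈ X, c * a * c⁻¹ = g * a * g⁻¹ := by
  obtain ⟨c, h1, h2⟩ := h _ ((Subgroup.closure_le T).2 hX) g hg fun a ha =>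
    (Subgroup.closure_le (T.comap (MulAut.conj g).toMonoidHom)).2 e ha
  exact ⟨c, h1.mono Subgroup.subset_closure, fun a ha => h2 a (Subgroup.subset_closure ha)⟩

theorem SFC.conj (h : SFC 𝒩 H T) {𝒩' : G → Prop} {g : G} (hg : g ∈ H)
    (hn : ∀ n, 𝒩 n → 𝒩' (g * n * g⁻¹)) : SFC 𝒩' H (T.map (MulAut.conj g).toMonoidHom) :=
  fun A hA k hk e => by
    obtain ⟨c, h1, h2⟩ := h (A.map (MulAut.conj g⁻¹).toMonoidHom) (by
      rintro _ ⟨a, ha, rfl⟩; simpa using mem_map_conj.1 (hA ha)) (g⁻¹ * k * g)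
      (mul_mem (mul_mem (inv_mem hg) hk) hg) (by
        rintro _ ⟨a, ha, rfl⟩; simpa [mul_assoc] using mem_map_conj.1 (e a ha))
    refine ⟨_, (h1.conj g hn).mono fun a ha => ⟨_, ⟨a, ha, rfl⟩, by simp [mul_assoc]⟩, fun a ha => ?_⟩
    have := congrArg (fun x => g * x * g⁻¹) (h2 _ ⟨a, ha, rfl⟩)
    simpa [mul_assoc] using this

theorem SFC.mor (h : SFC 𝒩 H T) {E : FusionSystem S} (hT : T ≤ S)
    (hE : ∀ n, 𝒩 n → ∀ B ≤ T, (∀ x ∈ B, n * x * n⁻¹ ∈ T) → Mor E B fun x => n * x * n⁻¹)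
    (hA : A ≤ T) {g : G} (hg : g ∈ H) (e : ∀ a ∈ A, g * a * g⁻¹ ∈ T) :
    Mor E A fun x => g * x * g⁻¹ := by
  obtain ⟨c, h1, h2⟩ := h A hA g hg e
  exact (h1.mor hA hT hE).congr h2

theorem chainData (hi : ∀ n, 𝒩 n → 𝒩 n⁻¹) (hs : ∀ s ∈ S, 𝒩 s ∨ s ∈ centralizerIn S S) :
    SysData S fun P f => P ≤ S ∧ ∃ c, Chain 𝒩 S P c ∧ ∀ x ∈ P, f x = c * x * c⁻¹ :=
  SysData.ofSub (groupFusionSystem S)
    (fun ⟨h, c, h1, e⟩ => mor_group_iff.2 ⟨h, fun x hx => e x hx ▸ h1.mem h x hx, c, e⟩)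
    (fun h => h.1) (fun ⟨h, _, h1, e⟩ x hx => e x hx ▸ h1.mem h x hx)
    (fun ⟨h, c, h1, e⟩ e' => ⟨h, c, h1, fun x hx => e' x hx ▸ e x hx⟩)
    (fun {P s} hP hs' => ⟨hP, (hs s hs').elim (fun h => ⟨_, Chain.one.step h fun a ha => by
      simpa using mul_mem (mul_mem hs' (hP ha)) (inv_mem hs'), by simp⟩) fun h =>
        ⟨1, .one, fun x hx => by simpa using (mem_centralizerIn.1 h).2 x (hP hx)⟩⟩)
    (fun ⟨h, c, h1, e⟩ ⟨_, d, h2, e'⟩ hm => ⟨h, _, h1.trans h2 fun a ha => e a ha ▸ hm a ha,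
      fun x hx => by beta_reduce; rw [e' _ (hm x hx), e x hx]; group⟩)
    fun ⟨h, c, h1, e⟩ h' e' => ⟨h'.le, _, (h1.symm h hi).mono fun y hy => by
      rw [img_congr e, SetLike.mem_coe, mem_img_conj] at hy
      exact ⟨_, hy, by group⟩, fun y hy => by
        rw [img_congr e, mem_img_conj] at hy
        rw [inv_inv, ← e' _ hy, e _ hy]; congr 1; group⟩

theorem sfc_of_sub (hi : ∀ n, 𝒩 n → 𝒩 n⁻¹) (hs : ∀ s ∈ S, 𝒩 s ∨ s ∈ centralizerIn S S) (hS : S ≤ H)
    (h : ∀ E : FusionSystem S, (∀ n, 𝒩 n → ∀ B ≤ S, (∀ x ∈ B, n * x * n⁻¹ ∈ S) →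
      Mor E B fun x => n * x * n⁻¹) → (fusionSystemOfSubgroup H S hS).IsSubsystemOf E) :
    SFC 𝒩 H S := fun A hA g hg e => by
  obtain ⟨-, c, h1, h2⟩ := (SysData.mor_iff _).1 (isSubsystemOf_iff.1 (h (chainData hi hs).sys
    fun n hn B hB e => (SysData.mor_iff _).2 ⟨hB, _, Chain.one.step hn (by simpa using e), by simp⟩)
    _ _ (mor_sub_conj hS hA hg e))
  exact ⟨c, h1, fun a ha => (h2 a ha).symm⟩

variable [hp : Fact p.Prime] [Finite G]

theorem SylowIn.exists_conj_eq (hT : SylowIn p T H) (hU : SylowIn p U H) :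
    ∃ c ∈ H, U.map (MulAut.conj c).toMonoidHom = T := by
  obtain ⟨c, hc, e⟩ := hT.conj hU.le hU.pgroup
  refine ⟨c, hc, Subgroup.eq_of_le_of_card_ge (by rintro _ ⟨x, hx, rfl⟩; exact e x hx) ?_⟩
  rw [Subgroup.card_map_of_injective (MulEquiv.injective _), hT.card_eq, hU.card_eq]

theorem fsfc_iff (h𝓦 : ∀ W ∈ 𝓦, IsConjugacyFunctor p W) (hT : SylowIn p T H) :
    FamilyControlsStrongFusionIn p 𝓦 H ↔ SFC (FamN 𝓦 H T) H T := by
  refine ⟨fun ⟨U, h1, h2, h3, h⟩ => ?_, fun h => ⟨T, hT.le, hT.pgroup, hT.not_dvd_relIndex,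
    fun X g hg hX e => ?_⟩⟩
  · obtain ⟨c, hc, rfl⟩ := hT.exists_conj_eq (sylowIn_of_not_dvd_relIndex h1 h2 h3)
    refine SFC.conj (𝒩 := FamN 𝓦 H U) (fun A hA g hg e => ?_) hc fun n ⟨W, hW, hn⟩ =>
      ⟨W, hW, H.mul_mem (H.mul_mem hc hn.1) (H.inv_mem hc), mem_cf_conj (h𝓦 W hW) h2 hn.2⟩
    obtain ⟨n, c, a1, a2, a3, a4⟩ := h A g hg hA (by rintro _ ⟨a, ha, rfl⟩; exact e a ha)
    exact ⟨_, (chain_iff hA).2 ⟨n, c, a1, a2, a3, rfl⟩, a4⟩
  · obtain ⟨c, h1, h2⟩ := h.set hX hg fun a ha => e ⟨a, ha, rfl⟩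
    obtain ⟨n, c, a1, a2, a3, rfl⟩ := (chain_iff hX).1 h1
    exact ⟨n, c, a1, a2, a3, h2⟩

omit hp [Finite G] in
theorem Chain.mem_subgroup (h : Chain 𝒩 T X c) (hn : ∀ n, 𝒩 n → n ∈ H) : c ∈ H := by
  induction h with
  | one => exact one_mem _
  | step _ h1 _ ih => exact mul_mem (hn _ h1) ih

omit hp [Finite G] in
theorem sfc_single : SFC (FamN {W} H T) H T ↔ ∀ A ≤ T, ∀ h ∈ H, (∀ a ∈ A, h * a * h⁻¹ ∈ T) →
    ∃ n ∈ H ⊓ Subgroup.normalizer (W T : Set G), ∀ a ∈ A, n * a * n⁻¹ = h * a * h⁻¹ := by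
  refine forall₂_congr fun A _ => forall₃_congr fun h _ e => ⟨fun ⟨c, h1, h2⟩ =>
    ⟨c, h1.mem_subgroup fun n ⟨_, hW, hn⟩ => hW ▸ hn, h2⟩, fun ⟨n, h1, h2⟩ =>
      ⟨_, Chain.one.step ⟨W, rfl, h1⟩ fun a ha => ?_, by simpa using h2⟩⟩
  rw [mul_one, h2 a ha]; exact e a ha

omit hp [Finite G] in
theorem csf_iff_fam : ControlsStrongFusionIn p W H ↔ FamilyControlsStrongFusionIn p {W} H := by
  refine exists_congr fun T => and_congr_right fun _ => and_congr_right fun _ => and_congr_right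
    fun _ => forall₅_congr fun X g hg hX e => ⟨fun ⟨n, h1, h2⟩ => ?_, fun ⟨n, c, a1, a2, a3, a4⟩ =>
      ⟨_, ((chain_iff (𝒩 := FamN {W} H T) hX).2 ⟨n, c, a1, a2, a3, rfl⟩).mem_subgroup
        fun n ⟨_, hW, hn⟩ => hW ▸ hn, a4⟩⟩
  obtain ⟨n, c, a1, a2, a3, a4⟩ := (chain_iff hX).1 (Chain.one.step (𝒩 := FamN {W} H T) ⟨W, rfl, h1⟩
    fun a ha => by rw [mul_one, h2 a ha]; exact e ⟨a, ha, rfl⟩)
  exact ⟨n, c, a1, a2, a3, by simpa [a4] using h2⟩

theorem csf_iff (hW : IsConjugacyFunctor p W) (hT : SylowIn p T H) :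
    ControlsStrongFusionIn p W H ↔ ∀ A ≤ T, ∀ h ∈ H, (∀ a ∈ A, h * a * h⁻¹ ∈ T) →
    ∃ n ∈ H ⊓ Subgroup.normalizer (W T : Set G), ∀ a ∈ A, n * a * n⁻¹ = h * a * h⁻¹ := by
  rw [csf_iff_fam, fsfc_iff (𝓦 := {W}) (fun _ h => h ▸ hW) hT, sfc_single]

/-- the join of the local focal subgroups -/
def famFoc (𝓦 : Set (Subgroup G → Subgroup G)) (H T : Subgroup G) : Subgroup G :=
  ⨆ W ∈ 𝓦, T ⊓ ⁅H ⊓ Subgroup.normalizer (W T : Set G), H ⊓ Subgroup.normalizer (W T : Set G)⁆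

omit hp [Finite G] in
theorem famFoc_le : famFoc 𝓦 H T ≤ T ⊓ ⁅H, H⁆ :=
  iSup₂_le fun _ _ => inf_le_inf_left _ (Subgroup.commutator_mono inf_le_left inf_le_left)

theorem fct_iff (h𝓦 : ∀ W ∈ 𝓦, IsConjugacyFunctor p W) (hT : SylowIn p T H) :
    FamilyControlsTransferIn p 𝓦 H ↔ T ⊓ ⁅H, H⁆ ≤ famFoc 𝓦 H T := by
  refine ⟨fun ⟨U, h1, h2, h3, h⟩ => ?_, fun h => ⟨T, hT.le, hT.pgroup, hT.not_dvd_relIndex,
    le_antisymm h famFoc_le⟩⟩
  obtain ⟨c, hc, rfl⟩ := hT.exists_conj_eq (sylowIn_of_not_dvd_relIndex h1 h2 h3)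
  have hH : H.map (MulAut.conj c).toMonoidHom = H :=
    Subgroup.mem_normalizer_iff_map_conj_eq.1 (Subgroup.le_normalizer hc)
  conv_lhs => rw [← hH, ← Subgroup.map_commutator, ← Subgroup.map_inf _ _ _ (MulEquiv.injective _), h]
  simp only [Subgroup.map_iSup]
  refine iSup₂_mono fun W hW => (Subgroup.map_inf_le _ _ _).trans (inf_le_inf_left _ ?_)
  have : (H ⊓ Subgroup.normalizer (W U : Set G)).map (MulAut.conj c).toMonoidHom ≤
      H ⊓ Subgroup.normalizer (W (U.map (MulAut.conj c).toMonoidHom) : Set G) := by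
    rintro _ ⟨n, hn, rfl⟩
    exact ⟨H.mul_mem (H.mul_mem hc hn.1) (H.inv_mem hc), mem_cf_conj (h𝓦 W hW) h2 hn.2⟩
  rw [Subgroup.map_commutator]; exact Subgroup.commutator_mono this this

omit hp [Finite G] in
theorem ct_iff_fam : ControlsTransferIn p W H ↔ FamilyControlsTransferIn p {W} H := by
  simp [ControlsTransferIn, FamilyControlsTransferIn]

theorem ct_iff (hW : IsConjugacyFunctor p W) (hT : SylowIn p T H) : ControlsTransferIn p W H ↔
    T ⊓ ⁅H, H⁆ ≤ ⁅H ⊓ Subgroup.normalizer (W T : Set G), H ⊓ Subgroup.normalizer (W T : Set G)⁆ := by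
  rw [ct_iff_fam, fct_iff (𝓦 := {W}) (fun _ h => h ▸ hW) hT]; simp [famFoc]

theorem fullyNormalized_group_iff (hS : SylowIn p S ⊤) (hP : P ≤ S) :
    (groupFusionSystem S).IsFullyNormalized P ↔
      SylowIn p (normalizerIn S P) (Subgroup.normalizer (P : Set G)) := by
  rw [groupFusionSystem_eq, fullyNormalized_sub_iff hS hP, normalizerIn, normalizerIn, top_inf_eq]

theorem group_sat (hS : SylowIn p S ⊤) : (groupFusionSystem S).IsSaturated p :=
  groupFusionSystem_eq S ▸ sub_saturated hS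

theorem group_free (hS : SylowIn p S ⊤) {K : Type*} [Group K] (h : ¬ Involves K G) :
    (groupFusionSystem S).IsSectionFree p K := fun Q hQ hc N hN L _ ι hL hi => by
  have h1 := (fullyNormalized_group_iff hS hQ.1).1 hQ
  let j := Subgroup.inclusion h1.le
  have h2 : N.IsRealizedBy j := isRealizedBy_iff.2 ⟨Subgroup.inclusion_injective _,
    fun P f hP hm => ⟨fun hf => ?_, fun ⟨g, e⟩ => ?_⟩⟩
  rotate_left
  · obtain ⟨k, hk, e1, e2⟩ := normSys_ext hN hf
    obtain ⟨-, -, g, e⟩ := mor_group_iff.1 hk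
    refine ⟨⟨g, mem_normalizer_of_finite fun x hx => e x (Subgroup.mem_sup_right hx) ▸ e2 ▸
      subset_img hx⟩, fun x hx => Subtype.ext ?_⟩
    simp only [j, Subgroup.coe_mul, Subgroup.coe_inv, coe_ap_inclusion _ (hP hx),
      coe_ap_inclusion _ (hm x hx)]
    rw [← e1 x hx, e x (Subgroup.mem_sup_left hx)]
  · have e' : ∀ x ∈ P, f x = g * x * g.1⁻¹ := fun x hx => by
      simpa [j, coe_ap_inclusion _ (hP hx), coe_ap_inclusion _ (hm x hx)] using
        congrArg Subtype.val (e x hx)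
    refine (normSys_mor_of hN hP (U := P ⊔ Q) (g := fun x => g * x * g.1⁻¹) (mor_group_iff.2
      ⟨sup_le (hP.trans normalizerIn_le) hQ.1, fun x hx => (sup_le
        (c := S.comap (MulAut.conj g.1).toMonoidHom) (fun x hx => (e' x hx ▸ hm x hx).1)
        (fun x hx => hQ.1 (conj_mem_of_mem_normalizer g.2 hx))) hx, g, fun _ _ => rfl⟩)
      le_sup_left le_sup_right ?_).congr fun x hx => (e' x hx).symm
    rw [img_conj]; exact Subgroup.mem_normalizer_iff_map_conj_eq.1 g.2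
  have h3 : SylowIn p j.range ⊤ := by
    simpa [j, Subgroup.inclusion_range] using h1.subgroupOf le_rfl
  let π := QuotientGroup.mk' (pPrimeCore p (Subgroup.normalizer (Q : Set G)))
  have h4 := IsRealizedBy.surj_quot h2 h3 π (QuotientGroup.mk'_surjective _)
  have h5 : Function.Injective (π.comp j) := (injective_iff_map_eq_one _).2 fun a ha =>
    Subgroup.inclusion_injective h1.le (by
      obtain ⟨n, hn⟩ := IsPGroup.iff_card.1 h3.pgroup
      have := Solv.inf_eq_bot_of_coprime' (H := j.range) (K := pPrimeCore p _) (hn ▸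
        (hp.out.coprime_iff_not_dvd.2 Solv.not_dvd_card_pPrimeCore).pow_left n)
      exact (Subgroup.mem_bot.1 (this.le ⟨⟨a, rfl⟩, (QuotientGroup.eq_one_iff _).1 ha⟩)).trans
        (map_one j).symm)
  rw [MonoidHom.map_range] at h4
  have h6 : SylowIn p (π.comp j).range ⊤ := by
    have := h3.map π
    rwa [Subgroup.map_top_of_surjective _ (QuotientGroup.mk'_surjective _), MonoidHom.map_range]
      at this
  have h7 : (imageAlong (π.comp j) Q).Normal := by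
    rw [imageAlong, ← Subgroup.map_map]
    refine Subgroup.Normal.map ⟨?_⟩ _ (QuotientGroup.mk'_surjective _)
    rintro _ ⟨x, hx, rfl⟩ g
    have := conj_mem_of_mem_normalizer g.2 hx
    exact ⟨⟨_, le_normalizerIn hQ.1 this⟩, this, rfl⟩
  obtain ⟨φ, -⟩ := IsModel.exists_equiv h1.pgroup hL ⟨inferInstance, isRealizedBy_iff_iso.2 ⟨h4, h5⟩,
    h6.exists_sylow_top, char_of_normal h7 (pgroup_of_le h6.pgroup imageAlong_le_range)
      (centralizer_le_of_pPrimeCore Solv.pPrimeCore_quotient_pPrimeCore h6 h7 (by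
        rw [← imageAlong_centralizerIn h5 rfl (le_normalizerIn hQ.1)]
        exact imageAlong_mono ((centralizerIn_mono normalizerIn_le).trans (IsCentric.cent_le hc))))⟩
  exact h (Involves.of_injective (Involves.of_surjective (Involves.of_injective hi φ φ.injective) π
    (QuotientGroup.mk'_surjective _)) _ (Subgroup.subtype_injective _))

theorem group_Free (hS : SylowIn p S ⊤) {G₀ : Type*} [Group G₀] (h : Involves G G₀) :
    Free p (fun (K : Type v) _ => ¬ Involves K G₀) (groupFusionSystem S) :=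
  fun _ _ hK => group_free hS fun h' => hK (Involves.trans h' h)

end Cfsg.Agent.Fusion
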