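import Cfsg.Agent.Lib.Fusion.CFun

/-! Conjugation families, well-placed subgroups, local-to-global control. -/

set_option autoImplicit false

namespace Cfsg.Agent.Fusion

open Cfsg Cfsg.FusionSystem

universe u v

variable {G : Type u} [Group G] {S T H P Q A U : Subgroup G} {p : ℕ} {W : Subgroup G → Subgroup G}
  {𝓦 : Set (Subgroup G → Subgroup G)} {𝓕 : Set (Subgroup G)} {X Y : Set G} {c d : G}

/-- step by step conjugation inside normalizers of members of `𝓕` -/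
inductive CF (𝓕 : Set (Subgroup G)) (X : Set G) : G → Prop
  | one : CF 𝓕 X 1
  | step {c n : G} {T : Subgroup G} : CF 𝓕 X c → T ∈ 𝓕 → n ∈ Subgroup.normalizer (T : Set G) →
      (∀ a ∈ X, c * a * c⁻¹ ∈ T) → CF 𝓕 X (n * c)

theorem CF.mono (h : CF 𝓕 Y c) (hX : X ⊆ Y) : CF 𝓕 X c := by
  induction h with
  | one => exact .one
  | step _ h1 h2 h3 ih => exact ih.step h1 h2 fun a ha => h3 a (hX ha)

theorem CF.trans (h : CF 𝓕 X c) (h' : CF 𝓕 Y d) (e : ∀ a ∈ X, c * a * c⁻¹ ∈ Y) :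
    CF 𝓕 X (d * c) := by
  induction h' with
  | one => simpa using h
  | step _ h1 h2 h3 ih =>
    rw [mul_assoc]
    exact ih.step h1 h2 fun a ha => by simpa [mul_assoc] using h3 _ (e a ha)

theorem CF.symm (h : CF 𝓕 X c) : CF 𝓕 ((fun a => c * a * c⁻¹) '' X) c⁻¹ := by
  induction h with
  | one => simpa using .one
  | @step c n T h0 h1 h2 h3 ih =>
    rw [mul_inv_rev]
    refine ((CF.one.step h1 (inv_mem h2) ?_).trans ih ?_) |> fun h => by simpa using h
    · rintro _ ⟨a, ha, rfl⟩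
      simpa [mul_assoc] using conj_mem_of_mem_normalizer h2 (h3 a ha)
    · rintro _ ⟨a, ha, rfl⟩; exact ⟨a, ha, by simp [mul_assoc]⟩

theorem CF.mem (h : CF 𝓕 X c) (hX : X ⊆ S) (h𝓕 : ∀ T ∈ 𝓕, T ≤ S) : ∀ a ∈ X, c * a * c⁻¹ ∈ S := by
  cases h with
  | one => exact fun a ha => by simpa using hX ha
  | step _ h1 h2 h3 =>
    exact fun a ha => by simpa [mul_assoc] using h𝓕 _ h1 (conj_mem_of_mem_normalizer h2 (h3 a ha))

theorem CF.mor (h : CF 𝓕 A c) {E : FusionSystem S} (hA : A ≤ S)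
    (hE : ∀ T ∈ 𝓕, ∀ n ∈ Subgroup.normalizer (T : Set G), Mor E T fun x => n * x * n⁻¹) :
    Mor E A fun x => c * x * c⁻¹ := by
  induction h with
  | one => simpa using mor_id E hA
  | step h0 h1 h2 h3 ih => exact (ih.comp (hE _ h1 _ h2) h3).congr fun x _ => by group

theorem CF.list (h : CF 𝓕 X c) : ∃ (n : ℕ) (T : Fin n → Subgroup G) (x : Fin n → G),
    (List.ofFn x).prod = c⁻¹ ∧ (∀ i, T i ∈ 𝓕) ∧ (∀ i, x i ∈ Subgroup.normalizer (T i : Set G)) ∧
    ∀ i : Fin n, (fun a => (((List.ofFn x).take i).prod)⁻¹ * a * ((List.ofFn x).take i).prod) '' X ⊆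
      T i := by
  induction h with
  | one => exact ⟨0, Fin.elim0, Fin.elim0, by simp, fun i => i.elim0, fun i => i.elim0,
      fun i => i.elim0⟩
  | @step c m U _ h1 h2 h3 ih =>
    obtain ⟨n, T, x, a1, a2, a3, a4⟩ := ih
    have e : List.ofFn (Fin.snoc (α := fun _ => G) x m⁻¹) = List.ofFn x ++ [m⁻¹] := by
      rw [List.ofFn_succ', List.concat_eq_append]; simp
    refine ⟨n + 1, Fin.snoc T U, Fin.snoc x m⁻¹, by rw [e]; simp [a1], fun i => ?_, fun i => ?_,
      fun i => ?_⟩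
    · exact Fin.lastCases (by simpa using h1) (fun i => by simpa using a2 i) i
    · exact Fin.lastCases (by simpa using h2) (fun i => by simpa using a3 i) i
    · rw [e, List.take_append_of_le_length (by simpa using i.is_le)]
      refine Fin.lastCases ?_ (fun i => by simpa using a4 i) i
      rw [List.take_of_length_le (by simp), a1, Fin.snoc_last]
      rintro _ ⟨a, ha, rfl⟩; simpa using h3 a ha

theorem conjFam_of_cf (h𝓕 : ∀ T ∈ 𝓕, T ≤ S)
    (h : ∀ A ≤ S, ∀ g, (∀ a ∈ A, g * a * g⁻¹ ∈ S) → CF 𝓕 A g) : IsConjugationFamily 𝓕 S := by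
  refine ⟨h𝓕, fun X g _ hX e => ?_⟩
  obtain ⟨n, T, x, a1, a2, a3, a4⟩ := ((h _ ((Subgroup.closure_le S).2 hX) g⁻¹ fun a ha =>
    (Subgroup.closure_le (S.comap (MulAut.conj g⁻¹).toMonoidHom)).2 (fun a ha => by
      simpa using e ⟨a, ha, rfl⟩) ha).mono Subgroup.subset_closure).list
  exact ⟨n, T, x, by simpa using a1, a2, a3, fun h => by simpa using a4 ⟨0, h⟩,
    fun i h => a4 ⟨i + 1, h⟩⟩

theorem cfData (h𝓕 : ∀ T ∈ 𝓕, T ≤ S) (hS : S ∈ 𝓕) :
    SysData S fun P f => P ≤ S ∧ ∃ c, CF 𝓕 P c ∧ ∀ x ∈ P, f x = c * x * c⁻¹ :=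
  SysData.ofSub (groupFusionSystem S)
    (fun ⟨h, c, h1, e⟩ => mor_group_iff.2 ⟨h, fun x hx => e x hx ▸ h1.mem h h𝓕 x hx, c, e⟩)
    (fun h => h.1) (fun ⟨h, _, h1, e⟩ x hx => e x hx ▸ h1.mem h h𝓕 x hx)
    (fun ⟨h, c, h1, e⟩ e' => ⟨h, c, h1, fun x hx => e' x hx ▸ e x hx⟩)
    (fun {P s} hP hs' => ⟨hP, _, CF.one.step hS (Subgroup.le_normalizer hs') fun a ha => by
      simpa using hP ha, by simp⟩)
    (fun ⟨h, c, h1, e⟩ ⟨_, d, h2, e'⟩ hm => ⟨h, _, h1.trans h2 fun a ha => e a ha ▸ hm a ha,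
      fun x hx => by beta_reduce; rw [e' _ (hm x hx), e x hx]; group⟩)
    fun ⟨h, c, h1, e⟩ h' e' => ⟨h'.le, _, h1.symm.mono fun y hy => by
      rw [img_congr e, SetLike.mem_coe, mem_img_conj] at hy
      exact ⟨_, hy, by group⟩, fun y hy => by
        rw [img_congr e, mem_img_conj] at hy
        rw [inv_inv, ← e' _ hy, e _ hy]; congr 1; group⟩

theorem tower_succ (i : ℕ) :
    functorTower W S T (i + 1) = functorTower W S (W (normalizerIn S T)) i := by
  induction i with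
  | zero => rfl
  | succ i ih => rw [functorTower, ih]; rfl

/-- conjugation by elements of `H` between subgroups of `T` lies in `E` -/
def GC (E : FusionSystem S) (T H : Subgroup G) : Prop :=
  ∀ n ∈ H, ∀ B ≤ T, (∀ x ∈ B, n * x * n⁻¹ ∈ T) → Mor E B fun x => n * x * n⁻¹

theorem GC.mono {E : FusionSystem S} (h : GC E T H) {T' H' : Subgroup G} (h1 : T' ≤ T)
    (h2 : H' ≤ H) : GC E T' H' :=
  fun n hn B hB e => h n (h2 hn) B (hB.trans h1) fun x hx => h1 (e x hx)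

theorem gc_iff {E : FusionSystem S} (h : T ≤ H) :
    GC E T H ↔ (fusionSystemOfSubgroup H T h).IsSubsystemOf E :=
  ⟨fun hE => isSubsystemOf_iff.2 fun P f hf => by
    obtain ⟨h1, h2, g, hg, e⟩ := mor_subgroup_iff.1 hf
    exact (hE g hg P h1 fun x hx => e x hx ▸ h2 x hx).congr fun x hx => (e x hx).symm,
  fun hE n hn B hB e => isSubsystemOf_iff.1 hE _ _ (mor_sub_conj h hB hn e)⟩

variable [hp : Fact p.Prime] [Finite G]

theorem gc_foc_iff {D : Subgroup G} {h : ⁅S, S⁆ ≤ D} (hT : SylowIn p T H) (hTS : T ≤ S) :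
    GC (focSys (groupFusionSystem S) h) T H ↔ T ⊓ ⁅H, H⁆ ≤ D := by
  rw [gc_iff hT.le, sub_focSys_iff, (foc_sub hT).1]
  exact (gc_iff hT.le).1 fun n _ B hB e =>
    mor_group_iff.2 ⟨hB.trans hTS, fun x hx => hTS (e x hx), n, fun _ _ => rfl⟩

theorem cf_of_ex (hS : SylowIn p S ⊤) (h𝓕 : ∀ T ∈ 𝓕, T ≤ S)
    (h : ∀ T ≤ S, ∃ U ∈ 𝓕, (∃ g : G, T.map (MulAut.conj g).toMonoidHom = U) ∧
      SylowIn p (normalizerIn S U) (Subgroup.normalizer (U : Set G)))
    (hA : A ≤ S) {g : G} (e : ∀ a ∈ A, g * a * g⁻¹ ∈ S) : CF 𝓕 A g := by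
  have hS' : S ∈ 𝓕 := by
    obtain ⟨U, h1, ⟨g, rfl⟩, -⟩ := h S le_rfl
    rwa [← Subgroup.eq_of_le_of_card_ge (h𝓕 _ h1)
      (Subgroup.card_map_of_injective (MulEquiv.injective _)).ge]
  have key : ∀ A ≤ S, ∀ g, (∀ a ∈ A, g * a * g⁻¹ ∈ S) →
      ∃ c, CF 𝓕 A c ∧ ∀ x ∈ A, g * x * g⁻¹ = c * x * c⁻¹ := fun A hA g e => by
    refine ((SysData.mor_iff _).1 (isSubsystemOf_iff.1 (alperin_ex (E := (cfData h𝓕 hS').sys)
      hS.pgroup (group_sat hS) fun P hP => ?_) _ _ (mor_group_iff.2 ⟨hA, e, g, fun _ _ => rfl⟩))).2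
    obtain ⟨U, h1, ⟨g, h2⟩, h3⟩ := h P hP
    have h4 := h𝓕 U h1
    refine ⟨U, by
      rw [groupFusionSystem_eq, isConj_sub_iff]; exact ⟨hP, h4, g, trivial, img_conj g P ▸ h2⟩,
      (fullyNormalized_group_iff hS h4).2 h3, fun _ α hα => ?_⟩
    obtain ⟨-, -, n, e⟩ := mor_group_iff.1 ((mem_autGroup h4).1 hα)
    exact (mem_autGroup h4).2 ((SysData.mor_iff _).2 ⟨h4, _, CF.one.step h1
      (mem_normalizer_of_finite fun x hx => e x hx ▸ afun_mem α hx) (by simp), by simpa using e⟩)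
  obtain ⟨c, h1, h2⟩ := key A hA g e
  obtain ⟨U, h3, ⟨k, rfl⟩, -⟩ := h A hA
  obtain ⟨d, h4, h5⟩ := key A hA k fun a ha => h𝓕 _ h3 ⟨a, ha, rfl⟩
  have h6 : ∀ a ∈ A, d * a * d⁻¹ ∈ A.map (MulAut.conj k).toMonoidHom := fun a ha => ⟨a, ha, h5 a ha⟩
  have h7 : ∀ a ∈ A, c⁻¹ * g * a * (c⁻¹ * g)⁻¹ = a := fun a ha => by
    rw [show c⁻¹ * g * a * (c⁻¹ * g)⁻¹ = c⁻¹ * (g * a * g⁻¹) * c by group, h2 a ha]; group
  have h8 := ((h4.step (n := d * (c⁻¹ * g) * d⁻¹) h3 (mem_normalizer_of_finite ?_) h6).trans h4.symm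
    fun a ha => ⟨a, ha, ?_⟩).trans h1 fun a ha => ?_
  · simpa [mul_assoc] using h8
  · rintro _ ⟨a, ha, rfl⟩
    refine ⟨a, ha, ?_⟩
    simp only [MulEquiv.coe_toMonoidHom, MulAut.conj_apply, h5 a ha]
    conv_lhs => rw [← h7 a ha]
    group
  · conv_lhs => beta_reduce; rw [← h7 a ha]
    group
  · convert ha using 1
    conv_rhs => rw [← h7 a ha]
    group

theorem wp_iff (hS : IsPGroup p S) : IsWellPlaced p W S T ↔ T ≤ S ∧
    SylowIn p (normalizerIn S T) (Subgroup.normalizer (T : Set G)) ∧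
      ∀ i, ¬ p ∣ (normalizerIn S (functorTower W S (W (normalizerIn S T)) i)).relIndex
        (Subgroup.normalizer (functorTower W S (W (normalizerIn S T)) i : Set G)) :=
  ⟨fun ⟨h1, h2⟩ => ⟨h1, sylowIn_of_not_dvd_relIndex inf_le_right (pgroup_of_le hS inf_le_left) (h2 0),
    fun i => tower_succ (W := W) i ▸ h2 (i + 1)⟩, fun ⟨h1, h2, h3⟩ => ⟨h1, fun i => by
      cases i with
      | zero => exact h2.not_dvd_relIndex
      | succ i => rw [tower_succ]; exact h3 i⟩⟩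

theorem wp_sylow (hS : IsPGroup p S) (h : IsWellPlaced p W S T) :
    SylowIn p (normalizerIn S T) (Subgroup.normalizer (T : Set G)) := ((wp_iff hS).1 h).2.1

theorem wp_next (hW : IsConjugacyFunctor p W) (hS : IsPGroup p S) (h : IsWellPlaced p W S T) :
    IsWellPlaced p W S (W (normalizerIn S T)) :=
  ⟨(hW _ (pgroup_of_le hS normalizerIn_le)).1.trans normalizerIn_le, ((wp_iff hS).1 h).2.2⟩

theorem wp_of_normal (hW : IsConjugacyFunctor p W) (hS : SylowIn p S ⊤) (hT : T ≤ S)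
    (h : S ≤ Subgroup.normalizer (T : Set G)) : IsWellPlaced p W S T := by
  have : ∀ i, S ≤ Subgroup.normalizer (functorTower W S T i : Set G) := fun i => by
    induction i with
    | zero => exact h
    | succ i ih =>
      rw [functorTower, inf_eq_left.2 ih]
      exact Subgroup.le_normalizer.trans (cf_normalizer hW hS.pgroup)
  exact ⟨hT, fun i => by
    rw [inf_eq_left.2 (this i)]; exact (hS.of_le (this i) le_top).not_dvd_relIndex⟩

theorem card_lt_next (hW : IsConjugacyFunctor p W) (hS : IsPGroup p S) (hT : T < S) :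
    Nat.card T < Nat.card (normalizerIn S (W T)) :=
  card_lt_of_lt ((lt_normalizerIn hS hT).trans_le
    (inf_le_inf_left _ (cf_normalizer hW (pgroup_of_le hS hT.le))))

theorem exists_wp (hW : IsConjugacyFunctor p W) (hS : SylowIn p S ⊤) (hT : T ≤ S) :
    ∃ g : G, (∀ x ∈ normalizerIn S T, g * x * g⁻¹ ∈ S) ∧
      IsWellPlaced p W S (T.map (MulAut.conj g).toMonoidHom) := by
  refine downward_induction (S := S) (C := fun N => ∀ T ≤ S, normalizerIn S T = N →
    ∃ g : G, (∀ x ∈ normalizerIn S T, g * x * g⁻¹ ∈ S) ∧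
      IsWellPlaced p W S (T.map (MulAut.conj g).toMonoidHom)) ?_ _ normalizerIn_le T hT rfl
  rintro _ - ih T hT rfl
  obtain ⟨B, h1, h2⟩ := exists_sylowIn_ge (p := p) (D := normalizerIn S T)
    (C := Subgroup.normalizer (T : Set G)) inf_le_right (pgroup_of_le hS.pgroup normalizerIn_le)
  have key : ∀ g : G, (∀ x ∈ B, g * x * g⁻¹ ∈ S) → B.map (MulAut.conj g).toMonoidHom =
      normalizerIn S (T.map (MulAut.conj g).toMonoidHom) ∧
      SylowIn p (normalizerIn S (T.map (MulAut.conj g).toMonoidHom))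
        (Subgroup.normalizer (T.map (MulAut.conj g).toMonoidHom : Set G)) := fun g e => by
    have h3 := h1.map (MulAut.conj g).toMonoidHom
    rw [Subgroup.map_equiv_normalizer_eq] at h3
    have h4 : B.map (MulAut.conj g).toMonoidHom ≤
        normalizerIn S (T.map (MulAut.conj g).toMonoidHom) :=
      le_inf (by rintro _ ⟨x, hx, rfl⟩; exact e x hx) h3.le
    have h5 := le_antisymm h4 (h3.max _ inf_le_right (pgroup_of_le hS.pgroup normalizerIn_le) h4)
    exact ⟨h5, h5 ▸ h3⟩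
  obtain ⟨g, -, e⟩ := hS.conj le_top h1.pgroup
  have hTg : ∀ g : G, (∀ x ∈ B, g * x * g⁻¹ ∈ S) → T.map (MulAut.conj g).toMonoidHom ≤ S :=
    fun g e => by rintro _ ⟨x, hx, rfl⟩; exact e x (h2 (le_normalizerIn hT hx))
  set B' := B.map (MulAut.conj g).toMonoidHom with hB'
  have h3 : B' ≤ S := (key g e).1.le.trans normalizerIn_le
  rcases h3.eq_or_lt with h4 | h4
  · exact ⟨g, fun x hx => e x (h2 hx), wp_of_normal hW hS (hTg g e)
      (h4.ge.trans ((key g e).1.le.trans inf_le_right))⟩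
  have h5 := hW B' (pgroup_of_le hS.pgroup h3)
  obtain ⟨k, a1, a2⟩ := ih _ normalizerIn_le (lt_of_le_of_lt (by
    rw [hB', Subgroup.card_map_of_injective (MulEquiv.injective _)]
    exact Subgroup.card_le_of_le h2) (card_lt_next hW hS.pgroup h4)) _ (h5.1.trans h3) rfl
  have e' : ∀ x ∈ B, k * g * x * (k * g)⁻¹ ∈ S := fun x hx => by
    simpa [mul_assoc] using a1 _ ⟨h3 ⟨x, hx, rfl⟩, cf_normalizer hW (pgroup_of_le hS.pgroup h3)
      (Subgroup.le_normalizer ⟨x, hx, rfl⟩)⟩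
  refine ⟨k * g, fun x hx => e' x (h2 hx), (wp_iff hS.pgroup).2 ⟨hTg _ e', (key _ e').2, ?_⟩⟩
  rw [← (key _ e').1, show B.map (MulAut.conj (k * g)).toMonoidHom =
    B'.map (MulAut.conj k).toMonoidHom by rw [hB', Subgroup.map_map]; congr 1; ext; simp, h5.2.2]
  exact a2.2

theorem wp_cf (hW : IsConjugacyFunctor p W) (hS : SylowIn p S ⊤) (hA : A ≤ S) {g : G}
    (e : ∀ a ∈ A, g * a * g⁻¹ ∈ S) : CF {T | IsWellPlaced p W S T} A g :=
  cf_of_ex hS (fun _ h => h.1) (fun _ hT => (exists_wp hW hS hT).elim fun g h =>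
    ⟨_, h.2, ⟨g, rfl⟩, wp_sylow hS.pgroup h.2⟩) hA e

theorem wp_induction (hW : IsConjugacyFunctor p W) (hS : IsPGroup p S) {C : Subgroup G → Prop}
    (h : ∀ T, T ≠ ⊥ → IsWellPlaced p W S T → (normalizerIn S T ≠ S → C (W (normalizerIn S T))) → C T)
    (hb : T ≠ ⊥) (hT : IsWellPlaced p W S T) : C T := by
  refine downward_induction (S := S) (C := fun N => ∀ T, T ≠ ⊥ → IsWellPlaced p W S T →
    normalizerIn S T = N → C T) ?_ _ normalizerIn_le T hb hT rfl
  rintro _ - ih T hb hT rfl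
  exact h T hb hT fun hne => ih _ normalizerIn_le (card_lt_next hW hS (normalizerIn_le.lt_of_ne hne))
    _ ((hW _ (pgroup_of_le hS normalizerIn_le)).2.1 fun e => hb (le_bot_iff.1
      ((le_normalizerIn hT.1).trans e.le))) (wp_next hW hS hT) rfl

theorem wp_control (hW : IsConjugacyFunctor p W) (hS : SylowIn p S ⊤) {E : FusionSystem S}
    (h0 : GC E S (Subgroup.normalizer (W S : Set G)))
    (h : ∀ T, T ≠ ⊥ → IsWellPlaced p W S T →
      GC E (normalizerIn S T) (Subgroup.normalizer (W (normalizerIn S T) : Set G)) →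
      GC E (normalizerIn S T) (Subgroup.normalizer (T : Set G))) : GC E S ⊤ := fun g _ A hA e => by
  refine (wp_cf hW hS hA e).mor hA fun T hT n hn => ?_
  rcases eq_or_ne T ⊥ with rfl | hb
  · exact (mor_id E bot_le).congr fun x hx => by simp [Subgroup.mem_bot.1 hx]
  refine wp_induction (C := fun T => GC E (normalizerIn S T) (Subgroup.normalizer (T : Set G)))
    hW hS.pgroup (fun T hb hT ih => h T hb hT ?_) hb hT n hn T (le_normalizerIn hT.1)
    fun x hx => le_normalizerIn hT.1 (conj_mem_of_mem_normalizer hn hx)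
  rcases eq_or_ne (normalizerIn S T) S with e | e
  · rw [e]; exact h0
  · exact (ih e).mono (le_inf normalizerIn_le (Subgroup.le_normalizer.trans
      (cf_normalizer hW (pgroup_of_le hS.pgroup normalizerIn_le)))) le_rfl

theorem fam_control (h𝓦 : ∀ W ∈ 𝓦, IsConjugacyFunctor p W) (hS : SylowIn p S ⊤)
    {E : FusionSystem S} (h0 : ∀ W ∈ 𝓦, GC E S (Subgroup.normalizer (W S : Set G)))
    (h : ∀ T, T ≠ ⊥ → T ≤ S → SylowIn p (normalizerIn S T) (Subgroup.normalizer (T : Set G)) →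
      (∀ W ∈ 𝓦, GC E (normalizerIn S T) (Subgroup.normalizer (W (normalizerIn S T) : Set G))) →
      GC E (normalizerIn S T) (Subgroup.normalizer (T : Set G))) : GC E S ⊤ := fun g _ A hA e => by
  have key : ∀ {T Q : Subgroup G}, GC E T (Subgroup.normalizer (Q : Set G)) → normalizerIn S Q ≤ T →
      HasN (groupFusionSystem S) E Q := fun h h' P f hf h1 h2 h3 => by
    obtain ⟨-, h4, n, e⟩ := mor_group_iff.1 hf
    have hn : n ∈ Subgroup.normalizer (_ : Set G) :=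
      mem_normalizer_of_finite fun x hx => e x (h1 hx) ▸ h3 ▸ subset_img hx
    exact (h n hn P (h2.trans h') fun x hx => h' ⟨e x hx ▸ h4 x hx, Subgroup.mul_mem _
      (Subgroup.mul_mem _ hn (h2 hx).2) (Subgroup.inv_mem _ hn)⟩).congr fun x hx => (e x hx).symm
  refine control_fam hS.pgroup (group_sat hS) 𝓦 (fun W hW Q hQ hb => (h𝓦 W hW _
    (pgroup_of_le hS.pgroup normalizerIn_le)).2.1 fun e => hb (le_bot_iff.1
      ((le_normalizerIn hQ).trans e.le))) (fun W hW T hT => (h𝓦 W hW _ (pgroup_of_le hS.pgroup hT)).1)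
    (fun W hW T f hf => cf_img (h𝓦 W hW) hS.pgroup (isSubsystemOf_iff.2 fun _ _ h => h) hf)
    (fun W hW => key (h0 W hW) normalizerIn_le) (fun Q hb hQ ih => key (h Q hb hQ.1
      ((fullyNormalized_group_iff hS hQ.1).1 hQ) fun W hW n hn B hB e => ?_) le_rfl)
    (mor_group_iff.2 ⟨hA, e, g, fun _ _ => rfl⟩)
  have h1 := (h𝓦 W hW _ (pgroup_of_le hS.pgroup (normalizerIn_le (S := S) (P := Q)))).1
  have h2 : ∀ x ∈ B ⊔ W (normalizerIn S Q), n * x * n⁻¹ ∈ normalizerIn S Q := fun x hx => (sup_le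
    (c := (normalizerIn S Q).comap (MulAut.conj n).toMonoidHom) e
      fun x hx => h1 (conj_mem_of_mem_normalizer hn hx)) hx
  refine (ih W hW _ _ (mor_group_iff.2 ⟨(sup_le hB h1).trans normalizerIn_le,
    fun x hx => (h2 x hx).1, n, fun _ _ => rfl⟩) le_sup_right (sup_le hB h1) h2 ?_).mono le_sup_left
  rw [img_conj]; exact Subgroup.mem_normalizer_iff_map_conj_eq.1 hn

end Cfsg.Agent.Fusion
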