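import Cfsg.Agent.Lib.Fusion.CFun2

/-! Control by a conjugacy functor together with a central functor. -/

set_option autoImplicit false
set_option linter.unusedSectionVars false
set_option linter.unusedVariables false
open Cfsg Cfsg.FusionSystem

namespace Cfsg.Agent.Fusion

universe u
variable {G : Type u} [Group G] {S T H Q : Subgroup G} {p : ℕ} {W V : Subgroup G → Subgroup G}
  {𝒩 : G → Prop} {X : Set G} {c d : G}

theorem Chain.of_list (l : List G) (h1 : ∀ x ∈ l, 𝒩 x⁻¹)
    (h2 : ∀ k ≤ l.length, ∀ a ∈ X, (l.take k).prod⁻¹ * a * (l.take k).prod ∈ T) :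
    Chain 𝒩 T X l.prod⁻¹ := by
  induction l using List.reverseRecOn with
  | nil => simpa using Chain.one
  | append_singleton l m ih =>
    rw [List.prod_append, List.prod_singleton, mul_inv_rev]
    refine (ih (fun x hx => h1 x (by simp [hx])) fun k hk a ha => ?_).step (h1 m (by simp)) fun a ha => ?_
    · have := h2 k (by simp; omega) a ha
      rwa [List.take_append_of_le_length hk] at this
    · have := h2 _ le_rfl a ha
      rw [List.take_length] at this
      simpa [mul_assoc] using this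

theorem Chain.list (h : Chain 𝒩 T X d) (hX : X ⊆ T) : ∃ l : List G, (∀ x ∈ l, 𝒩 x⁻¹) ∧
    l.prod = d⁻¹ ∧ ∀ k, ∀ a ∈ X, (l.take k).prod⁻¹ * a * (l.take k).prod ∈ T := by
  induction h with
  | one => exact ⟨[], by simp, by simp, fun k a ha => by simpa using hX ha⟩
  | @step c m _ h1 h2 ih =>
    obtain ⟨l, a1, a2, a3⟩ := ih
    refine ⟨l ++ [m⁻¹], fun x hx => ?_, by simp [a2], fun k a ha => ?_⟩
    · rcases List.mem_append.1 hx with hx | hx
      · exact a1 x hx
      · rwa [List.mem_singleton.1 hx, inv_inv]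
    · rcases le_or_gt k l.length with hk | hk
      · rw [List.take_append_of_le_length hk]; exact a3 k a ha
      · rw [List.take_of_length_le (by simp; omega)]
        simpa [a2, mul_assoc] using h2 a ha

theorem mem_cf_cent (hV : IsConjugacyFunctor p V) (hT : IsPGroup p T) {c n : G}
    (hn : n ∈ Subgroup.centralizer (V T : Set G)) :
    c * n * c⁻¹ ∈ Subgroup.centralizer (V (T.map (MulAut.conj c).toMonoidHom) : Set G) := by
  rw [(hV T hT).2.2 c]
  rintro _ ⟨x, hx, rfl⟩
  show c * x * c⁻¹ * _ = _ * (c * x * c⁻¹)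
  calc _ = c * (x * n) * c⁻¹ := by group
    _ = _ := by rw [hn x hx]; group

theorem conj_mem_comm {K L : Subgroup G} (h : ∀ n ∈ K, c * n * c⁻¹ ∈ L) {a : G} (ha : a ∈ ⁅K, K⁆) :
    c * a * c⁻¹ ∈ ⁅L, L⁆ := by
  have : K.map (MulAut.conj c).toMonoidHom ≤ L := by rintro _ ⟨n, hn, rfl⟩; exact h n hn
  exact Subgroup.commutator_mono this this ((Subgroup.map_commutator _ _ _).le ⟨a, ha, rfl⟩)

/-- Elements normalizing `W T` or centralizing `V T`. -/
def NC2 (W V : Subgroup G → Subgroup G) (H T : Subgroup G) (n : G) : Prop :=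
  n ∈ H ⊓ Subgroup.normalizer (W T : Set G) ∨ n ∈ H ⊓ Subgroup.centralizer (V T : Set G)

theorem NC2.inv {n : G} (h : NC2 W V H T n) : NC2 W V H T n⁻¹ := h.imp inv_mem inv_mem

variable [hp : Fact p.Prime] [Finite G]

theorem wpz_control (hW : IsConjugacyFunctor p W)
    (hWZ : ∀ H : Subgroup G, IsPGroup p H → centralizerIn H H ≤ W H) (hS : SylowIn p S ⊤)
    (hb : S ≠ ⊥) {E : FusionSystem S} (h0 : GC E S (Subgroup.normalizer (W S : Set G)))
    (h : ∀ T, centralizerIn S S ≤ T → IsWellPlaced p W S T →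
      GC E (normalizerIn S T) (Subgroup.normalizer (W (normalizerIn S T) : Set G)) →
      GC E (normalizerIn S T) (Subgroup.normalizer (T : Set G))) : GC E S ⊤ := fun g _ A hA e => by
  refine isSubsystemOf_iff.1 (alperin_ex hS.pgroup (group_sat hS) fun P hP => ?_) _ _
    (mor_group_iff.2 ⟨hA, e, g, fun _ _ => rfl⟩)
  obtain ⟨g, -, hU⟩ := exists_wp hW hS hP
  refine ⟨_, by
    rw [groupFusionSystem_eq, isConj_sub_iff]; exact ⟨hP, hU.1, g, trivial, img_conj g P⟩,
    (fullyNormalized_group_iff hS hU.1).2 (wp_sylow hS.pgroup hU), fun hc α hα => ?_⟩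
  generalize P.map (MulAut.conj g).toMonoidHom = U at hU hc α hα
  have hz : centralizerIn S S ≤ U := (centralizerIn_anti hU.1).trans
    ((alperin_family hS.pgroup (group_sat hS) hc).2.1.2 U (isConj_refl _ hU.1))
  obtain ⟨-, -, n, en⟩ := mor_group_iff.1 ((mem_autGroup hU.1).1 hα)
  have hn := mem_normalizer_of_afun en
  refine (mem_autGroup hU.1).2 ((wp_induction (C := fun T => centralizerIn S S ≤ T →
    GC E (normalizerIn S T) (Subgroup.normalizer (T : Set G))) hW hS.pgroup
    (fun T hb hT ih hz => h T hz hT ?_) (fun e => centralizerIn_self_ne_bot hS.pgroup hb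
      (le_bot_iff.1 (hz.trans e.le))) hU hz n hn U (le_normalizerIn hU.1)
    fun x hx => le_normalizerIn hU.1 (conj_mem_of_mem_normalizer hn hx)).congr
      fun x hx => (en x hx).symm)
  have hp' := pgroup_of_le hS.pgroup (normalizerIn_le (S := S) (P := T))
  rcases eq_or_ne (normalizerIn S T) S with e | e
  · rw [e]; exact h0
  · exact (ih e (le_trans (b := centralizerIn (normalizerIn S T) (normalizerIn S T))
      (fun x hx => ⟨le_normalizerIn hT.1 (hz hx), fun y hy => hx.2 y hy.1⟩)
      (hWZ _ hp'))).mono (le_inf normalizerIn_le (Subgroup.le_normalizer.trans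
        (cf_normalizer hW hp'))) le_rfl

theorem cent_V_le (hVmono : ∀ H K : Subgroup G, IsPGroup p H → IsPGroup p K → H ≠ ⊥ → K ≠ ⊥ →
      centralizerIn H H ≤ centralizerIn K K → V H ≤ V K) (hS : IsPGroup p S) (hb : S ≠ ⊥)
    (h1 : centralizerIn S S ≤ Q) (h2 : Q ≤ S) :
    Subgroup.centralizer (V Q : Set G) ≤ Subgroup.centralizer (V S : Set G) :=
  Subgroup.centralizer_le (hVmono S Q hS (pgroup_of_le hS h2) hb
    (fun e => centralizerIn_self_ne_bot hS hb (le_bot_iff.1 (h1.trans e.le)))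
    fun x hx => ⟨h1 hx, fun y hy => hx.2 y (h2 hy)⟩)

end Cfsg.Agent.Fusion
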