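import Cfsg.Agent.Lib.Fusion.Prod

/-! Central products of fusion systems. -/

set_option autoImplicit false
set_option linter.unusedSectionVars false

namespace Cfsg.Agent.Fusion

open Cfsg Cfsg.FusionSystem

variable {Ω : Type*} [Group Ω] {T₁ T₂ T S : Subgroup Ω} {E₁ : FusionSystem T₁}
  {E₂ : FusionSystem T₂} {D : FusionSystem T} {F : FusionSystem S} {P Q R U : Subgroup Ω}
  {f g : Ω → Ω} {p : ℕ}

def PMor (E₁ : FusionSystem T₁) (E₂ : FusionSystem T₂) (P : Subgroup Ω) (f : Ω → Ω) : Prop :=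
  ∃ P₁ P₂ f₁ f₂, Mor E₁ P₁ f₁ ∧ Mor E₂ P₂ f₂ ∧
    ∀ z ∈ P, ∃ x ∈ P₁, ∃ y ∈ P₂, z = x * y ∧ f z = f₁ x * f₂ y

/-- The commuting set-up. -/
structure CS (E₁ : FusionSystem T₁) (E₂ : FusionSystem T₂) : Prop where
  comm : ∀ x ∈ T₁, ∀ y ∈ T₂, x * y = y * x
  c1 : E₁.IsCentral (T₁ ⊓ T₂)
  c2 : E₂.IsCentral (T₁ ⊓ T₂)

structure CP (E₁ : FusionSystem T₁) (E₂ : FusionSystem T₂) (D : FusionSystem T) : Prop
    extends CS E₁ E₂ where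
  sup : T₁ ⊔ T₂ = T
  mor_iff : ∀ {P f}, Mor D P f ↔ PMor E₁ E₂ P f

theorem CS.symm (h : CS E₁ E₂) : CS E₂ E₁ :=
  ⟨fun x hx y hy => (h.comm y hy x hx).symm, by rw [inf_comm]; exact h.c2,
    by rw [inf_comm]; exact h.c1⟩

theorem PMor.symm (h : CS E₁ E₂) (hf : PMor E₁ E₂ P f) : PMor E₂ E₁ P f := by
  obtain ⟨P₁, P₂, f₁, f₂, h1, h2, h3⟩ := hf
  refine ⟨P₂, P₁, f₂, f₁, h2, h1, fun z hz => ?_⟩
  obtain ⟨x, hx, y, hy, e, e'⟩ := h3 z hz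
  exact ⟨y, hy, x, hx, e.trans (h.comm _ (h1.le hx) _ (h2.le hy)),
    e'.trans (h.comm _ (h1.mem hx) _ (h2.mem hy))⟩

theorem CP.symm (h : CP E₁ E₂ D) : CP E₂ E₁ D :=
  ⟨h.toCS.symm, by rw [sup_comm]; exact h.sup,
    h.mor_iff.trans ⟨PMor.symm h.toCS, PMor.symm h.toCS.symm⟩⟩

theorem PMor.strong (h : CS E₁ E₂) (hf : PMor E₁ E₂ P f) :
    ∃ P₁ P₂ f₁ f₂, Mor E₁ P₁ f₁ ∧ Mor E₂ P₂ f₂ ∧ T₁ ⊓ T₂ ≤ P₁ ∧ T₁ ⊓ T₂ ≤ P₂ ∧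
      ∀ x ∈ T₁, ∀ y ∈ T₂, x * y ∈ P → x ∈ P₁ ∧ y ∈ P₂ ∧ f (x * y) = f₁ x * f₂ y := by
  obtain ⟨P₁, P₂, f₁, f₂, h1, h2, h3⟩ := hf
  obtain ⟨g₁, k1, e1, z1⟩ := IsCentral.ext h.c1 h1
  obtain ⟨g₂, k2, e2, z2⟩ := IsCentral.ext h.c2 h2
  refine ⟨_, _, g₁, g₂, k1, k2, le_sup_right, le_sup_right, fun a ha b hb hab => ?_⟩
  obtain ⟨x, hx, y, hy, e, e'⟩ := h3 _ hab
  have ec : x⁻¹ * a = y * b⁻¹ := by
    rw [inv_mul_eq_iff_eq_mul, ← mul_assoc, ← e, mul_inv_cancel_right]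
  have hc : x⁻¹ * a ∈ T₁ ⊓ T₂ := ⟨T₁.mul_mem (T₁.inv_mem (h1.le hx)) ha,
    ec ▸ T₂.mul_mem (h2.le hy) (T₂.inv_mem hb)⟩
  obtain ⟨c, ec'⟩ : ∃ c, c = x⁻¹ * a := ⟨_, rfl⟩
  rw [← ec'] at hc ec
  have ea : a = x * c := by rw [ec', mul_inv_cancel_left]
  have eb : b = c⁻¹ * y := by rw [ec]; group
  have m1 : x ∈ P₁ ⊔ T₁ ⊓ T₂ := Subgroup.mem_sup_left hx
  have m2 : c ∈ P₁ ⊔ T₁ ⊓ T₂ := Subgroup.mem_sup_right hc
  have m3 : y ∈ P₂ ⊔ T₁ ⊓ T₂ := Subgroup.mem_sup_left hy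
  have m4 : c⁻¹ ∈ P₂ ⊔ T₁ ⊓ T₂ := Subgroup.mem_sup_right (Subgroup.inv_mem _ hc)
  refine ⟨ea ▸ Subgroup.mul_mem _ m1 m2, eb ▸ Subgroup.mul_mem _ m4 m3, ?_⟩
  rw [e', ea, eb, k1.map_mul m1 m2, k2.map_mul m4 m3, e1 x hx, e2 y hy, z1 c hc,
    z2 _ (Subgroup.inv_mem _ hc)]
  group

theorem CS.mem_sup (h : CS E₁ E₂) {z : Ω} : z ∈ T₁ ⊔ T₂ ↔ ∃ x ∈ T₁, ∃ y ∈ T₂, x * y = z :=
  mem_sup_of_le_normalizer (le_normalizer_of_conj_mem fun s hs x hx => by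
    rw [h.comm s hs x hx, mul_inv_cancel_right]; exact hx)

/-- The multiplication map. -/
def mulH (h : ∀ x ∈ T₁, ∀ y ∈ T₂, x * y = y * x) : ↥(T₁.prod T₂) →* Ω :=
  MonoidHom.mk' (fun x => x.1.1 * x.1.2) (fun a b => by
    show a.1.1 * b.1.1 * (a.1.2 * b.1.2) = a.1.1 * a.1.2 * (b.1.1 * b.1.2)
    have := h _ (Subgroup.mem_prod.1 b.2).1 _ (Subgroup.mem_prod.1 a.2).2
    rw [mul_assoc, mul_assoc, ← mul_assoc b.1.1, this, mul_assoc])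

theorem factor_iff_PMor (h : CS E₁ E₂) {θ : ↥(T₁.prod T₂) →* Ω}
    (hθ : ∀ x ∈ T₁.prod T₂, ap θ x = x.1 * x.2) :
    (P ≤ T₁ ⊔ T₂ ∧ ∃ g, Mor (prodSys E₁ E₂) (preimageAlong θ P) g ∧
      ∀ x ∈ preimageAlong θ P, f (ap θ x) = ap θ (g x)) ↔ PMor E₁ E₂ P f := by
  constructor
  · rintro ⟨hP, g, hg, e⟩
    obtain ⟨P₁, P₂, f₁, f₂, h1, h2, h3, h4⟩ := mor_prodSys.1 hg
    refine ⟨P₁, P₂, f₁, f₂, h1, h2, fun z hz => ?_⟩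
    obtain ⟨x, hx, y, hy, rfl⟩ := h.mem_sup.1 (hP hz)
    have m : (x, y) ∈ T₁.prod T₂ := Subgroup.mem_prod.2 ⟨hx, hy⟩
    have m' : (x, y) ∈ preimageAlong θ P := mem_preimageAlong.2 ⟨m, by rw [hθ _ m]; exact hz⟩
    refine ⟨x, (h3 _ m').1, y, (h3 _ m').2, rfl, ?_⟩
    have := e _ m'
    rwa [hθ _ m, hθ _ (hg.mem m'), h4 _ m'] at this
  · intro hf
    have hP : P ≤ T₁ ⊔ T₂ := by
      obtain ⟨P₁, P₂, f₁, f₂, h1, h2, h3⟩ := hf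
      intro z hz
      obtain ⟨x, hx, y, hy, rfl, -⟩ := h3 z hz
      exact Subgroup.mul_mem_sup (h1.le hx) (h2.le hy)
    obtain ⟨P₁, P₂, f₁, f₂, h1, h2, -, -, h3⟩ := hf.strong h
    have k : ∀ x ∈ preimageAlong θ P, x.1 ∈ P₁ ∧ x.2 ∈ P₂ ∧ f (x.1 * x.2) = f₁ x.1 * f₂ x.2 := by
      intro x hx
      obtain ⟨m, m'⟩ := mem_preimageAlong.1 hx
      rw [hθ _ m] at m'
      exact h3 _ (Subgroup.mem_prod.1 m).1 _ (Subgroup.mem_prod.1 m).2 m'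
    refine ⟨hP, fun x => (f₁ x.1, f₂ x.2), mor_prodSys.2 ⟨P₁, P₂, f₁, f₂, h1, h2,
      fun x hx => ⟨(k x hx).1, (k x hx).2.1⟩, fun _ _ => rfl⟩, fun x hx => ?_⟩
    rw [hθ _ (preimageAlong_le hx), (k x hx).2.2,
      hθ _ (Subgroup.mem_prod.2 ⟨h1.mem (k x hx).1, h2.mem (k x hx).2.1⟩)]

theorem range_mul (h : CS E₁ E₂) {θ : ↥(T₁.prod T₂) →* Ω}
    (hθ : ∀ x ∈ T₁.prod T₂, ap θ x = x.1 * x.2) : θ.range = T₁ ⊔ T₂ := by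
  ext z
  rw [mem_range_iff, h.mem_sup]
  constructor
  · rintro ⟨x, hx, rfl⟩
    exact ⟨x.1, (Subgroup.mem_prod.1 hx).1, x.2, (Subgroup.mem_prod.1 hx).2, (hθ x hx).symm⟩
  · rintro ⟨x, hx, y, hy, rfl⟩
    exact ⟨(x, y), Subgroup.mem_prod.2 ⟨hx, hy⟩, hθ _ (Subgroup.mem_prod.2 ⟨hx, hy⟩)⟩

theorem ker_central (h : CS E₁ E₂) {θ : ↥(T₁.prod T₂) →* Ω}
    (hθ : ∀ x ∈ T₁.prod T₂, ap θ x = x.1 * x.2) :
    (prodSys E₁ E₂).IsCentral (preimageAlong θ ⊥) := by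
  have k : ∀ x ∈ preimageAlong θ ⊥, x.1 ∈ T₁ ⊓ T₂ ∧ x.2 ∈ T₁ ⊓ T₂ := by
    intro x hx
    obtain ⟨m, m'⟩ := mem_preimageAlong.1 hx
    rw [hθ _ m, Subgroup.mem_bot, mul_eq_one_iff_eq_inv] at m'
    obtain ⟨m1, m2⟩ := Subgroup.mem_prod.1 m
    refine ⟨⟨m1, m' ▸ T₂.inv_mem m2⟩, ?_, m2⟩
    rw [m'] at m1
    exact T₁.inv_mem_iff.1 m1
  refine isCentral_iff.2 ⟨preimageAlong_le, fun P f hf => ?_⟩
  obtain ⟨P₁, P₂, f₁, f₂, h1, h2, h3, h4⟩ := mor_prodSys.1 hf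
  obtain ⟨g₁, k1, e1, z1⟩ := IsCentral.ext h.c1 h1
  obtain ⟨g₂, k2, e2, z2⟩ := IsCentral.ext h.c2 h2
  refine ⟨fun x => (g₁ x.1, g₂ x.2), mor_prodSys.2 ⟨_, _, g₁, g₂, k1, k2, ?_, fun _ _ => rfl⟩,
    fun x hx => ?_, fun x hx => ?_⟩
  · have : P ⊔ preimageAlong θ ⊥ ≤ (P₁ ⊔ T₁ ⊓ T₂).prod (P₂ ⊔ T₁ ⊓ T₂) :=
      sup_le (fun x hx => Subgroup.mem_prod.2
          ⟨Subgroup.mem_sup_left (h3 x hx).1, Subgroup.mem_sup_left (h3 x hx).2⟩)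
        (fun x hx => Subgroup.mem_prod.2
          ⟨Subgroup.mem_sup_right (k x hx).1, Subgroup.mem_sup_right (k x hx).2⟩)
    exact fun x hx => Subgroup.mem_prod.1 (this hx)
  · show (g₁ x.1, g₂ x.2) = f x
    rw [e1 _ (h3 x hx).1, e2 _ (h3 x hx).2, h4 x hx]
  · show (g₁ x.1, g₂ x.2) = x
    rw [z1 _ (k x hx).1, z2 _ (k x hx).2]

theorem ap_mulH (h : ∀ x ∈ T₁, ∀ y ∈ T₂, x * y = y * x) : ∀ x ∈ T₁.prod T₂,
    ap (mulH h) x = x.1 * x.2 := fun x hx => by rw [ap_of_mem _ hx]; rfl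

theorem CP.factor (h : CP E₁ E₂ D) :
    Factor (prodSys E₁ E₂) (preimageAlong (mulH h.comm) ⊥) (mulH h.comm) D where
  ker := rfl
  range := (range_mul h.toCS (ap_mulH h.comm)).trans h.sup
  mor_iff := by
    intro P f
    rw [h.mor_iff, ← factor_iff_PMor h.toCS (ap_mulH h.comm), h.sup]

theorem CP.isCentralProductOf (h : CP E₁ E₂ D) : IsCentralProductOf E₁ E₂ D := by
  refine ⟨_, prodSys_spec E₁ E₂, preimageAlong (mulH h.comm) ⊥, mulH h.comm,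
    IsCentral.le_center (ker_central h.toCS (ap_mulH h.comm)), ?_, ?_,
    fun x _ => mul_one x, fun y _ => one_mul y, isFactorSystem_iff.2 h.factor⟩
  · refine le_bot_iff.1 fun x ⟨hx, hx'⟩ => ?_
    obtain ⟨m, m'⟩ := mem_preimageAlong.1 hx
    have e : x.2 = 1 := (Subgroup.mem_prod.1 hx').2
    rw [ap_mulH _ _ m, e, mul_one] at m'
    exact Prod.ext m' e
  · refine le_bot_iff.1 fun x ⟨hx, hx'⟩ => ?_
    obtain ⟨m, m'⟩ := mem_preimageAlong.1 hx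
    have e : x.1 = 1 := (Subgroup.mem_prod.1 hx').1
    rw [ap_mulH _ _ m, e, one_mul] at m'
    exact Prod.ext e m'

theorem cp_of [Finite T₁] [Finite T₂] (h : IsCentralProductOf E₁ E₂ D) : CP E₁ E₂ D := by
  obtain ⟨D₀, h0, Z, θ, hZ, -, -, t1, t2, hf⟩ := h
  obtain rfl := IsProductSystem.eq h0
  replace hf := isFactorSystem_iff.1 hf
  have m1 : ∀ x ∈ T₁, ((x, 1) : Ω × Ω) ∈ T₁.prod T₂ := fun x hx =>
    Subgroup.mem_prod.2 ⟨hx, T₂.one_mem⟩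
  have m2 : ∀ y ∈ T₂, ((1, y) : Ω × Ω) ∈ T₁.prod T₂ := fun y hy =>
    Subgroup.mem_prod.2 ⟨T₁.one_mem, hy⟩
  have a1 : ∀ x ∈ T₁, ap θ (x, 1) = x := fun x hx => by rw [ap_of_mem _ (m1 x hx), t1]
  have a2 : ∀ y ∈ T₂, ap θ (1, y) = y := fun y hy => by rw [ap_of_mem _ (m2 y hy), t2]
  have hθ : ∀ x ∈ T₁.prod T₂, ap θ x = x.1 * x.2 := by
    rintro ⟨x, y⟩ hx
    obtain ⟨hx, hy⟩ := Subgroup.mem_prod.1 hx
    have : ((x, y) : Ω × Ω) = (x, 1) * (1, y) := by simp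
    rw [this, ap_mul _ (m1 x hx) (m2 y hy), a1 x hx, a2 y hy]; simp
  have hc := IsCentral.of_le (center_isCentral _) hZ
  have mz : ∀ z ∈ T₁ ⊓ T₂, ((z, z⁻¹) : Ω × Ω) ∈ Z := fun z hz => by
    have m : ((z, z⁻¹) : Ω × Ω) ∈ T₁.prod T₂ := Subgroup.mem_prod.2 ⟨hz.1, T₂.inv_mem hz.2⟩
    rw [← hf.ap_eq_one_iff m, hθ _ m, mul_inv_cancel]
  have hcs : CS E₁ E₂ := by
    refine ⟨fun x hx y hy => ?_, isCentral_iff.2 ⟨inf_le_left, fun P f hf => ?_⟩,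
      isCentral_iff.2 ⟨inf_le_right, fun P f hf => ?_⟩⟩
    · have : ((1, y) : Ω × Ω) * (x, 1) = (x, 1) * (1, y) := by simp
      have k := ap_mul θ (m2 y hy) (m1 x hx)
      rw [this, ap_mul _ (m1 x hx) (m2 y hy), a1 x hx, a2 y hy] at k
      exact k
    · have : Mor (prodSys E₁ E₂) (P.prod ⊥) fun x => (f x.1, x.2) :=
        mor_prodSys.2 ⟨P, ⊥, f, _, hf, mor_id E₂ bot_le, fun x hx => Subgroup.mem_prod.1 hx,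
          fun _ _ => rfl⟩
      obtain ⟨g, hg, e, e'⟩ := IsCentral.ext hc this
      obtain ⟨P₁, P₂, f₁, f₂, h1, h2, h3, h4⟩ := mor_prodSys.1 hg
      have n1 : ∀ x ∈ P, ((x, 1) : Ω × Ω) ∈ P.prod ⊥ := fun x hx =>
        Subgroup.mem_prod.2 ⟨hx, one_mem _⟩
      refine ⟨f₁, h1.mono (sup_le (fun x hx => (h3 _ (Subgroup.mem_sup_left (n1 x hx))).1)
        fun z hz => (h3 _ (Subgroup.mem_sup_right (mz z hz))).1), fun x hx => ?_, fun z hz => ?_⟩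
      · have := e _ (n1 x hx)
        rw [h4 _ (Subgroup.mem_sup_left (n1 x hx))] at this
        exact congrArg Prod.fst this
      · have := e' _ (mz z hz)
        rw [h4 _ (Subgroup.mem_sup_right (mz z hz))] at this
        exact congrArg Prod.fst this
    · have : Mor (prodSys E₁ E₂) ((⊥ : Subgroup Ω).prod P) fun x => (x.1, f x.2) :=
        mor_prodSys.2 ⟨⊥, P, _, f, mor_id E₁ bot_le, hf, fun x hx => Subgroup.mem_prod.1 hx,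
          fun _ _ => rfl⟩
      obtain ⟨g, hg, e, e'⟩ := IsCentral.ext hc this
      obtain ⟨P₁, P₂, f₁, f₂, h1, h2, h3, h4⟩ := mor_prodSys.1 hg
      have n1 : ∀ x ∈ P, ((1, x) : Ω × Ω) ∈ (⊥ : Subgroup Ω).prod P := fun x hx =>
        Subgroup.mem_prod.2 ⟨one_mem _, hx⟩
      have mz' : ∀ z ∈ T₁ ⊓ T₂, ((z⁻¹, z) : Ω × Ω) ∈ Z := fun z hz => by
        have := mz _ (Subgroup.inv_mem _ hz); rwa [inv_inv] at this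
      refine ⟨f₂, h2.mono (sup_le (fun x hx => (h3 _ (Subgroup.mem_sup_left (n1 x hx))).2)
        fun z hz => (h3 _ (Subgroup.mem_sup_right (mz' z hz))).2), fun x hx => ?_, fun z hz => ?_⟩
      · have := e _ (n1 x hx)
        rw [h4 _ (Subgroup.mem_sup_left (n1 x hx))] at this
        exact congrArg Prod.snd this
      · have := e' _ (mz' z hz)
        rw [h4 _ (Subgroup.mem_sup_right (mz' z hz))] at this
        exact congrArg Prod.snd this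
  have hs : T₁ ⊔ T₂ = T := (range_mul hcs hθ).symm.trans hf.range
  refine ⟨hcs, hs, fun {P f} => ?_⟩
  rw [hf.mor_iff, ← factor_iff_PMor hcs hθ, hs]

theorem exists_cp [Finite T₁] [Finite T₂] (h : CS E₁ E₂) :
    ∃ D : FusionSystem (T₁ ⊔ T₂), CP E₁ E₂ D := by
  obtain ⟨D, hD⟩ := exists_factor
    (IsNormal.stronglyClosed (IsCentral.isNormal (ker_central h (ap_mulH h.comm)))) rfl
    (range_mul h (ap_mulH h.comm))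
  exact ⟨D, h, rfl, fun {P f} => by rw [hD.mor_iff, ← factor_iff_PMor h (ap_mulH h.comm)]⟩

theorem CP.saturated [Fact p.Prime] [Finite T₁] [Finite T₂] (h : CP E₁ E₂ D)
    (h₁ : IsPGroup p T₁) (h₂ : IsPGroup p T₂) (s₁ : E₁.IsSaturated p) (s₂ : E₂.IsSaturated p) :
    D.IsSaturated p :=
  h.factor.saturated (pgroup_prod h₁ h₂) (prod_saturated h₁ h₂ s₁ s₂)
    (IsNormal.stronglyClosed (IsCentral.isNormal (ker_central h.toCS (ap_mulH h.comm))))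

theorem CP.le1 (h : CP E₁ E₂ D) : T₁ ≤ T := h.sup ▸ le_sup_left
theorem CP.le2 (h : CP E₁ E₂ D) : T₂ ≤ T := h.sup ▸ le_sup_right

theorem CP.mem (h : CP E₁ E₂ D) {z : Ω} (hz : z ∈ T) : ∃ x ∈ T₁, ∃ y ∈ T₂, x * y = z :=
  h.toCS.mem_sup.1 (h.sup.symm ▸ hz)

theorem CP.strong (h : CP E₁ E₂ D) (hf : Mor D P f) :
    ∃ P₁ P₂ f₁ f₂, Mor E₁ P₁ f₁ ∧ Mor E₂ P₂ f₂ ∧ T₁ ⊓ T₂ ≤ P₁ ∧ T₁ ⊓ T₂ ≤ P₂ ∧
      ∀ x ∈ T₁, ∀ y ∈ T₂, x * y ∈ P → x ∈ P₁ ∧ y ∈ P₂ ∧ f (x * y) = f₁ x * f₂ y :=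
  (h.mor_iff.1 hf).strong h.toCS

theorem CP.res1 (h : CP E₁ E₂ D) (hf : Mor D P f) : Mor E₁ (P ⊓ T₁) f := by
  obtain ⟨P₁, P₂, f₁, f₂, h1, h2, -, -, h3⟩ := h.strong hf
  have k := fun x (hx : x ∈ P ⊓ T₁) => h3 x hx.2 1 T₂.one_mem (by rw [mul_one]; exact hx.1)
  refine (h1.mono fun x hx => (k x hx).1).congr fun x hx => ?_
  have := (k x hx).2.2
  rw [mul_one, h2.map_one, mul_one] at this
  exact this.symm

theorem CP.res1' (h : CP E₁ E₂ D) (hf : Mor D P f) (hP : P ≤ T₁) : Mor E₁ P f :=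
  (h.res1 hf).mono (le_inf le_rfl hP)

theorem CP.sub1 (h : CP E₁ E₂ D) : E₁.IsSubsystemOf D :=
  isSubsystemOf_iff.2 fun P f hf => h.mor_iff.2 ⟨P, ⊥, f, _, hf, mor_id E₂ bot_le,
    fun z hz => ⟨z, hz, 1, one_mem _, (mul_one z).symm, (mul_one _).symm⟩⟩

theorem CP.sub2 (h : CP E₁ E₂ D) : E₂.IsSubsystemOf D := h.symm.sub1

theorem CP.sc1 (h : CP E₁ E₂ D) : D.StronglyClosed T₁ :=
  stronglyClosed_iff.2 ⟨h.le1, fun _ _ hf _ hx hx' => (h.res1 hf).mem ⟨hx, hx'⟩⟩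

theorem CP.exists_mor (h : CP E₁ E₂ D) {P₁ P₂ : Subgroup Ω} {f₁ f₂ : Ω → Ω} (h1 : Mor E₁ P₁ f₁)
    (h2 : Mor E₂ P₂ f₂) : ∃ f, Mor D (P₁ ⊔ P₂) f ∧ (∀ x ∈ P₁, f x = f₁ x) ∧
      ∀ y ∈ P₂, f y = f₂ y := by
  have hs := h.factor.surj_of_normal (IsCentral.isNormal (ker_central h.toCS (ap_mulH h.comm)))
  have hm : Mor (prodSys E₁ E₂) (P₁.prod P₂) fun x => (f₁ x.1, f₂ x.2) :=
    mor_prodSys.2 ⟨P₁, P₂, f₁, f₂, h1, h2, fun x hx => Subgroup.mem_prod.1 hx, fun _ _ => rfl⟩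
  obtain ⟨f, hf, e⟩ := hs.mor hm
  have m1 : ∀ x ∈ P₁, ((x, 1) : Ω × Ω) ∈ P₁.prod P₂ := fun x hx =>
    Subgroup.mem_prod.2 ⟨hx, P₂.one_mem⟩
  have m2 : ∀ y ∈ P₂, ((1, y) : Ω × Ω) ∈ P₁.prod P₂ := fun y hy =>
    Subgroup.mem_prod.2 ⟨P₁.one_mem, hy⟩
  refine ⟨f, hf.mono (sup_le (fun x hx => ?_) fun y hy => ?_), fun x hx => ?_, fun y hy => ?_⟩
  · have := ap_mem_imageAlong (α := mulH h.comm) hm.le (m1 x hx)
    rwa [ap_mulH _ _ (hm.le (m1 x hx)), mul_one] at this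
  · have := ap_mem_imageAlong (α := mulH h.comm) hm.le (m2 y hy)
    rwa [ap_mulH _ _ (hm.le (m2 y hy)), one_mul] at this
  · have := e _ (m1 x hx)
    rwa [ap_mulH _ _ (hm.le (m1 x hx)), ap_mulH _ _ (hm.mem (m1 x hx)), mul_one, h2.map_one,
      mul_one] at this
  · have := e _ (m2 y hy)
    rwa [ap_mulH _ _ (hm.le (m2 y hy)), ap_mulH _ _ (hm.mem (m2 y hy)), one_mul, h1.map_one,
      one_mul] at this

theorem CP.czS (h : CP E₁ E₂ D) : CzS D E₁ T₂ := fun _ _ hf =>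
  h.exists_mor hf (mor_id E₂ le_rfl)

theorem CP.congr_mor {T' : Subgroup Ω} {D' : FusionSystem T'} (h : CP E₁ E₂ D) (h' : CP E₁ E₂ D') :
    Mor D P f ↔ Mor D' P f := h.mor_iff.trans h'.mor_iff.symm

/-- A map of a system containing commuting copies. -/
theorem CP.mor_of_le (h : CP E₁ E₂ D) (h1 : CzS F E₁ T₂) (h2 : CzS F E₂ T₁) (hf : Mor D P f) :
    Mor F P f := by
  obtain ⟨P₁, P₂, f₁, f₂, k1, k2, k3⟩ := h.mor_iff.1 hf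
  obtain ⟨g₁, l1, e1, z1⟩ := h1 _ _ k1
  obtain ⟨g₂, l2, e2, z2⟩ := h2 _ _ k2
  have hP : P ≤ P₁ ⊔ T₂ := fun z hz => by
    obtain ⟨x, hx, y, hy, rfl, -⟩ := k3 z hz
    exact Subgroup.mul_mem_sup hx (k2.le hy)
  have key : ∀ z ∈ P, g₁ z ∈ P₂ ⊔ T₁ ∧ g₂ (g₁ z) = f z := fun z hz => by
    obtain ⟨x, hx, y, hy, rfl, e⟩ := k3 z hz
    have m1 : f₁ x ∈ P₂ ⊔ T₁ := Subgroup.mem_sup_right (k1.mem hx)
    have m2 : y ∈ P₂ ⊔ T₁ := Subgroup.mem_sup_left hy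
    rw [l1.map_mul (Subgroup.mem_sup_left hx) (Subgroup.mem_sup_right (k2.le hy)), e1 x hx,
      z1 y (k2.le hy), l2.map_mul m1 m2, z2 _ (k1.mem hx), e2 y hy, e]
    exact ⟨Subgroup.mul_mem _ m1 m2, rfl⟩
  exact ((l1.mono hP).comp l2 fun z hz => (key z hz).1).congr fun z hz => (key z hz).2

theorem CP.sub_of (h : CP E₁ E₂ D) (h1 : CzS F E₁ T₂) (h2 : CzS F E₂ T₁) : D.IsSubsystemOf F :=
  isSubsystemOf_iff.2 fun _ _ => h.mor_of_le h1 h2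

end Cfsg.Agent.Fusion
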