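import Cfsg.Agent.Lib.Fusion.CProd

/-! Central products of normal subsystems are normal. -/

set_option autoImplicit false
set_option linter.unusedSectionVars false

namespace Cfsg.Agent.Fusion

open Cfsg Cfsg.FusionSystem

variable {Ω : Type*} [Group Ω] {T₁ T₂ T S : Subgroup Ω} {E₁ : FusionSystem T₁}
  {E₂ : FusionSystem T₂} {D E : FusionSystem T} {F : FusionSystem S} {P Q R U W Y : Subgroup Ω}
  {f g : Ω → Ω} {p : ℕ} [hp : Fact p.Prime] [Finite S]

theorem invariant_of_local (hS : IsPGroup p S) (hF : F.IsSaturated p) (hD : D.IsSubsystemOf F)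
    (hT : F.StronglyClosed T) (pres : ∀ α ∈ F.autGroup T, Pres D α)
    (h : ∀ P, P < T → F.IsFullyNormalized P → hat F p P ⊓ T ≤ P →
      ∀ a ∈ F.autGroup P, ∀ b ∈ D.autGroup P, a * b * a⁻¹ ∈ D.autGroup P) :
    D.IsInvariantIn F := by
  have := finite_of_le hT.1
  refine isInvariantIn_iff.2 ⟨hD, hT, fun P f hf α hα => pres α hα P f hf,
    fun P f hP hf => twist_mor.1 (alp_T hS hF hT (D := twist D pres) le_twist_aut
      (fun P hlt hn ih a ha => ?_) P hP f hf)⟩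
  have hm := (mem_autGroup hn.1).1 ha
  have hr := IsSaturated.receptive' hS hF hn
  refine (mem_autGroup hlt.le).2 ?_
  by_cases hH : hat F p P ⊓ T ≤ P
  · have := finite_autGroup F hn.1
    obtain ⟨c, hc, ψ, hψ, e⟩ := exists_ext_mod hS hr
      ((IsFullyAutomized.sylowIn (IsSaturated.fullyAutomized hS hF hn)).inf_normal
        (IsSubsystemOf.autGroup_le hD hlt.le) (h P hlt hn hH)) inf_le_left
      (IsSubsystemOf.autGroup_le hD hlt.le) hm (img_afun a) (N := normalizerIn T P)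
      (normalizerIn_mono hT.1) fun n hn' β _ eβ => by
        obtain ⟨σ, eσ⟩ := exists_cAut hn'.2
        have := h P hlt hn hH a ha σ (autInducedBy_le_autGroup D hlt.le
          (mem_autInducedBy.2 ⟨n, hn'.1, eσ⟩))
        rwa [← aut_ext (α := β) (β := a * σ * a⁻¹) fun x hx => by
          rw [← afun_afun_inv a hx, eβ _ (afun_mem _ hx), afun_conj_eq a σ _ (afun_mem _ hx),
            eσ _ (afun_mem _ hx)]] at this
    rw [normalizerIn_sup_self hlt.le] at hψ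
    have := finite_of_le hψ.le
    have d1 := (ih _ ψ normalizerIn_le (card_lt_of_lt (lt_normalizerIn (pgroup_of_le hS hT.1) hlt))
      hψ).mono (le_normalizerIn hlt.le)
    have d2 := ((mem_autGroup hlt.le).1 (inv_mem hc)).sub (sub_twist (hK := pres))
    exact (d1.comp d2 fun x hx => e x hx ▸ afun_mem _ (afun_mem _ hx)).congr fun x hx => by
      rw [e x hx, afun_inv_afun _ (afun_mem _ hx)]
  · obtain ⟨g, hg, e⟩ := IsReceptive.ext hr hm (img_afun a)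
    have hl : P ≤ hat F p P ⊓ T := le_inf (le_hat hS hn.1) hlt.le
    have := finite_of_le (inf_le_right : hat F p P ⊓ T ≤ T)
    exact ((ih _ g inf_le_right (card_lt_of_lt (lt_of_le_of_ne hl fun e => hH e.ge))
      (hg.mono (inf_le_left.trans (hat_le_Next hS hF hn ha)))).mono hl).congr e

/-- Automorphisms that are inner on `R ⊓ T`. -/
def innOn (F : FusionSystem S) (hT : F.StronglyClosed T) (hR : R ≤ S) : Subgroup (MulAut R) where
  carrier := {a | a ∈ F.autGroup R ∧ ∃ z ∈ R, ∀ u ∈ R, u ∈ T → afun a u = z * u * z⁻¹}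
  one_mem' := ⟨one_mem _, 1, one_mem _, fun u _ _ => by rw [afun_one]; group⟩
  mul_mem' := by
    rintro a b ⟨ha, z, hz, e⟩ ⟨hb, w, hw, e'⟩
    refine ⟨mul_mem ha hb, z * w, mul_mem hz hw, fun u hu hu' => ?_⟩
    rw [afun_mul _ _ hu, e _ (afun_mem _ hu)
      (StronglyClosed.mem hT ((mem_autGroup hR).1 hb) hu hu'), e' u hu hu']
    group
  inv_mem' := by
    rintro a ⟨ha, z, hz, e⟩
    refine ⟨inv_mem ha, z⁻¹, inv_mem hz, fun u hu hu' => ?_⟩
    have := e _ (afun_mem a⁻¹ hu) (StronglyClosed.mem hT ((mem_autGroup hR).1 (inv_mem ha)) hu hu')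
    rw [afun_afun_inv _ hu] at this
    conv_rhs => rw [this]
    group

theorem chain_mem_autCore' (hS : IsPGroup p S) (hT : F.StronglyClosed T) (hR : R ≤ S)
    {a : MulAut R} (ha : a ∈ innOn F hT hR) (h2 : ∀ x ∈ R, x⁻¹ * afun a x ∈ T) :
    a ∈ autCore F p R := by
  have := finite_of_le hR
  let C : ℕ → Subgroup Ω := fun i => if i = 0 then T else ⊤
  have hinv : ∀ α ∈ F.autGroup R, ∀ i, ∀ x ∈ R, x ∈ C i → afun α x ∈ C i := by
    intro α hα i x hx h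
    by_cases hi : i = 0
    · simp only [C, hi, if_true] at h ⊢
      exact StronglyClosed.mem hT ((mem_autGroup hR).1 hα) hx h
    · simp [C, hi]
  have hinv' : ∀ α ∈ innOn F hT hR, ∀ i, ∀ x ∈ R, x ∈ C i → afun α x ∈ C i :=
    fun α hα => hinv α hα.1
  refine le_autCore (N := chainStab _ C 1 hinv') (fun _ h => h.1.1)
    (chainStab_pgroup (pgroup_of_le hS hR) hinv' (by simp [C]) fun α hα => ?_)
    (chainStab_conj hinv' hinv fun b hb α hα => ⟨Subgroup.mul_mem _ (Subgroup.mul_mem _ hb hα.1)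
      (Subgroup.inv_mem _ hb), ?_⟩) ⟨ha, fun i hi x hx _ => ?_⟩
  · obtain ⟨z, hz, e⟩ := hα.1.2
    obtain ⟨k, hk⟩ := hS ⟨z, hR hz⟩
    have hk' : z ^ p ^ k = 1 := congrArg Subtype.val hk
    have key : ∀ n : ℕ, ∀ x ∈ R, x ∈ T → afun (α ^ n) x = z ^ n * x * (z ^ n)⁻¹ := by
      intro n
      induction n with
      | zero => intro x _ _; rw [pow_zero, afun_one]; group
      | succ n ih =>
        intro x hx hx'
        rw [pow_succ, afun_mul _ _ hx, ih _ (afun_mem _ hx)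
          (StronglyClosed.mem hT ((mem_autGroup hR).1 hα.1.1) hx hx'), e x hx hx']
        group
    exact ⟨k, fun x hx h => by rw [key _ x hx (by simpa [C] using h), hk']; group⟩
  · obtain ⟨z, hz, e⟩ := hα.2
    refine ⟨afun b z, afun_mem _ hz, fun u hu hu' => ?_⟩
    have m := afun_mem b⁻¹ hu
    rw [← afun_afun_inv b hu, afun_conj_eq b α _ m,
      e _ m (StronglyClosed.mem hT ((mem_autGroup hR).1 (inv_mem hb)) hu hu'),
      afun_map_mul _ (mul_mem hz m) (inv_mem hz), afun_map_mul _ hz m, afun_map_inv _ hz]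
  · obtain rfl : i = 0 := by omega
    simpa [C] using h2 x hx

/-- If `hat P ⊓ T ≤ P`, every element of `T` acting on `P ⊓ T` as an element of `P` lies in `P`. -/
theorem mem_of_hat_le (hS : IsPGroup p S) (hT : F.StronglyClosed T) (hP : P ≤ S)
    (h : hat F p P ⊓ T ≤ P) {x z : Ω} (hx : x ∈ T) (hz : z ∈ P)
    (e : ∀ u ∈ P, u ∈ T → x * u * x⁻¹ = z * u * z⁻¹) : x ∈ P := by
  have cj : ∀ z ∈ P, ∀ u ∈ P, u ∈ T → z * u * z⁻¹ ∈ P ∧ z * u * z⁻¹ ∈ T := fun z hz u hu hu' =>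
    ⟨mul_mem (mul_mem hz hu) (inv_mem hz), StronglyClosed.conj_mem hT (hP hz) hu'⟩
  let X : Subgroup Ω :=
    { carrier := {x | x ∈ T ∧ ∃ z ∈ P, ∀ u ∈ P, u ∈ T → x * u * x⁻¹ = z * u * z⁻¹}
      one_mem' := ⟨one_mem _, 1, one_mem _, fun _ _ _ => rfl⟩
      mul_mem' := by
        rintro a b ⟨ha, z, hz, e⟩ ⟨hb, w, hw, e'⟩
        refine ⟨mul_mem ha hb, z * w, mul_mem hz hw, fun u hu hu' => ?_⟩
        have := e _ (cj w hw u hu hu').1 (cj w hw u hu hu').2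
        calc a * b * u * (a * b)⁻¹ = a * (b * u * b⁻¹) * a⁻¹ := by group
          _ = z * w * u * (z * w)⁻¹ := by rw [e' u hu hu', this]; group
      inv_mem' := by
        rintro a ⟨ha, z, hz, e⟩
        refine ⟨inv_mem ha, z⁻¹, inv_mem hz, fun u hu hu' => ?_⟩
        have := e _ (cj _ (inv_mem hz) u hu hu').1 (cj _ (inv_mem hz) u hu hu').2
        calc a⁻¹ * u * a⁻¹⁻¹ = a⁻¹ * (z * (z⁻¹ * u * z⁻¹⁻¹) * z⁻¹) * a := by group
          _ = z⁻¹ * u * z⁻¹⁻¹ := by rw [← this]; group }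
  have hX : X ≤ P := by
    refine le_of_normalizer_inf_le hS hP (fun x hx => hT.1 hx.1)
      (le_normalizer_of_conj_mem fun s hs x hx => ?_) fun s hs hn => ?_
    · obtain ⟨hx, z, hz, e⟩ := hx
      refine ⟨StronglyClosed.conj_mem hT (hP hs) hx, s * z * s⁻¹,
        mul_mem (mul_mem hs hz) (inv_mem hs), fun u hu hu' => ?_⟩
      have := e _ (cj _ (inv_mem hs) u hu hu').1 (cj _ (inv_mem hs) u hu hu').2
      calc s * x * s⁻¹ * u * (s * x * s⁻¹)⁻¹ = s * (x * (s⁻¹ * u * s⁻¹⁻¹) * x⁻¹) * s⁻¹ := by group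
        _ = _ := by rw [this]; group
    · obtain ⟨σ, eσ⟩ := exists_cAut hn
      obtain ⟨hs, z, hz, e⟩ := hs
      exact h ⟨mem_hat.2 ⟨hT.1 hs, σ, chain_mem_autCore' hS hT hP
        ⟨autInducedBy_le_autGroup F hP (mem_autInducedBy.2 ⟨s, hT.1 hs, eσ⟩), z, hz,
          fun u hu hu' => by rw [eσ u hu, e u hu hu']⟩
        (fun x hx => by rw [eσ x hx]; exact conj_mod hT (hP hx) hs), eσ⟩, hs⟩
  exact hX ⟨hx, z, hz, e⟩

theorem CP.weaklyNormal (hS : IsPGroup p S) (h : CP E₁ E₂ D) (h₁ : E₁.IsWeaklyNormalIn F p)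
    (h₂ : E₂.IsWeaklyNormalIn F p) (hD : D.IsSubsystemOf F) : D.IsWeaklyNormalIn F p := by
  have hF := h₁.2.1
  have s1 := h₁.2.2.2.1
  have s2 := h₂.2.2.2.1
  have := finite_of_le s1.1
  have := finite_of_le s2.1
  have hT : F.StronglyClosed T := h.sup ▸ stronglyClosed_sup hS hF s1 s2
  have i1 := IsInvariantIn.strongInv h₁.2.2
  have i2 := IsInvariantIn.strongInv h₂.2.2
  refine ⟨h.saturated (pgroup_of_le hS s1.1) (pgroup_of_le hS s2.1) h₁.1 h₂.1, hF,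
    invariant_of_local hS hF hD hT (fun α hα P f hf => ?_) fun P hlt hn hh a ha b hb => ?_⟩
  · have hm := (mem_autGroup hT.1).1 hα
    obtain ⟨P₁, P₂, f₁, f₂, k1, k2, k3⟩ := h.mor_iff.1 hf
    obtain ⟨g₁, l1, e1⟩ := i1 P₁ T₁ f₁ _ k1 k1.le le_rfl (fun x hx => k1.mem hx) (hm.mono h.le1)
    obtain ⟨g₂, l2, e2⟩ := i2 P₂ T₂ f₂ _ k2 k2.le le_rfl (fun x hx => k2.mem hx) (hm.mono h.le2)
    obtain ⟨g, hg, e3, e4⟩ := h.exists_mor l1 l2
    have key : ∀ z ∈ P, afun α z ∈ img (afun α) P₁ ⊔ img (afun α) P₂ ∧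
        g (afun α z) = afun α (f z) := fun z hz => by
      obtain ⟨x, hx, y, hy, rfl, e⟩ := k3 z hz
      have m1 : afun α x ∈ img (afun α) P₁ := subset_img hx
      have m2 : afun α y ∈ img (afun α) P₂ := subset_img hy
      rw [e, afun_map_mul _ (h.le1 (k1.le hx)) (h.le2 (k2.le hy)),
        hg.map_mul (Subgroup.mem_sup_left m1) (Subgroup.mem_sup_right m2), e3 _ m1, e4 _ m2,
        e1 x hx, e2 y hy, afun_map_mul _ (h.le1 (k1.mem hx)) (h.le2 (k2.mem hy))]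
      exact ⟨Subgroup.mul_mem_sup m1 m2, rfl⟩
    exact ⟨g, hg.mono (img_le_iff.2 fun z hz => (key z hz).1), fun z hz => (key z hz).2⟩
  · have hm := (mem_autGroup hn.1).1 ha
    have hb' := (mem_autGroup hlt.le).1 hb
    have r : ∀ {T' : Subgroup Ω} {E' : FusionSystem T'}, F.StronglyClosed T' → StrongInv E' F →
        Mor E' (P ⊓ T') (afun b) → Mor E' (P ⊓ T') (afun (a * b * a⁻¹)) := by
      intro T' E' s i k
      have := i.mor k le_rfl inf_le_right (fun x hx => ⟨afun_mem _ hx.1, k.mem hx⟩)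
        (hm.mono inf_le_left) (g := afun (a * b * a⁻¹)) fun x hx => afun_conj_eq a b x hx.1
      rwa [StronglyClosed.img_inf s hm, img_afun] at this
    refine (mem_autGroup hlt.le).2 (h.mor_iff.2 ⟨_, _, _, _, r s1 i1 (h.res1 hb'),
      r s2 i2 (h.symm.res1 hb'), fun z hz => ?_⟩)
    obtain ⟨x, hx, y, hy, rfl⟩ := h.mem (hlt.le hz)
    have hxP : x ∈ P := mem_of_hat_le hS s1 hn.1 ((inf_le_inf_left _ h.le1).trans hh) hx hz
      fun u _ hu => by
        have := h.comm u hu y hy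
        calc x * u * x⁻¹ = x * (u * y) * (x * y)⁻¹ := by group
          _ = _ := by rw [this]; group
    have hyP : y ∈ P := by
      have := P.mul_mem (P.inv_mem hxP) hz
      rwa [inv_mul_cancel_left] at this
    exact ⟨x, ⟨hxP, hx⟩, y, ⟨hyP, hy⟩, rfl, afun_map_mul _ hxP hyP⟩

theorem fix_other (hW : IsPGroup p W) (hWS : W ≤ S) (hY : F.StronglyClosed Y) {β : MulAut W}
    (hβ : β ∈ modKer F W T) (hc : (orderOf β).Coprime p)
    (h : ∀ x ∈ W, x ∈ T ⊓ Y → afun β x = x) {x : Ω} (hx : x ∈ W) (hx' : x ∈ Y) :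
    afun β x = x :=
  afun_fix_step hW hc hx (h _ (mul_mem (inv_mem hx) (afun_mem _ hx)) ⟨hβ.2 x hx,
    Y.mul_mem (Y.inv_mem hx') (StronglyClosed.mem hY ((mem_autGroup hWS).1 hβ.1) hx hx')⟩)

theorem czS_of_central (hS : IsPGroup p S) (hE : E.IsNormalIn F p) (hY : F.StronglyClosed Y)
    (h : Y ≤ centralizerIn S T) (hc : E.IsCentral (T ⊓ Y)) : CzS F E Y := by
  have hT := IsNormalIn.sc hE
  refine (czS_CE hS hE).mono fun x hx => ⟨h hx, fun P ψ h1 h2 h3 β h4 h5 h6 => ?_⟩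
  have m : x ∈ P ⊔ centralizerIn S T := Subgroup.mem_sup_right (h hx)
  refine fix_other (pgroup_of_le hS (Vc_le h3.1)) (Vc_le h3.1) hY h4 h5 (fun y hy hy' => ?_)
    (Subgroup.mem_sup_right (h2.mem_centralizer_img le_sup_left m
      (mem_centralizerIn.1 (centralizerIn_anti h1.1 (h hx))).2)) (StronglyClosed.mem hY h2 m hx)
  exact IsCentral.fix hc h6 ((h1.image hT (h2.mono le_sup_left)).mem_of_Vc hT.1 hy hy'.1) hy'

theorem cent_of_comm (h : ∀ x ∈ T₁, ∀ y ∈ T₂, x * y = y * x) (h2 : T₂ ≤ S) :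
    T₂ ≤ centralizerIn S T₁ := fun y hy =>
  mem_centralizerIn.2 ⟨h2 hy, fun x hx => by rw [← h x hx y hy, mul_inv_cancel_right]⟩

theorem CS.czS (hS : IsPGroup p S) (h : CS E₁ E₂) (h₁ : E₁.IsNormalIn F p)
    (h₂ : F.StronglyClosed T₂) : CzS F E₁ T₂ :=
  czS_of_central hS h₁ h₂ (cent_of_comm h.comm h₂.1) h.c1

theorem CP.half (hS : IsPGroup p S) (h : CP E₁ E₂ D) (h₁ : E₁.IsNormalIn F p)
    (h₂ : F.StronglyClosed T₂) {α : MulAut T} (hα : α ∈ D.autGroup T)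
    (hc : (orderOf α).Coprime p) : ∃ β ∈ modKer F (Vc S T₁) T₁, (∀ x ∈ T₁, afun β x = afun α x) ∧
      ∀ x ∈ T₂, afun β x = x := by
  have s1 := IsNormalIn.sc h₁
  have hF := h₁.1.2.1
  have hTS : T ≤ S := h.sup ▸ sup_le s1.1 h₂.1
  have := finite_of_le hTS
  have hm := h.res1' (((mem_autGroup le_rfl).1 hα).mono h.le1) le_rfl
  have := finite_of_le s1.1
  obtain ⟨a, ha, ea⟩ := hm.exists_aut (hm.img_eq_self fun x hx => hm.mem hx)
  have hca : (orderOf a).Coprime p := by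
    refine Nat.Coprime.of_dvd_left (orderOf_dvd_of_pow_eq_one (aut_ext fun x hx => ?_)) hc
    rw [← afun_pow_of_eq h.le1 (β := α) (fun x hx => (ea x hx).symm) _ x hx, pow_orderOf_eq_one,
      afun_one, afun_one]
  obtain ⟨β, hβ, hc', e⟩ := XA_coprime s1.1 (core_ext hS h₁ (TC.top s1) (IsSaturated.fullyCentralized
    hS hF (fullyNormalized_of_normal s1.1 (StronglyClosed.le_normalizer s1))) ha) hca
  refine ⟨β, hβ, fun x hx => (e x hx).trans (ea x hx), fun x hx => ?_⟩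
  refine fix_other (pgroup_of_le hS (Vc_le s1.1)) (Vc_le s1.1) h₂ hβ hc' (fun y _ hy => ?_)
    (Subgroup.mem_sup_right (cent_of_comm h.comm h₂.1 hx)) hx
  rw [e y hy.1]
  exact IsCentral.fix h.c1 ((mem_autGroup le_rfl).1 ha) hy.1 hy

theorem CP.normal (hS : IsPGroup p S) (h : CP E₁ E₂ D) (h₁ : E₁.IsNormalIn F p)
    (h₂ : E₂.IsNormalIn F p) : D.IsNormalIn F p := by
  have s1 := IsNormalIn.sc h₁
  have s2 := IsNormalIn.sc h₂
  have hw := h.weaklyNormal hS h₁.1 h₂.1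
    (h.sub_of (h.toCS.czS hS h₁ s2) (h.toCS.symm.czS hS h₂ s1))
  have hT := hw.2.2.2.1
  refine normal_of_coprime hS hw fun α hα hc => ?_
  obtain ⟨β₁, k1, e1, z1⟩ := h.half hS h₁ s2 hα hc
  obtain ⟨β₂, k2, e2, z2⟩ := h.symm.half hS h₂ s1 hα hc
  have l1 : T ⊔ centralizerIn S T ≤ Vc S T₁ :=
    sup_le (h.sup ▸ sup_le_sup_left (cent_of_comm h.comm s2.1) _)
      ((centralizerIn_anti h.le1).trans le_sup_right)
  have l2 : T ⊔ centralizerIn S T ≤ Vc S T₂ :=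
    sup_le (h.symm.sup ▸ sup_le_sup_left (cent_of_comm h.symm.comm s1.1) _)
      ((centralizerIn_anti h.le2).trans le_sup_right)
  have m1 := ((mem_autGroup (Vc_le s1.1)).1 k1.1).mono l1
  have m2 := (mem_autGroup (Vc_le s2.1)).1 k2.1
  have hU := stronglyClosed_sup_centralizer hS h₁.1.2.1 hT
  have n1 : ∀ x ∈ T ⊔ centralizerIn S T, afun β₁ x ∈ Vc S T₂ := fun x hx =>
    l2 (StronglyClosed.mem hU m1 hx hx)
  refine ⟨_, m1.comp m2 n1, fun z hz => ?_, fun x hx => ?_⟩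
  · obtain ⟨x, hx, y, hy, rfl⟩ := h.mem hz
    have a1 : afun α x ∈ T₁ := e1 x hx ▸ StronglyClosed.mem s1 m1
      (Subgroup.mem_sup_left (h.le1 hx)) hx
    beta_reduce
    rw [m1.map_mul (Subgroup.mem_sup_left (h.le1 hx)) (Subgroup.mem_sup_left (h.le2 hy)), e1 x hx,
      z1 y hy, m2.map_mul (l2 (Subgroup.mem_sup_left (h.le1 a1))) (Subgroup.mem_sup_left hy),
      z2 _ a1, e2 y hy, afun_map_mul _ (h.le1 hx) (h.le2 hy)]
  · have := T.mul_mem (h.le1 (k1.2 x (l1 hx))) (h.le2 (k2.2 _ (n1 x hx)))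
    rwa [mul_assoc, mul_inv_cancel_left] at this

theorem exists_cent_normal (hS : IsPGroup p S) (hE : E.IsWeaklyNormalIn F p) (hY : F.IsNormal Y)
    (h1 : T ≤ centralizerIn S Y) (h2 : Y ≤ T) :
    ∃ E' : FusionSystem T, E'.IsNormalIn F p ∧ E'.IsCentral Y := by
  obtain ⟨D, ⟨d1, -, d3⟩, -⟩ := exists_wedge hS hE (cent_normal hS hE.2.1 hY).1
  have key : ∀ {X : Subgroup Ω} (D : FusionSystem X), X = T → D.IsNormalIn F p →
      D.IsSubsystemOf (centSys F hY.1) → ∃ E' : FusionSystem T, E'.IsNormalIn F p ∧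
        E'.IsCentral Y := by
    clear d1 d3 D
    rintro X D rfl d1 d3
    have := finite_of_le hE.2.2.2.1.1
    refine ⟨D, d1, central_of_fix (pgroup_of_le hS hE.2.2.2.1.1) (IsNormalIn.sat d1) h2
      fun P f hf x hx hx' => ?_⟩
    obtain ⟨g, -, e, e'⟩ := (sub_centSys_iff hY.1 h1).1 d3 P f hf
    rw [← e x hx, e' x hx']
  exact key D (inf_eq_left.2 h1) d1 (IsNormalIn.sub d3)

theorem exists_cp_normal (hS : IsPGroup p S) (h₁ : E₁.IsNormalIn F p) (h₂ : E₂.IsNormalIn F p)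
    (hc : ∀ x ∈ T₁, ∀ y ∈ T₂, x * y = y * x) : ∃ D : FusionSystem (T₁ ⊔ T₂), D.IsNormalIn F p ∧
      (T₁ ⊓ T₂ ≤ E₁.center → T₁ ⊓ T₂ ≤ E₂.center → IsCentralProductOf E₁ E₂ D) := by
  have s1 := IsNormalIn.sc h₁
  have s2 := IsNormalIn.sc h₂
  have := finite_of_le s1.1
  have := finite_of_le s2.1
  by_cases h : T₁ ⊓ T₂ ≤ E₁.center ∧ T₁ ⊓ T₂ ≤ E₂.center
  · obtain ⟨D, hD⟩ := exists_cp (E₁ := E₁) (E₂ := E₂) ⟨hc,
      IsCentral.of_le (center_isCentral _) h.1, IsCentral.of_le (center_isCentral _) h.2⟩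
    exact ⟨D, hD.normal hS h₁ h₂, fun _ _ => hD.isCentralProductOf⟩
  · have hn : F.IsNormal (T₁ ⊓ T₂) := normal_of_abelian hS h₁.1.2.1 (stronglyClosed_inf s1 s2)
      fun x hx y hy => hc x hx.1 y hy.2
    obtain ⟨D₁, d1, c1⟩ := exists_cent_normal hS h₁.1 hn
      (cent_of_comm (fun x hx y hy => (hc y hy x hx.2).symm) s1.1) inf_le_left
    obtain ⟨D₂, d2, c2⟩ := exists_cent_normal hS h₂.1 hn
      (cent_of_comm (fun x hx y hy => hc x hx.1 y hy) s2.1) inf_le_right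
    obtain ⟨D, hD⟩ := exists_cp (E₁ := D₁) (E₂ := D₂) ⟨hc, c1, c2⟩
    exact ⟨D, hD.normal hS d1 d2, fun a b => absurd ⟨a, b⟩ h⟩

end Cfsg.Agent.Fusion
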