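import Cfsg.Agent.Lib.Transfer.AutS
import Cfsg.Agent.Lib.Transfer.Invol

set_option autoImplicit false
set_option linter.unusedSectionVars false

/-! A coprime operator centralizing the centralizer of an involution: basic facts. -/
namespace Cfsg.Agent.Ca
open Subgroup Cfsg.Agent.MS Cfsg.Agent.Transfer

universe u
variable {X : Type u} [Group X] [Finite X]

def Cj (G : Subgroup X) (a b : X) : Prop := ∃ g ∈ G, b = g * a * g⁻¹

structure Hyp (G : Subgroup X) (a t : X) : Prop where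
  nn : a ∈ NN G
  cop : (orderOf a).Coprime #G
  mem : t ∈ G
  ne : t ≠ 1
  sq : t * t = 1
  cen : ∀ g ∈ G, Commute g t → Commute g a

variable {G N T : Subgroup X} {a b c t u v w x y g : X}

theorem Cj.refl (G : Subgroup X) (a : X) : Cj G a a := ⟨1, one_mem _, by simp⟩
theorem Cj.symm (h : Cj G a b) : Cj G b a := by
  obtain ⟨g, hg, rfl⟩ := h
  exact ⟨g⁻¹, inv_mem hg, by group⟩
theorem Cj.trans (h : Cj G a b) (h' : Cj G b c) : Cj G a c := by
  obtain ⟨g, hg, rfl⟩ := h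
  obtain ⟨k, hk, rfl⟩ := h'
  exact ⟨k * g, mul_mem hk hg, by group⟩
theorem Cj.conj (h : Cj G a b) (hg : g ∈ G) : Cj G a (g * b * g⁻¹) := h.trans ⟨g, hg, rfl⟩
theorem Cj.conj' (h : Cj G a b) (hg : g ∈ G) : Cj G a (g⁻¹ * b * g) := by
  simpa using h.conj (inv_mem hg)
theorem Cj.mem (h : Cj G t u) (ht : t ∈ G) : u ∈ G := by
  obtain ⟨g, hg, rfl⟩ := h
  exact mul_mem (mul_mem hg ht) (inv_mem hg)

theorem ord_conj (g a : X) : orderOf (g * a * g⁻¹) = orderOf a :=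
  (MulAut.conj g).orderOf_eq a

theorem cm_conj' (h : Commute x y) (g : X) : Commute (g⁻¹ * x * g) (g⁻¹ * y * g) := by
  simpa using h.conj g⁻¹

theorem Hyp.conj (h : Hyp G a t) (hg : g ∈ G) : Hyp G (g * a * g⁻¹) (g * t * g⁻¹) where
  nn := mul_mem (mul_mem (le_nn G hg) h.nn) (inv_mem (le_nn G hg))
  cop := by rw [ord_conj]; exact h.cop
  mem := mul_mem (mul_mem hg h.mem) (inv_mem hg)
  ne := fun e => h.ne (by simpa using e)
  sq := conj_mul_self h.sq g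
  cen := fun k hk hc => by
    have h1 := cm_conj' hc g
    have h2 : g⁻¹ * (g * t * g⁻¹) * g = t := by group
    rw [h2] at h1
    have h3 := (h.cen _ (mul_mem (mul_mem (inv_mem hg) hk) hg) h1).conj g
    have h4 : g * (g⁻¹ * k * g) * g⁻¹ = k := by group
    rwa [h4] at h3

theorem Cj.mul_inv_mem (hn : a ∈ NN G) (h : Cj G a b) : b * a⁻¹ ∈ G := by
  obtain ⟨g, hg, rfl⟩ := h
  have := mul_mem hg (conj_mem_of_mem_normalizer hn (inv_mem hg))
  convert this using 1; group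

theorem Hyp.eq_of_comm (h : Hyp G a t) (hb : Cj G a b) (hc : Commute b a) : b = a := by
  have h1 := hb.mul_inv_mem h.nn
  have h2 : (b * a⁻¹) ^ orderOf a = 1 := by
    rw [hc.inv_right.mul_pow, inv_pow, pow_orderOf_eq_one]
    obtain ⟨g, -, rfl⟩ := hb
    rw [← ord_conj g a, pow_orderOf_eq_one]; simp
  have h3 : orderOf (b * a⁻¹) = 1 :=
    Nat.eq_one_of_dvd_coprimes h.cop (orderOf_dvd_of_pow_eq_one h2) (orderOf_dvd h1)
  exact mul_inv_eq_one.1 (orderOf_eq_one_iff.1 h3)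

theorem Hyp.ta (h : Hyp G a t) : Commute t a := h.cen t h.mem (Commute.refl t)

theorem Hyp.uniq (h : Hyp G a t) (hb : Cj G a b) (hc : Commute t b) : b = a := by
  have h1 := h.cen _ (hb.mul_inv_mem h.nn) (hc.mul_right h.ta.inv_right).symm
  have h2 := h1.mul_left (Commute.refl a)
  rw [inv_mul_cancel_right] at h2
  exact h.eq_of_comm hb h2

theorem Hyp.of (h : Hyp G a t) (hu : Cj G t u) (hb : Cj G a b) (hc : Commute u b) : Hyp G b u := by
  obtain ⟨g, hg, rfl⟩ := hu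
  have h1 := h.conj hg
  rw [h1.uniq ((Cj.symm ⟨g, hg, rfl⟩).trans hb) hc]
  exact h1

theorem Hyp.uniq' (h : Hyp G a t) (hu : Cj G t u) (hb : Cj G a b) (hc : Cj G a c)
    (h1 : Commute u b) (h2 : Commute u c) : c = b :=
  (h.of hu hb h1).uniq (hb.symm.trans hc) h2

theorem Hyp.pt (h : Hyp G a t) (hu : Cj G t u) : ∃ b, Cj G a b ∧ Commute u b := by
  obtain ⟨g, hg, rfl⟩ := hu
  exact ⟨_, ⟨g, hg, rfl⟩, (h.conj hg).ta⟩

theorem Hyp.ex (h : Hyp G a t) (hb : Cj G a b) : ∃ u, Cj G t u ∧ Hyp G b u := by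
  obtain ⟨g, hg, rfl⟩ := hb
  exact ⟨_, ⟨g, hg, rfl⟩, h.conj hg⟩

theorem Hyp.sub (h : Hyp G a t) (h1 : N ≤ G) (h2 : a ∈ NN N) (h3 : t ∈ N) : Hyp N a t :=
  ⟨h2, h.cop.coprime_dvd_right (card_dvd h1), h3, h.ne, h.sq, fun g hg => h.cen g (h1 hg)⟩

theorem Hyp.sq' (h : Hyp G a t) (hu : Cj G t u) : u * u = 1 := by
  obtain ⟨g, -, rfl⟩ := hu; exact conj_mul_self h.sq g
theorem Hyp.ne' (h : Hyp G a t) (hu : Cj G t u) : u ≠ 1 := by
  obtain ⟨g, hg, rfl⟩ := hu; exact (h.conj hg).ne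

theorem zle (h : a ∈ G) : zpowers a ≤ G := (zpowers_le).2 h
theorem zsol (a : X) : Group.IsSolvable (zpowers a) := sol_of_ab (ab_of_cyc (cyc_zpowers a))
theorem Hyp.zcop (h : Hyp G a t) (h1 : N ≤ G) : (#(zpowers a)).Coprime #N := by
  rw [Nat.card_zpowers]; exact h.cop.coprime_dvd_right (card_dvd h1)

theorem pg_of_sq (h : t * t = 1) : IsPGroup 2 (zpowers t) := by
  rintro ⟨_, k, rfl⟩
  refine ⟨1, Subtype.ext ?_⟩
  change (t ^ k) ^ 2 ^ 1 = 1
  rw [pow_one, ← zpow_natCast, ← zpow_mul, mul_comm, zpow_mul, zpow_natCast, sq, h, one_zpow]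

theorem mem_C1' : g ∈ C1 x ↔ Commute g x := mem_C1

theorem Hyp.syl (h : Hyp G a t) (h1 : T ≤ G) (h2 : IsPGroup 2 T) (h3 : a ∈ NN T) : T ≤ C1 a := by
  have hA : zpowers a ≤ NN G := zle h.nn
  obtain ⟨S, hS, htS, hAS⟩ := Solv.coprime_exists_sylowIn_ge hA (h.zcop le_rfl) (.inl (zsol a))
    (zle h.mem) (pg_of_sq h.sq) (nn_of_cc (zle (by rw [cc_zpowers]; exact mem_C1'.2 h.ta.symm)))
  have hSa : zpowers a ≤ CC S := by
    refine cop_nil_cc (nil_of_pg hS.isPGroup) hAS (h.zcop hS.le) ?_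
    rintro s ⟨hs, hs'⟩
    rw [cc_zpowers] at hs' ⊢
    refine mem_C1'.2 (h.cen s (hS.le hs) ?_)
    exact (mem_CC.1 hs' t ⟨htS (mem_zpowers t), mem_C1'.2 h.ta⟩).symm
  obtain ⟨P, hP, hTP, hAP⟩ := Solv.coprime_exists_sylowIn_ge hA (h.zcop le_rfl) (.inl (zsol a))
    h1 h2 (zle h3)
  obtain ⟨c, hc, he⟩ := Solv.coprime_sylowIn_conj hA (h.zcop le_rfl) (.inl (zsol a)) hS hP hAS hAP
  rw [← cj_eq_smul] at he
  refine hTP.trans ?_
  rw [← he, ← cc_zpowers]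
  have := cc_cj (cc_symm hSa) c
  rwa [cj_cc hc.2] at this

theorem Hyp.fix (h : Hyp G a t) (h1 : N ≤ G) (h2 : a ∈ NN N) (h3 : T ≤ N) (h4 : IsPGroup 2 T) :
    ∃ n ∈ N, T ≤ C1 (n * a * n⁻¹) := by
  obtain ⟨P, hP, hAP⟩ := Solv.coprime_exists_sylowIn (zle h2) (h.zcop h1) (.inl (zsol a)) 2
  have h5 := h.syl (hP.le.trans h1) hP.isPGroup (hAP (mem_zpowers a))
  obtain ⟨n, hn, h6⟩ := hP.toSyl.exists_cj_le h4 h3
  refine ⟨n⁻¹, inv_mem hn, fun s hs => mem_C1'.2 ?_⟩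
  have := cm_conj' (mem_C1'.1 (h5 (h6 (conj_mem_cj hs)))) n
  simpa [mul_assoc] using this

theorem Hyp.orb (h : Hyp G a t) (h1 : N ≤ G) (h2 : t ∈ N) (hb : Cj G a b) (h3 : b ∈ NN N) :
    Cj N a b := by
  obtain ⟨u, -, hu⟩ := h.ex hb
  obtain ⟨n, hn, h4⟩ := hu.fix h1 h3 (zle h2) (pg_of_sq h.sq)
  have := h.uniq (hb.conj (h1 hn)) (mem_C1'.1 (h4 (mem_zpowers t)))
  exact Cj.symm ⟨n, hn, this.symm⟩

theorem Hyp.orb' (h : Hyp G a t) (h1 : N ≤ G) (h2 : a ∈ NN N) (hb : Cj N a b) :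
    Cj ⁅N, zpowers a⁆ a b := by
  obtain ⟨n, hn, rfl⟩ := hb
  rw [← Solv.coprime_commutator_sup_centralizer (zle h2) (h.zcop h1) (.inl (zsol a))] at hn
  obtain ⟨c, hc, k, hk, rfl⟩ := (mem_sup_l (inf_le_left.trans (left_nn_comm _ _))).1 hn
  refine ⟨c, hc, ?_⟩
  have := conj_eq_of_cc hk.2 (mem_zpowers a)
  rw [mul_inv_rev, ← this]; rw [this]
  calc c * k * a * (k⁻¹ * c⁻¹) = c * (k * a * k⁻¹) * c⁻¹ := by group
    _ = _ := by rw [this]

/-- the 2-part of an element -/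
def Dec (g x : X) : Prop := IsPGroup 2 (zpowers x) ∧ Commute x g ∧ Odd (orderOf (x⁻¹ * g))

theorem pg_of_pow {k : ℕ} (h : x ^ 2 ^ k = 1) : IsPGroup 2 (zpowers x) := by
  rintro ⟨_, j, rfl⟩
  refine ⟨k, Subtype.ext ?_⟩
  change (x ^ j) ^ 2 ^ k = 1
  rw [← zpow_natCast, ← zpow_mul, mul_comm, zpow_mul, zpow_natCast, h, one_zpow]

theorem cm_of_mem (h : Commute x g) (hy : y ∈ zpowers g) : Commute x y := by
  obtain ⟨k, rfl⟩ := hy; exact h.zpow_right k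

theorem exists_dec (g : X) : ∃ x ∈ zpowers g, Dec g x := by
  obtain ⟨x, hx, y, hy, he, ⟨k, hk⟩, ho⟩ := exists_pPart 2 g
  refine ⟨x, hx, pg_of_pow hk, (cm_of_mem (Commute.refl g) hx).symm, ?_⟩
  rw [he, inv_mul_cancel_left]; exact odd_iff_coprime_two.2 ho

noncomputable def two (g : X) : X := (exists_dec g).choose
theorem two_mem (g : X) : two g ∈ zpowers g := (exists_dec g).choose_spec.1
theorem two_dec (g : X) : Dec g (two g) := (exists_dec g).choose_spec.2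

theorem odd_mul (h : Commute x y) (h1 : Odd (orderOf x)) (h2 : Odd (orderOf y)) :
    Odd (orderOf (x * y)) := (h1.mul h2).of_dvd_nat h.orderOf_mul_dvd_mul_orderOf

theorem two_eq (h : Dec g x) : two g = x := by
  obtain ⟨h1, h2, h3⟩ := h
  obtain ⟨k1, k2, k3⟩ := two_dec g
  have hc : Commute x (two g) := cm_of_mem h2 (two_mem g)
  have e : x⁻¹ * two g = (x⁻¹ * g) * ((two g)⁻¹ * g)⁻¹ := by group
  have ho : Odd (orderOf (x⁻¹ * two g)) := by
    rw [e]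
    refine odd_mul ?_ h3 (by rwa [orderOf_inv])
    exact ((hc.inv_inv.mul_right h2.inv_left).mul_left
      (k2.inv_left.symm.mul_right (Commute.refl g))).inv_right
  have := eq_one_of_odd_of_mem (isPGroup_sup_of_commute h1 k1 hc)
    (mul_mem (inv_mem (mem_sup_left (mem_zpowers x))) (mem_sup_right (mem_zpowers _))) ho
  exact (inv_mul_eq_one.1 this).symm

theorem inv_of_inv (h : v * g * v⁻¹ = g⁻¹) (hw : w ∈ zpowers g) : v * w * v⁻¹ = w⁻¹ := by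
  obtain ⟨k, rfl⟩ := hw
  simp only
  rw [← conj_zpow, h, inv_zpow]

theorem inv_self (h : v * v = 1) : v⁻¹ = v := inv_eq_of_mul_eq_one_right h

theorem inv_r (hu : u * u = 1) (hv : v * v = 1) : v * (u * v) * v⁻¹ = (u * v)⁻¹ := by
  rw [mul_inv_rev, inv_self hu, ← mul_assoc, mul_inv_cancel_right, inv_self hv]
theorem inv_l (hu : u * u = 1) (hv : v * v = 1) : u * (u * v) * u⁻¹ = (u * v)⁻¹ := by
  rw [mul_inv_rev, inv_self hu, ← mul_assoc, hu, one_mul, inv_self hv]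

theorem nn_of_inv (h : v * g * v⁻¹ = g⁻¹) : v ∈ NN (zpowers g) :=
  mem_normalizer_of_conj_mem fun w hw => by rw [inv_of_inv h hw]; exact inv_mem hw

theorem conj_of_inv (ho : Odd (orderOf y)) (h : w * y * w⁻¹ = y⁻¹) :
    ∃ c ∈ zpowers y, y * w = c * w * c⁻¹ := by
  obtain ⟨k, hk⟩ := ho
  have h1 : y ^ (k + 1) * y ^ (k + 1) = y := by
    rw [← pow_add, show k + 1 + (k + 1) = 2 * k + 1 + 1 by ring, pow_succ, ← hk, pow_orderOf_eq_one,
      one_mul]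
  refine ⟨y ^ (k + 1), pow_mem (mem_zpowers y) _, ?_⟩
  have h2 := inv_of_inv h (inv_mem (pow_mem (mem_zpowers y) (k + 1)))
  rw [inv_inv] at h2
  calc y * w = y ^ (k + 1) * (y ^ (k + 1)) * w := by rw [h1]
    _ = y ^ (k + 1) * (w * (y ^ (k + 1))⁻¹ * w⁻¹) * w := by rw [h2]
    _ = _ := by group

end Cfsg.Agent.Ca
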