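import Cfsg.Agent.Lib.Fusion.Ca1

set_option autoImplicit false
set_option linter.unusedSectionVars false

/-! A coprime operator centralizing the centralizer of an involution: the counting argument. -/
namespace Cfsg.Agent.Ca
open Subgroup Cfsg.Agent.MS Cfsg.Agent.Transfer
open scoped Classical

universe u
variable {X : Type u} [Group X] [Fintype X]
variable {G N T : Subgroup X} {a b c t u v w x y g : X}

/-- local data: `u` fixes `b`, `x = u v` a nontrivial 2-element -/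
structure Loc (G : Subgroup X) (b u v : X) : Prop where
  hyp : Hyp G b u
  vm : v ∈ G
  vv : v * v = 1
  pg : IsPGroup 2 (zpowers (u * v))
  odd : Odd #(⁅G ⊓ NN (zpowers (u * v)), zpowers b⁆ : Subgroup X)

/-- the odd subgroup -/
abbrev RR (G : Subgroup X) (b x : X) : Subgroup X := ⁅G ⊓ NN (zpowers x), zpowers b⁆

theorem vb_of (h : Hyp G b u) (vm : v ∈ G) (vv : v * v = 1) (pg : IsPGroup 2 (zpowers (u * v))) :
    Commute v b := by
  obtain ⟨n, hn, h1⟩ := h.fix le_rfl h.nn (T := closure {u, v})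
    ((closure_le _).2 (Set.pair_subset h.mem vm)) (isPGroup_closure_invol h.sq vv pg)
  have h2 := h.uniq ⟨n, hn, rfl⟩ (mem_C1'.1 (h1 (subset_closure (by simp))))
  rw [h2] at h1
  exact mem_C1'.1 (h1 (subset_closure (by simp)))

theorem nn_of_cm (hb : b ∈ NN G) (h : Commute x b) : b ∈ NN (G ⊓ NN (zpowers x)) :=
  mem_normalizer_inf hb (mem_normalizer_normalizer (cc_le_nn _ (by
    rw [cc_zpowers]; exact mem_C1'.2 h.symm)))

namespace Loc
variable (h : Loc G b u v)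
include h

theorem vb : Commute v b := vb_of h.hyp h.vm h.vv h.pg
theorem xb : Commute (u * v) b := h.hyp.ta.mul_left h.vb
theorem uN : u ∈ G ⊓ NN (zpowers (u * v)) := ⟨h.hyp.mem, nn_of_inv (inv_l h.hyp.sq h.vv)⟩
theorem vN : v ∈ G ⊓ NN (zpowers (u * v)) := ⟨h.vm, nn_of_inv (inv_r h.hyp.sq h.vv)⟩
theorem bN : b ∈ NN (G ⊓ NN (zpowers (u * v))) := nn_of_cm h.hyp.nn h.xb
theorem RN : RR G b (u * v) ≤ G ⊓ NN (zpowers (u * v)) := comm_le_left (zle h.bN)
theorem NR : G ⊓ NN (zpowers (u * v)) ≤ NN (RR G b (u * v)) := left_nn_comm _ _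
theorem RG (hc : c ∈ RR G b (u * v)) : c ∈ G := (h.RN hc).1
theorem Rx (hc : c ∈ RR G b (u * v)) : Commute c (u * v) := by
  have h1 : RR G b (u * v) ≤ CC (zpowers (u * v)) := by
    refine cc_of_inf_eq_bot (h.RN.trans inf_le_right) ((zle (mul_mem h.uN h.vN)).trans h.NR) ?_
    rw [eq_bot_iff]
    exact fun r hr => eq_one_of_odd_of_mem h.pg hr.2 (odd_orderOf_of_mem h.odd hr.1)
  rw [cc_zpowers] at h1
  exact mem_C1'.1 (h1 hc)
theorem orb (hc : Cj G b c) (h1 : Commute (u * v) c) : Cj (RR G b (u * v)) b c := by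
  obtain ⟨k, -, hk⟩ := h.hyp.ex hc
  exact h.hyp.orb' inf_le_left h.bN (h.hyp.orb inf_le_left h.uN hc (nn_of_cm hk.nn h1))

/-- the involutions of the coset `R v` -/
theorem Wcj (h1 : w * v ∈ RR G b (u * v)) (h2 : w * w = 1) : Cj (RR G b (u * v)) v w := by
  obtain ⟨c, hc, he⟩ := conj_of_inv (odd_orderOf_of_mem h.odd h1) (inv_r h2 h.vv)
  rw [mul_assoc, h.vv, mul_one] at he
  exact ⟨c, zle h1 hc, he⟩

theorem Wconj (h1 : w * v ∈ RR G b (u * v)) (hc : c ∈ RR G b (u * v)) :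
    c * w * c⁻¹ * v ∈ RR G b (u * v) := by
  have h2 := mul_mem (mul_mem hc h1) (inv_conj_mem_of_mem_normalizer (h.NR h.vN) (inv_mem hc))
  convert h2 using 1; group

theorem Wx (h1 : Cj (RR G b (u * v)) v w) : Cj G u (u * v * w) := by
  obtain ⟨c, hc, rfl⟩ := h1
  refine ⟨c, h.RG hc, ?_⟩
  rw [← mul_assoc, ← mul_assoc, ← (h.Rx hc).eq, mul_assoc c, mul_assoc u, h.vv, mul_one]

theorem Wfix (h1 : w * v ∈ RR G b (u * v)) (h2 : w * w = 1) (hc : Cj G b c) (h3 : Commute v c)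
    (h4 : Commute w c) : Commute w b := by
  have h5 : u * (w * v) * u⁻¹ = (w * v)⁻¹ := by
    have e := inv_r h2 h.vv
    have e2 := ((h.Rx (inv_mem h1)).symm).eq
    calc u * (w * v) * u⁻¹ = u * v * (v * (w * v) * v⁻¹) * (u * v)⁻¹ := by
          rw [mul_inv_rev, inv_self h.vv]
          simp only [mul_assoc]
          rw [← mul_assoc v v (w * _), h.vv, one_mul, ← mul_assoc v v (v * _), h.vv, one_mul]
      _ = _ := by rw [e, e2]; group
  obtain ⟨k, -, hk⟩ := h.hyp.ex hc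
  have h6 : Commute (w * v) c := h4.mul_left h3
  obtain ⟨n, hn, he⟩ := h.hyp.orb (N := G ⊓ NN (zpowers (w * v))) inf_le_left
    ⟨h.hyp.mem, nn_of_inv h5⟩ hc (nn_of_cm hk.nn h6)
  have h7 := cm_of_mem h6.symm (conj_mem_of_mem_normalizer hn.2 (mem_zpowers (w * v)))
  rw [he, Commute.conj_iff] at h7
  have h8 := h7.symm.mul_left h.vb
  rwa [mul_assoc, h.vv, mul_one] at h8

end Loc

noncomputable def Fx (G : Subgroup X) (a y : X) : Finset X :=
  Finset.univ.filter (fun c => Cj G a c ∧ Commute y c)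

theorem mem_Fx : c ∈ Fx G a y ↔ Cj G a c ∧ Commute y c := by simp [Fx]

theorem Fx_congr (h : Cj G a b) (y : X) : Fx G a y = Fx G b y := by
  ext c; simp only [mem_Fx]
  exact ⟨fun k => ⟨h.symm.trans k.1, k.2⟩, fun k => ⟨h.trans k.1, k.2⟩⟩

theorem Fx_sub (G : Subgroup X) (a y : X) : Fx G a y ⊆ Fx G a 1 :=
  fun _ hc => mem_Fx.2 ⟨(mem_Fx.1 hc).1, Commute.one_left _⟩

theorem card_le_conj (s s' : Finset X) (c : X) (h : ∀ w ∈ s, c * w * c⁻¹ ∈ s') : s.card ≤ s'.card :=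
  Finset.card_le_card_of_injOn (fun w => c * w * c⁻¹) h (fun _ _ _ _ e => by simpa using e)

theorem Fx_le (hg : g ∈ G) (a y : X) : (Fx G a y).card ≤ (Fx G a (g * y * g⁻¹)).card :=
  card_le_conj _ _ g fun _ hw => mem_Fx.2 ⟨(mem_Fx.1 hw).1.conj hg, (mem_Fx.1 hw).2.conj g⟩

theorem Hyp.exists_pt (h : Hyp G a t) : ∃ pt : X → X, ∀ u, Cj G t u →
    (Cj G a (pt u) ∧ Commute u (pt u)) ∧ ∀ c, Cj G a c → Commute u c → pt u = c := by
  have : ∀ u, ∃ c, Cj G t u → Cj G a c ∧ Commute u c := fun u => by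
    by_cases hu : Cj G t u
    · obtain ⟨c, hc⟩ := h.pt hu
      exact ⟨c, fun _ => hc⟩
    · exact ⟨1, fun k => absurd k hu⟩
  choose pt hpt using this
  exact ⟨pt, fun u hu => ⟨hpt u hu, fun c h1 h2 => h.uniq' hu h1 (hpt u hu).1 h2 (hpt u hu).2⟩⟩

theorem Loc.ineq (h : Loc G b u v) :
    (Fx G b (u * v)).card * (Fx G b v).card ≤ (Fx G b 1).card := by
  obtain ⟨pt, hpt⟩ := h.hyp.exists_pt
  set W : Finset X := Finset.univ.filter (fun w => w * v ∈ RR G b (u * v) ∧ w * w = 1) with hW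
  have mW : ∀ w, w ∈ W ↔ w * v ∈ RR G b (u * v) ∧ w * w = 1 := fun w => by simp [hW]
  have cW : ∀ w ∈ W, ∀ c ∈ RR G b (u * v), c * w * c⁻¹ ∈ W := fun w hw c hc =>
    (mW _).2 ⟨h.Wconj ((mW _).1 hw).1 hc, conj_mul_self ((mW _).1 hw).2 c⟩
  have jW : ∀ w ∈ W, Cj (RR G b (u * v)) v w := fun w hw => h.Wcj ((mW _).1 hw).1 ((mW _).1 hw).2
  set j := (W.filter (fun w => Commute w b)).card with hj
  have hj0 : 0 < j := Finset.card_pos.2 ⟨v, Finset.mem_filter.2
    ⟨(mW _).2 ⟨by rw [h.vv]; exact one_mem _, h.vv⟩, h.vb⟩⟩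
  have h1 : j * (Fx G b (u * v)).card ≤ W.card := by
    refine Finset.mul_card_image_le_card_of_maps_to (f := fun w => pt (u * v * w)) ?_ j ?_
    · intro w hw
      obtain ⟨c, hc, rfl⟩ := jW w hw
      have k1 := h.Wx ⟨c, hc, rfl⟩
      have k2 : Commute (u * v) (c * b * c⁻¹) := by
        have := h.xb.conj c
        rwa [(h.Rx hc).eq, mul_inv_cancel_right] at this
      rw [(hpt _ k1).2 (c * b * c⁻¹) ⟨c, h.RG hc, rfl⟩ (k2.mul_left (h.vb.conj c))]
      exact mem_Fx.2 ⟨⟨c, h.RG hc, rfl⟩, k2⟩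
    · intro d hd
      obtain ⟨c, hc, rfl⟩ := h.orb (mem_Fx.1 hd).1 (mem_Fx.1 hd).2
      refine card_le_conj _ _ c fun w hw => ?_
      obtain ⟨k1, k2⟩ := Finset.mem_filter.1 hw
      exact Finset.mem_filter.2 ⟨cW w k1 c hc, (hpt _ (h.Wx (jW _ (cW w k1 c hc)))).2 _
        (mem_Fx.1 hd).1 ((mem_Fx.1 hd).2.mul_left (k2.conj c))⟩
  have h2 : W.card * (Fx G b v).card ≤ ∑ w ∈ W, (Fx G b w).card := by
    rw [← smul_eq_mul]
    refine Finset.card_nsmul_le_sum _ _ _ fun w hw => ?_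
    obtain ⟨c, hc, rfl⟩ := jW w hw
    exact Fx_le (h.RG hc) _ _
  have h3 : ∑ w ∈ W, (Fx G b w).card = ∑ d ∈ Fx G b 1, (W.filter (fun w => Commute w d)).card := by
    have : ∀ w ∈ W, (Fx G b w).card = ((Fx G b 1).filter (fun d => Commute w d)).card := by
      intro w _; congr 1; ext d; simp [mem_Fx]
    rw [Finset.sum_congr rfl this]
    simp only [Finset.card_filter]
    exact Finset.sum_comm
  have h4 : ∑ d ∈ Fx G b 1, (W.filter (fun w => Commute w d)).card ≤ (Fx G b 1).card * j := by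
    rw [← smul_eq_mul]
    refine Finset.sum_le_card_nsmul _ _ _ fun d hd => ?_
    rcases (W.filter (fun w => Commute w d)).eq_empty_or_nonempty with e | ⟨w, hw⟩
    · rw [e]; simp
    obtain ⟨k1, k2⟩ := Finset.mem_filter.1 hw
    obtain ⟨c, hc, rfl⟩ := jW w k1
    have k3 : Commute v (c⁻¹ * d * c) := by simpa [mul_assoc] using cm_conj' k2 c
    refine card_le_conj _ _ c⁻¹ fun w hw => ?_
    obtain ⟨k4, k5⟩ := Finset.mem_filter.1 hw
    have k6 := cW w k4 _ (inv_mem hc)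
    refine Finset.mem_filter.2 ⟨k6, h.Wfix ((mW _).1 k6).1 ((mW _).1 k6).2
      ((mem_Fx.1 hd).1.conj' (h.RG hc)) k3 ?_⟩
    simpa using cm_conj' k5 c
  have h5 : j * ((Fx G b (u * v)).card * (Fx G b v).card) ≤ j * (Fx G b 1).card := by
    calc _ = j * (Fx G b (u * v)).card * (Fx G b v).card := by ring
      _ ≤ W.card * (Fx G b v).card := Nat.mul_le_mul_right _ h1
      _ ≤ _ := by rw [mul_comm j]; exact h2.trans (h3.le.trans h4)
  exact Nat.le_of_mul_le_mul_left h5 hj0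

/-- the retraction onto the involutions generating a 2-group with `v` -/
noncomputable def ph (v u : X) : X := two (u * v) * v

theorem ph_mul (hv : v * v = 1) (u : X) : ph v u * v = two (u * v) := by
  rw [ph, mul_assoc, hv, mul_one]

theorem ph_spec (hu : u * u = 1) (hv : v * v = 1) : ∃ y ∈ zpowers (u * v), Odd (orderOf y) ∧
    u = y * ph v u ∧ ∃ c ∈ zpowers (u * v), u = c * ph v u * c⁻¹ := by
  obtain ⟨-, h2, h3⟩ := two_dec (u * v)
  have hy := mul_mem (inv_mem (two_mem (u * v))) (mem_zpowers (u * v))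
  have e : u = (two (u * v))⁻¹ * (u * v) * ph v u := by
    rw [ph, ← mul_assoc, mul_assoc _ (u * v), ← h2.eq, inv_mul_cancel_left, mul_assoc, hv, mul_one]
  refine ⟨_, hy, h3, e, ?_⟩
  obtain ⟨c, hc, he⟩ := conj_of_inv (w := ph v u) h3 (by
    have k1 := inv_of_inv (inv_r hu hv) hy
    have k2 := (cm_of_mem h2 (inv_mem hy)).eq
    rw [ph, mul_inv_rev]
    calc _ = two (u * v) * (v * ((two (u * v))⁻¹ * (u * v)) * v⁻¹) * (two (u * v))⁻¹ := by group
      _ = _ := by rw [k1, k2]; group)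
  exact ⟨c, zle hy hc, e.trans he⟩

theorem Loc.fib (h : Loc G b u v) :
    (Finset.univ.filter (fun w => Cj G u w ∧ ph v w = u)).card ≤
      (Finset.univ.filter (fun w => (Cj G u w ∧ ph v w = u) ∧ Commute w b)).card *
        (Fx G b (u * v)).card := by
  obtain ⟨pt, hpt⟩ := h.hyp.exists_pt
  have key : ∀ w, Cj G u w → ph v w = u → ∃ y, Odd (orderOf y) ∧ w = y * u ∧ y ∈ G ∧
      Commute y (u * v) ∧ Commute (u * v) (pt w) := by
    intro w h1 h2
    obtain ⟨y, hy, k1, k2, c, hc, k3⟩ := ph_spec (h.hyp.sq' h1) h.vv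
    have k4 : Commute (u * v) (w * v) := by
      have := (two_dec (w * v)).2.1
      rwa [← ph_mul h.vv, h2] at this
    have k5 : zpowers (w * v) ≤ G := zle (mul_mem (h1.mem h.hyp.mem) h.vm)
    rw [h2] at k2 k3
    refine ⟨y, k1, k2, k5 hy, (cm_of_mem k4 hy).symm, ?_⟩
    rw [(hpt w h1).2 (c * b * c⁻¹) ⟨c, k5 hc, rfl⟩ (by rw [k3]; exact h.hyp.ta.conj c)]
    have := h.xb.conj c
    rwa [← (cm_of_mem k4 hc).eq, mul_inv_cancel_right] at this
  refine Finset.card_le_mul_card_image_of_maps_to (f := pt) ?_ _ ?_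
  · intro w hw
    obtain ⟨h1, h2⟩ := (Finset.mem_filter.1 hw).2
    obtain ⟨y, -, -, -, -, k⟩ := key w h1 h2
    exact mem_Fx.2 ⟨(hpt w h1).1.1, k⟩
  · intro d hd
    obtain ⟨c, hc, rfl⟩ := h.orb (mem_Fx.1 hd).1 (mem_Fx.1 hd).2
    refine card_le_conj _ _ c⁻¹ fun w hw => ?_
    obtain ⟨hw1, hw2⟩ := Finset.mem_filter.1 hw
    obtain ⟨h1, h2⟩ := (Finset.mem_filter.1 hw1).2
    obtain ⟨y, k1, k2, k3, k4, -⟩ := key w h1 h2
    have yN : y ∈ G ⊓ NN (zpowers (u * v)) :=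
      ⟨k3, cc_le_nn _ (by rw [cc_zpowers]; exact mem_C1'.2 k4)⟩
    have wR : w ∈ NN (RR G b (u * v)) := by rw [k2]; exact h.NR (mul_mem yN h.uN)
    have hr : c⁻¹ * (w * c * w⁻¹) ∈ RR G b (u * v) :=
      mul_mem (inv_mem hc) (conj_mem_of_mem_normalizer wR hc)
    refine Finset.mem_filter.2 ⟨Finset.mem_univ _, ⟨h1.conj (inv_mem (h.RG hc)), ?_⟩, ?_⟩
    · have e : c⁻¹ * w * c⁻¹⁻¹ * v = c⁻¹ * (w * c * w⁻¹) * y * (u * v) := by
        rw [k2]; group
      have k5 : Commute (u * v) (c⁻¹ * (w * c * w⁻¹) * y) := ((h.Rx hr).mul_left k4).symm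
      rw [ph, two_eq (x := u * v) ⟨h.pg, ?_, ?_⟩, mul_assoc, h.vv, mul_one]
      · rw [e]; exact k5.mul_right (Commute.refl _)
      · rw [e, ← k5.eq, inv_mul_cancel_left]
        have ho : Odd #(RR G b (u * v) ⊔ zpowers y : Subgroup X) := by
          rw [odd_iff_coprime_two]
          exact Comp.coprime_sup' (zle (h.NR yN)) (odd_iff_coprime_two.1 h.odd)
            (by rw [Nat.card_zpowers]; exact odd_iff_coprime_two.1 k1)
        exact odd_orderOf_of_mem ho (mul_mem (mem_sup_left hr) (mem_sup_right (mem_zpowers y)))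
    · have := (hpt w h1).1.2
      rw [hw2] at this
      simpa [mul_assoc] using cm_conj' this c

/-- the inductive hypothesis on normalizers of cyclic 2-subgroups -/
def IH (G : Subgroup X) : Prop := ∀ x ∈ G, x ≠ 1 → IsPGroup 2 (zpowers x) → ∀ b u, Hyp G b u →
  u ∈ NN (zpowers x) → Commute x b → Odd #(RR G b x)

theorem IH.loc (ih : IH G) (h : Hyp G b u) (vm : v ∈ G) (vv : v * v = 1) (hne : u ≠ v)
    (pg : IsPGroup 2 (zpowers (u * v))) : Loc G b u v :=
  ⟨h, vm, vv, pg, ih _ (mul_mem h.mem vm) (fun e => hne (by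
    rw [← inv_self vv]; exact eq_inv_of_mul_eq_one_left e)) pg b u h (nn_of_inv (inv_l h.sq vv))
    (h.ta.mul_left (vb_of h vm vv pg))⟩

theorem count (ih : IH G) (h : Hyp G a t) (vm : v ∈ G) (vv : v * v = 1) (hv : ¬ Cj G t v)
    (pg : IsPGroup 2 (zpowers (t * v))) (h1 : ∀ c, Cj G a c → Commute (t * v) c → c = a) :
    ∀ c, Cj G a c → Commute v c := by
  obtain ⟨pt, hpt⟩ := h.exists_pt
  set K : Finset X := Finset.univ.filter (fun w => Cj G t w) with hK
  have mK : ∀ w, w ∈ K ↔ Cj G t w := fun w => by simp [hK]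
  have hph : ∀ w, Cj G t w → Cj G t (ph v w) ∧ Loc G (pt (ph v w)) (ph v w) v := by
    intro w hw
    obtain ⟨-, -, -, -, c, hc, k⟩ := ph_spec (h.sq' hw) vv
    have k1 : Cj G t (ph v w) :=
      hw.trans (Cj.symm ⟨c, zle (mul_mem (hw.mem h.mem) vm) hc, k⟩)
    refine ⟨k1, ih.loc (h.of k1 (hpt _ k1).1.1 (hpt _ k1).1.2) vm vv (fun e => hv (e ▸ k1)) ?_⟩
    rw [ph_mul vv]; exact (two_dec _).1
  set n := (K.filter (fun w => Commute w a)).card with hn
  set m := (Fx G a v).card with hm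
  set M := (Fx G a 1).card with hM
  by_contra hcon
  have hlt : m < M := by
    refine Finset.card_lt_card ⟨Fx_sub _ _ _, fun k => hcon fun c hc => ?_⟩
    exact (mem_Fx.1 (k (mem_Fx.2 ⟨hc, Commute.one_left _⟩))).2
  have e1 : n * M ≤ K.card := by
    refine Finset.mul_card_image_le_card_of_maps_to (f := pt) ?_ n ?_
    · exact fun w hw => mem_Fx.2 ⟨(hpt w ((mK w).1 hw)).1.1, Commute.one_left _⟩
    · intro d hd
      obtain ⟨c, hc, rfl⟩ := (mem_Fx.1 hd).1
      refine card_le_conj _ _ c fun w hw => ?_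
      obtain ⟨k1, k2⟩ := Finset.mem_filter.1 hw
      have k3 := ((mK w).1 k1).conj hc
      exact Finset.mem_filter.2 ⟨(mK _).2 k3, (hpt _ k3).2 _ ⟨c, hc, rfl⟩ (k2.conj c)⟩
  have e2 : (K.filter (fun w => Commute w (pt (ph v w)))).card ≤ n * m := by
    refine Finset.card_le_mul_card_image_of_maps_to (f := pt) ?_ n ?_
    · intro w hw
      obtain ⟨k1, k2⟩ := Finset.mem_filter.1 hw
      have k3 := (mK w).1 k1
      obtain ⟨k4, k5⟩ := hph w k3
      rw [(hpt w k3).2 _ (hpt _ k4).1.1 k2]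
      exact mem_Fx.2 ⟨(hpt _ k4).1.1, k5.vb⟩
    · intro d hd
      obtain ⟨c, hc, rfl⟩ := (mem_Fx.1 hd).1
      refine card_le_conj _ _ c⁻¹ fun w hw => ?_
      obtain ⟨k1, k2⟩ := Finset.mem_filter.1 hw
      have k3 := (mK w).1 (Finset.mem_filter.1 k1).1
      refine Finset.mem_filter.2 ⟨(mK _).2 (k3.conj (inv_mem hc)), ?_⟩
      have := (hpt w k3).1.2
      rw [k2] at this
      simpa [mul_assoc] using cm_conj' this c
  set A : X → ℕ := fun u => (Finset.univ.filter (fun w => Cj G u w ∧ ph v w = u)).card with hA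
  set B : X → ℕ := fun u =>
    (Finset.univ.filter (fun w => (Cj G u w ∧ ph v w = u) ∧ Commute w (pt u))).card with hB
  have hI : ∀ u ∈ K.image (ph v), Cj G t u ∧ Loc G (pt u) u v := by
    intro u hu
    obtain ⟨w, hw, rfl⟩ := Finset.mem_image.1 hu
    exact hph w ((mK w).1 hw)
  have e3 : K.card = ∑ u ∈ K.image (ph v), A u := by
    rw [Finset.card_eq_sum_card_image (ph v) K]
    refine Finset.sum_congr rfl fun u hu => ?_
    simp only [hA]; congr 1; ext w
    simp only [Finset.mem_filter, mK, Finset.mem_univ, true_and]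
    exact ⟨fun k => ⟨(hI u hu).1.symm.trans k.1, k.2⟩, fun k => ⟨(hI u hu).1.trans k.1, k.2⟩⟩
  have e4 : (K.filter (fun w => Commute w (pt (ph v w)))).card = ∑ u ∈ K.image (ph v), B u := by
    rw [Finset.card_eq_sum_card_fiberwise (f := ph v) (t := K.image (ph v))
      (fun w hw => Finset.mem_image_of_mem _ (Finset.mem_filter.1 hw).1)]
    refine Finset.sum_congr rfl fun u hu => ?_
    simp only [hB]; congr 1; ext w
    simp only [Finset.mem_filter, mK, Finset.mem_univ, true_and]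
    exact ⟨fun k => ⟨⟨(hI u hu).1.symm.trans k.1.1, k.2⟩, k.2 ▸ k.1.2⟩,
      fun k => ⟨⟨(hI u hu).1.trans k.1.1, k.1.2 ▸ k.2⟩, k.1.2⟩⟩
  have ept : pt t = a := (hpt t (Cj.refl _ _)).2 a (Cj.refl _ _) h.ta
  have eph : ph v t = t := by
    rw [ph, two_eq (x := t * v) ⟨pg, Commute.refl _, by simp⟩, mul_assoc, vv, mul_one]
  have htI : t ∈ K.image (ph v) := Finset.mem_image.2 ⟨t, (mK t).2 (Cj.refl _ _), eph⟩
  have e5 : ∑ u ∈ K.image (ph v), A u * m < ∑ u ∈ K.image (ph v), B u * M := by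
    refine Finset.sum_lt_sum (fun u hu => ?_) ⟨t, htI, ?_⟩
    · obtain ⟨k1, k2⟩ := hI u hu
      have k3 := k2.ineq
      rw [← Fx_congr (hpt u k1).1.1 v, ← Fx_congr (hpt u k1).1.1 1] at k3
      calc A u * m ≤ B u * (Fx G (pt u) (u * v)).card * m := Nat.mul_le_mul_right _ k2.fib
        _ ≤ _ := by rw [mul_assoc]; exact Nat.mul_le_mul_left _ k3
    · have k2 := (hI t htI).2.fib
      have k3 : (Fx G (pt t) (t * v)).card ≤ 1 := by
        rw [ept]
        exact Finset.card_le_one.2 fun c hc d hd =>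
          (h1 c (mem_Fx.1 hc).1 (mem_Fx.1 hc).2).trans (h1 d (mem_Fx.1 hd).1 (mem_Fx.1 hd).2).symm
      have k4 : 0 < B t := Finset.card_pos.2 ⟨t, Finset.mem_filter.2
        ⟨Finset.mem_univ _, ⟨Cj.refl _ _, eph⟩, ept ▸ h.ta⟩⟩
      have k5 : A t ≤ B t := k2.trans (by simpa using Nat.mul_le_mul_left (B t) k3)
      exact (Nat.mul_le_mul_right _ k5).trans_lt (Nat.mul_lt_mul_of_pos_left hlt k4)
  rw [← Finset.sum_mul, ← Finset.sum_mul, ← e3, ← e4] at e5
  have e6 := Nat.mul_le_mul_right m e1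
  have e7 := Nat.mul_le_mul_right M e2
  have : n * M * m = n * m * M := by ring
  omega

end Cfsg.Agent.Ca
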