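import Cfsg.Agent.Lib.Fusion.Ca2

set_option autoImplicit false
set_option linter.unusedSectionVars false

/-! A coprime operator centralizing the centralizer of an involution: Glauberman's theorem. -/
namespace Cfsg.Agent.Ca
open Subgroup Cfsg.Agent.MS Cfsg.Agent.Transfer
open scoped Classical

universe u
section
variable {X : Type u} [Group X] [Fintype X]
variable {G N T : Subgroup X} {a b c t u v w x y z g : X}

theorem odd_cj (h : Cj G a b) (ho : Odd #(⁅G, zpowers b⁆ : Subgroup X)) :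
    Odd #(⁅G, zpowers a⁆ : Subgroup X) := by
  obtain ⟨g, hg, rfl⟩ := h
  rwa [← cj_zpowers, ← cj_eq_of_mem hg, ← cj_commutator, card_cj] at ho

theorem nn_zp (h : Commute w v) : w ∈ NN (zpowers v) :=
  cc_le_nn _ (by rw [cc_zpowers]; exact mem_C1'.2 h)

theorem all_fix (ih : IH G) (h : Hyp G a t) (vm : v ∈ G) (vv : v * v = 1) (v1 : v ≠ 1)
    (hv : ∀ c, Cj G a c → Commute v c) (hw : Cj G t w) (hwv : Commute w v) :
    Odd #(⁅G, zpowers a⁆ : Subgroup X) := by
  obtain ⟨b, hb, hc⟩ := h.pt hw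
  have hb' := h.of hw hb hc
  have h1 := ih v vm v1 (pg_of_sq vv) b w hb' (nn_zp hwv) (hv b hb)
  refine odd_cj hb (odd_mono h1 ?_)
  rw [← Solv.coprime_commutator_commutator (zle hb'.nn) (hb'.zcop le_rfl) (.inl (zsol b))]
  refine commutator_mono (le_inf (comm_le_left (zle hb'.nn)) (nn_of_cc ?_)) le_rfl
  rw [cc_zpowers, commutator_le]
  intro g hg s hs
  have k1 : Commute v (g * s * g⁻¹) :=
    cm_of_mem (hv _ (hb.conj hg)) (by rw [← cj_zpowers]; exact conj_mem_cj hs)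
  exact mem_C1'.2 (k1.mul_right (cm_of_mem (hv b hb) hs).inv_right).symm

theorem mem_zp2 (ht : t * t = 1) (hx : x ∈ zpowers t) : x = 1 ∨ x = t := by
  obtain ⟨k, rfl⟩ := hx
  have h2 : t ^ (2 : ℤ) = 1 := by rw [zpow_two, ht]
  rcases Int.even_or_odd' k with ⟨j, rfl | rfl⟩
  · left; simp only; rw [zpow_mul, h2, one_zpow]
  · right; simp only; rw [zpow_add, zpow_mul, h2, one_zpow, one_mul, zpow_one]

theorem ord2 (ht : t * t = 1) (h1 : t ≠ 1) : orderOf t = 2 :=
  orderOf_eq_prime (by rw [sq, ht]) h1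

theorem uniq_fix (ih : IH G) (h : Hyp G a t) (hu : Cj G t u) (hne : u ≠ t) (hc : Commute t u)
    (htu : Cj G t (t * u)) (ym : y ∈ G) (yy : y * y = 1) (y1 : y ≠ 1) (yt : Commute y t)
    (yu : Commute y u) : ∀ c, Cj G a c → Commute y c → c = a := by
  intro c h1 h2
  have ya := h.cen y ym yt
  have ua := h.cen u (hu.mem h.mem) hc.symm
  have ho := ih y ym y1 (pg_of_sq yy) a t h (nn_zp yt.symm) ya
  have aN := nn_of_cm h.nn ya
  have tN : t ∈ G ⊓ NN (zpowers y) := ⟨h.mem, nn_zp yt.symm⟩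
  have uN : u ∈ G ⊓ NN (zpowers y) := ⟨hu.mem h.mem, nn_zp yu.symm⟩
  have hU : IsPGroup 2 (zpowers t ⊔ zpowers u : Subgroup X) :=
    isPGroup_sup_of_commute (pg_of_sq h.sq) (pg_of_sq (h.sq' hu)) hc
  have hm : ∀ e ∈ zpowers t ⊔ zpowers u, e = 1 ∨ e = t ∨ e = u ∨ e = t * u := by
    intro e he
    obtain ⟨p, hp, q, hq, rfl⟩ := (mem_sup_l (zle (nn_zp hc.symm))).1 he
    rcases mem_zp2 h.sq hp with rfl | rfl <;> rcases mem_zp2 (h.sq' hu) hq with rfl | rfl <;> simp
  have hR : RR G a y ≤ C1 a := by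
    refine cop_gen (A := zpowers t ⊔ zpowers u) ?_ ?_
      ((sup_le (zle tN) (zle uN)).trans (left_nn_comm _ _)) ?_ ?_
    · rw [ab_iff]
      refine le_cc_sup (sup_le ?_ ?_) (sup_le ?_ ?_) <;> rw [cc_zpowers] <;> refine zle (mem_C1'.2 ?_)
      exacts [Commute.refl _, hc.symm, hc, Commute.refl _]
    · intro hcy
      have e := cyc_eq hcy le_sup_left le_sup_right (by
        rw [Nat.card_zpowers, Nat.card_zpowers, ord2 h.sq h.ne, ord2 (h.sq' hu) (h.ne' hu)])
      rcases mem_zp2 h.sq (e ▸ mem_zpowers u) with k | k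
      exacts [h.ne' hu k, hne k]
    · obtain ⟨k, hk⟩ := IsPGroup.iff_card.1 hU
      rw [hk]; exact Nat.Coprime.pow_left _ (odd_iff_coprime_two.1 ho).symm
    · intro e he e1 r hr
      have k1 : r ∈ G := (comm_le_left (zle aN) hr.1).1
      have k2 : Hyp G a e := by
        rcases hm e he with rfl | rfl | rfl | rfl
        exacts [absurd rfl e1, h, h.of hu (Cj.refl _ _) ua,
          h.of htu (Cj.refl _ _) (h.ta.mul_left ua)]
      exact mem_C1'.2 (k2.cen r k1 (mem_C1'.1 hr.2))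
  obtain ⟨k, -, hk⟩ := h.ex h1
  obtain ⟨r, hr, rfl⟩ := h.orb' inf_le_left aN (h.orb inf_le_left tN h1 (nn_of_cm hk.nn h2))
  exact conj_eq_of_C1 (hR hr)

theorem pair0 (ih : IH G) (h : Hyp G a t) (hu : Cj G t u) (hne : u ≠ t) (hc : Commute t u)
    (htu : ¬ Cj G t (t * u)) : Odd #(⁅G, zpowers a⁆ : Subgroup X) := by
  have vv : t * u * (t * u) = 1 := by
    rw [mul_assoc, ← mul_assoc u, ← hc.eq, mul_assoc, h.sq' hu, mul_one, h.sq]
  have e : t * (t * u) = u := by rw [← mul_assoc, h.sq, one_mul]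
  have vm := mul_mem h.mem (hu.mem h.mem)
  refine all_fix ih h vm vv (fun k => hne ?_) (count ih h vm vv htu ?_ ?_) (Cj.refl _ _)
    ((Commute.refl t).mul_right hc)
  · rw [← e, k, mul_one]
  · rw [e]; exact pg_of_sq (h.sq' hu)
  · rw [e]
    exact fun c h1 h2 => h.uniq' hu (Cj.refl _ _) h1 (h.cen u (hu.mem h.mem) hc.symm) h2

theorem exists_invol (hx : IsPGroup 2 T) (h1 : T ≠ ⊥) : ∃ z ∈ T, z * z = 1 ∧ z ≠ 1 := by
  obtain ⟨z, hz⟩ := exists_prime_orderOf_dvd_card' 2 (pg_dvd hx h1)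
  refine ⟨z, z.2, ?_, fun e => ?_⟩
  · have := pow_orderOf_eq_one z
    rw [hz, sq] at this
    exact congrArg Subtype.val this
  · rw [show z = 1 from Subtype.ext e, orderOf_one] at hz; omega

theorem pair1 (ih : IH G) (h : Hyp G a t) (hu : Cj G t u) (hne : u ≠ t) (hc : Commute t u)
    (vm : v ∈ G) (vv : v * v = 1) (v1 : v ≠ 1) (hv : ¬ Cj G t v)
    (pg : IsPGroup 2 (zpowers (t * v))) (huv : Commute u v) :
    Odd #(⁅G, zpowers a⁆ : Subgroup X) := by
  by_cases htu : Cj G t (t * u)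
  swap
  · exact pair0 ih h hu hne hc htu
  obtain ⟨z, hz, zz, z1⟩ := exists_invol pg (fun e => hv (by
    have := zpowers_eq_bot.1 e
    rw [← inv_self vv, ← eq_inv_of_mul_eq_one_left this]; exact Cj.refl _ _))
  have zt : Commute z t := by
    have := inv_of_inv (inv_l h.sq vv) hz
    rw [inv_self zz] at this
    exact (commute_iff_conj.2 this).symm
  have zu : Commute z u := (cm_of_mem (hc.symm.mul_right huv) hz).symm
  refine all_fix ih h vm vv v1 (count ih h vm vv hv pg fun c h1 h2 => ?_) hu huv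
  exact uniq_fix ih h hu hne hc htu (zle (mul_mem h.mem vm) hz) zz z1 zt zu c h1
    (cm_of_mem h2.symm hz).symm

theorem case2 (ih : IH G) (h : Hyp G a t) (hu : Cj G t u) (hne : u ≠ t) (hc : Commute t u)
    (vm : v ∈ G) (vv : v * v = 1) (v1 : v ≠ 1) (hv : ¬ Cj G t v) :
    Odd #(⁅G, zpowers a⁆ : Subgroup X) := by
  have ua := h.cen u (hu.mem h.mem) hc.symm
  obtain ⟨S, hS, hUS⟩ := exists_isSyl_ge (H := G)
    (isPGroup_sup_of_commute (pg_of_sq h.sq) (pg_of_sq (h.sq' hu)) hc)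
    (sup_le (zle h.mem) (zle (hu.mem h.mem)))
  have tS : t ∈ S := hUS (mem_sup_left (mem_zpowers t))
  have uS : u ∈ S := hUS (mem_sup_right (mem_zpowers u))
  obtain ⟨g, hg, hgv⟩ := hS.exists_cj_le (pg_of_sq vv) (zle vm)
  have vS : g * v * g⁻¹ ∈ S := hgv (conj_mem_cj (mem_zpowers v))
  have vv' := conj_mul_self vv g
  have v1' : g * v * g⁻¹ ≠ 1 := fun e => v1 (by simpa using e)
  have hv' : ¬ Cj G t (g * v * g⁻¹) := fun k => hv (k.trans (Cj.symm ⟨g, hg, rfl⟩))
  obtain ⟨z, hz, zz, z1⟩ := exists_invol (T := S ⊓ CC S) hS.pgroup.to_inf_left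
    (nil_meet (nil_of_pg hS.pgroup) le_rfl (le_nn S) (ne_bot_of_mem tS h.ne))
  have zc : ∀ s ∈ S, Commute s z := fun s hs => mem_CC.1 hz.2 s hs
  have pgS : ∀ s ∈ S, IsPGroup 2 (zpowers s) := fun s hs => hS.pgroup.to_le (zle hs)
  by_cases hz' : Cj G t z
  swap
  · exact pair1 ih h hu hne hc (hS.le hz.1) zz z1 hz' (pgS _ (mul_mem tS hz.1)) (zc u uS)
  by_cases e : z = t
  · exact pair1 ih (h.of hu (Cj.refl _ _) ua) (hu.symm.trans hz') (e ▸ hne.symm) (zc u uS) (hS.le vS)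
      vv' v1' (fun k => hv' (hu.trans k)) (pgS _ (mul_mem uS vS)) (zc _ vS).symm
  · exact pair1 ih h hz' e (zc t tS) (hS.le vS) vv' v1' hv' (pgS _ (mul_mem tS vS)) (zc _ vS).symm

theorem case1 (h : Hyp G a t) (hu : Cj G t u) (hne : u ≠ t) (hc : Commute t u)
    (hK : ∀ v ∈ G, v * v = 1 → v ≠ 1 → Cj G t v) (hb : Cj G a b) : b = a := by
  by_contra hba
  obtain ⟨v, hv, hbv⟩ := h.ex hb
  -- swapping involutions
  have sw : ∀ s, Cj G t s → Commute s a → ∃ w ∈ G, w * w = 1 ∧ w * s * w⁻¹ = v ∧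
      w * a * w⁻¹ = b ∧ w * b * w⁻¹ = a := by
    intro s hs sa
    have ho : Odd (orderOf (s * v)) := by
      by_contra k
      have k1 : two (s * v) ≠ 1 := fun e => k (by simpa [e] using (two_dec (s * v)).2.2)
      obtain ⟨z, hz, zz, z1⟩ := exists_invol (two_dec (s * v)).1 (fun e => k1 (zpowers_eq_bot.1 e))
      have hz' : z ∈ zpowers (s * v) := zle (two_mem _) hz
      have zK := hK z (zle (mul_mem (hs.mem h.mem) hbv.mem) hz') zz z1
      have k2 := inv_of_inv (inv_l (h.sq' hs) hbv.sq) hz'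
      have k3 := inv_of_inv (inv_r (h.sq' hs) hbv.sq) hz'
      rw [inv_self zz] at k2 k3
      have k4 := (h.of hs (Cj.refl _ _) sa).cen z (zK.mem h.mem) (commute_iff_conj.2 k2).symm
      have k5 := hbv.cen z (zK.mem h.mem) (commute_iff_conj.2 k3).symm
      exact hba (h.uniq' zK (Cj.refl _ _) hb k4 k5)
    obtain ⟨w, hw, w2, he, -⟩ := exists_invol_conj_of_odd (ord2 (h.sq' hs) (h.ne' hs))
      (ord2 hbv.sq hbv.ne) ho
    have wG : w ∈ G := (closure_le _).2 (Set.pair_subset (hs.mem h.mem) hbv.mem) hw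
    have ww : w * w = 1 := by rw [← sq, ← w2, pow_orderOf_eq_one]
    have k1 : w * a * w⁻¹ = b := hbv.uniq (hb.symm.conj wG) (he ▸ sa.conj w)
    refine ⟨w, wG, ww, he, k1, ?_⟩
    rw [← k1, inv_self ww]
    calc _ = (w * w) * a * (w * w) := by group
      _ = a := by rw [ww]; simp
  set D := G ⊓ C1 a ⊓ C1 b with hD
  have tr : ∀ s s', Cj G t s → Commute s a → Cj G t s' → Commute s' a →
      ∃ d ∈ D, s = d * s' * d⁻¹ := by
    intro s s' h1 h2 h3 h4
    obtain ⟨w, wG, ww, k1, k2, k3⟩ := sw s h1 h2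
    obtain ⟨w', wG', ww', k1', k2', k3'⟩ := sw s' h3 h4
    refine ⟨w * w', ⟨⟨mul_mem wG wG', mem_C1_of_conj ?_⟩, mem_C1_of_conj ?_⟩, ?_⟩
    · calc _ = w * (w' * a * w'⁻¹) * w⁻¹ := by group
        _ = a := by rw [k2', k3]
    · calc _ = w * (w' * b * w'⁻¹) * w⁻¹ := by group
        _ = b := by rw [k3', k2]
    · calc s = w⁻¹ * v * w := by rw [← k1]; group
        _ = w * v * w⁻¹ := by rw [inv_self ww]
        _ = _ := by rw [← k1']; group
  obtain ⟨w, wG, ww, -, k2, k3⟩ := sw t (Cj.refl _ _) h.ta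
  have wD : w ∈ NN D := by
    refine mem_normalizer_of_conj_mem fun d hd =>
      ⟨⟨G.mul_mem (G.mul_mem wG hd.1.1) (G.inv_mem wG), ?_⟩, ?_⟩
    · rw [← k3]; exact mem_C1'.2 ((mem_C1'.1 hd.2).conj w)
    · rw [← k2]; exact mem_C1'.2 ((mem_C1'.1 hd.1.2).conj w)
  have aD : a ∈ NN D := cc_le_nn _ (le_C1_iff.1 (inf_le_left.trans inf_le_right))
  obtain ⟨n, hn, k4⟩ := h.fix (N := G ⊓ NN D) inf_le_left
    (mem_normalizer_inf h.nn (mem_normalizer_normalizer aD)) (zle ⟨wG, wD⟩) (pg_of_sq ww)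
  have k5 : Commute (n⁻¹ * w * n) a := by
    simpa [mul_assoc] using cm_conj' (mem_C1'.1 (k4 (mem_zpowers w))) n
  have k6 : n⁻¹ * w * n * (n⁻¹ * w * n) = 1 := by simpa using conj_mul_self ww n⁻¹
  have k7 : Cj G t (n⁻¹ * w * n) := (hK w wG ww (fun e => hba (by rw [← k2, e]; simp))).conj' hn.1
  have k8 : n⁻¹ * w * n ∈ NN D := mul_mem (mul_mem (inv_mem hn.2) wD) hn.2
  have ua := h.cen u (hu.mem h.mem) hc.symm
  obtain ⟨d, hd, e1⟩ := tr t _ (Cj.refl _ _) h.ta k7 k5
  obtain ⟨d', hd', e2⟩ := tr u _ hu ua k7 k5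
  set s := n⁻¹ * w * n
  have k9 : t * u ∈ D := by
    have := mul_mem (mul_mem hd (conj_mem_of_mem_normalizer k8 (mul_mem (inv_mem hd) hd')))
      (inv_mem hd')
    rw [inv_self k6] at this
    rw [e1, e2]; convert this using 1; group
  have vv : t * u * (t * u) = 1 := by
    rw [mul_assoc, ← mul_assoc u, ← hc.eq, mul_assoc, h.sq' hu, mul_one, h.sq]
  have k10 := hK _ k9.1.1 vv (fun e => hne (by
    rw [← inv_self (h.sq' hu), ← eq_inv_of_mul_eq_one_left e]))
  exact hba (h.uniq' k10 (Cj.refl _ _) hb (mem_C1'.1 k9.1.2) (mem_C1'.1 k9.2))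

theorem odd_of_cent (h : G ≤ C1 a) : Odd #(⁅G, zpowers a⁆ : Subgroup X) := by
  rw [comm_eq_bot.2 (by rwa [cc_zpowers]), card_bot]; exact odd_one

theorem step (ih : IH G) (h : Hyp G a t) (hO : O {2}ᶜ G = ⊥) :
    Odd #(⁅G, zpowers a⁆ : Subgroup X) := by
  by_cases hi : IsIsolated (⟨t, h.mem⟩ : G)
  · have := zstar_elt_center hi (pg_of_sq (Subtype.ext h.sq)) (O_odd_eq_bot_iff.1 hO)
    refine odd_of_cent fun g hg => mem_C1'.2 (h.cen g hg ?_)
    exact congrArg Subtype.val (mem_center_iff.1 this ⟨g, hg⟩)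
  simp only [IsIsolated, not_forall] at hi
  obtain ⟨g, h1, h2⟩ := hi
  have hu : Cj G t (g * t * (g : X)⁻¹) := ⟨g, g.2, rfl⟩
  have hne : g * t * (g : X)⁻¹ ≠ t := fun e => h2 (Subtype.ext e)
  have hc : Commute t (g * t * (g : X)⁻¹) := congrArg Subtype.val h1
  by_cases hK : ∀ v ∈ G, v * v = 1 → v ≠ 1 → Cj G t v
  · exact odd_of_cent fun k hk => mem_C1_of_conj (case1 h hu hne hc hK ⟨k, hk, rfl⟩)
  · push Not at hK
    obtain ⟨v, vm, vv, v1, hv⟩ := hK
    exact case2 ih h hu hne hc vm vv v1 hv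

theorem Hyp.quot (h : Hyp G a t) (M : Subgroup X) [M.Normal] (h1 : t ∉ M)
    (h2 : ∀ g ∈ G, g * t * g⁻¹ * t⁻¹ ∈ M → g * a * g⁻¹ * a⁻¹ ∈ M) :
    Hyp (G.map (QuotientGroup.mk' M)) (QuotientGroup.mk' M a) (QuotientGroup.mk' M t) where
  nn := BG.map_le_normalizer _ (le_refl (NN G)) (mem_map_of_mem _ h.nn)
  cop := (h.cop.coprime_dvd_left (orderOf_map_dvd _ a)).coprime_dvd_right (card_map_dvd _ _)
  mem := mem_map_of_mem _ h.mem
  ne := fun e => h1 ((QuotientGroup.eq_one_iff t).1 e)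
  sq := by rw [← map_mul, h.sq, map_one]
  cen := by
    rintro _ ⟨g, hg, rfl⟩ hc
    rw [← commutatorElement_eq_one_iff_commute, ← map_commutatorElement] at hc ⊢
    exact (QuotientGroup.eq_one_iff _).2 (h2 g hg ((QuotientGroup.eq_one_iff _).1 hc))

theorem card_quot_lt (M : Subgroup X) [M.Normal] (h1 : M ≤ G) (h2 : M ≠ ⊥) :
    #(G.map (QuotientGroup.mk' M)) < #G := by
  have := Solv.card_map_mk M G
  rw [inf_eq_right.2 h1] at this
  have k1 := (one_lt_card_iff_ne_bot M).2 h2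
  have k2 := card_pos' (G.map (QuotientGroup.mk' M))
  nlinarith

theorem main_top (hT : G ⊔ zpowers a = ⊤) (h : Hyp G a t)
    (ih : ∀ (Y : Type u) [Group Y] [Finite Y] (G' : Subgroup Y) (a' t' : Y), #G' < #G →
      Hyp G' a' t' → Odd #(⁅G', zpowers a'⁆ : Subgroup Y)) :
    Odd #(⁅G, zpowers a⁆ : Subgroup X) := by
  have hnorm : ∀ M : Subgroup X, G ≤ NN M → a ∈ NN M → M.Normal := fun M h1 h2 =>
    normalizer_eq_top_iff.1 (top_le_iff.1 (hT ▸ sup_le h1 (zle h2)))
  by_cases hO : O {2}ᶜ G = ⊥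
  swap
  · haveI := hnorm (O {2}ᶜ G) (nn_O (le_nn G)) (nn_O (zle h.nn) (mem_zpowers a))
    have ho : Odd #(O {2}ᶜ G) := odd_iff_coprime_two.2 (pi_compl_iff_coprime.1 (O_pi _ _))
    have h1 := ih _ _ _ _ (card_quot_lt _ (O_le _ _) hO) (h.quot (O {2}ᶜ G) (fun k => h.ne
      (eq_one_of_odd_of_mul_self (odd_orderOf_of_mem ho k) h.sq)) (fun g hg k => ?_))
    · rw [← MonoidHom.map_zpowers, ← map_commutator] at h1
      rw [← Solv.card_map_mk (O {2}ᶜ G)]
      exact h1.mul (odd_mono ho inf_le_right)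
    · have k0 := k
      rw [inv_self h.sq] at k0
      obtain ⟨c, hc, he⟩ := conj_of_inv (odd_orderOf_of_mem ho k0) (inv_r (conj_mul_self h.sq g) h.sq)
      rw [mul_assoc _ t t, h.sq, mul_one] at he
      have hcM := zle k0 hc
      have k1 : Commute (c⁻¹ * g) t := commute_iff_conj.2 (by
        calc _ = c⁻¹ * (g * t * g⁻¹) * c := by group
          _ = t := by rw [he]; group)
      have k2 := commute_iff_conj.1 (h.cen _ (mul_mem (inv_mem (O_le _ _ hcM)) hg) k1)
      have k3 : g * a * g⁻¹ * a⁻¹ = c * (a * c⁻¹ * a⁻¹) := by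
        calc _ = c * (c⁻¹ * g * a * (c⁻¹ * g)⁻¹) * c⁻¹ * a⁻¹ := by group
          _ = _ := by rw [k2]; group
      rw [k3]
      exact mul_mem hcM (Normal.conj_mem inferInstance _ (inv_mem hcM) a)
  by_cases hZ : ∃ z ∈ G, z * z = 1 ∧ z ≠ 1 ∧ G ≤ C1 z
  · obtain ⟨z, zm, zz, z1, hz⟩ := hZ
    by_cases e : z = t
    · exact odd_of_cent fun g hg => mem_C1'.2 (h.cen g hg (mem_C1'.1 (e ▸ hz hg)))
    have za := h.cen z zm (mem_C1'.1 (hz h.mem)).symm
    have hGz : G ≤ CC (zpowers z) := by rwa [cc_zpowers]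
    haveI := hnorm (zpowers z) (nn_of_cc hGz) (nn_zp za.symm)
    have h1 := ih _ _ _ _ (card_quot_lt _ (zle zm) (ne_bot_of_mem (mem_zpowers z) z1))
      (h.quot (zpowers z) (fun k => (mem_zp2 zz k).elim h.ne (fun k => e k.symm)) (fun g hg k => ?_))
    · rw [← MonoidHom.map_zpowers, ← map_commutator] at h1
      set R := (⁅G, zpowers a⁆ : Subgroup X) with hR
      have RG : R ≤ G := comm_le_left (zle h.nn)
      by_cases hzR : z ∈ R
      swap
      · rw [← Solv.card_map_mk (zpowers z)]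
        refine h1.mul ?_
        rw [show R ⊓ zpowers z = ⊥ from eq_bot_iff.2 fun r hr =>
          (mem_zp2 zz hr.2).elim id (fun k => absurd (k ▸ hr.1) hzR), card_bot]
        exact odd_one
      rw [Solv.card_map_mk_eq_relIndex] at h1
      have hH : Hall {2} (zpowers z) R := Hall.mk' (zle hzR) (pi1_of_pg (pg_of_sq zz))
        (fun p _ hp => by rw [hp]; exact fun k => (Nat.not_even_iff_odd.2 h1) (even_iff_two_dvd.2 k))
      obtain ⟨K, k1, k2⟩ := exists_compl hH (nn_of_cc (RG.trans hGz))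
      have k3 := hH.compl (nn_of_cc ((le_sup_right.trans k1.le).trans (RG.trans hGz))) k1 k2
      have k4 : K = ⊥ := by
        rw [k3.eq_O (by
          rw [← k1]
          exact sup_le (nn_of_cc (cc_symm ((le_sup_right.trans k1.le).trans (RG.trans hGz)))) (le_nn K))]
        exact eq_bot_iff.2 (hO ▸ O_le_O RG (left_nn_comm _ _))
      rw [k4, sup_bot_eq] at k1
      have k5 := cop_stable (A := zpowers a) (H := zpowers z) (K := G) (h.zcop (zle zm)) k1.ge
        (zle (by rw [cc_zpowers]; exact mem_C1'.2 za.symm))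
      exact odd_of_cent (le_C1_iff.2 (k5 (mem_zpowers a)))
    · set E := zpowers t ⊔ zpowers z with hE
      have aE : zpowers a ≤ CC E := zle (by
        rw [hE, cc_sup, cc_zpowers, cc_zpowers]; exact ⟨mem_C1'.2 h.ta.symm, mem_C1'.2 za.symm⟩)
      have gE : g ∈ NN E := by
        refine mem_normalizer_of_cj_le ?_
        rw [hE, cj_sup, cj_zpowers, cj_zpowers, conj_eq_of_C1 (hz hg)]
        refine sup_le (zle ?_) le_sup_right
        simpa using mul_mem (mem_sup_right (S := zpowers t) k) (mem_sup_left (mem_zpowers t))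
      have k1 := cop_stable (A := zpowers a) (H := G ⊓ C1 t) (K := G ⊓ NN E) (h.zcop inf_le_left)
        (le_inf ((commutator_mono inf_le_left le_rfl).trans (comm_le_left (zle h.nn)))
          (((commutator_mono le_rfl aE).trans (comm_le_right (nn_cc inf_le_right))).trans
            (cc_le_C1 (mem_sup_left (mem_zpowers t)))))
        (cc_symm fun r hr => by rw [cc_zpowers]; exact mem_C1'.2 (h.cen r hr.1 (mem_C1'.1 hr.2)))
      rw [mem_CC.1 (k1 (mem_zpowers a)) g ⟨hg, gE⟩]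
      simpa using one_mem _
  refine step (fun x xm x1 hx b u hb hu hxb => ?_) h hO
  refine ih X _ b u (card_lt_of_lt (lt_of_le_of_ne inf_le_left fun e => hZ ?_))
    (hb.sub inf_le_left (nn_of_cm hb.nn hxb) ⟨hb.mem, hu⟩)
  obtain ⟨z, hz, zz, z1⟩ := exists_invol hx (ne_bot_of_mem (mem_zpowers x) x1)
  refine ⟨z, zle xm hz, zz, z1, fun g hg => mem_C1_of_conj ?_⟩
  have k1 : G ≤ NN (zpowers z) := cyc_nn (cyc_zpowers x) (zle hz) (inf_eq_left.1 e)
  exact (mem_zp2 zz (conj_mem_of_mem_normalizer (k1 hg) (mem_zpowers z))).resolve_left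
    (fun k => z1 (by simpa using k))

end

theorem main (n : ℕ) : ∀ (X : Type u) [Group X] [Finite X] (G : Subgroup X) (a t : X), #G = n →
    Hyp G a t → Odd #(⁅G, zpowers a⁆ : Subgroup X) := by
  induction n using Nat.strong_induction_on with
  | _ n ih =>
  intro X _ _ G a t hn h
  set Y := G ⊔ zpowers a with hY
  have GY : G ≤ Y := le_sup_left
  have aY : a ∈ Y := mem_sup_right (mem_zpowers a)
  cases nonempty_fintype Y
  have e1 : (G.subgroupOf Y).map Y.subtype = G := map_subgroupOf_eq_of_le GY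
  have e2 : (zpowers (⟨a, aY⟩ : Y)).map Y.subtype = zpowers a := MonoidHom.map_zpowers _ _
  have e3 : #(G.subgroupOf Y) = #G := by rw [← Comp.card_map_subtype, e1]
  have := main_top (G := G.subgroupOf Y) (a := ⟨a, aY⟩) (t := ⟨t, GY h.mem⟩)
    (map_injective Y.subtype_injective (by
      rw [Subgroup.map_sup, e1, e2, ← MonoidHom.range_eq_map, range_subtype]))
    ⟨mem_normalizer_of_conj_mem fun x hx => conj_mem_of_mem_normalizer (H := G) h.nn hx,
      by rw [e3, orderOf_mk]; exact h.cop, h.mem, fun e => h.ne (congrArg Subtype.val e),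
      Subtype.ext h.sq, fun g hg hc => Subtype.ext (h.cen g hg (congrArg Subtype.val hc))⟩
    (fun Z _ _ G' a' t' h1 h2 => ih _ (by rw [← hn, ← e3]; exact h1) Z G' a' t' rfl h2)
  rwa [← Comp.card_map_subtype, map_commutator, e1, e2] at this

theorem glaub {G : Type u} [Group G] [Finite G] [IsSimpleGroup G]
    (hG : ¬ IsMulCommutative G) (τ : G) (hτ : orderOf τ = 2) (α : MulAut G) (hα : α ≠ 1)
    (hcop : (orderOf α).Coprime (Nat.card G)) :
    ∃ c ∈ Subgroup.centralizer ({τ} : Set G), α c ≠ c := by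
  by_contra hc
  push Not at hc
  have e3 : ∀ K : Subgroup G, #(K.map (hl : G →* Hol G)) = #K := fun K =>
    (Nat.card_congr (equivMapOfInjective K _ hl_injective).toEquiv).symm
  have h : Hyp ((⊤ : Subgroup G).map hl) (hr α) (hl τ) :=
    ⟨hr_mem_normalizer_char α ⊤, by rw [e3, orderOf_injective _ hr_injective, card_top]; exact hcop,
      mem_map_of_mem _ (mem_top _), fun e => by
        rw [(map_eq_one_iff _ hl_injective).1 e, orderOf_one] at hτ; omega,
      by rw [← map_mul, ← sq, ← hτ, pow_orderOf_eq_one, map_one], by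
        rintro _ ⟨g, -, rfl⟩ hg
        refine (hol_commute_iff.2 (hc g (mem_C1.2 (hl_injective ?_)))).symm
        rw [map_mul, map_mul]; exact hg⟩
  have h1 := main _ _ _ _ _ rfl h
  set R := (⁅(⊤ : Subgroup G).map (hl : G →* Hol G), zpowers (hr α)⁆ : Subgroup (Hol G)) with hR
  have RG : R ≤ (⊤ : Subgroup G).map hl := comm_le_left (zle h.nn)
  have e4 : (R.comap hl).map hl = R :=
    map_comap_eq_self (by rwa [MonoidHom.range_eq_map])
  have hN : (R.comap (hl : G →* Hol G)).Normal := ⟨fun n hn g => by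
    have := conj_mem_of_mem_normalizer (left_nn_comm _ _ (mem_map_of_mem hl (mem_top g))) hn
    simpa [mem_comap] using this⟩
  rcases hN.eq_bot_or_eq_top with e | e
  · rw [e, Subgroup.map_bot] at e4
    exact hα (hr_eq_one_of_mem_centralizer (comm_eq_bot'.1 e4.symm (mem_zpowers _)))
  · rw [← e4, e, e3, card_top] at h1
    exact Nat.not_even_iff_odd.2 h1 (even_of_simple hG)

end Cfsg.Agent.Ca
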