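import Cfsg.Agent.Lib.Fusion.Resid2

/-! Extensions of automorphisms of a normal subsystem to centralizers. -/

set_option autoImplicit false
set_option linter.unusedSectionVars false

namespace Cfsg.Agent.Fusion

open Cfsg Cfsg.FusionSystem

variable {Ω : Type*} [Group Ω] {S : Subgroup Ω} {F : FusionSystem S} {P Q R T U U' W N : Subgroup Ω}
  {E : FusionSystem T} {f g : Ω → Ω} {p : ℕ}

/-- `U C_S(U)` -/
abbrev Vc (S U : Subgroup Ω) : Subgroup Ω := U ⊔ centralizerIn S U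

theorem mem_Vc {x : Ω} : x ∈ Vc S U ↔ ∃ c ∈ centralizerIn S U, ∃ u ∈ U, c * u = x :=
  mem_sup_cent le_rfl

theorem Vc_le_norm (hU : U ≤ S) : Vc S U ≤ normalizerIn S U :=
  sup_le (le_normalizerIn hU) centralizerIn_le_normalizerIn

theorem Vc_le (hU : U ≤ S) : Vc S U ≤ S := sup_le hU centralizerIn_le

theorem cent_conj_mem {s c : Ω} (hs : s ∈ normalizerIn S U) (hc : c ∈ centralizerIn S U) :
    s * c * s⁻¹ ∈ centralizerIn S U :=
  centralizerIn_conj_mem' (stronglyClosed_top (innerFusionSystem S)) hs.1 hs.2 hc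

theorem norm_le_norm_sup (hR : ∀ s ∈ normalizerIn S U, ∀ x ∈ R, s * x * s⁻¹ ∈ R) :
    normalizerIn S U ≤ Subgroup.normalizer ((R ⊔ centralizerIn S U : Subgroup Ω) : Set Ω) :=
  le_normalizer_of_conj_mem fun s hs x hx => by
    have : R ⊔ centralizerIn S U ≤ (R ⊔ centralizerIn S U).comap (MulAut.conj s).toMonoidHom :=
      sup_le (fun y hy => Subgroup.mem_sup_left (hR s hs y hy))
        fun y hy => Subgroup.mem_sup_right (cent_conj_mem hs hy)
    exact this hx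

theorem norm_le_norm_Vc : normalizerIn S U ≤ Subgroup.normalizer (Vc S U : Set Ω) :=
  norm_le_norm_sup fun _ hs _ hx => conj_mem_of_mem_normalizerIn hs hx

theorem TC.mem_of_Vc (h : TC F T U) (hT : T ≤ S) {x : Ω} (hx : x ∈ Vc S U) (hxT : x ∈ T) :
    x ∈ U := by
  obtain ⟨c, hc, u, hu, rfl⟩ := mem_Vc.1 hx
  exact mul_mem (h.cent hT ⟨(Subgroup.mul_mem_cancel_right _ (h.1 hu)).1 hxT, hc.2⟩) hu

theorem Mor.maps_Vc (hg : Mor F N g) (h : Vc S U ≤ N) : ∀ x ∈ Vc S U, g x ∈ Vc S (img g U) :=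
  (hg.mono h).mem_of_sup (fun _ hx => Subgroup.mem_sup_left (subset_img hx)) fun _ hc =>
    Subgroup.mem_sup_right (hg.mem_centralizer_img (le_sup_left.trans h)
      (h (Subgroup.mem_sup_right hc)) (mem_centralizerIn.1 hc).2)

theorem norm_T_conj (hT : F.StronglyClosed T) {s x : Ω} (hs : s ∈ normalizerIn S U)
    (hx : x ∈ normalizerIn T U) : s * x * s⁻¹ ∈ normalizerIn T U :=
  ⟨StronglyClosed.conj_mem hT hs.1 hx.1, Subgroup.mul_mem _ (Subgroup.mul_mem _ hs.2 hx.2)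
    (Subgroup.inv_mem _ hs.2)⟩

theorem afun_inv_conj {σ : MulAut U} {w : Ω} (e : ∀ x ∈ U, afun σ x = w * x * w⁻¹) {v : Ω}
    (hv : v ∈ U) : afun σ⁻¹ v = w⁻¹ * v * w := by
  have := e _ (afun_mem σ⁻¹ hv)
  rw [afun_afun_inv _ hv] at this
  conv_rhs => rw [this]
  group

/-- automorphisms of `U` with an extension to `U C_S(U)` which is trivial modulo `T` -/
noncomputable def XA (F : FusionSystem S) (T U : Subgroup Ω) : Subgroup (MulAut U) :=
  resImg (le_sup_left : U ≤ Vc S U) (modKer F (Vc S U) T)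

theorem mem_XA {α : MulAut U} : α ∈ XA F T U ↔
    ∃ β ∈ modKer F (Vc S U) T, ∀ x ∈ U, afun β x = afun α x := mem_resImg _

theorem modKer_transport (hT : F.StronglyClosed T) (hf : Mor F P f) {τ : MulAut P ≃* MulAut Q}
    (hτ : ∀ α, ∀ x ∈ P, afun (τ α) (f x) = f (afun α x))
    (h2 : ∀ α, τ α ∈ F.autGroup Q ↔ α ∈ F.autGroup P) {β : MulAut P}
    (h : τ β ∈ modKer F Q T) (e : img f P = Q) : β ∈ modKer F P T :=
  ⟨(h2 β).1 h.1, fun x hx => by
    have h1 := mul_mem (inv_mem hx) (afun_mem β hx)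
    rw [← StronglyClosed.mem_iff hT hf h1, hf.map_mul (inv_mem hx) (afun_mem β hx), hf.map_inv hx,
      ← hτ β x hx]
    exact h.2 _ (e ▸ subset_img hx)⟩

variable [hp : Fact p.Prime] [Finite S]

theorem comm_rep (hW : IsPGroup p W) [Finite W] {β : MulAut W} (hc : (orderOf β).Coprime p)
    {C : Subgroup Ω} (hn : W ≤ Subgroup.normalizer (C : Set Ω))
    (h : ∀ x ∈ W, x⁻¹ * afun β x ∈ C) {x : Ω} (hx : x ∈ W) :
    ∃ c ∈ C, c ∈ W ∧ x⁻¹ * afun β x = c⁻¹ * afun β c := by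
  haveI : (C.subgroupOf W).Normal := ⟨fun a ha b => conj_mem_of_mem_normalizer (P := C) (hn b.2) ha⟩
  obtain ⟨k, hk⟩ := hW.exists_card_eq
  obtain ⟨c, hc', e⟩ := exists_comm_rep (C := C.subgroupOf W) (hk ▸ hc.pow_right k) (fun y => by
    have := h y y.2
    rwa [afun_of_mem _ y.2] at this) ⟨x, hx⟩
  refine ⟨c, hc', c.2, ?_⟩
  rw [afun_of_mem _ c.2, afun_of_mem _ hx]
  exact congrArg Subtype.val e

theorem Mor.img_Vc (hg : Mor F N g) (h : Vc S U ≤ N) (hU : F.IsFullyCentralized U) :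
    img g (Vc S U) = Vc S (img g U) := by
  rw [(hg.mono h).img_sup, hg.img_centralizerIn (le_sup_left.trans h) (le_sup_right.trans h) hU]

theorem TC.fn_Vc (hT : F.StronglyClosed T) (h : TC F T U) (hU : F.IsFullyNormalized U) :
    F.IsFullyNormalized (Vc S U) := by
  refine ⟨Vc_le hU.1, fun Q hQ => ?_⟩
  obtain ⟨f, hf, rfl⟩ := isConj_iff.1 hQ
  have e : Vc S U ⊓ T = U := le_antisymm (fun x hx => h.mem_of_Vc hT.1 hx.1 hx.2)
    (le_inf le_sup_left h.1)
  have e' := StronglyClosed.img_inf hT hf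
  rw [e] at e'
  have := finite_of_le (normalizerIn_le : normalizerIn S (Fusion.img f U) ≤ S)
  have := finite_of_le (normalizerIn_le : normalizerIn S (Vc S U) ≤ S)
  refine (Subgroup.card_le_of_le ?_).trans ((hU.2 _ (hf.mono le_sup_left).isConj).trans
    (Subgroup.card_le_of_le (le_inf normalizerIn_le norm_le_norm_Vc)))
  refine le_inf normalizerIn_le (le_normalizer_of_conj_mem fun s hs x hx => ?_)
  rw [e'] at hx ⊢
  exact ⟨conj_mem_of_mem_normalizerIn hs hx.1, StronglyClosed.conj_mem hT hs.1 hx.2⟩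

theorem TC.centric_Vc (hS : IsPGroup p S) (hF : F.IsSaturated p) (hT : F.StronglyClosed T)
    (h : TC F T U) (hU : F.IsFullyNormalized U) : F.IsCentric (Vc S U) :=
  isCentric_of_fullyCentralized (IsSaturated.fullyCentralized hS hF (h.fn_Vc hT hU))
    ((centralizerIn_anti le_sup_left).trans le_sup_right)

theorem XA_transport (hT : F.StronglyClosed T) (hU : F.IsFullyCentralized U) (hg : Mor F N g)
    (h : Vc S U ≤ N) (e : img g U = U') {α : MulAut U} {α' : MulAut U'} (hα : α' ∈ XA F T U')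
    (e' : ∀ x ∈ U, afun α' (g x) = g (afun α x)) : α ∈ XA F T U := by
  subst e
  obtain ⟨β', h1, h2⟩ := mem_XA.1 hα
  have hg' := hg.mono h
  obtain ⟨τ, hτ, h3, -⟩ := hg'.exists_transport (hg.img_Vc h hU)
  obtain ⟨β, rfl⟩ := τ.surjective β'
  refine mem_XA.2 ⟨β, modKer_transport hT hg' hτ h3 h1 (hg.img_Vc h hU), fun x hx => ?_⟩
  have hx' : x ∈ Vc S U := Subgroup.mem_sup_left hx
  refine hg'.inj (afun_mem _ hx') (Subgroup.mem_sup_left (afun_mem _ hx)) ?_
  rw [← hτ β x hx', h2 _ (subset_img hx), e' x hx]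

theorem exists_ext_Vc (hS : IsPGroup p S) (hF : F.IsSaturated p) (hU : F.IsFullyCentralized U)
    {a : MulAut U} (ha : a ∈ F.autGroup U) :
    ∃ β ∈ F.autGroup (Vc S U), ∀ x ∈ U, afun β x = afun a x := by
  have hm := (mem_autGroup hU.1).1 ha
  obtain ⟨g, hg, e⟩ := IsReceptive.ext (IsSaturated.receptive hS hF hU) hm (img_afun a)
  have hle : Vc S U ≤ Next S U (afun a) := sup_le hm.le_Next centralizerIn_le_Next
  obtain ⟨β, hβ, e'⟩ := (hg.mono hle).exists_aut (by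
    rw [hg.img_Vc hle hU, img_eq_of_afun e])
  exact ⟨β, hβ, fun x hx => by rw [e' x (Subgroup.mem_sup_left hx), e x hx]⟩

theorem XA_conj (hS : IsPGroup p S) (hF : F.IsSaturated p) (hT : F.StronglyClosed T)
    (hU : F.IsFullyCentralized U) : ∀ a ∈ F.autGroup U, ∀ α ∈ XA F T U, a * α * a⁻¹ ∈ XA F T U := by
  intro a ha α hα
  obtain ⟨β, hβ, e⟩ := exists_ext_Vc hS hF hU (inv_mem ha)
  refine XA_transport hT hU ((mem_autGroup (Vc_le hU.1)).1 hβ) le_rfl (img_eq_of_afun e) hα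
    fun x hx => ?_
  rw [e x hx, e _ (afun_mem _ hx), afun_mul _ _ hx, afun_mul _ _ (afun_mem _ hx),
    afun_inv_afun _ (afun_mem _ (afun_mem _ hx))]

theorem autInducedBy_le_XA (hT : F.StronglyClosed T) (hU : U ≤ S) :
    autInducedBy T U ≤ XA F T U := by
  intro α hα
  obtain ⟨t, ht, e⟩ := mem_autInducedBy.1 hα
  obtain ⟨β, e'⟩ := exists_cAut (norm_le_norm_Vc (S := S) ⟨hT.1 ht, mem_normalizer_of_afun e⟩)
  exact mem_XA.2 ⟨β, ⟨autInducedBy_le_autGroup F (Vc_le hU) (mem_autInducedBy.2 ⟨t, hT.1 ht, e'⟩),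
    fun x hx => by rw [e' x hx]; exact conj_mod hT (Vc_le hU hx) ht⟩,
    fun x hx => by rw [e' x (Subgroup.mem_sup_left hx), e x hx]⟩

theorem aut_E_inf (hS : IsPGroup p S) (hE : E.IsWeaklyNormalIn F p) (hU : U ≤ T)
    (hn : F.IsFullyNormalized U) {α : MulAut U} (h1 : α ∈ E.autGroup U)
    (h2 : α ∈ autInducedBy S U) : α ∈ autInducedBy T U := by
  have hT := hE.2.2.2.1
  have := finite_of_le hT.1
  have h := IsFullyAutomized.sylowIn (IsSaturated.fullyAutomized (pgroup_of_le hS hT.1) hE.1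
    (fullyNormalized_of_sub hS hE.2.1 hT hE.2.2.1 hU hn))
  exact h.max (E.autGroup U ⊓ autInducedBy S U) inf_le_left
    (pgroup_of_le (autInducedBy_pgroup hS U) inf_le_right)
    (le_inf h.le (autInducedBy_mono hT.1)) ⟨h1, h2⟩

theorem core2 (hS : IsPGroup p S) (hE : E.IsWeaklyNormalIn F p) (hU : U ≤ T)
    (hn : F.IsFullyNormalized U) (h1 : Vc S U ≤ W) (h2 : W ≤ normalizerIn S U) {β : MulAut W}
    (hβ : β ∈ F.autGroup W) (hc : (orderOf β).Coprime p)
    (h3 : ∀ c ∈ centralizerIn S U, c⁻¹ * afun β c ∈ T) {α : MulAut U} (hα : α ∈ E.autGroup U)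
    (e : ∀ x ∈ U, afun β x = afun α x) : β ∈ modKer F W T := by
  have hT := hE.2.2.2.1
  have hW := h2.trans normalizerIn_le
  have := finite_of_le hW
  have hm := (mem_autGroup hW).1 hβ
  have hUW := le_sup_left.trans h1
  refine ⟨hβ, fun x hx => ?_⟩
  obtain ⟨y, hy, hyW, ey⟩ := comm_rep (pgroup_of_le hS hW) hc
    (C := normalizerIn T U ⊔ centralizerIn S U)
    (h2.trans (norm_le_norm_sup fun _ hs _ hx => norm_T_conj hT hs hx)) (fun w hw => by
      obtain ⟨σ, eσ⟩ := exists_cAut (h2 hw).2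
      have hσ := autInducedBy_le_autGroup F hn.1 (mem_autInducedBy.2 ⟨w, hW hw, eσ⟩)
      have h4 : σ⁻¹ * α * σ⁻¹⁻¹ * α⁻¹ ∈ E.autGroup U := mul_mem (StrongInv.conj_autGroup
        (IsInvariantIn.strongInv hE.2.2) hU hn.1 _ (inv_mem hσ) α hα) (inv_mem hα)
      have h5 : ∀ u ∈ U, afun (σ⁻¹ * α * σ⁻¹⁻¹ * α⁻¹) u =
          w⁻¹ * afun β w * u * (w⁻¹ * afun β w)⁻¹ := fun u hu => by
        have hu' := afun_mem α⁻¹ hu
        rw [inv_inv, afun_mul _ _ hu, afun_mul _ _ hu', afun_mul _ _ (afun_mem σ hu'),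
          afun_inv_conj eσ (afun_mem α (afun_mem σ hu')), ← e _ (afun_mem σ hu'), eσ _ hu',
          hm.map_conj hw (hUW hu'), e _ hu', afun_afun_inv _ hu]
        group
      have h8 := mul_mem (inv_mem hw) (afun_mem β hw)
      obtain ⟨t, ht, et⟩ := mem_autInducedBy.1 (aut_E_inf hS hE hU hn h4
        (mem_autInducedBy.2 ⟨_, hW h8, h5⟩))
      have h9 : t⁻¹ * (w⁻¹ * afun β w) ∈ centralizerIn S U := mem_centralizerIn.2
        ⟨mul_mem (inv_mem (hT.1 ht)) (hW h8), fun u hu => by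
          calc _ = t⁻¹ * (w⁻¹ * afun β w * u * (w⁻¹ * afun β w)⁻¹) * t := by group
            _ = u := by rw [← h5 u hu, et u hu]; group⟩
      simpa using Subgroup.mul_mem_sup (show t ∈ normalizerIn T U from
        ⟨ht, mem_normalizer_of_afun et⟩) h9) hx
  rw [ey]
  obtain ⟨t, ht, c, hc, rfl⟩ := (mem_sup_of_le_normalizer (le_normalizer_of_conj_mem
    fun s hs x hx => cent_conj_mem (normalizerIn_mono hT.1 hs) hx)).1 hy
  have hcW := h1 (Subgroup.mem_sup_right hc)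
  have htW := (Subgroup.mul_mem_cancel_right _ hcW).1 hyW
  rw [afun_map_mul _ htW hcW, show (t * c)⁻¹ * (afun β t * afun β c) =
    (c⁻¹ * (t⁻¹ * afun β t) * c⁻¹⁻¹) * (c⁻¹ * afun β c) by group]
  exact mul_mem (StronglyClosed.conj_mem hT (inv_mem hc.1)
    (mul_mem (inv_mem ht.1) (StronglyClosed.mem hT hm htW ht.1))) (h3 c hc)

theorem autCore_le_of_fn (hS : IsPGroup p S) (hF : F.IsSaturated p) (h : F.IsFullyNormalized P) :
    autCore F p P ≤ autInducedBy S P :=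
  have := finite_autGroup F h.1
  (IsFullyAutomized.sylowIn (IsSaturated.fullyAutomized hS hF h)).le_of_normal autCore_le
    autCore_pgroup autCore_conj

theorem cAut_mem_modKer (hT : F.StronglyClosed T) (hP : P ≤ S) {t : Ω} (ht : t ∈ T)
    {σ : MulAut P} (e : ∀ x ∈ P, afun σ x = t * x * t⁻¹) : σ ∈ modKer F P T :=
  ⟨autInducedBy_le_autGroup F hP (mem_autInducedBy.2 ⟨t, hT.1 ht, e⟩),
    fun x hx => by rw [e x hx]; exact conj_mod hT (hP hx) ht⟩

theorem XA_coprime (hU : U ≤ S) {α : MulAut U} (hα : α ∈ XA F T U) (hc : (orderOf α).Coprime p) :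
    ∃ β ∈ modKer F (Vc S U) T, (orderOf β).Coprime p ∧ ∀ x ∈ U, afun β x = afun α x := by
  obtain ⟨β₀, h1, h2⟩ := mem_XA.1 hα
  obtain ⟨β, -, ⟨m, β', -, e, rfl⟩, h3, h4⟩ := exists_coprime_ext le_sup_left
    ((mem_autGroup (Vc_le hU)).1 h1.1) (img_afun _) h2 hc
  rw [aut_ext e] at h3 h4
  exact ⟨_, pow_mem h1 m, h3, h4⟩

theorem core_key (hS : IsPGroup p S) (hE : E.IsWeaklyNormalIn F p) (hU : TC F T U)
    (hn : F.IsFullyNormalized (normalizerIn T U)) {b : MulAut (normalizerIn T U)}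
    (hb : b ∈ E.autGroup _) (hb' : b ∈ XA F T _) (hc : (orderOf b).Coprime p) {b₀ : MulAut U}
    (e : ∀ x ∈ U, afun b x = afun b₀ x) : b₀ ∈ XA F T U := by
  have hT := hE.2.2.2.1
  have hF := hE.2.1
  have := finite_of_le hT.1
  have hl := le_normalizerIn hU.1
  have hNT : normalizerIn T U ≤ T := normalizerIn_le
  have hU₁ := hU.mono hl hNT
  obtain ⟨β, h1, h2, h3⟩ := XA_coprime hn.1 hb' hc
  have hV := hU₁.fn_Vc hT hn
  have hm := (mem_autGroup hV.1).1 h1.1
  have hCN : centralizerIn S U ≤ normalizerIn S (normalizerIn T U) := fun w hw =>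
    ⟨hw.1, le_normalizer_of_conj_mem (fun _ hs _ hx => norm_T_conj hT hs hx)
      (centralizerIn_le_normalizerIn hw)⟩
  have hNx : centralizerIn S U ≤ Next S _ (afun β) := fun w hw => by
    obtain ⟨σ, eσ⟩ := exists_cAut (norm_le_norm_Vc (hCN hw))
    obtain ⟨σ₁, eσ₁⟩ := exists_cAut (hCN hw).2
    have hσ := mem_autInducedBy.2 ⟨w, hw.1, eσ⟩
    have hσ₁ := autInducedBy_le_autGroup F hn.1 (mem_autInducedBy.2 ⟨w, hw.1, eσ₁⟩)
    have hη : β * (σ * β⁻¹ * σ⁻¹) ∈ modKer F _ T := mul_mem h1 (modKer_conj hT hV.1 σ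
      (autInducedBy_le_autGroup F hV.1 hσ) _ (inv_mem h1))
    have hη₁ : b * (σ₁ * b⁻¹ * σ₁⁻¹) ∈ E.autGroup _ := mul_mem hb (StrongInv.conj_autGroup
      (IsInvariantIn.strongInv hE.2.2) hNT hn.1 _ hσ₁ _ (inv_mem hb))
    have h4 : ∀ x ∈ normalizerIn T U, afun β⁻¹ x = afun b⁻¹ x := fun x hx => by
      conv_lhs => rw [← afun_afun_inv b hx, ← h3 _ (afun_mem _ hx),
        afun_inv_afun _ (Subgroup.mem_sup_left (afun_mem _ hx))]
    have h5 : ∀ x ∈ normalizerIn T U, afun (β * (σ * β⁻¹ * σ⁻¹)) x =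
        afun (b * (σ₁ * b⁻¹ * σ₁⁻¹)) x := fun x hx => by
      have hx' : x ∈ Vc S (normalizerIn T U) := Subgroup.mem_sup_left hx
      have h6 := afun_mem σ₁⁻¹ hx
      have h7 := afun_mem b⁻¹ h6
      rw [afun_mul _ _ hx', afun_mul _ _ hx', afun_mul _ _ (afun_mem _ hx'), afun_mul _ _ hx,
        afun_mul _ _ hx, afun_mul _ _ h6, afun_inv_conj eσ hx', ← afun_inv_conj eσ₁ hx, h4 _ h6,
        eσ _ (Subgroup.mem_sup_left h7), ← eσ₁ _ h7, h3 _ (afun_mem _ h7)]
    obtain ⟨z, hz, ez⟩ := eq_conj_of_eq_on_centric (pgroup_of_le hS hT.1) hE.1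
      ((IsInvariantIn.centric_iff hE.2.2).2 hU) hl (mor_id E hNT) ((mem_autGroup hNT).1 hη₁)
      fun x hx => by
        have hw' := (mem_centralizerIn.1 hw).2
        have h6 : afun b⁻¹ x ∈ U := by
          rw [← afun_afun_inv b₀ hx, ← e _ (afun_mem _ hx), afun_inv_afun _ (hl (afun_mem _ hx))]
          exact afun_mem _ hx
        have h7 := (mem_centralizerIn.1 (inv_mem hw)).2 x hx
        rw [inv_inv] at h7
        rw [afun_mul _ _ (hl hx), afun_mul _ _ (hl hx), afun_inv_conj eσ₁ (hl hx), h7,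
          afun_mul _ _ (hl hx), eσ₁ _ (hl h6), hw' _ h6, afun_afun_inv _ (hl hx)]
    obtain ⟨ζ, eζ⟩ := exists_cAut (Subgroup.le_normalizer (Subgroup.mem_sup_left (hl hz.1)) :
      z ∈ Subgroup.normalizer (Vc S (normalizerIn T U) : Set Ω))
    have hζ := cAut_mem_modKer hT hV.1 (hU.1 hz.1) eζ
    have h6 := mul_mem (inv_mem hζ) hη
    have h7 := autCore_le_of_fn hS hF hV (chain_mem_autCore hS hT hV.1 h6.1 (fun x hx hxT => by
      have hx' := hU₁.mem_of_Vc hT.1 hx hxT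
      rw [afun_mul _ _ hx, h5 x hx', ez x hx', ← eζ x hx, afun_inv_afun _ hx]) h6.2)
    refine (mem_Next_afun_iff hw.1 eσ).2 ?_
    have := mul_mem (mul_mem (mem_autInducedBy.2 ⟨z, hT.1 (hU.1 hz.1), eζ⟩) h7) hσ
    simpa [mul_assoc] using this
  obtain ⟨g, hg, eg⟩ := IsReceptive.ext (IsSaturated.receptive' hS hF hV) hm (img_afun β)
  have hW : normalizerIn T U ⊔ centralizerIn S U ≤ _ := sup_le (le_sup_left.trans hm.le_Next) hNx
  have hVW : Vc S (normalizerIn T U) ≤ normalizerIn T U ⊔ centralizerIn S U :=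
    sup_le_sup_left (centralizerIn_anti hl) _
  have hg' := hg.mono hW
  have := finite_of_le hg'.le
  have egU : img g U = U := img_eq_of_afun (α := b₀) fun x hx => by
    rw [eg x (Subgroup.mem_sup_left (hl hx)), h3 x (hl hx), e x hx]
  obtain ⟨β₂, k1, -, k2, k3⟩ := exists_coprime_ext hVW hg' (hg'.img_eq_self (hg'.mem_of_sup
    (fun x hx => by rw [eg x (Subgroup.mem_sup_left hx)]; exact hVW (afun_mem _ (Subgroup.mem_sup_left hx)))
    fun c hc => Subgroup.mem_sup_right (egU ▸ hg'.mem_centralizer_img (hl.trans le_sup_left)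
      (Subgroup.mem_sup_right hc) (mem_centralizerIn.1 hc).2))) eg h2
  have k4 := core2 hS hE hNT hn hVW (sup_le (le_normalizerIn hn.1) hCN) k1 k2 (fun c hc => by
    rw [k3 c (Subgroup.mem_sup_right hc)]; exact h1.2 c (Subgroup.mem_sup_right hc)) hb
    fun x hx => by rw [k3 x (Subgroup.mem_sup_left hx), h3 x hx]
  have hle : Vc S U ≤ normalizerIn T U ⊔ centralizerIn S U := sup_le_sup_right hl _
  have k5 := (mem_autGroup hg'.le).1 k1
  have k6 : ∀ x ∈ U, afun β₂ x = afun b₀ x := fun x hx => by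
    rw [k3 x (Subgroup.mem_sup_left (hl hx)), h3 x (hl hx), e x hx]
  have := finite_of_le hle
  obtain ⟨β₃, k7, k8⟩ := (k5.mono hle).exists_aut ((k5.mono hle).img_eq_self fun x hx => by
    have := k5.maps_Vc hle x hx
    rwa [img_eq_of_afun k6] at this)
  exact mem_XA.2 ⟨β₃, ⟨k7, fun x hx => by rw [k8 x hx]; exact k4.2 x (hle hx)⟩,
    fun x hx => by rw [k8 x (Subgroup.mem_sup_left hx), k6 x hx]⟩

theorem core_step (hS : IsPGroup p S) (hE : E.IsWeaklyNormalIn F p) (hU : TC F T U)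
    (hn₀ : F.IsFullyNormalized U) (hn : F.IsFullyNormalized (normalizerIn T U))
    (ih : E.autGroup (normalizerIn T U) ≤ XA F T _) : E.autGroup U ≤ XA F T U := by
  have hT := hE.2.2.2.1
  have hF := hE.2.1
  have := finite_of_le hT.1
  have hT' := pgroup_of_le hS hT.1
  have hl := le_normalizerIn hU.1
  have hNT : normalizerIn T U ≤ T := normalizerIn_le
  have hEn := fullyNormalized_of_sub hS hF hT hE.2.2.1 hU.1 hn₀
  have hs := IsFullyAutomized.sylowIn (IsSaturated.fullyAutomized hT' hE.1 hEn)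
  have hX := autInducedBy_le_XA hT hn₀.1
  have hcj := fun a ha => XA_conj hS hF hT (IsSaturated.fullyCentralized hS hF hn₀) a
    (IsSubsystemOf.autGroup_le hE.2.2.1 hU.1 ha)
  have := finite_autGroup E hU.1
  intro α hα
  have hm := (mem_autGroup hU.1).1 hα
  obtain ⟨c, hc, ψ, hψ, e⟩ := exists_ext_mod hT' (IsSaturated.receptive' hT' hE.1 hEn)
    (hs.of_le (le_inf hs.le hX) inf_le_left) le_rfl inf_le_left hm (img_afun α) le_rfl
    fun n hn β hβ eβ => ⟨hβ, by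
      obtain ⟨ν, eν⟩ := exists_cAut hn.2
      have : β = α * ν * α⁻¹ := aut_ext fun x hx => by
        have h2 := afun_mem α⁻¹ hx
        rw [afun_mul _ _ hx, afun_mul _ _ h2, eν _ h2, ← eβ _ h2, afun_afun_inv α hx]
      rw [this]
      exact hcj α hα _ (hX (mem_autInducedBy.2 ⟨n, hn.1, eν⟩))⟩
  rw [normalizerIn_sup_self hU.1] at hψ
  have e' : ∀ x ∈ U, ψ x = afun (c * α) x := fun x hx => by rw [e x hx, afun_mul _ _ hx]
  have := finite_of_le hNT
  obtain ⟨γ, hγ, eγ⟩ := hψ.exists_aut (hψ.img_eq_self fun x hx => by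
    have := hψ.mem_normalizer_img hl hx hx.2
    rwa [img_eq_of_afun e'] at this)
  have hst : γ ∈ stabAut _ U := mem_stabAut_of_eq hl fun x hx => (eγ x (hl hx)).trans (e' x hx)
  have := finite_mulAut (normalizerIn T U)
  obtain ⟨a, ha, b, hb, eab, ⟨k, hk⟩, hbc⟩ := Transfer.exists_pPart p γ
  have ha' := Subgroup.zpowers_le.2 (show γ ∈ E.autGroup _ ⊓ stabAut _ U from ⟨hγ, hst⟩) ha
  have hb' := Subgroup.zpowers_le.2 (show γ ∈ E.autGroup _ ⊓ stabAut _ U from ⟨hγ, hst⟩) hb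
  have h1 : resAut hl ⟨b, hb'.2⟩ ∈ XA F T U := core_key hS hE hU hn hb'.1 (ih hb'.1) hbc
    fun x hx => (afun_resAut hl ⟨b, hb'.2⟩ hx).symm
  have h2 : resAut hl ⟨a, ha'.2⟩ ∈ XA F T U := by
    have h3 : resAut hl ⟨a, ha'.2⟩ ∈ E.autGroup U := resImg_le_autGroup hl hNT le_rfl
      ((mem_resImg _).2 ⟨a, ha'.1, fun x hx => (afun_resAut hl ⟨a, ha'.2⟩ hx).symm⟩)
    obtain ⟨d, hd, h4⟩ := hs.conj (Subgroup.zpowers_le.2 h3) (pgroup_zpowers (k := k) (by
      rw [← map_pow, show (⟨a, ha'.2⟩ : stabAut _ U) ^ p ^ k = 1 from Subtype.ext hk, map_one]))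
    simpa [mul_assoc] using hcj _ (inv_mem hd) _ (hX (h4 _ (Subgroup.mem_zpowers _)))
  have h3 : c * α = resAut hl ⟨a, ha'.2⟩ * resAut hl ⟨b, hb'.2⟩ := aut_ext fun x hx => by
    rw [← map_mul, afun_resAut _ _ hx, ← e' x hx, ← eγ x (hl hx), eab]; rfl
  have := (XA F T U).mul_mem ((XA F T U).inv_mem hc.2) (h3 ▸ mul_mem h2 h1)
  rwa [inv_mul_cancel_left] at this

theorem core_transport (hE : E.IsWeaklyNormalIn F p) (hU : U ≤ T) (hc : F.IsFullyCentralized U)
    (hg : Mor F N g) (h : Vc S U ≤ N) (ih : E.autGroup (img g U) ≤ XA F T _) :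
    E.autGroup U ≤ XA F T U := fun α hα => by
  have hg' := hg.mono (le_sup_left.trans h)
  obtain ⟨τ, hτ, -⟩ := hg'.exists_transport rfl
  exact XA_transport hE.2.2.2.1 hc hg h rfl (ih (((IsInvariantIn.strongInv hE.2.2).mor
    ((mem_autGroup hU).1 hα) le_rfl hU (fun _ hx => afun_mem _ hx) hg' (hτ α)).mem_autGroup
      fun _ _ => rfl)) (hτ α)

theorem Mor.img_normT (hT : F.StronglyClosed T) (hg : Mor F N g) (h : normalizerIn S U ≤ N)
    (hn : F.IsFullyNormalized U) : img g (normalizerIn T U) = normalizerIn T (img g U) := by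
  have e : ∀ U, normalizerIn T U = normalizerIn S U ⊓ T := fun U =>
    le_antisymm (le_inf (normalizerIn_mono hT.1) normalizerIn_le) fun x hx => ⟨hx.2, hx.1.2⟩
  rw [e, e, StronglyClosed.img_inf hT (hg.mono h), (hg.mono h).img_normalizerIn hn]

theorem core_fn (hS : IsPGroup p S) (hE : E.IsNormalIn F p) : ∀ U, U ≤ T → TC F T U →
    F.IsFullyNormalized U → E.autGroup U ≤ XA F T U := by
  have hT := hE.1.2.2.2.1
  have hF := hE.1.2.1
  have := finite_of_le hT.1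
  refine downward_induction fun U hU ih h hn => ?_
  rcases hU.eq_or_lt with rfl | hlt
  · intro α hα
    obtain ⟨g, hg, e1, e2, e3⟩ := (isNormalIn_iff.1 hE).2 α hα
    obtain ⟨β, hβ, e⟩ := hg.exists_aut e1
    refine mem_XA.2 ⟨β, ⟨hβ, fun x hx => ?_⟩, fun x hx => by
      rw [e x (Subgroup.mem_sup_left hx), e2 x hx]⟩
    obtain ⟨c, hc, u, hu, rfl⟩ := mem_Vc.1 hx
    rw [e _ hx, hg.map_mul (Subgroup.mem_sup_right hc) (Subgroup.mem_sup_left hu), e2 u hu,
      show (c * u)⁻¹ * (g c * afun α u) = u⁻¹ * (c⁻¹ * g c) * afun α u by group]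
    exact mul_mem (mul_mem (inv_mem hu) (e3 c hc)) (afun_mem _ hu)
  obtain ⟨ψ, hψ, hn'⟩ := IsSaturated.exists_normalizer_mor' hS hF
    (normalizerIn_le.trans hT.1 : normalizerIn T U ≤ S)
  have hle : normalizerIn S U ≤ normalizerIn S (normalizerIn T U) := le_inf normalizerIn_le
    (le_normalizer_of_conj_mem fun _ hs _ hx => norm_T_conj hT hs hx)
  have hc := (hψ.mono ((normalizerIn_mono hT.1).trans hle)).card_img
  rw [hψ.img_normT hT hle hn] at hn' hc
  have h' := h.image hT (hψ.mono ((le_normalizerIn hn.1).trans hle))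
  have := finite_of_le (normalizerIn_le : normalizerIn T U ≤ T)
  exact core_transport hE.1 hU (IsSaturated.fullyCentralized hS hF hn) hψ
    ((Vc_le_norm hn.1).trans hle) (core_step hS hE.1 h' (fullyNormalized_img hn (hψ.mono hle)) hn'
      (ih _ normalizerIn_le (hc ▸ card_lt_of_lt (lt_normalizerIn (pgroup_of_le hS hT.1) hlt))
        (h'.mono (le_normalizerIn h'.1) normalizerIn_le) hn'))

theorem core_ext (hS : IsPGroup p S) (hE : E.IsNormalIn F p) (h : TC F T U)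
    (hc : F.IsFullyCentralized U) : E.autGroup U ≤ XA F T U := by
  obtain ⟨ψ, hψ, hn⟩ := IsSaturated.exists_normalizer_mor' hS hE.1.2.1 hc.1
  have h' := h.image hE.1.2.2.2.1 (hψ.mono (le_normalizerIn hc.1))
  exact core_transport hE.1 h.1 hc hψ (Vc_le_norm hc.1) (core_fn hS hE _ h'.1 h' hn)

end Cfsg.Agent.Fusion
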