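import Cfsg.Agent.Lib.Fusion.Cent
import Cfsg.Agent.Lib.Fusion.GroupQuot

/-! The centralizer of a normal subsystem. -/

set_option autoImplicit false
set_option linter.unusedSectionVars false

namespace Cfsg.Agent.Fusion

open Cfsg Cfsg.FusionSystem
open scoped commutatorElement

variable {Ω : Type*} [Group Ω] {S : Subgroup Ω} {F : FusionSystem S} {P Q R T U U' W N M : Subgroup Ω}
  {E : FusionSystem T} {f g k ψ : Ω → Ω} {p : ℕ}

theorem Mor.conj_mor (hψ : Mor F N ψ) (hk : Mor F M k) (h : M ≤ N) (h' : ∀ x ∈ M, k x ∈ N) :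
    ∃ g, Mor F (img ψ M) g ∧ ∀ x ∈ M, g (ψ x) = ψ (k x) := by
  obtain ⟨i, hi, i1, i2, -⟩ := (hψ.mono h).inv
  exact ⟨_, (hi.comp hk i2).comp hψ fun x hx => h' _ (i2 x hx), fun x hx => by rw [i1 x hx]⟩

theorem Mor.maps_sup_zpowers {y : Ω} (hk : Mor F (U ⊔ Subgroup.zpowers y) k)
    (h1 : ∀ x ∈ U, k x ∈ N) (h2 : k y ∈ N) : ∀ x ∈ U ⊔ Subgroup.zpowers y, k x ∈ N :=
  hk.mem_of_sup h1 fun x hx => by
    obtain ⟨n, rfl⟩ := Subgroup.mem_zpowers_iff.1 hx
    rw [hk.map_zpow (Subgroup.mem_sup_right (Subgroup.mem_zpowers y))]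
    exact zpow_mem h2 n

/-- `y` is conjugate to `y'` by a map which is the identity on `U` -/
def CJ (F : FusionSystem S) (U : Subgroup Ω) (y y' : Ω) : Prop :=
  ∃ N k, Mor F N k ∧ U ≤ N ∧ (∀ u ∈ U, k u = u) ∧ y ∈ N ∧ k y = y'

theorem CJ.transport {y y' : Ω} (h : CJ F U y y') (hψ : Mor F M ψ) (hU : U ≤ M) (hy : y ∈ M)
    (hy' : y' ∈ M) : CJ F (img ψ U) (ψ y) (ψ y') := by
  obtain ⟨N, k, hk, h1, h2, h3, rfl⟩ := h
  have hk' := hk.mono (sup_le h1 (Subgroup.zpowers_le.2 h3))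
  obtain ⟨g, hg, e⟩ := hψ.conj_mor hk' (sup_le hU (Subgroup.zpowers_le.2 hy))
    (hk'.maps_sup_zpowers (fun x hx => by rw [h2 x hx]; exact hU hx) hy')
  have hy₀ : y ∈ U ⊔ Subgroup.zpowers y := Subgroup.mem_sup_right (Subgroup.mem_zpowers y)
  refine ⟨_, g, hg, img_mono le_sup_left, fun u hu => ?_, subset_img hy₀, e y hy₀⟩
  obtain ⟨x, hx, rfl⟩ := (hψ.mono hU).mem_img.1 hu
  rw [e x (Subgroup.mem_sup_left hx), h2 x hx]

theorem CJ.cent {y y' : Ω} (h : CJ F U y y') (hy : y ∈ centralizerIn S U) :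
    y' ∈ centralizerIn S U := by
  obtain ⟨N, k, hk, h1, h2, h3, rfl⟩ := h
  have := hk.mem_centralizer_img h1 h3 (mem_centralizerIn.1 hy).2
  rwa [img_of_eq_id h2] at this

theorem CJ.mem_foc {y y' : Ω} (h : CJ F U y y') (hU : U ≤ S) (hy : y ∈ centralizerIn S U) :
    y⁻¹ * y' ∈ (centSys F hU).focalSubgroup := by
  obtain ⟨N, k, hk, h1, h2, h3, rfl⟩ := h
  exact (centSys_mor_of (centSys_spec F hU) (Subgroup.zpowers_le.2 hy) hk
    (Subgroup.zpowers_le.2 h3) h1 h2).mem_foc (Subgroup.mem_zpowers y)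

theorem cent_centric (hr : F.IsReceptive Q) {D : FusionSystem (centralizerIn S Q)}
    (hD : F.IsCentralizerSystem Q D) (hP : D.IsCentric P) : F.IsCentric (P ⊔ Q) := by
  have hPT := hP.1
  refine isCentric_iff.2 ⟨sup_le (hPT.trans centralizerIn_le) hr.1, fun g hg c hc => ?_⟩
  obtain ⟨i, hi, i1, i2, i3, i4⟩ := (hg.mono le_sup_right).inv
  obtain ⟨ψ, hψ, e⟩ := IsReceptive.ext hr hi i4
  have h1 : ∀ x ∈ P ⊔ Q, g x ∈ Next S (img g Q) i := hg.mem_of_sup (fun x hx =>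
    centralizerIn_le_Next (hg.mem_centralizer_img le_sup_right (Subgroup.mem_sup_left hx)
      (mem_centralizerIn.1 (hPT hx)).2)) fun x hx => hi.le_Next (subset_img hx)
  have h2 : Mor D P fun x => ψ (g x) := centSys_mor_of hD hPT (hg.comp hψ h1) le_sup_left
    le_sup_right fun x hx => by rw [e _ (subset_img hx), i1 x hx]
  have h3 := (isCentric_iff.1 hP).2 _ h2
  rw [(hg.mono le_sup_left).img_comp'] at h3
  have hc1 : c ∈ centralizerIn S (img g Q) := centralizerIn_anti (img_mono le_sup_right) hc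
  have hc' : c ∈ Next S (img g Q) i := centralizerIn_le_Next hc1
  have h4 : img g P ≤ _ := img_le_iff.2 fun x hx => h1 x (Subgroup.mem_sup_left hx)
  refine img_mono le_sup_left ((hψ.apply_mem_img_iff h4 hc').1 (h3 ⟨?_, ?_⟩))
  · have := hψ.mem_centralizer_img hi.le_Next hc' (mem_centralizerIn.1 hc1).2
    rwa [img_congr e, i4] at this
  · exact (hψ.mem_centralizer_img h4 hc' (mem_centralizerIn.1
      (centralizerIn_anti (img_mono le_sup_left) hc)).2).2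

/-- fixed points of an automorphism -/
def fixSub (β : MulAut W) : Subgroup Ω where
  carrier := {x | x ∈ W ∧ afun β x = x}
  one_mem' := ⟨one_mem _, afun_map_one β⟩
  mul_mem' := fun ha hb => ⟨mul_mem ha.1 hb.1, by rw [afun_map_mul _ ha.1 hb.1, ha.2, hb.2]⟩
  inv_mem' := fun ha => ⟨inv_mem ha.1, by rw [afun_map_inv _ ha.1, ha.2]⟩

theorem TC.delta (h : TC F T U) (hT : F.StronglyClosed T) {b : MulAut W} (hb : b ∈ modKer F W T)
    (hU : U ≤ W) (hW : W ≤ Vc S U) {y : Ω} (hy : y ∈ W) (hc : y ∈ centralizerIn S U) :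
    y⁻¹ * afun b y ∈ U ∧ y⁻¹ * afun b y ∈ centralizerIn S U := by
  have hm := (mem_autGroup (hW.trans (Vc_le (h.1.trans hT.1)))).1 hb.1
  refine ⟨h.mem_of_Vc hT.1 (hW (mul_mem (inv_mem hy) (afun_mem _ hy))) (hb.2 y hy),
    mul_mem (inv_mem hc) ?_⟩
  have h1 := hm.mem_centralizer_img hU hy (mem_centralizerIn.1 hc).2
  have h2 : W ⊓ T = U := le_antisymm (fun x hx => h.mem_of_Vc hT.1 (hW hx.1) hx.2)
    (le_inf hU h.1)
  have h3 := StronglyClosed.img_inf hT hm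
  rw [h2, img_afun, h2] at h3
  rwa [h3] at h1

theorem conj_eq_of_cent {x y : Ω} (hx : x ∈ U) (hx' : x ∈ centralizerIn S U) (hy : y ∈ Vc S U) :
    y * x * y⁻¹ = x := by
  obtain ⟨c, hc, u, hu, rfl⟩ := mem_Vc.1 hy
  have h1 := (mem_centralizerIn.1 hx').2 u hu
  have h2 : u * x * u⁻¹ = x := by
    calc _ = (x * u * x⁻¹) * x * u⁻¹ := by rw [h1]
      _ = x := by group
  calc _ = c * (u * x * u⁻¹) * c⁻¹ := by group
    _ = x := by rw [h2, (mem_centralizerIn.1 hc).2 x hx]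

variable [hp : Fact p.Prime] [Finite S]

theorem afun_fix_step (hW : IsPGroup p W) {β : MulAut W} (hβ : (orderOf β).Coprime p) {x : Ω}
    (hx : x ∈ W) (h : afun β (x⁻¹ * afun β x) = x⁻¹ * afun β x) : afun β x = x := by
  have h1 := mul_mem (inv_mem hx) (afun_mem β hx)
  have := afun_pow_of_step hx h1 (by group) h (orderOf β)
  rw [pow_orderOf_eq_one, afun_one, left_eq_mul] at this
  obtain ⟨k, hk⟩ := hW ⟨_, h1⟩
  have h2 : x⁻¹ * afun β x ∈ (⊥ : Subgroup Ω) := mem_of_pow_coprime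
    (show (x⁻¹ * afun β x) ^ p ^ k = 1 from congrArg Subtype.val hk) (hβ.pow_right k) this
  exact (inv_mul_eq_one.1 h2).symm

theorem comm_inner (hS : IsPGroup p S) (hT : F.StronglyClosed T) (h : TC F T U)
    {D : FusionSystem (centralizerIn S U)} (hD : F.IsCentralizerSystem U D) (hc : D.IsCentric P)
    (hr : D.IsRadical p P) {γ b : MulAut (P ⊔ U : Subgroup Ω)} (hγ : γ ∈ F.autGroup _)
    (e : ∀ u ∈ U, afun γ u = u) (hb : b ∈ modKer F _ T) :
    ∃ s ∈ P, ∀ x ∈ P ⊔ U, afun (γ * b * γ⁻¹ * b⁻¹) x = s * x * s⁻¹ := by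
  have hV : P ⊔ U ≤ Vc S U := sup_le (hc.1.trans le_sup_right) le_sup_left
  have hW := hV.trans (Vc_le (h.1.trans hT.1))
  have hη := mul_mem (modKer_conj hT hW γ hγ b hb) (inv_mem hb)
  have hm := (mem_autGroup hW).1 hη.1
  have h1 : ∀ u ∈ U, afun (γ * b * γ⁻¹ * b⁻¹) u = u := fun u hu => by
    have hu' : u ∈ P ⊔ U := Subgroup.mem_sup_right hu
    have h2 : afun b⁻¹ u ∈ U := h.mem_of_Vc hT.1 (hV (afun_mem _ hu')) (StronglyClosed.mem hT
      ((mem_autGroup hW).1 (inv_mem hb).1) hu' (h.1 hu))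
    have h3 : afun γ⁻¹ (afun b⁻¹ u) = afun b⁻¹ u := by
      conv_lhs => rw [← e _ h2, afun_inv_afun _ (afun_mem _ hu')]
    rw [afun_mul _ _ hu', afun_mul _ _ (afun_mem _ hu'), h3, afun_mul _ _ (afun_mem _ hu'),
      afun_afun_inv _ hu', e u hu]
  have hZ : ∀ z ∈ U, z ∈ centralizerIn S U → z ∈ P := fun z hz hz' => IsCentric.cent_le hc
    (mem_centralizerIn.2 ⟨hz', fun y hy => by
      have := (mem_centralizerIn.1 (hc.1 hy)).2 z hz
      calc z * y * z⁻¹ = (y * z * y⁻¹) * y * z⁻¹ := by rw [this]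
        _ = y := by group⟩)
  have h2 := centSys_mor_of hD hc.1 hm le_sup_left le_sup_right h1
  have := finite_of_le (le_sup_left.trans hW)
  obtain ⟨η, hη', eη⟩ := h2.exists_aut (h2.img_eq_self fun y hy => by
    obtain ⟨h3, h4⟩ := h.delta hT hη le_sup_right hV (Subgroup.mem_sup_left hy) (hc.1 hy)
    simpa using mul_mem hy (hZ _ h3 h4))
  have := finite_of_le (centralizerIn_le : centralizerIn S U ≤ S)
  have h3 := chain_mem_autCore (pgroup_of_le hS centralizerIn_le)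
    (T := T ⊓ centralizerIn S U) (stronglyClosed_iff.2 ⟨inf_le_right, fun _ _ hf _ hx hx' =>
      ⟨StronglyClosed.mem hT (hf.sub (centSys_sub hD)) hx hx'.1, hf.mem hx⟩⟩) hc.1 hη'
    (fun x hx hx' => by rw [eη x hx, h1 x (h.cent hT.1 ⟨hx'.1, hx'.2.2⟩)])
    fun x hx => by
      rw [eη x hx]
      exact ⟨hη.2 x (Subgroup.mem_sup_left hx), (h.delta hT hη le_sup_right hV
        (Subgroup.mem_sup_left hx) (hc.1 hx)).2⟩
  rw [show autCore D p P = Inn P from hr.2] at h3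
  obtain ⟨s, hs, es⟩ := mem_Inn.1 h3
  exact ⟨s, hs, hm.eq_on_sup (mor_conj F hW (hc.1 hs).1) (fun x hx => by rw [← eη x hx, es x hx])
    fun x hx => by rw [h1 x hx, (mem_centralizerIn.1 (hc.1 hs)).2 x hx]⟩

theorem foc_fix (hS : IsPGroup p S) (hF : F.IsSaturated p) (hT : F.StronglyClosed T)
    (h : TC F T U) (hU : F.IsFullyCentralized U) {β : MulAut (Vc S U)} (hβ : β ∈ modKer F _ T)
    (hh : ∀ P, (centSys F hU.1).IsCentric P → ∀ γ ∈ F.autGroup (P ⊔ U), (∀ u ∈ U, afun γ u = u) →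
      ∀ b ∈ modKer F (P ⊔ U) T, (∀ x ∈ P ⊔ U, afun β x = afun b x) →
      (∃ s ∈ P, ∀ x ∈ P ⊔ U, afun (γ * b * γ⁻¹ * b⁻¹) x = s * x * s⁻¹) → γ * b = b * γ) :
    (centSys F hU.1).focalSubgroup ≤ fixSub β := by
  have hD := centSys_spec F hU.1
  have hV := Vc_le hU.1
  have hm := (mem_autGroup hV).1 hβ.1
  have hδ := fun y (hy : y ∈ centralizerIn S U) =>
    h.delta hT hβ le_sup_left le_rfl (Subgroup.mem_sup_right hy) hy
  have key : ∀ y ∈ centralizerIn S U, ∀ y' ∈ centralizerIn S U,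
      y⁻¹ * afun β y = y'⁻¹ * afun β y' → y⁻¹ * y' ∈ fixSub β := fun y hy y' hy' e => by
    have h1 : y ∈ Vc S U := Subgroup.mem_sup_right hy
    have h2 : y' ∈ Vc S U := Subgroup.mem_sup_right hy'
    refine ⟨mul_mem (inv_mem h1) h2, ?_⟩
    have h3 := conj_eq_of_cent (hδ y hy).1 (hδ y hy).2 (mul_mem (inv_mem h1) h2)
    rw [hm.map_mul (inv_mem h1) h2, hm.map_inv h1, show afun β y' = y' * (y'⁻¹ * afun β y') by group,
      ← e]
    calc _ = (y⁻¹ * afun β y)⁻¹ * (y⁻¹ * y' * (y⁻¹ * afun β y) * (y⁻¹ * y')⁻¹) * (y⁻¹ * y') := by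
          group
      _ = _ := by rw [h3]; group
  have hcomm : ⁅centralizerIn S U, centralizerIn S U⁆ ≤ fixSub β := by
    refine Subgroup.commutator_le.2 fun a ha b hb => ?_
    have h1 : a ∈ Vc S U := Subgroup.mem_sup_right ha
    have h2 : b ∈ Vc S U := Subgroup.mem_sup_right hb
    have := key _ (mul_mem hb ha) _ (mul_mem ha hb) (by
      rw [hm.map_mul h1 h2, hm.map_mul h2 h1]
      have h3 := conj_eq_of_cent (hδ a ha).1 (hδ a ha).2 (inv_mem h2)
      have h4 := conj_eq_of_cent (hδ b hb).1 (hδ b hb).2 (inv_mem (afun_mem β h1))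
      calc _ = (a⁻¹ * afun β a) * ((afun β a)⁻¹ * (b⁻¹ * afun β b) * (afun β a)⁻¹⁻¹) := by group
        _ = (b⁻¹ * (a⁻¹ * afun β a) * b⁻¹⁻¹) * (b⁻¹ * afun β b) := by rw [h3, h4]
        _ = _ := by group)
    have h5 : ⁅a, b⁆ = (b * a) * ((b * a)⁻¹ * (a * b)) * (b * a)⁻¹ := by
      rw [commutatorElement_def]; group
    refine ⟨by rw [commutatorElement_def]; exact mul_mem (mul_mem (mul_mem h1 h2) (inv_mem h1)) (inv_mem h2), ?_⟩
    have h6 := conj_eq_of_cent (hδ _ (mul_mem hb ha)).1 (hδ _ (mul_mem hb ha)).2 (inv_mem this.1)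
    rw [h5, hm.map_conj (mul_mem h2 h1) this.1, this.2]
    calc _ = (b * a) * ((b * a)⁻¹ * (a * b)) * (((b * a)⁻¹ * (a * b))⁻¹ * ((b * a)⁻¹ * afun β (b * a)) *
          ((b * a)⁻¹ * (a * b))⁻¹⁻¹) * (afun β (b * a))⁻¹ := by group
      _ = _ := by rw [h6]; group
  have := finite_of_le (centralizerIn_le : centralizerIn S U ≤ S)
  refine (sub_focSys_iff (h := hcomm) fun _ => le_rfl).1 (sub_of_coprime
    (pgroup_of_le hS centralizerIn_le) (centralizer_saturated hS hF hU hD) le_rfl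
    fun P hP _ hc hr γ hγ _ => ?_)
  have hmγ := (mem_autGroup hP).1 hγ
  refine (mem_autGroup hP).2 (focSys_mor.2 ⟨hmγ, fun y hy => ?_⟩)
  obtain ⟨g, hg, e1, e2⟩ := centSys_ext hD hmγ
  have hW : P ⊔ U ≤ Vc S U := sup_le (hP.trans le_sup_right) le_sup_left
  have := finite_of_le hg.le
  obtain ⟨γ', hγ', e3⟩ := hg.exists_aut (hg.img_eq_self (hg.mem_of_sup (fun x hx => by
    rw [e1 x hx]; exact Subgroup.mem_sup_left (afun_mem _ hx)) fun x hx => by
      rw [e2 x hx]; exact Subgroup.mem_sup_right hx))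
  have hm' := hm.mono hW
  obtain ⟨b, hb, e4⟩ := hm'.exists_aut (hm'.img_eq_self fun x hx => by
    simpa using mul_mem hx (Subgroup.mem_sup_right (S := P) (h.mem_of_Vc hT.1
      (mul_mem (inv_mem (hW hx)) (afun_mem _ (hW hx))) (hβ.2 x (hW hx)))))
  have hb' : b ∈ modKer F _ T := ⟨hb, fun x hx => by rw [e4 x hx]; exact hβ.2 x (hW hx)⟩
  have e5 : ∀ u ∈ U, afun γ' u = u := fun u hu => by rw [e3 u (Subgroup.mem_sup_right hu), e2 u hu]
  have h1 := hh P hc γ' hγ' e5 b hb' (fun x hx => (e4 x hx).symm)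
    (comm_inner hS hT h hD hc hr hγ' e5 hb')
  have hy' : y ∈ P ⊔ U := Subgroup.mem_sup_left hy
  refine key y (hP hy) _ (hP (afun_mem _ hy)) ?_
  rw [← e1 y hy, ← e3 y hy', ← e4 _ (afun_mem _ hy'), ← afun_mul _ _ hy', ← h1, afun_mul _ _ hy',
    ← afun_map_inv _ hy', ← afun_map_mul _ (inv_mem hy') (afun_mem _ hy'), e4 y hy',
    e5 _ (hδ y (hP hy)).1]

theorem foc_fix_coprime (hS : IsPGroup p S) (hF : F.IsSaturated p) (hT : F.StronglyClosed T)
    (h : TC F T U) (hU : F.IsFullyCentralized U) {β : MulAut (Vc S U)} (hβ : β ∈ modKer F _ T)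
    (hc : (orderOf β).Coprime p) : (centSys F hU.1).focalSubgroup ≤ fixSub β := by
  refine foc_fix hS hF hT h hU hβ fun P hP γ hγ e b hb eb ⟨s, hs, es⟩ => ?_
  have hW : P ⊔ U ≤ Vc S U := sup_le (hP.1.trans le_sup_right) le_sup_left
  have hs' : s ∈ P ⊔ U := Subgroup.mem_sup_left hs
  have h1 : b ^ orderOf β = 1 := aut_ext fun x hx => by
    rw [← afun_pow_of_eq hW eb _ x hx, pow_orderOf_eq_one, afun_one, afun_one]
  obtain ⟨h2, h3⟩ := h.delta hT hb le_sup_right hW hs' (hP.1 hs)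
  have h4 : Commute (γ * b * γ⁻¹ * b⁻¹) b := aut_ext fun x hx => by
    rw [afun_mul _ _ hx, afun_mul b _ hx, es _ (afun_mem _ hx), es x hx, afun_map_conj _ hs' hx]
    have := conj_eq_of_cent h2 h3 (inv_mem (hW (afun_mem b hx)))
    calc _ = s * afun b x * ((afun b x)⁻¹ * (s⁻¹ * afun b s) * (afun b x)⁻¹⁻¹) * (afun b s)⁻¹ := by
          rw [this]; group
      _ = _ := by group
  have h5 := h4.mul_pow (orderOf β)
  rw [inv_mul_cancel_right, conj_pow, h1, mul_one, mul_one, mul_inv_cancel] at h5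
  obtain ⟨k, hk⟩ := autInducedBy_pgroup hS (P ⊔ U) ⟨_, mem_autInducedBy.2 ⟨s, (hP.1 hs).1, es⟩⟩
  have h6 : γ * b * γ⁻¹ * b⁻¹ ∈ (⊥ : Subgroup _) := mem_of_pow_coprime
    (show (γ * b * γ⁻¹ * b⁻¹) ^ p ^ k = 1 from congrArg Subtype.val hk) (hc.pow_right k) h5.symm
  rwa [Subgroup.mem_bot, mul_inv_eq_one, mul_inv_eq_iff_eq_mul] at h6

theorem foc_fix_conj (hS : IsPGroup p S) (hF : F.IsSaturated p) (hT : F.StronglyClosed T)
    (h : TC F T U) (hU : F.IsFullyCentralized U) {t x : Ω} (ht : t ∈ normalizerIn T U)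
    (hx : x ∈ (centSys F hU.1).focalSubgroup) : t * x * t⁻¹ = x := by
  obtain ⟨β, eβ⟩ := exists_cAut (norm_le_norm_Vc (S := S) (normalizerIn_mono hT.1 ht))
  have hβ := cAut_mem_modKer hT (Vc_le hU.1) ht.1 eβ
  have := foc_fix hS hF hT h hU hβ (fun P hP γ hγ e b hb eb ⟨s, hs, es⟩ => ?_) hx
  · rw [← eβ x this.1, this.2]
  have hW : P ⊔ U ≤ Vc S U := sup_le (hP.1.trans le_sup_right) le_sup_left
  have hc := cent_centric (IsSaturated.receptive hS hF hU) (centSys_spec F hU.1) hP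
  have eb' : ∀ x ∈ P ⊔ U, afun b x = t * x * t⁻¹ := fun x hx => by rw [← eb x hx, eβ x (hW hx)]
  have hm := (mem_autGroup hc.1).1 hγ
  have h1 : t ∈ Next S _ (afun γ) := (mem_Next_afun_iff (hT.1 ht.1) eb').2 (by
    simpa using mul_mem (mem_autInducedBy.2 ⟨s, (hP.1 hs).1, es⟩)
      (mem_autInducedBy.2 ⟨t, hT.1 ht.1, eb'⟩))
  obtain ⟨g, hg, eg⟩ := IsReceptive.ext (IsSaturated.receptive_of_centric hS hF hc) hm (img_afun γ)
  have h2 : ∀ x ∈ P ⊔ U, afun γ (afun b x) = g t * afun γ x * (g t)⁻¹ := fun x hx => by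
    rw [← eg _ (afun_mem _ hx), eb' x hx, hg.map_conj h1 (hm.le_Next hx), eg x hx]
  have h3 : t⁻¹ * g t ∈ centralizerIn T U := mem_centralizerIn.2 ⟨mul_mem (inv_mem ht.1)
    (StronglyClosed.mem hT hg h1 ht.1), fun u hu => by
      have h4 := h2 u (Subgroup.mem_sup_right hu)
      rw [eb' u (Subgroup.mem_sup_right hu), e u hu, e _ (conj_mem_of_mem_normalizerIn ht hu)] at h4
      calc _ = t⁻¹ * (g t * u * (g t)⁻¹) * t := by group
        _ = u := by rw [← h4]; group⟩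
  refine aut_ext fun x hx => ?_
  have h4 := conj_eq_of_cent (h.cent hT.1 h3) (centralizerIn_mono hT.1 h3)
    (inv_mem (hW (afun_mem γ hx)))
  rw [afun_mul _ _ hx, afun_mul _ _ hx, h2 x hx, eb' _ (afun_mem _ hx)]
  calc _ = t * afun γ x * ((afun γ x)⁻¹ * (t⁻¹ * g t) * (afun γ x)⁻¹⁻¹) * (g t)⁻¹ := by group
    _ = _ := by rw [h4]; group

theorem CJ.conj_eq (hS : IsPGroup p S) (hF : F.IsSaturated p) (hT : F.StronglyClosed T)
    (h : TC F T U) {y y' t : Ω} (hj : CJ F U y y') (hy : y ∈ centralizerIn S U)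
    (ht : t ∈ normalizerIn T U) : t * (y⁻¹ * y') * t⁻¹ = y⁻¹ * y' := by
  have hU := h.1.trans hT.1
  obtain ⟨ψ, hψ, hn⟩ := IsSaturated.exists_normalizer_mor' hS hF hU
  have h1 := centralizerIn_le_normalizerIn hy
  have h2 := centralizerIn_le_normalizerIn (hj.cent hy)
  have h3 := normalizerIn_mono hT.1 ht
  have hc := IsSaturated.fullyCentralized hS hF hn
  have := foc_fix_conj hS hF hT (h.image hT (hψ.mono (le_normalizerIn hU))) hc
    (t := ψ t) ⟨StronglyClosed.mem hT hψ h3 ht.1, (hψ.normalizerIn_mem hU h3).2⟩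
    ((hj.transport hψ (le_normalizerIn hU) h1 h2).mem_foc hc.1 (hψ.centralizerIn_mem hU hy))
  have h4 := mul_mem (inv_mem h1) h2
  rw [← hψ.map_inv h1, ← hψ.map_mul (inv_mem h1) h2, ← hψ.map_conj h3 h4] at this
  exact hψ.inj (mul_mem (mul_mem h3 h4) (inv_mem h3)) h4 this

end Cfsg.Agent.Fusion
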