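import Cfsg.Agent.Lib.Fusion.Cent2

/-! The centralizer of a normal subsystem, II. -/

set_option autoImplicit false
set_option linter.unusedSectionVars false

namespace Cfsg.Agent.Fusion

open Cfsg Cfsg.FusionSystem

variable {Ω : Type*} [Group Ω] {S : Subgroup Ω} {F : FusionSystem S} {P Q R T U U' W N M Y : Subgroup Ω}
  {E : FusionSystem T} {f g k ψ : Ω → Ω} {p : ℕ}

/-- every map of `E` extends to a map of `F` fixing `x` -/
def Cz (F : FusionSystem S) (E : FusionSystem T) (x : Ω) : Prop :=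
  ∀ P f, Mor E P f → ∃ N g, Mor F N g ∧ P ≤ N ∧ x ∈ N ∧ (∀ y ∈ P, g y = f y) ∧ g x = x

/-- every map of `E` extends to a map of `F` fixing `Y` -/
def CzS (F : FusionSystem S) (E : FusionSystem T) (Y : Subgroup Ω) : Prop :=
  ∀ P f, Mor E P f → ∃ g, Mor F (P ⊔ Y) g ∧ (∀ y ∈ P, g y = f y) ∧ ∀ y ∈ Y, g y = y

theorem CzS.cz (h : CzS F E Y) {x : Ω} (hx : x ∈ Y) : Cz F E x := fun P f hf => by
  obtain ⟨g, hg, e1, e2⟩ := h P f hf
  exact ⟨_, g, hg, le_sup_left, Subgroup.mem_sup_right hx, e1, e2 x hx⟩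

theorem CzS.mono (h : CzS F E Y) (hR : R ≤ Y) : CzS F E R := fun P f hf => by
  obtain ⟨g, hg, e1, e2⟩ := h P f hf
  exact ⟨g, hg.mono (sup_le_sup_left hR _), e1, fun y hy => e2 y (hR hy)⟩

theorem le_centralizerIn_symm (hT : T ≤ S) (hY : Y ≤ centralizerIn S T) : T ≤ centralizerIn S Y :=
  fun _ ht => ⟨hT ht, fun _ hy => ((hY hy).2 _ ht).symm⟩

theorem sub_centSys_iff (hY : Y ≤ S) (hT : T ≤ centralizerIn S Y) :
    E.IsSubsystemOf (centSys F hY) ↔ CzS F E Y := by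
  rw [isSubsystemOf_iff]
  refine ⟨fun h P f hf => centSys_ext (centSys_spec F hY) (h P f hf), fun h P f hf => ?_⟩
  obtain ⟨g, hg, e1, e2⟩ := h P f hf
  exact (centSys_mor_of (centSys_spec F hY) (hf.le.trans hT) hg le_sup_left le_sup_right e2).congr e1

theorem czS_iff (hT : T ≤ S) (hY : Y ≤ centralizerIn S T) :
    (∀ P, E.Hom P ⊆ F.centralizerHom Y P) ↔ CzS F E Y := by
  rw [← sub_centSys_iff (hY.trans centralizerIn_le) (le_centralizerIn_symm hT hY)]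
  exact forall_congr' fun P => by rw [centSys_spec F (hY.trans centralizerIn_le) P]

/-- `C_S(E)` -/
def CE (F : FusionSystem S) (E : FusionSystem T) (p : ℕ) : Subgroup Ω where
  carrier := {x | x ∈ centralizerIn S T ∧ ∀ P ψ, TC F T P → Mor F (P ⊔ centralizerIn S T) ψ →
    F.IsFullyCentralized (img ψ P) → ∀ β ∈ modKer F (Vc S (img ψ P)) T, (orderOf β).Coprime p →
      Mor E (img ψ P) (afun β) → afun β (ψ x) = ψ x}
  one_mem' := ⟨one_mem _, fun _ _ _ h _ _ _ _ _ => by rw [h.map_one, afun_map_one]⟩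
  mul_mem' := fun {a b} ha hb => ⟨mul_mem ha.1 hb.1, fun P ψ h1 h2 h3 β h4 h5 h6 => by
    have k := fun x (hx : x ∈ centralizerIn S T) => h2.maps_Vc (U := P) (N := P ⊔ centralizerIn S T)
    have k' : ∀ x ∈ centralizerIn S T, ψ x ∈ Vc S (img ψ P) := fun x hx => Subgroup.mem_sup_right
      (h2.mem_centralizer_img le_sup_left (Subgroup.mem_sup_right hx)
        (mem_centralizerIn.1 (centralizerIn_anti h1.1 hx)).2)
    rw [h2.map_mul (Subgroup.mem_sup_right ha.1) (Subgroup.mem_sup_right hb.1),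
      afun_map_mul _ (k' a ha.1) (k' b hb.1), ha.2 P ψ h1 h2 h3 β h4 h5 h6,
      hb.2 P ψ h1 h2 h3 β h4 h5 h6]⟩
  inv_mem' := fun {a} ha => ⟨inv_mem ha.1, fun P ψ h1 h2 h3 β h4 h5 h6 => by
    rw [h2.map_inv (Subgroup.mem_sup_right ha.1), afun_map_inv _ (Subgroup.mem_sup_right
      (h2.mem_centralizer_img le_sup_left (Subgroup.mem_sup_right ha.1)
        (mem_centralizerIn.1 (centralizerIn_anti h1.1 ha.1)).2)), ha.2 P ψ h1 h2 h3 β h4 h5 h6]⟩

theorem CE_le : CE F E p ≤ centralizerIn S T := fun _ h => h.1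

variable [hp : Fact p.Prime] [Finite S]

theorem Cz.transport (hE : E.IsInvariantIn F) {x : Ω} (h : Cz F E x) (hψ : Mor F N ψ) (hT : T ≤ N)
    (hx : x ∈ N) : Cz F E (ψ x) := by
  intro P f hf
  have e := StronglyClosed.img_eq hE.2.1 hψ hT
  obtain ⟨i, hi, i1, i2, i3, i4⟩ := (hψ.mono hT).inv' e
  obtain ⟨f', hf', e'⟩ := IsInvariantIn.strongInv hE P T f i hf hf.le le_rfl (fun _ => hf.mem) hi
  obtain ⟨N', g', hg', h1, h2, h3, h4⟩ := h _ _ hf'
  have hg'' := hg'.mono (sup_le h1 (Subgroup.zpowers_le.2 h2))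
  obtain ⟨g, hg, eg⟩ := hψ.conj_mor hg'' (sup_le (hf'.le.trans hT) (Subgroup.zpowers_le.2 hx))
    (hg''.maps_sup_zpowers (fun y hy => by rw [h3 y hy]; exact hT (hf'.mem hy)) (h4.symm ▸ hx))
  have hx' : x ∈ img i P ⊔ Subgroup.zpowers x := Subgroup.mem_sup_right (Subgroup.mem_zpowers x)
  refine ⟨_, g, hg, fun y hy => ?_, subset_img hx', fun y hy => ?_, by rw [eg x hx', h4]⟩
  · rw [← i3 y (hf.le hy)]; exact subset_img (Subgroup.mem_sup_left (subset_img hy))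
  · conv_lhs => rw [← i3 y (hf.le hy)]
    rw [eg _ (Subgroup.mem_sup_left (subset_img hy)), h3 _ (subset_img hy), e' y hy,
      i3 _ (hf.mem hy)]

theorem czS_CE (hS : IsPGroup p S) (hE : E.IsNormalIn F p) : CzS F E (CE F E p) := by
  have hT := hE.1.2.2.2.1
  have hF := hE.1.2.1
  have := finite_of_le hT.1
  have hX : CE F E p ≤ S := CE_le.trans centralizerIn_le
  have hTX := le_centralizerIn_symm hT.1 (CE_le (F := F) (E := E) (p := p))
  refine (sub_centSys_iff hX hTX).1 (sub_of_coprime (pgroup_of_le hS hT.1) hE.1.1 hTX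
    fun P hP _ hc _ α hα hα' => ?_)
  have h := (IsInvariantIn.centric_iff hE.1.2.2).1 hc
  have hPS := hP.trans hT.1
  obtain ⟨ψ, hψ, hn⟩ := IsSaturated.exists_normalizer_mor' hS hF hPS
  have hfc := IsSaturated.fullyCentralized hS hF hn
  have hle : P ⊔ centralizerIn S T ≤ normalizerIn S P :=
    (sup_le_sup_left (centralizerIn_anti hP) _).trans (Vc_le_norm hPS)
  have hψ' := hψ.mono hle
  have hψP := hψ'.mono le_sup_left
  obtain ⟨τ, hτ, -⟩ := hψP.exists_transport rfl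
  have h1 := (IsInvariantIn.strongInv hE.1.2.2).mor ((mem_autGroup hP).1 hα) le_rfl hP
    (fun _ hx => afun_mem _ hx) hψP (hτ α)
  obtain ⟨β, b1, b2, b3⟩ := XA_coprime hn.1 (core_ext hS hE (h.image hT hψP) hfc
    (h1.mem_autGroup fun _ _ => rfl)) (by rwa [τ.orderOf_eq])
  have h2 : ∀ x ∈ CE F E p, afun β (ψ x) = ψ x := fun x hx =>
    hx.2 P ψ h hψ' hfc β b1 b2 (h1.congr fun y hy => (b3 y hy).symm)
  have hle' : P ⊔ CE F E p ≤ P ⊔ centralizerIn S T := sup_le_sup_left CE_le _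
  have hψ'' := hψ'.mono hle'
  obtain ⟨i, hi, i1, -⟩ := hψ''.inv
  have h3 := hψ''.comp ((mem_autGroup (Vc_le hn.1)).1 b1.1) fun x hx =>
    hψ.maps_Vc (Vc_le_norm hPS) x (sup_le_sup_left (centralizerIn_anti hP) _ (hle' hx))
  have h4 : ∀ x ∈ P, afun β (ψ x) = ψ (afun α x) := fun x hx => by
    rw [b3 _ (subset_img hx), hτ α x hx]
  have h5 := h3.comp hi (h3.mem_of_sup (fun x hx => by
    rw [h4 x hx]; exact subset_img (Subgroup.mem_sup_left (afun_mem _ hx))) fun x hx => by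
      rw [h2 x hx]; exact subset_img (Subgroup.mem_sup_right hx))
  exact (centSys_mor_of (centSys_spec F hX) (hP.trans hTX) h5 le_sup_left le_sup_right
    fun x hx => by rw [h2 x hx, i1 x (Subgroup.mem_sup_right hx)]).mem_autGroup fun x hx => by
      rw [h4 x hx, i1 _ (Subgroup.mem_sup_left (afun_mem _ hx))]

theorem mem_CE_of (hS : IsPGroup p S) (hE : E.IsWeaklyNormalIn F p) {x : Ω}
    (hx : x ∈ centralizerIn S T) (h : Cz F E x) : x ∈ CE F E p := by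
  have hT := hE.2.2.2.1
  refine ⟨hx, fun P ψ h1 h2 h3 β h4 h5 h6 => ?_⟩
  have hψP := h2.mono le_sup_left
  have h1' := h1.image hT hψP
  have hm := (mem_autGroup (Vc_le h3.1)).1 h4.1
  have hm' := (mem_autGroup (Vc_le h3.1)).1 (inv_mem h4).1
  have := finite_of_le h3.1
  obtain ⟨α', a1, a2⟩ := h6.exists_aut (h6.img_eq_self fun y hy => h1'.mem_of_Vc hT.1
    (afun_mem _ (Subgroup.mem_sup_left hy)) (h6.mem hy))
  obtain ⟨τ, hτ, -⟩ := hψP.exists_transport rfl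
  obtain ⟨α, rfl⟩ := τ.surjective α'
  have hα : α ∈ E.autGroup P := StrongInv.mem_of_conj (IsInvariantIn.strongInv hE.2.2) hT h1.1 hψP
    h6 fun y hy => by rw [← hτ α y hy, a2 _ (subset_img hy)]
  obtain ⟨N, g, hg, g1, g2, g3, g4⟩ := h _ _ ((mem_autGroup h1.1).1 hα)
  have hg' := hg.mono (sup_le g1 (Subgroup.zpowers_le.2 g2))
  have hx' : x ∈ P ⊔ Subgroup.zpowers x := Subgroup.mem_sup_right (Subgroup.mem_zpowers x)
  have hle : P ⊔ Subgroup.zpowers x ≤ _ := sup_le_sup_left (Subgroup.zpowers_le.2 hx) P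
  obtain ⟨k, hk, ek⟩ := h2.conj_mor hg' hle (hg'.maps_sup_zpowers (fun y hy => by
    rw [g3 y hy]; exact Subgroup.mem_sup_left (afun_mem _ hy)) (g4.symm ▸ hle hx'))
  have hc : ψ x ∈ centralizerIn S (img ψ P) := h2.mem_centralizer_img le_sup_left (hle hx')
    (mem_centralizerIn.1 (centralizerIn_anti h1.1 hx)).2
  have hV : ψ x ∈ Vc S (img ψ P) := Subgroup.mem_sup_right hc
  have hj : CJ F (img ψ P) (ψ x) (afun β⁻¹ (ψ x)) := ⟨_, _, hk.comp hm' (fun y hy => by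
    obtain ⟨z, hz, rfl⟩ := (h2.mono hle).mem_img.1 hy
    rw [ek z hz]
    exact (hg'.comp h2 (hg'.maps_sup_zpowers (fun y hy => by
      rw [g3 y hy]; exact Subgroup.mem_sup_left (afun_mem _ hy))
      (g4.symm ▸ hle hx'))).maps_sup_zpowers (fun y hy => by
        rw [g3 y hy]; exact Subgroup.mem_sup_left (subset_img (afun_mem _ hy)))
      (by rw [g4]; exact hV) z hz), img_mono le_sup_left, fun u hu => by
      obtain ⟨z, hz, rfl⟩ := hψP.mem_img.1 hu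
      rw [ek z (Subgroup.mem_sup_left hz), g3 z hz, ← hτ α z hz, a2 _ hu,
        afun_inv_afun _ (Subgroup.mem_sup_left hu)], subset_img hx', by rw [ek x hx', g4]⟩
  have h7 := foc_fix_coprime hS hE.2.1 hT h1' h3 (inv_mem h4) (by rwa [orderOf_inv])
    (hj.mem_foc h3.1 hc)
  have h8 := afun_fix_step (pgroup_of_le hS (Vc_le h3.1)) (by rwa [orderOf_inv]) hV h7.2
  conv_lhs => rw [← h8]
  exact afun_afun_inv _ hV

theorem mem_CE_iff (hS : IsPGroup p S) (hE : E.IsNormalIn F p) {x : Ω} :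
    x ∈ CE F E p ↔ x ∈ centralizerIn S T ∧ Cz F E x :=
  ⟨fun h => ⟨h.1, (czS_CE hS hE).cz h⟩, fun h => mem_CE_of hS hE.1 h.1 h.2⟩

theorem le_CE (hS : IsPGroup p S) (hE : E.IsWeaklyNormalIn F p) (hY : Y ≤ centralizerIn S T)
    (h : CzS F E Y) : Y ≤ CE F E p := fun _ hx => mem_CE_of hS hE (hY hx) (h.cz hx)

theorem foc_le_CE (hS : IsPGroup p S) (hF : F.IsSaturated p) (hT : F.StronglyClosed T)
    {D : FusionSystem (centralizerIn S T)} (hD : F.IsCentralizerSystem T D) :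
    D.focalSubgroup ≤ CE F E p := by
  refine foc_le_iff.2 fun P' f hf y hy => ⟨mul_mem (inv_mem (hf.le hy)) (hf.mem hy),
    fun P ψ h1 h2 h3 β h4 h5 _ => ?_⟩
  obtain ⟨g, hg, e1, e2⟩ := centSys_ext hD hf
  have hj : CJ F P y (f y) := ⟨_, g, hg, h1.1.trans le_sup_right, fun u hu => e2 u (h1.1 hu),
    Subgroup.mem_sup_left hy, e1 y hy⟩
  have k1 : y ∈ P ⊔ centralizerIn S T := Subgroup.mem_sup_right (hf.le hy)
  have k2 : f y ∈ P ⊔ centralizerIn S T := Subgroup.mem_sup_right (hf.mem hy)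
  rw [h2.map_mul (inv_mem k1) k2, h2.map_inv k1]
  exact (foc_fix_coprime hS hF hT (h1.image hT (h2.mono le_sup_left)) h3 h4 h5
    ((hj.transport h2 le_sup_left k1 k2).mem_foc h3.1 (h2.mem_centralizer_img le_sup_left k1
      (mem_centralizerIn.1 (centralizerIn_anti h1.1 (hf.le hy))).2))).2

theorem CE_mem_of_le (hS : IsPGroup p S) (hE : E.IsNormalIn F p) (hψ : Mor F N ψ) (hT : T ≤ N)
    {x : Ω} (hx : x ∈ N) (h : x ∈ CE F E p) : ψ x ∈ CE F E p := by
  refine (mem_CE_iff hS hE).2 ⟨?_, ((mem_CE_iff hS hE).1 h).2.transport hE.1.2.2 hψ hT hx⟩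
  have := hψ.mem_centralizer_img hT hx (mem_centralizerIn.1 h.1).2
  rwa [StronglyClosed.img_eq hE.1.2.2.2.1 hψ hT] at this

theorem tc_of_crf (hS : IsPGroup p S) (hF : F.IsSaturated p) (hT : F.StronglyClosed T)
    (hn : F.IsFullyNormalized Q) (hc : F.IsCentric Q) (hr : F.IsRadical p Q) : TC F T (Q ⊓ T) :=
  ess_of_star (H := fun Q => TC F T (Q ⊓ T)) hS hF (fun P hc h => by
    obtain ⟨g, hg, h⟩ := star_of_not_tc hS hF hT hc.1 h
    exact ⟨_, hg.isConj, h⟩) hn hc hr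

theorem alperin_T (hS : IsPGroup p S) (hF : F.IsSaturated p) (hT : F.StronglyClosed T)
    {D : FusionSystem S} (h1 : ∀ Q, Q ≤ S → T ≤ Q → F.autGroup Q ≤ D.autGroup Q)
    (h2 : ∀ Q, F.IsFullyNormalized Q → F.IsCentric Q → F.IsRadical p Q →
      ∃ B, B ≤ F.autGroup Q ∧ B ≤ D.autGroup Q ∧ autInducedBy T Q ≤ B ∧
        ∀ a ∈ F.autGroup Q, ∀ b ∈ B, a * b * a⁻¹ ∈ B) (hf : Mor F P f) : Mor D P f := by
  refine downward_induction (C := fun P => ∀ f, Mor F P f → Mor D P f) ?_ P hf.le f hf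
  intro P hP ih f hf
  rcases hP.eq_or_lt with rfl | hlt
  · exact mor_top_of_autGroup_le (h1 _ le_rfl hT.1) hf
  refine alperin_step hS hlt (hF P hP) ih (fun Q h0 hA hR => ?_) hf
  have hc := isConj_card h0
  have hlt0 : Q < S := eq_or_lt_of_card hA.1 hlt hc.symm
  have hn := fullyNormalized_of_automized_receptive hS hA hR
  rcases essential_dichotomy hS hF hlt0 hn with h | h
  · rw [← h.2]; exact extGen_le_of_ih (hc ▸ ih)
  by_cases hTQ : T ≤ Q
  · exact h1 Q hA.1 hTQ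
  obtain ⟨B, b1, b2, b3, b4⟩ := h2 Q hn h.1.1 (radical_of_essential hS h.1)
  intro α hα
  have := finite_autGroup F hA.1
  obtain ⟨c, hc', ψ, hψ, e⟩ := exists_ext_mod hS hR ((IsFullyAutomized.sylowIn hA).inf_normal b1 b4)
    inf_le_left b1 ((mem_autGroup hA.1).1 hα) (img_afun α) (normalizerIn_mono hT.1)
    fun n hn β hβ eβ => by
      obtain ⟨ν, eν⟩ := exists_cAut hn.2
      have : β = α * ν * α⁻¹ := aut_ext fun x hx => by
        have h2 := afun_mem α⁻¹ hx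
        rw [afun_mul _ _ hx, afun_mul _ _ h2, eν _ h2, ← eβ _ h2, afun_afun_inv α hx]
      rw [this]
      exact b4 α hα _ (b3 (mem_autInducedBy.2 ⟨n, hn.1, eν⟩))
  have := finite_of_le hψ.le
  have h3 := ((ih _ hψ.le (hc ▸ card_lt_of_lt (lt_normalizerIn_sup hS hT.1 hA.1
    (hA.1.trans (StronglyClosed.le_normalizer hT)) hTQ)) ψ hψ).mono le_sup_right).mem_autGroup
      (α := c * α) fun x hx => by rw [afun_mul _ _ hx, e x hx]
  have := mul_mem (inv_mem (b2 hc')) h3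
  rwa [inv_mul_cancel_left] at this

theorem stabData (F : FusionSystem S) (X : Subgroup Ω) (hX : S ≤ Subgroup.normalizer (X : Set Ω)) :
    SysData S fun P f => Mor F P f ∧ ∀ x ∈ P, (x ∈ X ↔ f x ∈ X) :=
  SysData.ofSub F (fun h => h.1) (fun h => h.1.le) (fun h _ hx => h.1.mem hx)
    (fun h e => ⟨h.1.congr e, fun x hx => by rw [← e x hx]; exact h.2 x hx⟩)
    (fun hP hs => ⟨mor_conj F hP hs, fun x _ => Subgroup.mem_normalizer_iff.1 (hX hs) x⟩)
    (fun h1 h2 e => ⟨h1.1.comp h2.1 e, fun x hx => (h1.2 x hx).trans (h2.2 _ (e x hx))⟩)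
    fun h hg e => ⟨hg, fun y hy => by
      obtain ⟨x, hx, rfl⟩ := h.1.mem_img.1 hy
      rw [e x hx]; exact (h.2 x hx).symm⟩

/-- automorphisms fixing all conjugates of elements of `X` -/
def fixAll (A : Subgroup (MulAut Q)) (X : Subgroup Ω) : Subgroup (MulAut Q) where
  carrier := {β | β ∈ A ∧ ∀ γ ∈ A, ∀ x ∈ Q, x ∈ X → afun β (afun γ x) = afun γ x}
  one_mem' := ⟨one_mem _, fun _ _ _ _ _ => afun_one _⟩
  mul_mem' := fun ha hb => ⟨mul_mem ha.1 hb.1, fun γ hγ x hx h => by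
    rw [afun_mul _ _ (afun_mem _ hx), hb.2 γ hγ x hx h, ha.2 γ hγ x hx h]⟩
  inv_mem' := fun ha => ⟨inv_mem ha.1, fun γ hγ x hx h => by
    conv_lhs => rw [← ha.2 γ hγ x hx h, afun_inv_afun _ (afun_mem _ hx)]⟩

theorem fixAll_conj {A : Subgroup (MulAut Q)} {X : Subgroup Ω} :
    ∀ a ∈ A, ∀ b ∈ fixAll A X, a * b * a⁻¹ ∈ fixAll A X := fun a ha b hb =>
  ⟨mul_mem (mul_mem ha hb.1) (inv_mem ha), fun γ hγ x hx h => by
    rw [afun_mul _ _ (afun_mem _ hx), afun_mul _ _ (afun_mem _ (afun_mem _ hx)),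
      ← afun_mul _ _ hx, hb.2 _ (mul_mem (inv_mem ha) hγ) x hx h, afun_mul _ _ hx,
      afun_afun_inv _ (afun_mem _ hx)]⟩

theorem fixAll.fix {A : Subgroup (MulAut Q)} {X : Subgroup Ω} {b : MulAut Q} (hb : b ∈ fixAll A X)
    {x : Ω} (hx : x ∈ Q) (h : x ∈ X) : afun b x = x := by
  simpa [afun_one] using hb.2 1 (one_mem _) x hx h

theorem CE_stronglyClosed (hS : IsPGroup p S) (hE : E.IsNormalIn F p) :
    F.StronglyClosed (CE F E p) := by
  have hT := hE.1.2.2.2.1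
  have hF := hE.1.2.1
  have hD := stabData F (CE F E p) (le_normalizer_of_conj_mem fun s hs x hx =>
    CE_mem_of_le hS hE (mor_conj F le_rfl hs) hT.1 hx.1.1 hx)
  have key : ∀ Q, Q ≤ S → ∀ α ∈ F.autGroup Q, (∀ x ∈ Q, x ∈ CE F E p → afun α x ∈ CE F E p) →
      (∀ x ∈ Q, x ∈ CE F E p → afun α⁻¹ x ∈ CE F E p) → α ∈ hD.sys.autGroup Q :=
    fun Q hQ α hα h1 h2 => (mem_autGroup hQ).2 (hD.mor_iff.2 ⟨(mem_autGroup hQ).1 hα, fun x hx =>
      ⟨h1 x hx, fun h => by simpa [afun_inv_afun _ hx] using h2 _ (afun_mem _ hx) h⟩⟩)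
  refine stronglyClosed_iff.2 ⟨CE_le.trans centralizerIn_le, fun P f hf x hx h =>
    ((hD.mor_iff.1 (alperin_T hS hF hT (fun Q hQ hTQ α hα => key Q hQ α hα (fun x hx h =>
      CE_mem_of_le hS hE ((mem_autGroup hQ).1 hα) hTQ hx h) fun x hx h =>
      CE_mem_of_le hS hE ((mem_autGroup hQ).1 (inv_mem hα)) hTQ hx h) (fun Q hn hc hr => ?_)
        hf)).2 x hx).1 h⟩
  refine ⟨fixAll (F.autGroup Q) (CE F E p), fun _ h => h.1, fun β hβ => key Q hn.1 β hβ.1
    (fun x hx h => by rwa [fixAll.fix hβ hx h]) fun x hx h => by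
      rwa [fixAll.fix (inv_mem hβ) hx h], fun σ hσ => ⟨autInducedBy_le_autGroup F hn.1
        (autInducedBy_mono hT.1 hσ), fun γ hγ x hx h => ?_⟩, fixAll_conj⟩
  obtain ⟨t, ht, et⟩ := mem_autInducedBy.1 hσ
  have hU := tc_of_crf hS hF hT hn hc hr
  have hm := (mem_autGroup hn.1).1 hγ
  obtain ⟨δ, hδ, f, hf, e⟩ := IsInvariantIn.frattini hE.1.2.2 inf_le_right (hm.mono inf_le_left)
  obtain ⟨N, g, hg, g1, g2, g3, g4⟩ := (czS_CE hS hE).cz h _ _ hf
  obtain ⟨d, hd, ed⟩ := (TC.top hT).ext hS hF hT ((mem_autGroup hT.1).1 hδ)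
  have hx' : x ∈ Q ⊓ T ⊔ Subgroup.zpowers x := Subgroup.mem_sup_right (Subgroup.mem_zpowers x)
  have hg' := hg.mono (sup_le g1 (Subgroup.zpowers_le.2 g2))
  have hk := hg'.comp hd (hg'.maps_sup_zpowers (fun y hy => by
    rw [g3 y hy]; exact Subgroup.mem_sup_left (hf.mem hy)) (g4.symm ▸ Subgroup.mem_sup_right h.1))
  have ek : ∀ u ∈ Q ⊓ T, d (g u) = afun γ u := fun u hu => by
    rw [g3 u hu, ed _ (hf.mem hu), e u hu]
  obtain ⟨i, hi, i1, i2, -⟩ := hk.inv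
  have hle : Q ⊓ T ⊔ Subgroup.zpowers x ≤ Q := sup_le inf_le_left (Subgroup.zpowers_le.2 hx)
  have e1 : img (afun γ) (Q ⊓ T) = Q ⊓ T := by rw [StronglyClosed.img_inf hT hm, img_afun]
  have j1 : Q ⊓ T ≤ img (fun x => d (g x)) (Q ⊓ T ⊔ Subgroup.zpowers x) := by
    refine le_trans (le_of_eq ?_) (img_mono le_sup_left)
    rw [img_congr ek, e1]
  have j2 : ∀ u ∈ Q ⊓ T, afun γ (i u) = u := fun u hu => by
    rw [← e1] at hu
    obtain ⟨v, hv, rfl⟩ := (hm.mono inf_le_left).mem_img.1 hu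
    rw [← ek v hv, i1 v (Subgroup.mem_sup_left hv), ek v hv]
  have j3 := subset_img (f := fun x => d (g x)) hx'
  have j4 := i1 x hx'
  beta_reduce at j3 j4
  rw [g4] at j3 j4
  have hj : CJ F (Q ⊓ T) (d x) (afun γ x) :=
    ⟨_, _, hi.comp hm fun y hy => hle (i2 y hy), j1, j2, j3, by rw [j4]⟩
  have h1 := (CE_mem_of_le hS hE hd le_sup_left (Subgroup.mem_sup_right h.1) h).1
  have h2 := hj.conj_eq hS hF hT hU (centralizerIn_anti inf_le_right h1) (t := t) ⟨ht,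
    le_normalizer_of_conj_mem (K := normalizerIn T Q) (fun s hs y hy => Subgroup.mem_inf.2
      ⟨conj_mem_of_mem_normalizerIn hs hy.1, mul_mem (mul_mem hs.1 hy.2) (inv_mem hs.1)⟩)
      ⟨ht, mem_normalizer_of_afun et⟩⟩
  have h3 := (mem_centralizerIn.1 (le_centralizerIn_symm hT.1 le_rfl ht)).2 _ h1
  rw [et _ (afun_mem _ hx)]
  calc _ = (t * d x * t⁻¹) * (t * ((d x)⁻¹ * afun γ x) * t⁻¹) := by group
    _ = _ := by rw [h2, h3]; group

end Cfsg.Agent.Fusion
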