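import Cfsg.Agent.Lib.Fusion.KFoc2

/-! Control of strong fusion by characteristic functors; solvable fusion systems. -/

set_option autoImplicit false

namespace Cfsg.Agent.Fusion

open Cfsg Cfsg.FusionSystem
open scoped commutatorElement

universe u v

variable {p : ℕ} {𝓦 : Set (∀ (Q : Type u) [Group Q], Subgroup Q)}
  {W : ∀ (Q : Type u) [Group Q], Subgroup Q}

section Grp

variable {G : Type*} [Group G] {S U : Subgroup G}

theorem mem_normalizer_of_img {k : G → G} {n : G} (e : ∀ x ∈ U, k x = n * x * n⁻¹)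
    (h : img k U = U) : n ∈ Subgroup.normalizer (U : Set G) := by
  rw [img_congr e, img_conj] at h
  exact Subgroup.mem_normalizer_iff_map_conj_eq.2 h

theorem csfOf_of_normal (h : (groupFusionSystem S).IsNormal U) (A : Set G) (hA : A ⊆ S) :
    ControlsStrongFusionOf (Subgroup.normalizer (U : Set G)) S A := by
  refine ⟨hA, fun g hg => ?_⟩
  obtain ⟨k, hk, e1, e2⟩ := IsNormal.ext h (f := fun x => g * x * g⁻¹) (mor_group_iff.2
    ⟨(Subgroup.closure_le _).2 hA, fun x hx => (Subgroup.closure_le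
      (S.comap (MulAut.conj g).toMonoidHom)).2 (fun a ha => hg ⟨a, ha, rfl⟩) hx, g, fun _ _ => rfl⟩)
  obtain ⟨-, -, n, e⟩ := mor_group_iff.1 hk
  exact ⟨n, mem_normalizer_of_img (fun x hx => e x (Subgroup.mem_sup_right hx)) e2, fun a ha =>
    (e1 a (Subgroup.subset_closure ha)).symm.trans
      (e a (Subgroup.mem_sup_left (Subgroup.subset_closure ha)))⟩

theorem csf_of_normal (S : Sylow p G) (h : (groupFusionSystem S.1).IsNormal U) :
    ControlsStrongFusion p U := ⟨S, h.1, csfOf_of_normal h⟩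

theorem mem_of_agree (hc : Con p G) {M : Subgroup G} (hM : pCore p G ≤ M) {g x : G} (hx : x ∈ M)
    (e : ∀ a ∈ pCore p G, x * a * x⁻¹ = g * a * g⁻¹) : g ∈ M := by
  have : x⁻¹ * g ∈ pCore p G := hc fun a ha => by
    calc a * (x⁻¹ * g) = x⁻¹ * (x * a * x⁻¹) * g := by group
      _ = x⁻¹ * g * a := by rw [e a ha]; group
  simpa using M.mul_mem hx (hM this)

variable [Fact p.Prime] [Finite G]

theorem normal_of_csf (hc : Con p G) (hU : pCore p G ≤ Subgroup.normalizer (U : Set G))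
    (h : ControlsStrongFusion p U) : U.Normal := by
  obtain ⟨T, -, h⟩ := h
  refine Transfer.normal_of_top_le fun g => ?_
  obtain ⟨x, hx, e⟩ := (h _ (pCore_le_sylow T)).2 g (by
    rintro _ ⟨a, ha, rfl⟩; exact pCore_le_sylow T ((pCore_normal p G).conj_mem a ha g))
  exact mem_of_agree hc hU hx fun a ha => (e a ha).symm

theorem eq_top_of_fsf {𝓥 : Set (Subgroup G → Subgroup G)} (h𝓥 : ∀ V ∈ 𝓥, IsConjugacyFunctor p V)
    (hc : Con p G) (T : Sylow p G) {M : Subgroup G} (hM : pCore p G ≤ M)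
    (hV : ∀ V ∈ 𝓥, Subgroup.normalizer (V T : Set G) ≤ M)
    (h : FamilyControlsStrongFusionIn p 𝓥 ⊤) : M = ⊤ := eq_top_iff.2 fun g hg => by
  obtain ⟨c, h1, e⟩ := (fsfc_iff h𝓥 (sylowIn_top T)).1 h _ (pCore_le_sylow T) g hg fun a ha =>
    pCore_le_sylow T ((pCore_normal p G).conj_mem a ha g)
  exact mem_of_agree hc hM (h1.mem_subgroup fun n ⟨V, a, b⟩ => hV V a b.2) e

/-- A two-fold factorization gives control of strong fusion. -/
theorem fsf_of_factor {V₁ V₂ : Subgroup G → Subgroup G} (h₁ : IsConjugacyFunctor p V₁)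
    (h₂ : IsConjugacyFunctor p V₂) (T : Sylow p G)
    (h : ∀ g : G, ∃ a ∈ Subgroup.normalizer (V₁ T : Set G), ∃ b ∈ Subgroup.normalizer (V₂ T : Set G),
      g = a * b) : FamilyControlsStrongFusionIn p {V₁, V₂} ⊤ := by
  refine (fsfc_iff (by rintro _ (rfl | rfl); exacts [h₁, h₂]) (sylowIn_top T)).2
    fun A hA g _ hg => ?_
  obtain ⟨a, ha, b, hb, rfl⟩ := h g
  have t1 := (T.1.le_normalizer).trans (cf_normalizer h₁ T.isPGroup')
  have t2 := (T.1.le_normalizer).trans (cf_normalizer h₂ T.isPGroup')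
  obtain ⟨d, hd, e⟩ := ((sylowIn_top T).of_le (le_inf t1 t2) le_top).conj
    (D := A.map (MulAut.conj b).toMonoidHom) (by
      rintro _ ⟨x, hx, rfl⟩
      refine ⟨?_, Subgroup.mul_mem _ (Subgroup.mul_mem _ hb (t2 (hA hx))) (Subgroup.inv_mem _ hb)⟩
      have := Subgroup.mul_mem _ (Subgroup.mul_mem _ (Subgroup.inv_mem _ ha) (t1 (hg x hx))) ha
      simpa [mul_assoc] using this) ((pgroup_of_le T.isPGroup' hA).map _)
  refine ⟨a * d⁻¹ * (d * b * 1), (Chain.one.step ⟨V₂, by simp, trivial, Subgroup.mul_mem _ hd.2 hb⟩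
    fun x hx => ?_).step ⟨V₁, by simp, trivial, Subgroup.mul_mem _ ha (Subgroup.inv_mem _ hd.1)⟩
    fun x hx => ?_, fun x _ => by group⟩
  · simpa [mul_assoc] using e _ ⟨x, hx, rfl⟩
  · simpa [mul_assoc] using hg x hx

end Grp

section Sys

variable {Ω : Type u} [Group Ω] {S : Subgroup Ω} {F : FusionSystem S} {P Q R T A U : Subgroup Ω}

theorem IsModel.equiv [Fact p.Prime] {L L' : Type*} [Group L] [Group L'] {ι : S →* L}
    (h : F.IsModel p L ι) (e : L ≃* L') : F.IsModel p L' (e.toMonoidHom.comp ι) := by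
  have := h.1
  obtain ⟨T, hT⟩ := h.2.2.1
  refine ⟨Finite.of_equiv _ e.toEquiv, ⟨e.injective.comp h.2.1.1, fun P hP φ hφ =>
    (h.2.1.2 P hP φ hφ).trans ⟨fun ⟨g, a⟩ => ⟨e g, fun x => by simp [a x]⟩, fun ⟨g, a⟩ =>
      ⟨e.symm g, fun x => e.injective (by simpa using a x)⟩⟩⟩,
    ⟨T.mapSurjective (f := e.toMonoidHom) e.surjective, ?_⟩, Con.equiv h.2.2.2 e⟩
  rw [← MonoidHom.map_range, ← hT]; rfl

variable [Fact p.Prime] [Finite S]

theorem sec_model (hS : IsPGroup p S) (hF : F.IsConstrained p) {G : Type*} [Group G]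
    (h : Free p (fun (K : Type u) _ => ¬ Involves K G) F) : ∃ (K R : Subgroup G)
      (_ : (R.subgroupOf K).Normal) (ι : S →* K ⧸ R.subgroupOf K), F.IsModel p _ ι := by
  obtain ⟨L, _, ι, hL⟩ := exists_model hS hF
  obtain ⟨K, R, hR, ⟨e⟩⟩ : Involves L G := by_contra fun h' =>
    IsModel.not_involves hL (h L h') involves_refl
  exact ⟨K, R, hR, _, IsModel.equiv hL e.symm⟩

theorem famGen_of_model (h𝓦 : ∀ W ∈ 𝓦, IsCharPFunctor p W) (hS : IsPGroup p S) {L : Type u}
    [Group L] {ι : S →* L} (hL : F.IsModel p L ι)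
    (h : FamilyControlsStrongFusionIn p (indF 𝓦 L) ⊤) : FamGen 𝓦 F := fun E h0 => by
  have := hL.1
  refine isSubsystemOf_iff.2 fun A f hf => ?_
  obtain ⟨g, hg⟩ := IsRealizedBy.exists_elt hL.2.1 hf
  have hm : ∀ {B : Subgroup Ω}, B ≤ S → ∀ x ∈ B, ap ι x ∈ imageAlong ι B := fun h x hx =>
    (mem_imageAlong' h).2 ⟨x, hx, rfl⟩
  obtain ⟨c, hc, e⟩ := (fsfc_iff (indF_cf h𝓦) (IsModel.sylowIn hL)).1 h (imageAlong ι A)
    imageAlong_le_range g trivial fun y hy => by
      obtain ⟨x, hx, rfl⟩ := (mem_imageAlong' hf.le).1 hy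
      exact hg x hx ▸ ap_mem_range ι (hf.mem hx)
  have key : ∃ f', Mor E A f' ∧ ∀ x ∈ A, ap ι (f' x) = c * ap ι x * c⁻¹ := by
    clear e
    induction hc with
    | one => exact ⟨_, mor_id E hf.le, by simp⟩
    | @step c n _ hn h1 ih =>
      obtain ⟨f', hf', e'⟩ := ih
      obtain ⟨_, ⟨W, hW, rfl⟩, -, hn⟩ := hn
      replace hn : n ∈ Subgroup.normalizer (imageAlong ι (inducedFunctor W S) : Set L) := by
        rw [← IsModel.ind_eq (h𝓦 W hW) hS hL rfl]; exact hn
      have h2 := sup_le hf'.img_le (ind_le W S)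
      obtain ⟨k, hk, ek⟩ := IsRealizedBy.exists_mor hL.2.1 h2 n fun x hx => by
        have h3 := hm h2 x hx
        rw [imageAlong_sup hf'.img_le (ind_le W S)] at h3
        refine sup_le (c := ι.range.comap (MulAut.conj n).toMonoidHom) (fun y hy => ?_)
          (fun y hy => imageAlong_le_range (conj_mem_of_mem_normalizer hn hy)) h3
        obtain ⟨w, hw, rfl⟩ := (mem_imageAlong' hf'.img_le).1 hy
        obtain ⟨z, hz, rfl⟩ := hf'.mem_img.1 hw
        simpa [e' z hz, mul_assoc] using h1 _ (hm hf.le z hz)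
      have : Finite (inducedFunctor W S) := finite_of_le (ind_le W S)
      refine ⟨_, hf'.comp (h0 W hW _ k hk le_sup_right ((ind_normalizer (h𝓦 W hW) hS).symm ▸ h2)
        ((hk.mono le_sup_right).img_eq_self fun x hx => ?_)) fun x hx =>
          Subgroup.mem_sup_left (subset_img hx), fun x hx => ?_⟩
      · obtain ⟨y, hy, e⟩ := (mem_imageAlong' (ind_le W S)).1
          (conj_mem_of_mem_normalizer hn (hm (ind_le W S) x hx))
        rw [← ek x (Subgroup.mem_sup_right hx)] at e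
        exact ap_inj hL.2.1.1 (ind_le W S hy) (hk.mem (Subgroup.mem_sup_right hx)) e ▸ hy
      · rw [ek _ (Subgroup.mem_sup_left (subset_img hx)), e' x hx]; group
  obtain ⟨f', hf', e'⟩ := key
  exact hf'.congr fun x hx => ap_inj hL.2.1.1 (hf'.mem hx) (hf.mem hx) (by
    rw [e' x hx, hg x hx, e _ (hm hf.le x hx)])

end Sys

section Grp2

variable {G : Type u} [Group G] [Finite G] [Fact p.Prime]

theorem fsf_of_famGen (h𝓦 : ∀ W ∈ 𝓦, IsCharPFunctor p W) (S : Sylow p G)
    (hs : 𝓦 = ∅ → S.1 ≤ centralizerIn S S) (h : FamGen 𝓦 (groupFusionSystem S.1)) :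
    FamilyControlsStrongFusionIn p (indF 𝓦 G) ⊤ := by
  refine (fsfc_iff (indF_cf h𝓦) (sylowIn_top S)).2 (sfc_of_sub (fun n ⟨V, a, b⟩ =>
    ⟨V, a, Subgroup.inv_mem _ b⟩) (fun s h1 => ?_) le_top fun E hE =>
    groupFusionSystem_eq S.1 ▸ h E fun W hW P g hg a _ e => ?_)
  · rcases 𝓦.eq_empty_or_nonempty with e | ⟨W, hW⟩
    · exact .inr (hs e h1)
    · exact .inl ⟨_, ⟨W, hW, rfl⟩, trivial, ind_le_normalizer (h𝓦 W hW) S.isPGroup' h1⟩
  · obtain ⟨h1, h2, n, e'⟩ := mor_group_iff.1 hg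
    exact (hE n ⟨_, ⟨W, hW, rfl⟩, trivial, mem_normalizer_of_img (fun x hx => e' x (a hx)) e⟩ P h1
      fun x hx => e' x hx ▸ h2 x hx).congr fun x hx => (e' x hx).symm

theorem con_of_pgroup {L : Type*} [Group L] (h : IsPGroup p L) : Con p L :=
  le_top.trans (le_pCore inferInstance (h.to_subgroup ⊤))

theorem fsf_sec (h𝓦 : ∀ W ∈ 𝓦, IsCharPFunctor p W) {G₀ : Type u} [Group G₀] [Finite G₀]
    (hloc : ∀ (K R : Subgroup G₀) [(R.subgroupOf K).Normal], Con p (K ⧸ R.subgroupOf K) →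
      FamilyControlsStrongFusionIn p (indF 𝓦 (K ⧸ R.subgroupOf K)) ⊤) (hG : Involves G G₀) :
    FamilyControlsStrongFusionIn p (indF 𝓦 G) ⊤ := by
  obtain ⟨S⟩ : Nonempty (Sylow p G) := inferInstance
  refine fsf_of_famGen h𝓦 S (fun e => ?_) (fam_sf h𝓦 (fun F hS hc hf => ?_) _ S.isPGroup'
    (group_saturated S) (group_Free (sylowIn_top S) hG))
  · obtain ⟨K, R, _, ⟨φ⟩⟩ := Involves.trans (involves_sub S.1) hG
    have h1 := S.isPGroup'.of_equiv φ.symm
    have h2 := (fsfc_iff (T := ⊤) (indF_cf h𝓦) ⟨le_rfl, h1.to_subgroup ⊤, fun _ h _ _ => h⟩).1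
      (hloc K R (con_of_pgroup h1))
    refine fun s hs => ⟨hs, fun t ht => ?_⟩
    obtain ⟨c, h3, e'⟩ := h2 ⊤ le_rfl (φ.symm ⟨s, hs⟩) trivial fun _ _ => trivial
    have h4 : c = 1 := Subgroup.mem_bot.1 (h3.mem_subgroup fun n ⟨V, ⟨W, a, _⟩, _⟩ => by
      simp [e] at a)
    have h5 := congrArg (fun x => (φ x : G)) (e' (φ.symm ⟨t, ht⟩) trivial)
    simp only [h4, one_mul, inv_one, mul_one, map_mul, map_inv, MulEquiv.apply_symm_apply,
      Subgroup.coe_mul, Subgroup.coe_inv] at h5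
    exact eq_mul_inv_iff_mul_eq.1 h5
  · obtain ⟨K, R, _, ι, hL⟩ := sec_model hS hc hf
    exact famGen_of_model h𝓦 hS hL (hloc K R hL.2.2.2)

theorem sec_normal (hW : IsCharPFunctor p W) {G₀ : Type*} [Group G₀]
    (hloc : ∀ (L : Type u) [Group L] [Finite L], Involves L G₀ → Con p L → ∀ P : Sylow p L,
      (inducedFunctor W P.1).Normal) (hG : Involves G G₀) (S : Sylow p G) :
    (groupFusionSystem S.1).IsNormal (inducedFunctor W S.1) :=
  functor_normal (Bad := fun (K : Type u) _ => ¬ Involves K G₀) hW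
    (fun L _ _ P hc hb => hloc L (by_contra fun h => hb L h involves_refl) hc P) _ S.isPGroup'
    (group_saturated S) (group_Free (sylowIn_top S) hG)

theorem normal_equiv (hW : IsCharPFunctor p W) {L : Type u} [Group L] (e : L ≃* G)
    (h : ∀ T : Sylow p L, (inducedFunctor W T.1).Normal) (P : Sylow p G) :
    (inducedFunctor W P.1).Normal := by
  have := Finite.of_equiv _ e.symm.toEquiv
  obtain ⟨T⟩ : Nonempty (Sylow p L) := inferInstance
  obtain ⟨e', h1⟩ := exists_equiv_sylow e T P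
  rw [← h1, ← ind_map hW T.isPGroup' (Transfer.inf_ker_eq_bot_of_injective e'.injective _)]
  exact (h T).map _ e'.surjective

omit [Fact p.Prime] in
theorem model_involves {G : Type*} [Group G] [Finite G] [hp : Fact p.Prime] {S Q : Subgroup G}
    (hS : SylowIn p S ⊤) (hQ : (groupFusionSystem S).IsFullyNormalized Q)
    (hc : (groupFusionSystem S).IsCentric Q) {N : FusionSystem (normalizerIn S Q)}
    (hN : (groupFusionSystem S).IsNormalizerSystem Q N) {L : Type*} [Group L]
    {ι : normalizerIn S Q →* L} (hL : N.IsModel p L ι) :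
    Involves L (Subgroup.normalizer (Q : Set G)) := by
  have h1 := (fullyNormalized_group_iff hS hQ.1).1 hQ
  let j := Subgroup.inclusion h1.le
  have h2 : N.IsRealizedBy j := isRealizedBy_iff.2 ⟨Subgroup.inclusion_injective _,
    fun P f hP hm => ⟨fun hf => ?_, fun ⟨g, e⟩ => ?_⟩⟩
  rotate_left
  · obtain ⟨k, hk, e1, e2⟩ := normSys_ext hN hf
    obtain ⟨-, -, g, e⟩ := mor_group_iff.1 hk
    refine ⟨⟨g, mem_normalizer_of_finite fun x hx => e x (Subgroup.mem_sup_right hx) ▸ e2 ▸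
      subset_img hx⟩, fun x hx => Subtype.ext ?_⟩
    simp only [j, Subgroup.coe_mul, Subgroup.coe_inv, coe_ap_inclusion _ (hP hx),
      coe_ap_inclusion _ (hm x hx)]
    rw [← e1 x hx, e x (Subgroup.mem_sup_left hx)]
  · have e' : ∀ x ∈ P, f x = g * x * g.1⁻¹ := fun x hx => by
      simpa [j, coe_ap_inclusion _ (hP hx), coe_ap_inclusion _ (hm x hx)] using
        congrArg Subtype.val (e x hx)
    refine (normSys_mor_of hN hP (U := P ⊔ Q) (g := fun x => g * x * g.1⁻¹) (mor_group_iff.2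
      ⟨sup_le (hP.trans normalizerIn_le) hQ.1, fun x hx => (sup_le
        (c := S.comap (MulAut.conj g.1).toMonoidHom) (fun x hx => (e' x hx ▸ hm x hx).1)
        (fun x hx => hQ.1 (conj_mem_of_mem_normalizer g.2 hx))) hx, g, fun _ _ => rfl⟩)
      le_sup_left le_sup_right ?_).congr fun x hx => (e' x hx).symm
    rw [img_conj]; exact Subgroup.mem_normalizer_iff_map_conj_eq.1 g.2
  have h3 : SylowIn p j.range ⊤ := by
    simpa [j, Subgroup.inclusion_range] using h1.subgroupOf le_rfl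
  let π := QuotientGroup.mk' (pPrimeCore p (Subgroup.normalizer (Q : Set G)))
  have h4 := IsRealizedBy.surj_quot h2 h3 π (QuotientGroup.mk'_surjective _)
  have h5 : Function.Injective (π.comp j) := (injective_iff_map_eq_one _).2 fun a ha =>
    Subgroup.inclusion_injective h1.le (by
      obtain ⟨n, hn⟩ := IsPGroup.iff_card.1 h3.pgroup
      have := Solv.inf_eq_bot_of_coprime' (H := j.range) (K := pPrimeCore p _) (hn ▸
        (hp.out.coprime_iff_not_dvd.2 Solv.not_dvd_card_pPrimeCore).pow_left n)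
      exact (Subgroup.mem_bot.1 (this.le ⟨⟨a, rfl⟩, (QuotientGroup.eq_one_iff _).1 ha⟩)).trans
        (map_one j).symm)
  rw [MonoidHom.map_range] at h4
  have h6 : SylowIn p (π.comp j).range ⊤ := by
    have := h3.map π
    rwa [Subgroup.map_top_of_surjective _ (QuotientGroup.mk'_surjective _), MonoidHom.map_range]
      at this
  have h7 : (imageAlong (π.comp j) Q).Normal := by
    rw [imageAlong, ← Subgroup.map_map]
    refine Subgroup.Normal.map ⟨?_⟩ _ (QuotientGroup.mk'_surjective _)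
    rintro _ ⟨x, hx, rfl⟩ g
    have := conj_mem_of_mem_normalizer g.2 hx
    exact ⟨⟨_, le_normalizerIn hQ.1 this⟩, this, rfl⟩
  obtain ⟨φ, -⟩ := IsModel.exists_equiv h1.pgroup hL ⟨inferInstance, isRealizedBy_iff_iso.2 ⟨h4, h5⟩,
    h6.exists_sylow_top, char_of_normal h7 (pgroup_of_le h6.pgroup imageAlong_le_range)
      (centralizer_le_of_pPrimeCore Solv.pPrimeCore_quotient_pPrimeCore h6 h7 (by
        rw [← imageAlong_centralizerIn h5 rfl (le_normalizerIn hQ.1)]
        exact imageAlong_mono ((centralizerIn_mono normalizerIn_le).trans (IsCentric.cent_le hc))))⟩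
  exact Involves.of_surjective (Involves.of_injective involves_refl φ φ.injective) π
    (QuotientGroup.mk'_surjective _)

end Grp2

section Functors

open Transfer

/-- A subgroup operation commuting with injective homomorphisms gives a characteristic functor. -/
theorem char_of_map {w : ∀ {G : Type u} [Group G], Subgroup G → Subgroup G} [Fact p.Prime]
    (h1 : ∀ {G : Type u} [Group G] [Finite G] {S : Subgroup G}, IsPGroup p S → S ≠ ⊥ → w S ≠ ⊥)
    (h2 : ∀ {G G' : Type u} [Group G] [Group G'] {f : G →* G'} {S : Subgroup G}, S ⊓ f.ker = ⊥ →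
      (w S).map f = w (S.map f)) : IsCharPFunctor p (fun Q _ => w (⊤ : Subgroup Q)) ∧
      ∀ {G : Type u} [Group G] (S : Subgroup G), inducedFunctor (fun Q _ => w ⊤) S = w S :=
  ⟨⟨fun Q _ _ h _ => h1 (h.to_subgroup ⊤) top_ne_bot, fun Q R _ _ _ _ φ => by
    rw [h2 (inf_ker_eq_bot_of_injective φ.injective _),
      Subgroup.map_top_of_surjective _ φ.surjective]⟩, fun S => by
    rw [inducedFunctor, h2 (inf_ker_eq_bot_of_injective S.subtype_injective _),
      ← MonoidHom.range_eq_map, Subgroup.range_subtype]⟩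

variable [Fact p.Prime] {n : ℕ}

theorem zj_char (hn : n = p ∨ n = 0) :
    IsCharPFunctor.{u} p (fun Q _ => centerThompsonOf n (⊤ : Subgroup Q)) ∧
      ∀ {G : Type u} [Group G] (S : Subgroup G),
        inducedFunctor (fun _ _ => centerThompsonOf n ⊤) S = centerThompsonOf n S :=
  char_of_map (w := fun S => centerThompsonOf n S) (ZJ_ne_bot hn) map_ZJ

theorem j_char (hn : n = p ∨ n = 0) :
    IsCharPFunctor.{u} p (fun Q _ => thompsonSubgroupOf n (⊤ : Subgroup Q)) ∧
      ∀ {G : Type u} [Group G] (S : Subgroup G),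
        inducedFunctor (fun _ _ => thompsonSubgroupOf n ⊤) S = thompsonSubgroupOf n S :=
  char_of_map (w := fun S => thompsonSubgroupOf n S) (J_ne_bot hn) map_J

theorem z_char : IsCharPFunctor.{u} p
      (fun Q _ => (⊤ : Subgroup Q) ⊓ Subgroup.centralizer ((⊤ : Subgroup Q) : Set Q)) ∧
      ∀ {G : Type u} [Group G] (S : Subgroup G), inducedFunctor
        (fun Q _ => (⊤ : Subgroup Q) ⊓ Subgroup.centralizer ((⊤ : Subgroup Q) : Set Q)) S =
          S ⊓ Subgroup.centralizer (S : Set G) :=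
  char_of_map (w := fun {G} _ S => S ⊓ Subgroup.centralizer (S : Set G))
    (fun h hb => inf_centralizer_ne_bot h le_rfl Subgroup.le_normalizer hb)
    fun h => map_inf_centralizer h le_rfl le_rfl

end Functors

section Solv

variable {Ω : Type*} [Group Ω] {S : Subgroup Ω} {F : FusionSystem S} {P Q R T A U : Subgroup Ω}

theorem IsNormal.sc_centralizer [Finite S] (hQ : F.IsNormal Q) :
    F.StronglyClosed (centralizerIn S Q) :=
  stronglyClosed_iff.2 ⟨centralizerIn_le, fun P f hf x hx h => ⟨hf.mem hx, fun y hy => by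
    obtain ⟨g, hg, e1, e2⟩ := IsNormal.ext hQ hf
    obtain ⟨z, hz, rfl⟩ := (hg.mono le_sup_right).mem_img.1 (e2.ge hy)
    have a := Subgroup.mem_sup_left (T := Q) hx
    have b := Subgroup.mem_sup_right (S := P) hz
    rw [← e1 x hx, ← hg.map_mul a b, ← hg.map_mul b a, h.2 z hz]⟩⟩

/-- A chain of strongly closed subgroups with abelian factors. -/
def SChain (F : FusionSystem S) (R : Subgroup Ω) : Prop :=
  ∃ (n : ℕ) (C : ℕ → Subgroup Ω), C 0 = R ∧ C n = S ∧ Monotone C ∧ (∀ i, F.StronglyClosed (C i)) ∧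
    ∀ i, ⁅C (i + 1), C (i + 1)⁆ ≤ C i

theorem SChain.exists_step (h : SChain F ⊥) (h1 : T ≤ S) (h2 : ¬ T ≤ R) :
    ∃ U V, F.StronglyClosed U ∧ F.StronglyClosed V ∧ ¬ U ⊓ T ≤ R ∧ V ⊓ T ≤ R ∧ ⁅U, U⁆ ≤ V := by
  classical
  obtain ⟨n, C, a, b, -, c, d⟩ := h
  have hx : ∃ i, ¬ C i ⊓ T ≤ R := ⟨n, by rwa [b, inf_eq_right.2 h1]⟩
  obtain ⟨i, hi⟩ := Nat.exists_eq_succ_of_ne_zero (n := Nat.find hx) fun e => by
    have := Nat.find_spec hx
    simp [e, a] at this
  have := Nat.find_spec hx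
  rw [hi] at this
  exact ⟨_, _, c _, c _, this, not_not.1 (Nat.find_min hx (m := i) (by omega)), d i⟩

variable [Fact p.Prime] [Finite S]

theorem SChain.constrained (hS : IsPGroup p S) (hF : F.IsSaturated p) (h : SChain F ⊥) :
    F.IsConstrained p := isConstrained_iff.2 ⟨hF, by_contra fun hc => by
  obtain ⟨U, V, a, b, c, d, e⟩ := h.exists_step centralizerIn_le hc
  have hn := core_isNormal F
  have h1 := stronglyClosed_inf a (IsNormal.sc_centralizer hn)
  have h2 := stronglyClosed_inf h1 (IsNormal.stronglyClosed hn)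
  refine c (IsNormal.le_core (normal_of_chain hS hF h1 (n := 2) (C := fun i => match i with
    | 0 => ⊥
    | 1 => U ⊓ centralizerIn S F.core ⊓ F.core
    | _ => U ⊓ centralizerIn S F.core) rfl le_rfl ?_ ?_ ?_))
  · rintro (_ | _ | i) _; exacts [bot_le, inf_le_left, le_rfl]
  · rintro (_ | _ | i) _
    exacts [StronglyClosed.weaklyClosed (stronglyClosed_bot F), StronglyClosed.weaklyClosed h2,
      StronglyClosed.weaklyClosed h1]
  · rintro (_ | _ | i) hi x hx y hy
    · exact Subgroup.mem_bot.2 (commutatorElement_eq_one_iff_mul_comm.2 (hy.2.2 x hx.2))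
    · have := Subgroup.commutator_le_self _ (Subgroup.commutator_mem_commutator hx hy)
      exact ⟨this, d ⟨e (Subgroup.commutator_mem_commutator hx.1 hy.1), this.2⟩⟩
    · omega⟩

theorem solvable_of_step (hS : IsPGroup p S) (hF : F.IsSaturated p)
    (h : ∀ R, F.StronglyClosed R → R ≠ S → ∃ U, F.StronglyClosed U ∧ ¬ U ≤ R ∧ ⁅U, U⁆ ≤ R) :
    F.IsSolvableSystem := fun R hR hne _ E hE => by
  obtain ⟨U, a, b, c⟩ := h R hR hne
  have h1 := isFactorSystem_iff.1 hE
  have h2 := h1.surj hS hF hR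
  have h3 := h2.image_stronglyClosed (stronglyClosed_sup hS hF a hR) (h1.ker.le.trans le_sup_right)
  have h4 : imageAlong (QuotientGroup.mk' (R.subgroupOf S)) R ≤ ⊥ := fun y hy => by
    obtain ⟨x, hx, rfl⟩ := (mem_imageAlong' hR.1).1 hy
    exact (h1.ap_eq_one_iff (hR.1 hx)).2 hx
  rw [imageAlong_sup a.1 hR.1, sup_eq_left.2 (h4.trans bot_le)] at h3
  have := IsNormal.le_core (normal_of_abelian (h2.pgroup hS) (h2.saturated hS hF) h3 fun x hx y hy =>
    commutatorElement_eq_one_iff_mul_comm.1 (Subgroup.mem_bot.1 (h4 (imageAlong_mono c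
      ((imageAlong_commutator a.1 a.1).ge (Subgroup.commutator_mem_commutator hx hy))))))
  exact fun e => b fun x hx => (h1.ap_eq_one_iff (a.1 hx)).1
    (Subgroup.mem_bot.1 (e.le (this ((mem_imageAlong' a.1).2 ⟨x, hx, rfl⟩))))

theorem SChain.solvable (hS : IsPGroup p S) (hF : F.IsSaturated p) (h : SChain F ⊥) :
    F.IsSolvableSystem := solvable_of_step hS hF fun R hR hne => by
  obtain ⟨U, V, a, b, c, d, e⟩ := h.exists_step (R := R) le_rfl fun h => hne (le_antisymm hR.1 h)
  exact ⟨U, a, fun h => c (inf_le_left.trans h), (le_inf e (e.trans b.1)).trans d⟩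

theorem chain_of_solvable (hS : IsPGroup p S) (hF : F.IsSaturated p) (h : F.IsSolvableSystem) :
    ∀ R, R ≤ S → F.StronglyClosed R → SChain F R := by
  refine downward_induction fun R _ ih hR => ?_
  by_cases hne : R = S
  · exact ⟨0, fun _ => R, rfl, hne, monotone_const, fun _ => hR, fun _ => R.commutator_le_self⟩
  have : (R.subgroupOf S).Normal := (Subgroup.normal_subgroupOf_iff_le_normalizer hR.1).2
    (StronglyClosed.le_normalizer hR)
  obtain ⟨E, h1⟩ := exists_factor_mk hR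
  have h2 := h1.surj hS hF hR
  have h3 := h R hR hne E (isFactorSystem_iff.2 h1)
  have h4 : E.IsNormal (zc E.core 1) := IsNormal.of_char (core_isNormal E) (zc_le _ _) (zc_char _ _)
  have h5 := h2.toMorph.preimage_stronglyClosed (IsNormal.stronglyClosed h4)
  have h6 := h2.ker_lt h4.1 (zc_one (Q := E.core) ▸ centralizerIn_self_ne_bot
    (pgroup_of_le (h2.pgroup hS) le_top) h3)
  rw [h1.ker] at h6
  have := finite_of_le h5.1
  obtain ⟨n, C, a, b, c, d, e⟩ := ih _ h5.1 (card_lt_of_lt h6) h5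
  refine ⟨n + 1, fun i => Nat.casesOn i R C, rfl, b, monotone_nat_of_le_succ ?_, ?_, ?_⟩
  · rintro (_ | i); exacts [h6.le.trans a.ge, c i.le_succ]
  · rintro (_ | i); exacts [hR, d i]
  · rintro (_ | i)
    · change ⁅C 0, C 0⁆ ≤ R
      rw [a, Subgroup.commutator_le]
      intro x hx y hy
      rw [mem_preimageAlong, zc_one] at hx hy
      rw [← h1.ap_eq_one_iff (Subgroup.commutator_le_self _
        (Subgroup.commutator_mem_commutator hx.1 hy.1)), commutatorElement_def,
        ap_mul _ (S.mul_mem (S.mul_mem hx.1 hy.1) (S.inv_mem hx.1)) (S.inv_mem hy.1),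
        ap_mul _ (S.mul_mem hx.1 hy.1) (S.inv_mem hx.1), ap_mul _ hx.1 hy.1, ap_inv _ hx.1,
        ap_inv _ hy.1, hy.2.2 _ hx.2.1]
      group
    · exact e i

theorem solvable_iff (hS : IsPGroup p S) (hF : F.IsSaturated p) :
    F.IsSolvableSystem ↔ SChain F ⊥ :=
  ⟨fun h => chain_of_solvable hS hF h ⊥ bot_le (stronglyClosed_bot F), SChain.solvable hS hF⟩

end Solv

/-- If a characteristic functor is normal in all the local models, the system is solvable. -/
theorem solvable_of_functor [Fact p.Prime] {Bad : ∀ (H : Type v) [Group H], Prop}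
    (hW : IsCharPFunctor p W) (hbase : ∀ (L : Type u) [Group L] [Finite L] (P : Sylow p L),
      Con p L → (∀ (H : Type v) [Group H], Bad H → ¬ Involves H L) →
        (inducedFunctor W (P : Subgroup L)).Normal) {Ω : Type u} [Group Ω] {S : Subgroup Ω}
    [Finite S] {F : FusionSystem S} (hS : IsPGroup p S) (hF : F.IsSaturated p)
    (h : Free p Bad F) : F.IsSolvableSystem := fun R hR hne _ E hE => by
  have h1 := isFactorSystem_iff.1 hE
  have h2 := h1.surj hS hF hR
  exact fun e => ind_ne_bot hW (h2.pgroup hS) (h2.ne_bot (h1.ker.trans_ne hne)) (eq_bot_iff.2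
    ((IsNormal.le_core (functor_normal hW hbase E (h2.pgroup hS) (h2.saturated hS hF)
      (h.surj hS hF h2))).trans e.le))

end Cfsg.Agent.Fusion
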