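import Cfsg.Agent.Lib.Fusion.Cent3
import Cfsg.Agent.Lib.Fusion.Strong

/-! The centralizer of a normal subsystem, III. -/

set_option autoImplicit false
set_option linter.unusedSectionVars false

namespace Cfsg.Agent.Fusion

open Cfsg Cfsg.FusionSystem

variable {Ω : Type*} [Group Ω] {S : Subgroup Ω} {F : FusionSystem S} {P Q R T U U' W N M Y : Subgroup Ω}
  {E : FusionSystem T} {f g k ψ : Ω → Ω} {p : ℕ} [hp : Fact p.Prime] [Finite S]

theorem cent_normal (hS : IsPGroup p S) (hF : F.IsSaturated p) (hQ : F.IsNormal Q) :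
    (centSys F hQ.1).IsNormalIn F p := by
  have hD := centSys_spec F hQ.1
  have hsc := IsNormal.sc_centralizer hQ
  have hn := StronglyClosed.le_normalizer (IsNormal.stronglyClosed hQ)
  refine isNormalIn_of ⟨centralizer_saturated hS hF (IsSaturated.fullyCentralized hS hF
    (fullyNormalized_of_normal hQ.1 hn)) hD, hF, isInvariantIn_of_strongInv hS hF (centSys_sub hD) hsc
      fun P R f ψ hf h1 h2 h3 hψ => ?_⟩ fun α hα => ?_
  · obtain ⟨g, hg, e1, e2⟩ := centSys_ext hD hf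
    obtain ⟨χ, hχ, e3, e4⟩ := IsNormal.ext hQ hψ
    obtain ⟨k, hk, e5⟩ := hχ.conj_mor hg (sup_le_sup_right h1 _) (hg.mem_of_sup (fun x hx => by
      rw [e1 x hx]; exact Subgroup.mem_sup_left (h3 x hx)) fun x hx => by
        rw [e2 x hx]; exact Subgroup.mem_sup_right hx)
    have e6 : img ψ P = img χ P := img_congr fun x hx => (e3 x (h1 hx)).symm
    refine ⟨k, centSys_mor_of hD (StronglyClosed.img_le hsc (hψ.mono h1) hf.le) hk
      (e6 ▸ img_mono le_sup_left) (e4.symm.le.trans (img_mono le_sup_right)) fun x hx => ?_,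
      fun x hx => by rw [← e3 x (h1 hx), e5 x (Subgroup.mem_sup_left hx), e1 x hx, e3 _ (h3 x hx)]⟩
    rw [← e4] at hx
    obtain ⟨y, hy, rfl⟩ := (hχ.mono le_sup_right).mem_img.1 hx
    rw [e5 y (Subgroup.mem_sup_right hy), e2 y hy]
  obtain ⟨g, hg, e1, e2⟩ := centSys_ext hD ((mem_autGroup le_rfl).1 hα)
  have hsc' := stronglyClosed_sup hS hF hsc (IsNormal.stronglyClosed hQ)
  obtain ⟨k, hk, ek⟩ := IsReceptive.ext (IsSaturated.receptive' hS hF (fullyNormalized_of_normal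
    hg.le (StronglyClosed.le_normalizer hsc'))) hg (StronglyClosed.img_eq hsc' hg le_rfl)
  have key : ∀ s ∈ centralizerIn S (centralizerIn S Q), ∀ x ∈ centralizerIn S Q ⊔ Q,
      g (s * x * s⁻¹) = s * g x * s⁻¹ := fun s hs =>
    ((mor_conj F hg.le hs.1).comp hg fun x hx => StronglyClosed.conj_mem hsc' hs.1 hx).eq_on_sup
      (hg.comp (mor_conj F le_rfl hs.1) fun x hx => hg.mem hx) (fun x hx => by
        rw [(mem_centralizerIn.1 hs).2 x hx, e1 x hx, (mem_centralizerIn.1 hs).2 _ (afun_mem _ hx)])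
      fun x hx => by rw [e2 x hx, e2 _ (conj_mem_of_mem_normalizer (hn hs.1) hx)]
  have hN : centralizerIn S (centralizerIn S Q) ≤ Next S _ g := fun s hs =>
    mem_Next.2 ⟨⟨hs.1, StronglyClosed.le_normalizer hsc' hs.1⟩, s, hs.1, key s hs⟩
  refine ⟨k, hk.mono (sup_le (le_sup_left.trans hg.le_Next) hN), fun x hx => by
    rw [ek x (Subgroup.mem_sup_left hx), e1 x hx], fun c hc => mem_centralizerIn.2
      ⟨mul_mem (inv_mem hc.1) (hk.mem (hN hc)), fun x hx => ?_⟩⟩
  have hx' : x ∈ centralizerIn S Q ⊔ Q := Subgroup.mem_sup_right hx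
  have h1 := hk.map_conj (hN hc) (hg.le_Next hx')
  rw [ek _ (StronglyClosed.conj_mem hsc' hc.1 hx'), key c hc x hx', ek x hx', e2 x hx] at h1
  calc _ = c⁻¹ * (k c * x * (k c)⁻¹) * c := by group
    _ = x := by rw [← h1]; group

theorem ext_T (hS : IsPGroup p S) (hF : F.IsSaturated p) (hT : F.StronglyClosed T)
    (hY : F.StronglyClosed Y) (h : Y ≤ centralizerIn S T) (hf : Mor F P f) (hP : P ≤ Y) :
    ∃ g, Mor F (P ⊔ T) g ∧ ∀ x ∈ P, g x = f x := by
  have hD : SysData S fun P f => Mor F P f ∧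
      ∃ g, Mor F (P ⊓ Y ⊔ T) g ∧ ∀ x ∈ P ⊓ Y, g x = f x :=
    SysData.ofSub F (fun h => h.1) (fun h => h.1.le) (fun h _ hx => h.1.mem hx)
      (fun ⟨h, g, hg, e⟩ e' => ⟨h.congr e', g, hg, fun x hx => (e x hx).trans (e' x hx.1)⟩)
      (fun hP hs => ⟨mor_conj F hP hs, _, mor_conj F (sup_le (inf_le_left.trans hP) hT.1) hs,
        fun _ _ => rfl⟩)
      (fun ⟨h1, a, ha, ea⟩ ⟨h2, b, hb, eb⟩ e => ⟨h1.comp h2 e, _, ha.comp hb (ha.mem_of_sup
        (fun x hx => by
          rw [ea x hx]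
          exact Subgroup.mem_sup_left ⟨e x hx.1, StronglyClosed.mem hY h1 hx.1 hx.2⟩)
        fun x hx => Subgroup.mem_sup_right (StronglyClosed.mem hT ha (Subgroup.mem_sup_right hx) hx)),
        fun x hx => by rw [ea x hx, eb _ ⟨e x hx.1, StronglyClosed.mem hY h1 hx.1 hx.2⟩]⟩)
      fun ⟨h, a, ha, ea⟩ hg e => ⟨hg, by
        obtain ⟨i, hi, i1, -⟩ := ha.inv
        rw [ha.img_sup, img_congr ea, StronglyClosed.img_inf hY h,
          StronglyClosed.img_eq hT ha le_sup_right] at hi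
        refine ⟨i, hi, fun y hy => ?_⟩
        rw [← StronglyClosed.img_inf hY h] at hy
        obtain ⟨x, hx, rfl⟩ := (h.mono inf_le_left).mem_img.1 hy
        rw [e x hx.1, ← ea x hx, i1 x (Subgroup.mem_sup_left hx)]⟩
  have := (hD.mor_iff.1 (alperin_T hS hF hT (fun Q hQ hTQ α hα => (mem_autGroup hQ).2
    (hD.mor_iff.2 ⟨(mem_autGroup hQ).1 hα, _, ((mem_autGroup hQ).1 hα).mono
      (sup_le inf_le_left hTQ), fun _ _ => rfl⟩)) (fun Q hn _ _ =>
    ⟨fixAll (F.autGroup Q) Y, fun _ h => h.1, fun β hβ => (mem_autGroup hn.1).2 (hD.mor_iff.2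
      ⟨(mem_autGroup hn.1).1 hβ.1, _, mor_id F (sup_le (inf_le_left.trans hn.1) hT.1),
        fun x hx => (fixAll.fix hβ hx.1 hx.2).symm⟩), fun σ hσ => ⟨autInducedBy_le_autGroup F hn.1
        (autInducedBy_mono hT.1 hσ), fun γ hγ x hx hx' => by
          obtain ⟨t, ht, et⟩ := mem_autInducedBy.1 hσ
          rw [et _ (afun_mem _ hx), (mem_centralizerIn.1 (le_centralizerIn_symm hT.1 h ht)).2 _
            (StronglyClosed.mem hY ((mem_autGroup hn.1).1 hγ) hx hx')]⟩, fixAll_conj⟩) hf)).2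
  rwa [inf_eq_left.2 hP] at this

theorem exists_CF (hS : IsPGroup p S) (hE : E.IsNormalIn F p) :
    ∃ D : FusionSystem (CE F E p), D.IsWeaklyNormalIn F p ∧
      D.HasPPowerIndexIn (centSys F hE.1.2.2.2.1.1) p := by
  have hT := hE.1.2.2.2.1
  have hF := hE.1.2.1
  have hY := CE_stronglyClosed hS hE
  have hTn := fullyNormalized_of_normal (F := F) hT.1 (StronglyClosed.le_normalizer hT)
  have hN := normSys_spec F hT.1
  have hNs := normalizer_saturated hS hF hTn hN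
  have hn := normSys_normal hN hT.1
  have := finite_of_le (normalizerIn_le : normalizerIn S T ≤ S)
  have hS' := pgroup_of_le hS (normalizerIn_le : normalizerIn S T ≤ S)
  have hC := cent_normal hS' hNs hn
  have e : centralizerIn (normalizerIn S T) T = centralizerIn S T :=
    le_antisymm (centralizerIn_mono normalizerIn_le) (le_inf centralizerIn_le_normalizerIn inf_le_right)
  have h1 : (centSys _ hn.1).IsSubsystemOf (centSys F hT.1) :=
    (sub_centSys_iff hT.1 e.le).2 fun P f hf => by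
      obtain ⟨g, hg, e1, e2⟩ := centSys_ext (centSys_spec _ hn.1) hf
      exact ⟨g, hg.sub (normSys_sub hN), e1, e2⟩
  have h2 : (centSys F hT.1).IsSubsystemOf (centSys _ hn.1) :=
    (sub_centSys_iff hn.1 e.ge).2 fun P f hf => by
      obtain ⟨g, hg, e1, e2⟩ := centSys_ext (centSys_spec _ hT.1) hf
      exact ⟨g, normSys_mor_of hN (sup_le (hf.le.trans centralizerIn_le_normalizerIn) hn.1) hg le_rfl
        le_sup_right (img_of_eq_id e2), e1, e2⟩
  have := finite_of_le (centralizerIn_le : centralizerIn S T ≤ S)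
  obtain ⟨D, hD, h⟩ := exists_ppow (pgroup_of_le hS centralizerIn_le) (centralizer_saturated hS hF
    (IsSaturated.fullyCentralized hS hF hTn) (centSys_spec F hT.1)) CE_le
    (hyp_le_foc.trans (foc_le_CE (E := E) hS hF hT (centSys_spec F hT.1)))
  have := finite_of_le e.le
  have h' : D.HasPPowerIndexIn (centSys _ hn.1) p := ppow_iff.2 ⟨IsSubsystemOf.trans h.1 h2,
    (hyp_mono h1).trans h.2.1, fun P hP α hα hc => HasPPowerIndexIn.mem h hP
      (IsSubsystemOf.autGroup_le h1 (hP.trans (CE_le.trans e.ge)) hα) hc⟩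
  have h3 := ppow_weakly hS' hC.1 (sc_of_sub hY (normSys_sub hN)
    (CE_le.trans centralizerIn_le_normalizerIn)) hD h'
  refine ⟨D, ⟨hD, hF, isInvariantIn_of_strongInv hS hF (IsSubsystemOf.trans h.1
    (centSys_sub (centSys_spec F hT.1))) hY fun P Q f ψ hf k1 k2 k3 hψ => ?_⟩, h⟩
  obtain ⟨g, hg, eg⟩ := ext_T hS hF hT hY CE_le hψ k2
  exact IsInvariantIn.strongInv h3.2.2 P Q f ψ hf k1 k2 k3 ((normSys_mor_of hN
    (k2.trans (CE_le.trans centralizerIn_le_normalizerIn)) hg le_sup_left le_sup_right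
      (StronglyClosed.img_eq hT hg le_sup_right)).congr eg)

theorem ppow_of_aut_eq (hS : IsPGroup p S) (hE : E.IsNormalIn F p) (hC : CE F E p ≤ T)
    {D : FusionSystem (Vc S T)} (hD : D.IsSaturated p) (h1 : E.IsSubsystemOf D)
    (h2 : D.IsSubsystemOf F) (h3 : D.autGroup T = E.autGroup T) : E.HasPPowerIndexIn D p := by
  have hT := hE.1.2.2.2.1
  have hF := hE.1.2.1
  have hV := Vc_le hT.1
  have := finite_of_le hV
  have hw := IsWeaklyNormalIn.of_sub hS hE.1 hD h1 h2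
  refine ppow_iff.2 ⟨h1, hyp_le_of_ge (pgroup_of_le hS hV) hD hw.2.2.2.1 le_rfl le_sup_left
    fun P hTP hP α hα _ x hx => ?_, fun P hP α hα _ => ?_⟩
  · obtain ⟨δ, hδ, e⟩ := exists_res hw.2.2.2.1 hP hTP hα
    obtain ⟨β, hβ, e'⟩ := mem_XA.1 (core_fn hS hE T le_rfl (TC.top hT) (fullyNormalized_of_normal
      hT.1 (StronglyClosed.le_normalizer hT)) (h3 ▸ hδ))
    obtain ⟨c, hc, t, ht, rfl⟩ := mem_Vc.1 (hP hx)
    have hcP := (Subgroup.mul_mem_cancel_right _ (hTP ht)).1 hx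
    have hm := ((mem_autGroup hP).1 hα).sub h2
    have hj : CJ F T c (afun β⁻¹ (afun α c)) := ⟨_, _, hm.comp ((mem_autGroup hV).1
      (inv_mem hβ.1)) fun y hy => hP (afun_mem _ hy), hTP, fun u hu => by
        rw [e u hu, ← e' u hu, afun_inv_afun _ (Subgroup.mem_sup_left hu)], hcP, rfl⟩
    have h4 := hC (foc_le_CE hS hF hT (centSys_spec F hT.1) (hj.mem_foc hT.1 hc))
    have h5 := (inv_mem hβ).2 _ (hP (afun_mem α hcP))
    rw [afun_map_mul _ hcP (hTP ht), show (c * t)⁻¹ * (afun α c * afun α t) = t⁻¹ *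
      ((c⁻¹ * afun β⁻¹ (afun α c)) * ((afun α c)⁻¹ * afun β⁻¹ (afun α c))⁻¹) * afun α t by group,
      e t ht]
    exact mul_mem (mul_mem (inv_mem ht) (mul_mem h4 (inv_mem h5))) (afun_mem _ ht)
  · obtain ⟨δ, hδ, g, hg, e⟩ := IsInvariantIn.frattini hw.2.2 hP
      ((mem_autGroup (hP.trans le_sup_left)).1 hα)
    exact (hg.comp ((mem_autGroup le_rfl).1 (h3 ▸ hδ)) fun x hx => hg.mem hx).mem_autGroup e

end Cfsg.Agent.Fusion
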