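import Cfsg.Agent.Lib.Fusion.Focal2
import Mathlib.Algebra.Group.ForwardDiff

/-! Cocycle products and the orbit-wise evaluation of the transfer. -/

set_option autoImplicit false

namespace Cfsg.Agent.Fusion

open Cfsg Cfsg.FusionSystem MulAction

universe u v

section Coc

variable {U X A : Type*} [Group U] [MulAction U X] [CommGroup A] {c : U → X → A}

def IsCoc (c : U → X → A) : Prop := ∀ a b y, c (a * b) y = c a (b • y) * c b y

theorem IsCoc.one (h : IsCoc c) (y : X) : c 1 y = 1 := by simpa using h 1 1 y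

theorem IsCoc.exists_transfer [Fintype X] [Finite U] (h : IsCoc c) {M : Subgroup U}
    (κ : X → U ⧸ M) (hκ : ∀ (a : U) y, κ (a • y) = a • κ y) :
    ∃ l : M →* A, (∀ m : M, l m = ∏ᶠ y ∈ {y | κ y = (1 : U)}, c m y) ∧
      ∀ a, ∏ y, c a y = MonoidHom.transfer l a := by
  classical
  haveI := Fintype.ofFinite (U ⧸ M)
  have h1 : ∀ (g : U) y, κ y = (1 : U) ↔ κ (g • y) = g := fun g y => by
    rw [hκ, ← eq_inv_smul_iff, MulAction.Quotient.smul_coe]; simp
  let l : M →* A := MonoidHom.mk' (fun m => ∏ y with κ y = (1 : U), c m y) fun m n => by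
    rw [← Finset.prod_equiv (s := {y | κ y = (1 : U)}) (MulAction.toPerm n.1)
      (g := c m) (fun y => by simp [h1 n y, QuotientGroup.eq.2 (show n.1⁻¹ * 1 ∈ M by simp)])
      fun _ _ => rfl, ← Finset.prod_mul_distrib]
    exact Finset.prod_congr rfl fun y _ => h _ _ _
  refine ⟨l, fun m => (finprod_mem_finset_eq_prod _ _).symm.trans (by simp), fun a => ?_⟩
  let b : X → A := fun x => c (κ x).out ((κ x).out⁻¹ • x)
  have e : ∏ y, c a y = ∏ y, (b (a • y))⁻¹ * c a y * b y := by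
    rw [Finset.prod_mul_distrib, Finset.prod_mul_distrib, Finset.prod_inv_distrib,
      ← Equiv.prod_comp (MulAction.toPerm a) b]
    exact (inv_mul_cancel_comm _ _).symm
  rw [transfer_eq_prod l QuotientGroup.out_eq', e, ← Finset.prod_fiberwise _ κ]
  refine Finset.prod_congr rfl fun k _ => (Finset.prod_equiv (MulAction.toPerm k.out)
    (fun y => by simp [h1 k.out y]) fun y hy => ?_).symm
  have h2 : κ (k.out • y) = k := by simpa [h1 k.out y] using hy
  have h3 := h (a • k).out ((a • k).out⁻¹ * a * k.out) y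
  rw [← mul_assoc, ← mul_assoc, mul_inv_cancel, one_mul, h] at h3
  simp only [b, MulAction.toPerm_apply, hκ a, h2, inv_smul_smul]
  rw [mul_assoc _ (c a _), h3, mul_smul, mul_smul, inv_mul_cancel_left]

theorem IsCoc.orbit_transfer [Finite X] [Finite U] (h : IsCoc c) (y₀ : X) {M : Subgroup U}
    (hM : stabilizer U y₀ ≤ M) : ∃ l : M →* A, (M = stabilizer U y₀ → ∀ m : M, l m = c m y₀) ∧
      ∀ a, ∏ᶠ y ∈ orbit U y₀, c a y = MonoidHom.transfer l a := by
  haveI := Fintype.ofFinite (orbit U y₀)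
  choose g hg using fun y : orbit U y₀ => y.2
  obtain ⟨l, h1, h2⟩ := IsCoc.exists_transfer (X := orbit U y₀) (c := fun a y => c a y)
    (fun a b y => h a b y) (M := M) (fun y => g y) fun a y => by
      rw [MulAction.Quotient.smul_coe, QuotientGroup.eq]
      refine hM ?_
      have := hg (a • y)
      rw [mem_stabilizer_iff, mul_smul, inv_smul_eq_iff, smul_eq_mul, mul_smul]
      simp_all
  refine ⟨l, fun e m => ?_, fun a => by
    rw [← h2, ← finprod_set_coe_eq_finprod_mem, finprod_eq_prod_of_fintype]⟩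
  rw [h1, show {y : orbit U y₀ | (g y : U ⧸ M) = (1 : U)} = {⟨y₀, mem_orbit_self _⟩} from ?_,
    finprod_mem_singleton]
  ext y
  rw [Set.mem_setOf_eq, QuotientGroup.eq, mul_one, inv_mem_iff, e, mem_stabilizer_iff,
    Set.mem_singleton_iff, Subtype.ext_iff, ← hg y]

theorem prod_eq_of_orbits (U : Type*) [Group U] [MulAction U X] [Fintype X] {f g : X → A}
    (h : ∀ y₀, ∏ᶠ y ∈ orbit U y₀, f y = ∏ᶠ y ∈ orbit U y₀, g y) : ∏ y, f y = ∏ y, g y := by
  classical
  haveI := Fintype.ofFinite (orbitRel.Quotient U X)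
  have e : ∀ (f : X → A) (ω : orbitRel.Quotient U X),
      ∏ y with (Quotient.mk'' y : orbitRel.Quotient U X) = ω, f y = ∏ᶠ y ∈ orbit U ω.out, f y :=
    fun f ω => by
      rw [← finprod_mem_finset_eq_prod]
      refine finprod_mem_congr ?_ fun _ _ => rfl
      ext y
      simp [← orbitRel_apply, ← Quotient.eq'']
  rw [← Finset.prod_fiberwise _ (Quotient.mk'' : X → orbitRel.Quotient U X),
    ← Finset.prod_fiberwise _ (Quotient.mk'' : X → orbitRel.Quotient U X)]
  exact Finset.prod_congr rfl fun ω _ => by rw [e, e, h]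

theorem IsCoc.prod_eq_one [Fintype X] [Finite U] (h : IsCoc c) {p : ℕ} [Fact p.Prime]
    (hU : IsPGroup p U) {u : U} (h1 : ∀ y : X, u • y ≠ y)
    (h2 : ∀ k y, p ∣ k → u ^ k • y = y → c (u ^ k) y = 1) : ∏ y, c u y = 1 := by
  refine (prod_eq_of_orbits (Subgroup.zpowers u) (g := fun _ => 1) fun y => ?_).trans (by simp)
  obtain ⟨l, e1, e2⟩ := IsCoc.orbit_transfer (U := Subgroup.zpowers u) (c := fun a y => c a y)
    (fun a b y => h a b y) y le_rfl
  rw [e2 ⟨u, Subgroup.mem_zpowers u⟩, MonoidHom.transfer_eq_pow _ _ fun k a _ => by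
    rw [mul_assoc, mul_comm' _ a, inv_mul_cancel_left], e1 rfl, finprod_mem_one]
  obtain ⟨n, hn⟩ := (hU.to_subgroup (Subgroup.zpowers u)).index (stabilizer _ y)
  refine h2 _ y (hn ▸ dvd_pow_self p ?_) ((stabilizer (Subgroup.zpowers u) y).pow_index_mem
    ⟨u, Subgroup.mem_zpowers u⟩)
  rintro rfl
  exact h1 y ((Subgroup.index_eq_one.1 hn).ge (Subgroup.mem_top ⟨u, Subgroup.mem_zpowers u⟩))

end Coc

variable {Ω : Type u} [Group Ω] {S : Subgroup Ω} {F : FusionSystem S} {P Q R T D U W : Subgroup Ω}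
  {p : ℕ} {f g : Ω → Ω} [hp : Fact p.Prime] [Finite S]

/-- Orbit-wise evaluation of the transfer of a fusion system. -/
theorem exists_pow_eq_one (hS : IsPGroup p S) (hF : F.IsSaturated p) {A : Type*} [CommGroup A]
    (l : S →* A) (hU : U ≤ S) {u : U} (hu : u.1 ∈ F.focalSubgroup) {a₀ : A}
    (h1 : ∀ f, Mor F U f → ap l (f u) = a₀)
    (h2 : ∀ (k : ℕ) f, Mor F (Subgroup.zpowers (u.1 ^ k)) f → p ∣ k → ap l (f (u.1 ^ k)) = 1)
    (h3 : ∀ R : Subgroup U, R ≠ ⊤ → u ∈ R → ∀ f, Mor F (R.map U.subtype) f →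
      ∃ M : Subgroup U, R ≤ M ∧ ∀ (μ : M →* A) [M.FiniteIndex],
        (M = R → ∀ m : M, μ m = ap l (f m)) → MonoidHom.transfer μ u = 1) :
    ∃ n, ¬ p ∣ n ∧ a₀ ^ n = 1 := by
  classical
  obtain ⟨G, _, _, ι, H, π, h, hi⟩ := exists_park hS hF
  haveI : Finite U := finite_of_le hU
  haveI := Fintype.ofFinite (G ⧸ H)
  letI : MulAction U (G ⧸ H) := MulAction.compHom _ (ι.comp (Subgroup.inclusion hU))
  have hs : ∀ (a : U) (y : G ⧸ H), a • y = ι ⟨a, hU a.2⟩ • y := fun _ _ => rfl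
  let c : U → G ⧸ H → A := fun a y => l (π ⟨_, coc_mem QuotientGroup.out_eq' (ι ⟨a, hU a.2⟩) y⟩)
  have hc : IsCoc c := fun a b y => by
    simp only [c, ← map_mul]; congr 2
    exact Subtype.ext (by simp [hs, ← mul_smul, ← map_mul, mul_assoc, ← mul_assoc (ι _)])
  have key : ∀ y, ∃ f, Mor F ((stabilizer U y).map U.subtype) f ∧
      ∀ a : U, a • y = y → c a y = ap l (f a) := fun y => by
    have h0 : ∀ a : U, a • y = y → y.out⁻¹ * ap ι a * y.out ∈ H := fun a ha => by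
      have := coc_mem QuotientGroup.out_eq' (ι ⟨a, hU a.2⟩) y
      rwa [← hs, ha, ← ap_of_mem] at this
    obtain ⟨f, hf, e⟩ := h.mor y.out ((stabilizer U y).map U.subtype)
      ((Subgroup.map_subtype_le _).trans hU) (by rintro _ ⟨a, ha, rfl⟩; exact h0 a ha)
    refine ⟨f, hf, fun a ha => ?_⟩
    rw [e a ⟨a, ha, rfl⟩ (h0 a ha), ap_of_mem _ (Subtype.prop _)]
    simp only [c, ← hs, ha, ap_of_mem _ (hU a.2)]
  refine ⟨Nat.card (fixedPoints U (G ⧸ H)), fun hd => hi (Nat.modEq_zero_iff_dvd.1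
    (((pgroup_of_le hS hU).card_modEq_card_fixedPoints _).trans hd.modEq_zero_nat)), ?_⟩
  have e1 := h.ptr_foc l hu
  rw [ap_of_mem _ (hU u.2), ptr, MonoidHom.comp_apply, transfer_eq_prod _ QuotientGroup.out_eq'] at e1
  rw [← e1, Nat.card_eq_fintype_card, Fintype.card_subtype, ← Finset.prod_const, Finset.prod_filter]
  refine prod_eq_of_orbits U (g := c u) fun y₀ => ?_
  by_cases hy : y₀ ∈ fixedPoints U (G ⧸ H)
  · rw [show orbit U y₀ = {y₀} from Set.eq_singleton_iff_unique_mem.2 ⟨mem_orbit_self _, by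
      rintro _ ⟨a, rfl⟩; exact hy a⟩, finprod_mem_singleton, finprod_mem_singleton, if_pos hy]
    obtain ⟨f, hf, e⟩ := key y₀
    rw [e u (hy u), h1 f (hf.mono fun x hx => ⟨⟨x, hx⟩, hy _, rfl⟩)]
  have h4 : ∀ y ∈ orbit U y₀, y ∉ fixedPoints U (G ⧸ H) := by
    rintro _ ⟨a, rfl⟩ h'
    exact hy (by rwa [← inv_smul_smul a y₀, h' a⁻¹])
  rw [finprod_mem_eq_one_of_forall_eq_one fun y hy => if_neg (h4 y hy), eq_comm]
  by_cases h5 : ∃ y ∈ orbit U y₀, u • y = y
  · obtain ⟨y, hy, e⟩ := h5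
    obtain ⟨f, hf, e'⟩ := key y
    obtain ⟨M, hM, h6⟩ := h3 _ (fun e => h4 y hy fun a => e.ge (Subgroup.mem_top a)) e f hf
    obtain ⟨μ, e1, e2⟩ := hc.orbit_transfer y hM
    rw [← (orbit_eq_iff.2 hy), e2, h6 μ fun e m => by rw [e1 e, e' _ (e.le m.2)]]
  · haveI := Fintype.ofFinite (orbit U y₀)
    rw [← finprod_set_coe_eq_finprod_mem, finprod_eq_prod_of_fintype]
    refine IsCoc.prod_eq_one (X := orbit U y₀) (c := fun a y => c a y) (fun a b y => hc a b y)
      (pgroup_of_le hS hU) (fun y e => h5 ⟨y, y.2, congrArg Subtype.val e⟩) fun k y hk e => ?_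
    obtain ⟨f, hf, e'⟩ := key y
    have e2 : u ^ k • y.1 = y.1 := congrArg Subtype.val e
    exact (e' _ e2).trans (h2 k f (hf.mono (Subgroup.zpowers_le.2 ⟨u ^ k, e2, rfl⟩)) hk)

end Cfsg.Agent.Fusion
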