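import Cfsg.Agent.Lib.Fusion.Cent4

/-! Components: first properties. -/

set_option autoImplicit false
set_option linter.unusedSectionVars false

namespace Cfsg.Agent.Fusion

open Cfsg Cfsg.FusionSystem

variable {Ω : Type*} [Group Ω] {S : Subgroup Ω} {F : FusionSystem S} {P Q R T U U' W N M Y : Subgroup Ω}
  {E : FusionSystem T} {f g k ψ : Ω → Ω} {p : ℕ} [hp : Fact p.Prime] [Finite S]

theorem IsInner.hyp_eq_bot (hS : IsPGroup p S) (h : IsInner F) : F.hyperfocalSubgroup p = ⊥ :=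
  eq_bot_iff.2 (hyp_le_iff.2 fun P hP α hα hc x hx => by
    obtain ⟨k, hk⟩ := autInducedBy_pgroup hS P ⟨α, mem_autInducedBy.2
      (h.conj ((mem_autGroup hP).1 hα))⟩
    rw [eq_one_of_coprime_pelt hc (congrArg Subtype.val hk), afun_one]; simp)

theorem qs_core (hS : IsPGroup p S) (hq : F.Quasisimple p) : F.core ≤ F.center ∧ ¬ S ≤ F.center := by
  have hs := IsNormal.stronglyClosed (IsCentral.isNormal (center_isCentral F))
  obtain ⟨E, hE⟩ := exists_factor_mk hs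
  have h1 := hq.2.2 E (isFactorSystem_iff.2 hE)
  have h2 := hE.surj hS hq.1 hs
  have := h2.finite
  have h4 := h2.hyp_eq (p := p)
  rw [hq.2.1, imageAlong_top, h2.range] at h4
  refine ⟨?_, fun h => h2.ne_bot (hE.ker.trans_ne fun e => ?_) ?_⟩
  · rcases h1.2.2 _ _ (inner_isNormalIn (h2.pgroup hS) h1.1 (h2.image_normal (core_isNormal F)))
      with h | ⟨h, h'⟩
    · exact (le_preimage_image (core_le F)).trans (by rw [h, hE.ker])
    · refine absurd (h4.symm.trans (IsInner.hyp_eq_bot (h2.pgroup hS) (isInner_iff_hom.2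
        fun P => ?_))) h1.2.1
      rw [← h' P, h]
  · refine h1.2.1 (h2.range.symm.trans (imageAlong_top.symm.trans (eq_bot_iff.2
      ((imageAlong_le_iff le_rfl).2 fun x hx => (hE.ap_eq_one_iff hx).2 (h hx)))))
  · exact h2.range.symm.trans (imageAlong_top.symm.trans (eq_bot_iff.2
      ((imageAlong_le_iff le_rfl).2 fun x hx => (hE.ap_eq_one_iff hx).2 (h hx))))

theorem qs_not_constrained (hS : IsPGroup p S) (hq : F.Quasisimple p) : ¬ F.IsConstrained p :=
  fun h => (qs_core hS hq).2 (le_trans (b := centralizerIn S F.core) (le_inf le_rfl fun _ hs _ hx =>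
    (F.center_le_centralizer ((qs_core hS hq).1 hx) _ hs).symm)
    ((isConstrained_iff.1 h).2.trans (qs_core hS hq).1))

theorem no_comp_of_constrained (hS : IsPGroup p S) (h : F.IsConstrained p) {C : FusionSystem U}
    (hC : C.IsComponentIn F p) : False :=
  have hU := IsSubsystemOf.le (IsSubnormalIn.sub hC.1)
  have := finite_of_le hU
  qs_not_constrained (pgroup_of_le hS hU) hC.2 (constrained_of_subnormal hS h hC.1)

theorem fix_Q_fn (hS : IsPGroup p S) (hE : E.IsNormalIn F p) (hQ : F.IsNormal Q) (h : TC F T U)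
    (hn : F.IsFullyNormalized U) (hQU : Q ≤ normalizerIn S U) (hR : Q ⊓ T ≤ U) {α : MulAut U}
    (hα : α ∈ E.autGroup U) (hc : (orderOf α).Coprime p) (e : ∀ x ∈ Q ⊓ T, afun α x = x) :
    ∃ g, Mor F (U ⊔ Q) g ∧ (∀ x ∈ U, g x = afun α x) ∧ ∀ x ∈ Q, g x = x := by
  obtain ⟨β, b1, b2, b3⟩ := XA_coprime hn.1 (core_fn hS hE U h.1 h hn hα) hc
  obtain ⟨g, hg, e1, e2⟩ := IsNormal.ext hQ ((mem_autGroup (Vc_le hn.1)).1 b1.1)
  obtain ⟨γ, c1, -, c2, c3⟩ := exists_coprime_ext le_sup_left hg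
    (by rw [hg.img_sup' e1 e2, img_afun]) e1 b2
  have c4 : ∀ x ∈ U, afun γ x = afun α x := fun x hx => by
    rw [c3 x (Subgroup.mem_sup_left hx), b3 x hx]
  have c5 := core2 hS hE.1 h.1 hn le_sup_left (sup_le (Vc_le_norm hn.1) hQU) c1 c2 (fun c hc => by
    rw [c3 c (Subgroup.mem_sup_right hc)]; exact b1.2 c (Subgroup.mem_sup_right hc)) hα c4
  have hm := (mem_autGroup hg.le).1 c1
  refine ⟨_, hm.mono (sup_le_sup_right le_sup_left _), c4, fun x hx => ?_⟩
  have hx' : x ∈ Vc S U ⊔ Q := Subgroup.mem_sup_right hx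
  have h1 : x⁻¹ * afun γ x ∈ Q ⊓ T := ⟨Q.mul_mem (Q.inv_mem hx)
    (StronglyClosed.mem (IsNormal.stronglyClosed hQ) hm hx' hx), c5.2 x hx'⟩
  exact afun_fix_step (pgroup_of_le hS hg.le) c2 hx' (by rw [c4 _ (hR h1), e _ h1])

theorem fix_Q (hS : IsPGroup p S) (hE : E.IsNormalIn F p) (hQ : F.IsNormal Q) (h : TC F T U)
    (hQU : Q ≤ normalizerIn S U) (hR : Q ⊓ T ≤ U) {α : MulAut U}
    (hα : α ∈ E.autGroup U) (hc : (orderOf α).Coprime p) (e : ∀ x ∈ Q ⊓ T, afun α x = x) :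
    ∃ g, Mor F (U ⊔ Q) g ∧ (∀ x ∈ U, g x = afun α x) ∧ ∀ x ∈ Q, g x = x := by
  have hT := hE.1.2.2.2.1
  have hU := h.1.trans hT.1
  obtain ⟨ψ, hψ, hn⟩ := IsSaturated.exists_normalizer_mor' hS hE.1.2.1 hU
  have hψ' := hψ.mono (sup_le (le_normalizerIn hU) hQU)
  have hψU := hψ'.mono le_sup_left
  have eQ := StronglyClosed.img_eq (IsNormal.stronglyClosed hQ) hψ hQU
  have eR := StronglyClosed.img_inf hT (hψ.mono hQU)
  rw [eQ] at eR
  obtain ⟨τ, hτ, -⟩ := hψU.exists_transport rfl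
  obtain ⟨g, hg, e1, e2⟩ := fix_Q_fn hS hE hQ (h.image hT hψU) hn
    (eQ.ge.trans (img_le_iff.2 fun x hx => hψ.normalizerIn_mem hU (hQU hx)))
    (eR.ge.trans (img_mono hR)) (α := τ α) (((IsInvariantIn.strongInv hE.1.2.2).mor
      ((mem_autGroup h.1).1 hα) le_rfl h.1 (fun _ hx => afun_mem _ hx) hψU (hτ α)).mem_autGroup
        fun _ _ => rfl) (by rwa [τ.orderOf_eq]) fun x hx => by
      rw [← eR] at hx
      obtain ⟨y, hy, rfl⟩ := (hψU.mono hR).mem_img.1 hx
      rw [hτ α y (hR hy), e y hy]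
  obtain ⟨i, hi, i1, -⟩ := hψ'.inv
  have k1 : ∀ x ∈ Q, ψ x ∈ Q := fun x hx => eQ ▸ subset_img hx
  have h1 := hψ'.comp hg fun x hx => by
    have := subset_img (f := ψ) hx
    rwa [hψ'.img_sup, eQ] at this
  have h2 : ∀ x ∈ U, g (ψ x) = ψ (afun α x) := fun x hx => by rw [e1 _ (subset_img hx), hτ α x hx]
  exact ⟨_, h1.comp hi (h1.mem_of_sup (fun x hx => by
      rw [h2 x hx]; exact subset_img (Subgroup.mem_sup_left (afun_mem _ hx))) fun x hx => by
      rw [e2 _ (k1 x hx)]; exact subset_img (Subgroup.mem_sup_right hx)),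
    fun x hx => by rw [h2 x hx, i1 _ (Subgroup.mem_sup_left (afun_mem _ hx))],
    fun x hx => by rw [e2 _ (k1 x hx), i1 _ (Subgroup.mem_sup_right hx)]⟩

theorem czS_of_coprime (hS : IsPGroup p S) {C : FusionSystem U} (hC : C.IsSaturated p) (hU : U ≤ S)
    (hh : C.hyperfocalSubgroup p = U) (hQ : Q ≤ S) (hn : U ≤ Subgroup.normalizer (Q : Set Ω))
    (h : ∀ P, P ≤ U → ∀ α ∈ C.autGroup P, (orderOf α).Coprime p →
      ∃ g, Mor F (P ⊔ Q) g ∧ (∀ x ∈ P, g x = afun α x) ∧ ∀ x ∈ Q, g x = x) :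
    U ≤ centralizerIn S Q ∧ CzS F C Q := by
  have h1 : U ≤ centralizerIn S Q := hh.ge.trans (hyp_le_iff.2 fun P hP α hα hc x hx => by
    obtain ⟨g, hg, e1, e2⟩ := h P hP α hα hc
    refine mem_centralizerIn.2 ⟨hU (hP (mul_mem (inv_mem hx) (afun_mem _ hx))), fun y hy => ?_⟩
    have := hg.map_conj (Subgroup.mem_sup_left hx) (Subgroup.mem_sup_right hy)
    rw [e2 _ (conj_mem_of_mem_normalizer (hn (hP hx)) hy), e1 x hx, e2 y hy] at this
    calc _ = x⁻¹ * (afun α x * y * (afun α x)⁻¹) * x := by group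
      _ = y := by rw [← this]; group)
  have := finite_of_le hU
  refine ⟨h1, (sub_centSys_iff hQ h1).1 (sub_of_coprime (pgroup_of_le hS hU) hC h1
    fun P hP _ _ _ α hα hc => ?_)⟩
  obtain ⟨g, hg, e1, e2⟩ := h P hP α hα hc
  exact (centSys_mor_of (centSys_spec F hQ) (hP.trans h1) hg le_sup_left le_sup_right
    e2).mem_autGroup fun x hx => (e1 x hx).symm

theorem czS_up (hS : IsPGroup p S) (hE : E.IsNormalIn F p) (hQ : F.IsNormal Q) {C : FusionSystem U}
    (hC : C.IsSaturated p) (hh : C.hyperfocalSubgroup p = U) (hU : U ≤ centralizerIn T (Q ⊓ T))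
    (h : CzS E C (Q ⊓ T)) : U ≤ centralizerIn S Q ∧ CzS F C Q := by
  have hT := hE.1.2.2.2.1
  have := finite_of_le hT.1
  have hT' := pgroup_of_le hS hT.1
  have hsc := IsNormal.stronglyClosed hQ
  have hR := normal_inf_of_stronglyClosed hS hE.1.1 hE.1.2.2.1 hT hQ
  have hRc := IsSaturated.fullyCentralized hT' hE.1.1 (fullyNormalized_of_normal hR.1
    (StronglyClosed.le_normalizer (IsNormal.stronglyClosed hR)))
  have hD := centSys_spec E hR.1
  let K : Subgroup (MulAut Q) := modKer F Q T ⊓ resPre (inf_le_left : Q ⊓ T ≤ Q) ⊥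
  have hK := isKNorm_kNorm (S := S) (K := K)
  have hle : centralizerIn T (Q ⊓ T) ≤ kNorm S Q K := fun t ht => by
    obtain ⟨σ, e⟩ := exists_cAut (StronglyClosed.le_normalizer hsc (hT.1 ht.1))
    exact (hK _).2 ⟨hT.1 ht.1, σ, ⟨cAut_mem_modKer hT hQ.1 ht.1 e, (mem_resPre _).2 ⟨1, one_mem _,
      fun x hx => by rw [e x hx.1, afun_one, (mem_centralizerIn.1 ht).2 x hx]⟩⟩, e⟩
  have := finite_of_le (centralizerIn_le : centralizerIn T (Q ⊓ T) ≤ T)
  have h1 : (centSys E hR.1).IsSubsystemOf (kSysData F hQ.1 hK).sys := by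
    refine sub_of_coprime (pgroup_of_le hT' centralizerIn_le) (centralizer_saturated hT' hE.1.1 hRc hD)
      hle fun P hP _ hc _ α hα hα' => ?_
    have hc' := cent_centric (IsSaturated.receptive hT' hE.1.1 hRc) hD hc
    obtain ⟨g, hg, e1, e2⟩ := centSys_ext hD ((mem_autGroup hP).1 hα)
    obtain ⟨β, b1, ⟨m, β₀, -, b2, rfl⟩, b3, b4⟩ := exists_coprime_ext le_sup_left hg
      (by rw [hg.img_sup' e1 (img_of_eq_id e2), img_afun]) e1 hα'
    obtain ⟨k, hk, e3, e4⟩ := fix_Q hS hE hQ ((IsInvariantIn.centric_iff hE.1.2.2).1 hc')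
      (le_inf hQ.1 (le_normalizer_of_conj_mem fun s hs x hx => by
        have h2 : s * x * s⁻¹ * x⁻¹ ∈ Q ⊓ T := ⟨by
          rw [mul_assoc, mul_assoc, ← mul_assoc x]
          exact Q.mul_mem hs (StronglyClosed.conj_mem hsc (hT.1 (hc'.1 hx)) (Q.inv_mem hs)),
          T.mul_mem (StronglyClosed.conj_mem hT (hQ.1 hs) (hc'.1 hx)) (T.inv_mem (hc'.1 hx))⟩
        simpa using mul_mem (Subgroup.mem_sup_right (S := P) h2) hx)) le_sup_right b1 b3
      fun x hx => by
        rw [afun_pow_of_eq le_sup_right (α := 1) (fun y hy => by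
          rw [b2 y (Subgroup.mem_sup_right hy), e2 y hy, afun_one]) m x hx, one_pow, afun_one]
    exact ((kSysData F hQ.1 hK).mor_iff.2 (KMor.of_ext hK (hP.trans hle) hk
      (le_sup_left.trans le_sup_left) le_sup_right (fun x hx => by
        rw [e3 x (Subgroup.mem_sup_left hx), b4 x hx]) (one_mem K)
      fun x hx => by rw [e4 x hx, afun_one])).mem_autGroup fun _ _ => rfl
  have h2 := IsSubsystemOf.trans ((sub_centSys_iff hR.1 hU).2 h) h1
  have hUS := hU.trans (centralizerIn_le.trans hT.1)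
  refine czS_of_coprime hS hC hUS hh hQ.1 (hUS.trans (StronglyClosed.le_normalizer hsc))
    fun P hP α hα hc => ?_
  obtain ⟨-, -, g, hg, e1, κ, hκ, e2⟩ := (kSysData F hQ.1 hK).mor_iff.1
    (((mem_autGroup hP).1 hα).sub h2)
  obtain ⟨β, b1, ⟨m, β₀, -, b2, rfl⟩, b3, b4⟩ := exists_coprime_ext le_sup_left hg
    (by rw [hg.img_sup' e1 (img_eq_of_afun e2), img_afun]) e1 hc
  have h3 := afun_pow_of_eq le_sup_right (fun y hy => by
    rw [b2 y (Subgroup.mem_sup_right hy), e2 y hy]) m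
  refine ⟨_, (mem_autGroup hg.le).1 b1, b4, fun x hx => afun_fix_step (pgroup_of_le hS hg.le) b3
    (Subgroup.mem_sup_right hx) ?_⟩
  obtain ⟨h4, h5⟩ := pow_mem hκ m
  obtain ⟨o, ho, e5⟩ := (mem_resPre _).1 h5
  have h6 := mul_mem (inv_mem hx) (afun_mem (κ ^ m) hx)
  rw [h3 x hx, h3 _ h6, e5 _ ⟨h6, h4.2 x hx⟩, Subgroup.mem_bot.1 ho, afun_one]

omit [Finite S] hp in
theorem comp_cent_core {C : FusionSystem U} (h : C.IsSubnormalIn F p) (hp : Fact p.Prime)
    (hq : C.Quasisimple p) (hf : Finite S) (hS : IsPGroup p S) :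
    U ≤ centralizerIn S F.core ∧ CzS F C F.core := by
  induction h with
  | refl F p =>
    have h1 := (qs_core hS hq).1
    exact ⟨le_inf le_rfl fun _ hs _ hx => (F.center_le_centralizer (h1 hx) _ hs).symm,
      fun P f hf => IsCentral.ext (IsCentral.of_le (center_isCentral F) h1) hf⟩
  | step h1 h2 ih =>
    have hT := h2.1.2.2.2.1.1
    have := finite_of_le hT
    obtain ⟨h3, h4⟩ := ih hp hq ‹_› (pgroup_of_le hS hT)
    have h5 := IsNormal.le_core (normal_inf_of_stronglyClosed hS h2.1.1 h2.1.2.2.1 h2.1.2.2.2.1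
      (core_isNormal _))
    exact czS_up hS h2 (core_isNormal _) hq.1 hq.2.1 (h3.trans (centralizerIn_anti h5)) (h4.mono h5)

theorem layer_sub_cent (hS : IsPGroup p S) (hF : F.IsSaturated p) (hE : E.IsLayerOf F p) :
    E.IsSubsystemOf (centSys F (core_le F)) :=
  hE.2.2 _ _ (cent_normal hS hF (core_isNormal F)) fun _ _ hC =>
    have h := comp_cent_core hC.1 hp hC.2 ‹_› hS
    (sub_centSys_iff _ h.1).2 h.2

end Cfsg.Agent.Fusion
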