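import Cfsg.Agent.Lib.Fusion.WLift
import Cfsg.Agent.Lib.Fusion.Comp1

/-! Non-constrained systems have components. -/

set_option autoImplicit false
set_option linter.unusedSectionVars false

namespace Cfsg.Agent.Fusion

open Cfsg Cfsg.FusionSystem

universe u

variable {Ω : Type u} [Group Ω] {S : Subgroup Ω} {F : FusionSystem S}
  {P Q R T T' U U' W N X : Subgroup Ω} {E : FusionSystem T} {E' : FusionSystem T'}
  {f g k ψ θ : Ω → Ω} {p : ℕ}

theorem ap_mkHom {h : ∀ x ∈ P, ∀ y ∈ P, f (x * y) = f x * f y} {x : Ω} (hx : x ∈ P) :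
    ap (mkHom P f h) x = f x := by rw [ap_of_mem _ hx]; rfl

theorem imageAlong_mkHom {h : ∀ x ∈ P, ∀ y ∈ P, f (x * y) = f x * f y} (hQ : Q ≤ P) :
    imageAlong (mkHom P f h) Q = img f Q := by
  ext y
  rw [mem_imageAlong' hQ, mem_img_of_mul fun x hx y hy => h x (hQ hx) y (hQ hy)]
  exact exists_congr fun x => and_congr_right fun hx => by rw [ap_mkHom (hQ hx)]

theorem fiso_of_mor (hθ : Mor F T θ) (e : img θ T = T')
    (h1 : ∀ P f, Mor E P f → ∃ g, Mor E' (img θ P) g ∧ ∀ x ∈ P, g (θ x) = θ (f x))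
    (h2 : ∀ P f g, P ≤ T → (∀ x ∈ P, f x ∈ T) → Mor E' (img θ P) g →
      (∀ x ∈ P, g (θ x) = θ (f x)) → Mor E P f) :
    FIso E E' (mkHom T θ fun _ hx _ hy => hθ.map_mul hx hy) where
  mem x hx := by rw [ap_mkHom hx]; exact e ▸ subset_img hx
  mor {P f} hf := by
    obtain ⟨g, hg, e⟩ := h1 P f hf
    exact ⟨g, by rwa [imageAlong_mkHom hf.le], fun x hx => by
      rw [ap_mkHom (hf.le hx), ap_mkHom (hf.mem hx), e x hx]⟩
  range := by rw [← imageAlong_top, imageAlong_mkHom le_rfl, e]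
  lift {P f} hf := by
    obtain ⟨i, -, -, i2, i3, -⟩ := hθ.inv' e
    have h3 : img θ (preimageAlong (mkHom T θ fun _ hx _ hy => hθ.map_mul hx hy) P) = P := by
      rw [← imageAlong_mkHom (h := fun _ hx _ hy => hθ.map_mul hx hy) preimageAlong_le,
        image_preimage]
      rw [← imageAlong_top, imageAlong_mkHom le_rfl, e]; exact hf.le
    have h4 : ∀ x ∈ preimageAlong (mkHom T θ fun _ hx _ hy => hθ.map_mul hx hy) P, f (θ x) ∈ T' :=
      fun x hx => hf.mem (h3.le (subset_img hx))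
    refine ⟨fun x => i (f (θ x)), h2 _ _ f preimageAlong_le (fun x hx => i2 _ (h4 x hx))
      (by rwa [h3]) fun x hx => (i3 _ (h4 x hx)).symm, fun x hx => ?_⟩
    rw [ap_mkHom (preimageAlong_le hx), ap_mkHom (i2 _ (h4 x hx)), i3 _ (h4 x hx)]
  inj a b h := Subtype.ext (hθ.inj a.2 b.2 h)

theorem constrained_congr (e : T = T') (h : ∀ P f, Mor E P f ↔ Mor E' P f) (hE : E.IsConstrained p) :
    E'.IsConstrained p := by
  subst e; rwa [← sys_ext h]

variable [hp : Fact p.Prime] [Finite S]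

theorem cent_fiso (hθ : Mor F N θ) (hN : Vc S U ≤ N) (hU : F.IsFullyCentralized U) :
    ∃ α, FIso (centSys F hU.1) (centSys F (hθ.mono (le_sup_left.trans hN)).img_le) α := by
  have hUN := le_sup_left.trans hN
  have hCN := le_sup_right.trans hN
  have e := hθ.img_centralizerIn hUN hCN hU
  refine ⟨_, fiso_of_mor (hθ.mono hCN) e (fun P f hf => ?_) fun P f g hP hm hg eg => ?_⟩
  · obtain ⟨g, hg, e1, e2⟩ := centSys_ext (centSys_spec _ _) hf
    have h1 : P ⊔ U ≤ N := sup_le (hf.le.trans hCN) hUN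
    obtain ⟨k, hk, ek⟩ := hθ.conj_mor hg h1 (hg.mem_of_sup (fun x hx => hCN (e1 x hx ▸ hf.mem hx))
      fun x hx => hUN ((e2 x hx).symm ▸ hx))
    refine ⟨k, centSys_mor_of (centSys_spec _ _) (e ▸ img_mono hf.le) hk (img_mono le_sup_left)
      (img_mono le_sup_right) fun y hy => ?_, fun x hx => by
        rw [ek x (Subgroup.mem_sup_left hx), e1 x hx]⟩
    obtain ⟨x, hx, rfl⟩ := (hθ.mono hUN).mem_img.1 hy
    rw [ek x (Subgroup.mem_sup_right hx), e2 x hx]
  · obtain ⟨k, hk, e1, e2⟩ := centSys_ext (centSys_spec _ _) hg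
    have h1 : P ⊔ U ≤ N := sup_le (hP.trans hCN) hUN
    rw [← (hθ.mono h1).img_sup] at hk
    obtain ⟨j, hj, ej⟩ := hθ.exists_conj_back h1 hk (fun x hx => by
      have hk' := (hθ.mono h1).comp hk fun x hx => subset_img hx
      refine hk'.mem_of_sup (fun x hx => ?_) (fun x hx => ?_) x hx
      · rw [e1 _ (subset_img hx), eg x hx]; exact subset_img (hCN (hm x hx))
      · rw [e2 _ (subset_img hx)]; exact subset_img (hUN hx))
    refine (centSys_mor_of (centSys_spec _ _) hP hj le_sup_left le_sup_right fun x hx => ?_).congr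
      fun x hx => ?_
    · obtain ⟨h2, h3⟩ := ej x (Subgroup.mem_sup_right hx)
      exact hθ.inj h2 (hUN hx) (by rw [h3, e2 _ (subset_img hx)])
    · obtain ⟨h2, h3⟩ := ej x (Subgroup.mem_sup_left hx)
      exact hθ.inj h2 (hCN (hm x hx)) (by rw [h3, e1 _ (subset_img hx), eg x hx])

theorem fullyCentralized_img (hθ : Mor F N θ) (hN : Vc S U ≤ N) (hU : F.IsFullyCentralized U) :
    F.IsFullyCentralized (img θ U) := by
  have h1 := hθ.mono (le_sup_left.trans hN)
  refine ⟨h1.img_le, fun Q hQ => ?_⟩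
  rw [← hθ.img_centralizerIn (le_sup_left.trans hN) (le_sup_right.trans hN) hU,
    (hθ.mono (le_sup_right.trans hN)).card_img]
  exact hU.2 Q (isConj_trans h1.isConj hQ)

theorem afun_pow_fix {β : MulAut W} {x : Ω} (h : afun β x = x) (hx : x ∈ W) (m : ℕ) :
    afun (β ^ m) x = x := by
  induction m with
  | zero => rw [pow_zero, afun_one]
  | succ m ih => rw [pow_succ, afun_mul _ _ hx, h, ih]

theorem exists_coprime_ext_fix (hg : Mor F (P ⊔ R) g) {α : MulAut P}
    (e : ∀ x ∈ P, g x = afun α x) (e' : ∀ x ∈ R, g x = x) (hc : (orderOf α).Coprime p) :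
    ∃ β ∈ F.autGroup (P ⊔ R), (orderOf β).Coprime p ∧ (∀ x ∈ P, afun β x = afun α x) ∧
      ∀ x ∈ R, afun β x = x := by
  obtain ⟨β, h1, ⟨m, β₀, -, e₀, rfl⟩, h2, h3⟩ := exists_coprime_ext le_sup_left hg
    (by rw [hg.img_sup' e (img_of_eq_id e'), img_afun]) e hc
  exact ⟨_, h1, h2, h3, fun x hx => afun_pow_fix (by rw [e₀ x (Subgroup.mem_sup_right hx), e' x hx])
    (Subgroup.mem_sup_right hx) m⟩

theorem constrained_of_cent (hS : IsPGroup p S) (hF : F.IsSaturated p) (hQ : F.IsNormal Q)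
    (h : (centSys F hQ.1).IsConstrained p) : F.IsConstrained p := by
  have := finite_of_le (centralizerIn_le : centralizerIn S Q ≤ S)
  have h1 := IsInvariantIn.core_normal hS hF (IsNormalIn.inv (cent_normal hS hF hQ))
  exact isConstrained_of hF (IsNormal.sup h1 hQ) fun c hc => Subgroup.mem_sup_left
    ((isConstrained_iff.1 h).2 ⟨centralizerIn_anti le_sup_right hc,
      (centralizerIn_anti le_sup_left hc).2⟩)

theorem constrained_of_coprime (hS : IsPGroup p S) (hF : F.IsSaturated p) (hR : F.IsNormal R)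
    (h : ∀ W, W ≤ S → R ≤ W → ∀ β ∈ F.autGroup W, (orderOf β).Coprime p → (∀ x ∈ R, afun β x = x) →
      ∀ x ∈ W, x ∈ centralizerIn S R → afun β x = x) : F.IsConstrained p := by
  have := finite_of_le (centralizerIn_le : centralizerIn S R ≤ S)
  have hC := IsNormalIn.sat (cent_normal hS hF hR)
  refine constrained_of_cent hS hF hR (isConstrained_of hC (IsInner.normal_top
    (isSubsystemOf_iff.2 fun P f hf => inner_of_hyp_eq_bot (pgroup_of_le hS centralizerIn_le) hC
      (eq_bot_iff.2 (hyp_le_iff.2 fun P hP α hα hc x hx => ?_)) hf)) centralizerIn_le)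
  obtain ⟨g, hg, e1, e2⟩ := centSys_ext (centSys_spec _ _) ((mem_autGroup hP).1 hα)
  obtain ⟨β, b1, b2, b3, b4⟩ := exists_coprime_ext_fix hg e1 e2 hc
  rw [← b3 x hx, h _ hg.le le_sup_right β b1 b2 b4 x (Subgroup.mem_sup_left hx) (hP hx)]
  simp

theorem comm_cent {β : MulAut W} (hR : R ≤ W) (e : ∀ x ∈ R, afun β x = x) {x : Ω} (hx : x ∈ W)
    (hn : ∀ y ∈ R, x * y * x⁻¹ ∈ R) : ∀ y ∈ R, x⁻¹ * afun β x * y * (x⁻¹ * afun β x)⁻¹ = y :=
  fun y hy => by
    have h1 := afun_map_conj β hx (hR hy)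
    rw [e _ (hn y hy), e y hy] at h1
    calc _ = x⁻¹ * (afun β x * y * (afun β x)⁻¹) * x := by group
      _ = y := by rw [← h1]; group

theorem constrained_of_hyp (hS : IsPGroup p S) (hF : F.IsSaturated p) (hE : E.IsInvariantIn F)
    (hT : F.hyperfocalSubgroup p ≤ T) (h : E.IsConstrained p) : F.IsConstrained p := by
  have := finite_of_le hE.2.1.1
  have hR := IsInvariantIn.core_normal hS hF hE
  refine constrained_of_coprime hS hF hR fun W hW h1 β hβ hc e x hx hx' =>
    afun_fix_step (pgroup_of_le hS hW) hc hx (e _ ((isConstrained_iff.1 h).2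
      (mem_centralizerIn.2 ⟨hT (mem_hyp hW hβ hc hx), comm_cent h1 e hx fun y hy => ?_⟩)))
  rwa [(mem_centralizerIn.1 hx').2 y hy]

theorem axb (hW : IsPGroup p W) [Finite W] {β : MulAut W} (hc : (orderOf β).Coprime p) (hQ : Q ≤ W)
    (hU : U ≤ W) (hn : U ≤ Subgroup.normalizer (Q : Set Ω)) (h1 : ∀ x ∈ Q, afun β x ∈ Q)
    (h2 : ∀ x ∈ U, afun β x = x) (h3 : ∀ x ∈ Q, (∀ y ∈ U, x * y * x⁻¹ = y) → afun β x = x) :
    ∀ x ∈ Q, afun β x = x := fun x hx => by
  have h4 : Q ≤ fixSub β ⊓ Subgroup.normalizer (Q : Set Ω) := by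
    refine le_of_normalizer_inf_le hW (fun y hy => hy.1.1) hQ inf_le_right fun s hs hs' =>
      ⟨⟨hQ hs, afun_fix_step hW hc (hQ hs) (h3 _ (Q.mul_mem (Q.inv_mem hs) (h1 s hs)) fun y hy =>
        ?_)⟩, Subgroup.le_normalizer hs⟩
    exact comm_cent (R := fixSub β ⊓ Subgroup.normalizer (Q : Set Ω)) (fun y hy => hy.1.1)
      (fun y hy => hy.1.2) (hQ hs) (fun y hy => conj_mem_of_mem_normalizer hs' hy) y
      ⟨⟨hU hy, h2 y hy⟩, hn hy⟩
  exact (h4 hx).1.2

theorem cent_constrained (hS : IsPGroup p S) (hF : F.IsConstrained p)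
    (hU : F.IsFullyCentralized U) : (centSys F hU.1).IsConstrained p := by
  have := finite_of_le (centralizerIn_le : centralizerIn S U ≤ S)
  have hQ := core_isNormal F
  have hs := IsNormal.stronglyClosed hQ
  refine constrained_of_coprime (R := F.core ⊓ centralizerIn S U) (pgroup_of_le hS centralizerIn_le)
    (centralizer_saturated hS hF.1 hU (centSys_spec _ _)) (isNormal_iff.2 ⟨inf_le_right,
      fun P f hf => ?_⟩) fun W hW h1 β hβ hc e x hx _ => ?_
  · obtain ⟨g, hg, e1, e2⟩ := centSys_ext (centSys_spec _ _) hf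
    obtain ⟨k, hk, e3, -⟩ := IsNormal.ext hQ hg
    have hk' := centSys_mor_of (centSys_spec _ hU.1) (sup_le hf.le inf_le_right) hk
      (sup_le (le_sup_left.trans le_sup_left) (inf_le_left.trans le_sup_right))
      (le_sup_right.trans le_sup_left) fun x hx => by rw [e3 x (Subgroup.mem_sup_right hx), e2 x hx]
    have := finite_of_le (inf_le_right : F.core ⊓ centralizerIn S U ≤ _)
    exact ⟨k, hk', fun x hx => by rw [e3 x (Subgroup.mem_sup_left hx), e1 x hx],
      (hk'.mono le_sup_right).img_eq_self fun x hx => ⟨StronglyClosed.mem hs hk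
        (Subgroup.mem_sup_right hx.1) hx.1, hk'.mem (Subgroup.mem_sup_right hx)⟩⟩
  · obtain ⟨g, hg, e1, e2⟩ := centSys_ext (centSys_spec _ _) ((mem_autGroup hW).1 hβ)
    obtain ⟨β₁, b1, b2, b3, b4⟩ := exists_coprime_ext_fix hg e1 e2 hc
    obtain ⟨k, hk, e3, e4⟩ := IsNormal.ext hQ ((mem_autGroup hg.le).1 b1)
    obtain ⟨γ, c1, -, c2, c3⟩ := exists_coprime_ext le_sup_left hk
      (by rw [hk.img_sup' e3 e4, img_afun]) e3 b2
    have := finite_of_le hk.le
    have hm := (mem_autGroup hk.le).1 c1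
    have h2 := axb (pgroup_of_le hS hk.le) c2 le_sup_right (le_sup_right.trans le_sup_left)
      (hU.1.trans (StronglyClosed.le_normalizer hs))
      (fun y hy => StronglyClosed.mem hs hm (Subgroup.mem_sup_right hy) hy)
      (fun y hy => by rw [c3 y (Subgroup.mem_sup_right hy), b4 y hy]) fun y hy hy' => by
        have h3 : y ∈ F.core ⊓ centralizerIn S U := ⟨hy, mem_centralizerIn.2 ⟨hs.1 hy, hy'⟩⟩
        rw [c3 y (Subgroup.mem_sup_left (h1 h3)), b3 y (h1 h3), e y h3]
    have hx' : x ∈ W ⊔ U ⊔ F.core := Subgroup.mem_sup_left (Subgroup.mem_sup_left hx)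
    rw [← b3 x hx, ← c3 x (Subgroup.mem_sup_left hx)]
    exact afun_fix_step (pgroup_of_le hS hk.le) c2 hx' (h2 _ ((isConstrained_iff.1 hF).2
      (mem_centralizerIn.2 ⟨mul_mem (inv_mem (hk.le hx')) (hm.mem hx'), comm_cent le_sup_right h2 hx'
        fun y hy => StronglyClosed.conj_mem hs (hk.le hx') hy⟩)))

theorem simple_of_min (hS : IsPGroup p S) (hF : F.IsSaturated p) (hc : ¬ F.IsConstrained p)
    (h : ∀ {T : Subgroup Ω} (E : FusionSystem T), E.IsNormalIn F p → ¬ F.IsSubsystemOf E →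
      E.IsConstrained p) : F.Quasisimple p := by
  have hZ : F.IsCentral F.core := by
    have h1 : F.IsSubsystemOf (centSys F (core_le F)) := by
      by_contra h2
      exact hc (constrained_of_cent hS hF (core_isNormal F)
        (h _ (cent_normal hS hF (core_isNormal F)) h2))
    exact isCentral_iff.2 ⟨core_le F, fun P f hf => centSys_ext (centSys_spec _ _) (hf.sub h1)⟩
  have hZ' : F.center = F.core := le_antisymm (center_le_core F) (IsCentral.le_center hZ)
  refine ⟨hF, ?_, fun E hE => ?_⟩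
  · obtain ⟨E, hE⟩ := exists_op hS hF
    have h1 := IsPResidual.normal hS hF hE
    by_contra h2
    exact hc (constrained_of_hyp hS hF (IsNormalIn.inv h1) le_rfl (h E h1 fun h3 =>
      h2 (le_antisymm hyp_le (IsSubsystemOf.le h3))))
  have hE := isFactorSystem_iff.1 hE
  have h2 := hE.surj hS hF (IsNormal.stronglyClosed (IsCentral.isNormal (center_isCentral F)))
  have hcen : ∀ {T}, T ≤ S → T ≤ centralizerIn T F.core := fun hT x hx =>
    mem_centralizerIn.2 ⟨hx, fun y hy => IsCentral.fix hZ (mor_conj F le_rfl (hT hx)) (hZ.1 hy) hy⟩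
  refine ⟨h2.saturated hS hF, h2.ne_bot (hE.ker.trans_ne fun e => hc (isConstrained_of hF
    (core_isNormal F) (centralizerIn_le.trans (e.ge.trans hZ'.le)))), fun T' E' hE' => ?_⟩
  obtain ⟨D, d1, d2, -⟩ := (lift_wdata hS hF h2 (hE.ker.symm ▸ center_isCentral F) hE').exists_sys
    hS hF
  have hT := d1.2.2.2.1
  have := finite_of_le hT.1
  have h3 := opp_normal hS d1
  have hT' := IsNormalIn.sc hE'
  by_cases h4 : F.IsSubsystemOf (opp D p)
  · have h5 : imageAlong (QuotientGroup.mk' (F.center.subgroupOf S)) S = T' := by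
      rw [← h2.image_preimage hT'.1]
      congr 1
      exact le_antisymm (IsSubsystemOf.le h4) hT.1
    have h6 : T' = ⊤ := by rw [← h5, imageAlong_top, h2.range]
    subst h6
    refine .inr ⟨rfl, hom_eq_iff.2 fun P f => ⟨fun hf => hf.sub (IsNormalIn.sub hE'),
      IsInvariantIn.eq_of_aut (IsNormalIn.inv hE') fun γ hγ => ?_⟩⟩
    have e1 := h2.image_preimage (le_rfl (a := ⊤))
    obtain ⟨β, hβ, e⟩ := h2.exists_lift_aut hT.1 (preimageAlong_mono bot_le) e1 hγ
    obtain ⟨-, a, ha, ea⟩ := d2 _ ⟨preimageAlong_mono bot_le, le_rfl, by rw [e1]; exact TC.top hT'⟩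
      (IsSubsystemOf.autGroup_le opp_sub le_rfl ((mem_autGroup le_rfl).2
        (((mem_autGroup hT.1).1 hβ).sub h4)))
    have h7 := (mem_autGroup le_top).1 ha
    refine (mem_autGroup le_rfl).2 ((h7.mono e1.ge).congr fun y hy => ?_)
    obtain ⟨x, hx, rfl⟩ := h2.pre le_rfl hy
    rw [ea x hx, e x hx]
  · have h5 := (isConstrained_iff.1 (h _ h3 h4)).2
    have h6 := IsNormal.le_core (IsInvariantIn.core_normal hS hF (IsNormalIn.inv h3))
    have h7 := (((hcen hT.1).trans (centralizerIn_anti h6)).trans h5).trans h6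
    refine .inl (eq_bot_iff.2 fun y hy => ?_)
    obtain ⟨x, hx, rfl⟩ := h2.pre hT'.1 hy
    exact (hE.ap_eq_one_iff (hT.1 hx)).2 (hZ'.ge (h7 hx))

theorem exists_comp (hS : IsPGroup p S) (hF : F.IsSaturated p) (hc : ¬ F.IsConstrained p) :
    ∃ (T : Subgroup Ω) (C : FusionSystem T), C.IsComponentIn F p := by
  refine sys_induction (C := fun {Ω} _ {S} F => IsPGroup p S → F.IsSaturated p →
    ¬ F.IsConstrained p → ∃ (T : Subgroup Ω) (C : FusionSystem T), C.IsComponentIn F p) ?_ F hS hF hc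
  intro Ω _ S _ F _ ih hS hF hc
  by_contra hn
  refine hn ⟨S, F, .refl F p, simple_of_min hS hF hc fun E h1 h2 => ?_⟩
  by_contra h3
  obtain ⟨U, C, h4, h5⟩ := ih E (IsNormalIn.sub h1) h2 (pgroup_of_le hS (IsNormalIn.sc h1).1)
    (IsNormalIn.sat h1) h3
  exact hn ⟨U, C, .step h4 h1, h5⟩

theorem cent_cent (hX : X ≤ U) (hU : U ≤ centralizerIn S X) (hXS : X ≤ S) (hUS : U ≤ S) :
    centralizerIn (centralizerIn S X) U = centralizerIn S U ∧
      ∀ P f, Mor (centSys (centSys F hXS) hU) P f ↔ Mor (centSys F hUS) P f := by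
  have e : centralizerIn (centralizerIn S X) U = centralizerIn S U :=
    le_antisymm (centralizerIn_mono centralizerIn_le) fun c hc => ⟨centralizerIn_anti hX hc, hc.2⟩
  refine ⟨e, fun P f => ⟨fun hf => ?_, fun hf => ?_⟩⟩
  · obtain ⟨g, hg, e1, e2⟩ := centSys_ext (centSys_spec _ _) hf
    exact (centSys_mor_of (centSys_spec _ _) (hf.le.trans e.le)
      (hg.sub (centSys_sub (centSys_spec _ _))) le_sup_left le_sup_right e2).congr e1
  · obtain ⟨g, hg, e1, e2⟩ := centSys_ext (centSys_spec _ _) hf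
    exact (centSys_mor_of (centSys_spec _ _) (hf.le.trans e.ge) (centSys_mor_of (centSys_spec _ _)
      (sup_le (hf.le.trans (centralizerIn_anti hX)) hU) hg le_rfl (hX.trans le_sup_right)
        fun x hx => e2 x (hX hx)) le_sup_left le_sup_right e2).congr e1

theorem norm_cent {N : FusionSystem (normalizerIn S U)} (hN : F.IsNormalizerSystem U N)
    (hUS : U ≤ S) : centralizerIn S U = centralizerIn (normalizerIn S U) U ∧
      ∀ P f, Mor (centSys F hUS) P f ↔ Mor (centSys N (le_normalizerIn hUS)) P f := by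
  have e : centralizerIn S U = centralizerIn (normalizerIn S U) U :=
    le_antisymm (fun c hc => ⟨centralizerIn_le_normalizerIn hc, hc.2⟩)
      (centralizerIn_mono normalizerIn_le)
  refine ⟨e, fun P f => ⟨fun hf => ?_, fun hf => ?_⟩⟩
  · obtain ⟨g, hg, e1, e2⟩ := centSys_ext (centSys_spec _ _) hf
    exact (centSys_mor_of (centSys_spec _ _) (hf.le.trans e.le) (normSys_mor_of hN
      (sup_le (hf.le.trans centralizerIn_le_normalizerIn) (le_normalizerIn hUS)) hg le_rfl
        le_sup_right (img_of_eq_id e2)) le_sup_left le_sup_right e2).congr e1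
  · obtain ⟨g, hg, e1, e2⟩ := centSys_ext (centSys_spec _ _) hf
    exact (centSys_mor_of (centSys_spec _ _) (hf.le.trans e.ge)
      (hg.sub (normSys_sub hN)) le_sup_left le_sup_right e2).congr e1

theorem dichotomy (hS : IsPGroup p S) (hF : F.IsSaturated p) :
    F.IsOfCharacteristicPType p ∨ F.IsOfComponentType p := by
  refine or_iff_not_imp_right.2 fun hn U hU hf N hN => ?_
  have := finite_of_le hf.1
  have := finite_of_le (normalizerIn_le : normalizerIn S U ≤ S)
  have hc := IsSaturated.fullyCentralized hS hF hf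
  refine constrained_of_cent (pgroup_of_le hS normalizerIn_le) (normalizer_saturated hS hF hf hN)
    (normSys_normal hN hf.1) (constrained_congr (norm_cent hN hf.1).1 (norm_cent hN hf.1).2 ?_)
  have hZ := centralizerIn_self_ne_bot (pgroup_of_le hS hf.1) hU
  have := finite_of_le (centralizerIn_le : centralizerIn U U ≤ U)
  obtain ⟨⟨x, hx⟩, ex⟩ := exists_prime_orderOf_dvd_card' (G := centralizerIn U U) p (by
    obtain ⟨n, hn⟩ := IsPGroup.iff_card.1 (pgroup_of_le hS (centralizerIn_le.trans hf.1 :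
      centralizerIn U U ≤ S))
    rw [hn]
    refine dvd_pow_self _ fun e => hZ ?_
    rw [e, pow_zero] at hn
    exact Subgroup.eq_bot_of_card_eq _ hn)
  have hXU : Subgroup.zpowers x ≤ U := (Subgroup.zpowers_le).2 hx.1
  obtain ⟨θ, hθ, hX⟩ := IsSaturated.exists_normalizer_mor' hS hF (hXU.trans hf.1)
  have h1 : U ≤ centralizerIn S (Subgroup.zpowers x) := le_centralizerIn_symm hf.1
    ((Subgroup.zpowers_le).2 (centralizerIn_mono hf.1 hx))
  have hV : Vc S U ≤ normalizerIn S (Subgroup.zpowers x) :=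
    (sup_le h1 (centralizerIn_anti hXU)).trans centralizerIn_le_normalizerIn
  obtain ⟨α, hα⟩ := cent_fiso hθ hV hc
  obtain ⟨κ, hκ, -⟩ := hα.symm
  have := finite_of_le (centralizerIn_le : centralizerIn S (img θ U) ≤ S)
  have := finite_of_le (centralizerIn_le : centralizerIn S (img θ (Subgroup.zpowers x)) ≤ S)
  refine hκ.constrained (pgroup_of_le hS centralizerIn_le) ?_
  have hD : (centSys F hX.1).IsConstrained p := by
    by_contra h2
    exact hn ⟨_, by
      rw [(hθ.mono (le_normalizerIn (hXU.trans hf.1))).card_img, Nat.card_zpowers, ← ex,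
        Subgroup.orderOf_mk], hX, _, centSys_spec F hX.1, exists_comp
      (pgroup_of_le hS centralizerIn_le) (centralizer_saturated hS hF
        (IsSaturated.fullyCentralized hS hF hX) (centSys_spec _ _)) h2⟩
  have h2 : img θ U ≤ centralizerIn S (img θ (Subgroup.zpowers x)) := img_le_iff.2 fun y hy =>
    hθ.centralizerIn_mem (hXU.trans hf.1) (h1 hy)
  have h3 := fullyCentralized_img hθ hV hc
  obtain ⟨e1, e2⟩ := cent_cent (F := F) (img_mono hXU) h2 hX.1 h3.1
  refine constrained_congr e1 e2 (cent_constrained (pgroup_of_le hS centralizerIn_le) hD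
    ⟨h2, fun Q hQ => ?_⟩)
  have := finite_of_le (centralizerIn_le : centralizerIn S Q ≤ S)
  rw [e1]
  exact (Subgroup.card_le_of_le (centralizerIn_mono centralizerIn_le)).trans
    (h3.2 Q (isConj_sub (centSys_sub (centSys_spec _ _)) hQ))

end Cfsg.Agent.Fusion
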