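import Cfsg.Agent.Lib.Fusion.Wedge2

/-! Components: the dichotomy. -/

set_option autoImplicit false
set_option linter.unusedSectionVars false

namespace Cfsg.Agent.Fusion

open Cfsg Cfsg.FusionSystem

universe u

variable {Ω : Type u} [Group Ω] {S : Subgroup Ω} {F : FusionSystem S}
  {P Q R T U U' V W N M Y : Subgroup Ω} {E : FusionSystem T} {C : FusionSystem U}
  {f g k ψ : Ω → Ω} {p : ℕ} [hp : Fact p.Prime] [Finite S]

theorem fix_Q_fn' (hS : IsPGroup p S) (hE : E.IsNormalIn F p) (hQ : F.StronglyClosed Q)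
    (h : TC F T U) (hn : F.IsFullyNormalized U) (hQU : Q ≤ normalizerIn S U) (hR : Q ⊓ T ≤ U)
    {α : MulAut U} (hα : α ∈ E.autGroup U) (hc : (orderOf α).Coprime p)
    (e : ∀ x ∈ Q ⊓ T, afun α x = x) :
    ∃ g, Mor F (U ⊔ Q) g ∧ (∀ x ∈ U, g x = afun α x) ∧ ∀ x ∈ Q, g x = x := by
  have hF := hE.1.2.1
  have hT := IsNormalIn.sc hE
  obtain ⟨β, b1, b2, b3⟩ := XA_coprime hn.1 (core_fn hS hE U h.1 h hn hα) hc
  have hV := h.fn_Vc hT hn
  have hm := (mem_autGroup hV.1).1 b1.1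
  have hαF := IsSubsystemOf.autGroup_le (IsNormalIn.sub hE) h.1 hα
  obtain ⟨g, hg, e1⟩ := IsReceptive.ext (IsSaturated.receptive' hS hF hV) hm (img_afun _)
  have hN : Q ≤ Next S _ (afun β) := fun s hs => by
    obtain ⟨σ, eσ⟩ := exists_cAut (norm_le_norm_Vc (hQU hs))
    obtain ⟨τ, eτ⟩ := exists_cAut (hQU hs).2
    have hσ := mem_autInducedBy.2 ⟨s, hQ.1 hs, eσ⟩
    have hτ := mem_autInducedBy.2 ⟨s, hQ.1 hs, eτ⟩
    have hτ' := cAut_mem_modKer hQ hn.1 hs eτ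
    have h1 := mul_mem (modKer_conj hQ hn.1 α hαF τ hτ') (inv_mem hτ')
    have h2 : ∀ x ∈ U, afun β⁻¹ x = afun α⁻¹ x := fun x hx => by
      conv_lhs => rw [← afun_afun_inv α hx, ← b3 _ (afun_mem _ hx),
        afun_inv_afun _ (Subgroup.mem_sup_left (afun_mem _ hx))]
    have h3 := mem_autS_of_ker hS hF hT h hn (mul_mem b1 (modKer_conj hT hV.1 σ
      (autInducedBy_le_autGroup F hV.1 hσ) _ (inv_mem b1))) (autCore_le_of_fn hS hF hn
        (chain_mem_autCore hS hQ hn.1 h1.1 (fun x hx hx' => by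
          have h4 := modKer_mem (inv_mem hτ') ⟨hx, hx'⟩
          have h5 : afun α⁻¹ (afun τ⁻¹ x) = afun τ⁻¹ x := by
            conv_lhs => rw [← e _ ⟨h4.2, h.1 h4.1⟩, afun_inv_afun _ h4.1]
          rw [afun_mul _ _ hx, afun_mul _ _ h4.1, h5, afun_mul _ _ h4.1, afun_afun_inv _ hx,
            e x ⟨hx', h.1 hx⟩]) h1.2)) fun x hx => by
      have hx' : x ∈ Vc S U := Subgroup.mem_sup_left hx
      have h6 := afun_mem τ⁻¹ hx
      have h7 := afun_mem α⁻¹ h6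
      rw [afun_mul _ _ hx', afun_mul _ _ hx', afun_mul _ _ (afun_mem _ hx'), afun_mul _ _ hx,
        afun_mul _ _ h6, afun_mul _ _ h7, afun_inv_conj eσ hx', ← afun_inv_conj eτ hx, h2 _ h6,
        eσ _ (Subgroup.mem_sup_left h7), ← eτ _ h7, b3 _ (afun_mem _ h7)]
    refine (mem_Next_afun_iff (hQ.1 hs) eσ).2 ?_
    have := mul_mem h3 hσ
    rwa [show β * (σ * β⁻¹ * σ⁻¹) * σ = β * σ * β⁻¹ by group] at this
  replace hg := hg.mono (sup_le hm.le_Next hN)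
  obtain ⟨γ, c1, -, c2, c3⟩ := exists_coprime_ext le_sup_left hg
    (by rw [hg.img_sup' e1 (StronglyClosed.img_eq hQ hg le_sup_right), img_afun]) e1 b2
  have c4 : ∀ x ∈ U, afun γ x = afun α x := fun x hx => by
    rw [c3 x (Subgroup.mem_sup_left hx), b3 x hx]
  have c5 := core2 hS hE.1 h.1 hn le_sup_left (sup_le (Vc_le_norm hn.1) hQU) c1 c2 (fun c hc => by
    rw [c3 c (Subgroup.mem_sup_right hc)]; exact b1.2 c (Subgroup.mem_sup_right hc)) hα c4
  have hm := (mem_autGroup hg.le).1 c1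
  refine ⟨_, hm.mono (sup_le_sup_right le_sup_left _), c4, fun x hx => ?_⟩
  have hx' : x ∈ Vc S U ⊔ Q := Subgroup.mem_sup_right hx
  have h1 : x⁻¹ * afun γ x ∈ Q ⊓ T := ⟨Q.mul_mem (Q.inv_mem hx)
    (StronglyClosed.mem hQ hm hx' hx), c5.2 x hx'⟩
  exact afun_fix_step (pgroup_of_le hS hg.le) c2 hx' (by rw [c4 _ (hR h1), e _ h1])

theorem fix_Q' (hS : IsPGroup p S) (hE : E.IsNormalIn F p) (hQ : F.StronglyClosed Q) (h : TC F T U)
    (hQU : Q ≤ normalizerIn S U) (hR : Q ⊓ T ≤ U) {α : MulAut U}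
    (hα : α ∈ E.autGroup U) (hc : (orderOf α).Coprime p) (e : ∀ x ∈ Q ⊓ T, afun α x = x) :
    ∃ g, Mor F (U ⊔ Q) g ∧ (∀ x ∈ U, g x = afun α x) ∧ ∀ x ∈ Q, g x = x := by
  have hT := hE.1.2.2.2.1
  have hU := h.1.trans hT.1
  obtain ⟨ψ, hψ, hn⟩ := IsSaturated.exists_normalizer_mor' hS hE.1.2.1 hU
  have hψ' := hψ.mono (sup_le (le_normalizerIn hU) hQU)
  have hψU := hψ'.mono le_sup_left
  have eQ := StronglyClosed.img_eq hQ hψ hQU
  have eR := StronglyClosed.img_inf hT (hψ.mono hQU)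
  rw [eQ] at eR
  obtain ⟨τ, hτ, -⟩ := hψU.exists_transport rfl
  obtain ⟨g, hg, e1, e2⟩ := fix_Q_fn' hS hE hQ (h.image hT hψU) hn
    (eQ.ge.trans (img_le_iff.2 fun x hx => hψ.normalizerIn_mem hU (hQU hx)))
    (eR.ge.trans (img_mono hR)) (α := τ α) (((IsInvariantIn.strongInv hE.1.2.2).mor
      ((mem_autGroup h.1).1 hα) le_rfl h.1 (fun _ hx => afun_mem _ hx) hψU (hτ α)).mem_autGroup
        fun _ _ => rfl) (by rwa [τ.orderOf_eq]) fun x hx => by
      rw [← eR] at hx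
      obtain ⟨y, hy, rfl⟩ := (hψU.mono hR).mem_img.1 hx
      rw [hτ α y (hR hy), e y hy]
  obtain ⟨i, hi, i1, -⟩ := hψ'.inv
  have k1 : ∀ x ∈ Q, ψ x ∈ Q := fun x hx => eQ ▸ subset_img hx
  have h1 := hψ'.comp hg fun x hx => by
    have := subset_img (f := ψ) hx
    rwa [hψ'.img_sup, eQ] at this
  have h2 : ∀ x ∈ U, g (ψ x) = ψ (afun α x) := fun x hx => by rw [e1 _ (subset_img hx), hτ α x hx]
  exact ⟨_, h1.comp hi (h1.mem_of_sup (fun x hx => by
      rw [h2 x hx]; exact subset_img (Subgroup.mem_sup_left (afun_mem _ hx))) fun x hx => by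
      rw [e2 _ (k1 x hx)]; exact subset_img (Subgroup.mem_sup_right hx)),
    fun x hx => by rw [h2 x hx, i1 _ (Subgroup.mem_sup_left (afun_mem _ hx))],
    fun x hx => by rw [e2 _ (k1 x hx), i1 _ (Subgroup.mem_sup_right hx)]⟩

theorem czS_up' (hS : IsPGroup p S) (hE : E.IsNormalIn F p) (hQ : F.StronglyClosed Q) {C : FusionSystem U}
    (hC : C.IsSaturated p) (hh : C.hyperfocalSubgroup p = U) (hU : U ≤ centralizerIn T (Q ⊓ T))
    (h : CzS E C (Q ⊓ T)) : U ≤ centralizerIn S Q ∧ CzS F C Q := by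
  have hT := hE.1.2.2.2.1
  have := finite_of_le hT.1
  have hT' := pgroup_of_le hS hT.1
  have hsc := hQ
  have hR := sc_of_sub (stronglyClosed_inf hQ hT) hE.1.2.2.1 inf_le_right
  have hRc := IsSaturated.fullyCentralized hT' hE.1.1 (fullyNormalized_of_normal hR.1
    (StronglyClosed.le_normalizer hR))
  have hD := centSys_spec E hR.1
  let K : Subgroup (MulAut Q) := modKer F Q T ⊓ resPre (inf_le_left : Q ⊓ T ≤ Q) ⊥
  have hK := isKNorm_kNorm (S := S) (K := K)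
  have hle : centralizerIn T (Q ⊓ T) ≤ kNorm S Q K := fun t ht => by
    obtain ⟨σ, e⟩ := exists_cAut (StronglyClosed.le_normalizer hsc (hT.1 ht.1))
    exact (hK _).2 ⟨hT.1 ht.1, σ, ⟨cAut_mem_modKer hT hQ.1 ht.1 e, (mem_resPre _).2 ⟨1, one_mem _,
      fun x hx => by rw [e x hx.1, afun_one, (mem_centralizerIn.1 ht).2 x hx]⟩⟩, e⟩
  have := finite_of_le (centralizerIn_le : centralizerIn T (Q ⊓ T) ≤ T)
  have h1 : (centSys E hR.1).IsSubsystemOf (kSysData F hQ.1 hK).sys := by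
    refine sub_of_coprime (pgroup_of_le hT' centralizerIn_le) (centralizer_saturated hT' hE.1.1 hRc hD)
      hle fun P hP _ hc _ α hα hα' => ?_
    have hc' := cent_centric (IsSaturated.receptive hT' hE.1.1 hRc) hD hc
    obtain ⟨g, hg, e1, e2⟩ := centSys_ext hD ((mem_autGroup hP).1 hα)
    obtain ⟨β, b1, ⟨m, β₀, -, b2, rfl⟩, b3, b4⟩ := exists_coprime_ext le_sup_left hg
      (by rw [hg.img_sup' e1 (img_of_eq_id e2), img_afun]) e1 hα'
    obtain ⟨k, hk, e3, e4⟩ := fix_Q' hS hE hQ ((IsInvariantIn.centric_iff hE.1.2.2).1 hc')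
      (le_inf hQ.1 (le_normalizer_of_conj_mem fun s hs x hx => by
        have h2 : s * x * s⁻¹ * x⁻¹ ∈ Q ⊓ T := ⟨by
          rw [mul_assoc, mul_assoc, ← mul_assoc x]
          exact Q.mul_mem hs (StronglyClosed.conj_mem hsc (hT.1 (hc'.1 hx)) (Q.inv_mem hs)),
          T.mul_mem (StronglyClosed.conj_mem hT (hQ.1 hs) (hc'.1 hx)) (T.inv_mem (hc'.1 hx))⟩
        simpa using mul_mem (Subgroup.mem_sup_right (S := P) h2) hx)) le_sup_right b1 b3
      fun x hx => by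
        rw [afun_pow_of_eq le_sup_right (α := 1) (fun y hy => by
          rw [b2 y (Subgroup.mem_sup_right hy), e2 y hy, afun_one]) m x hx, one_pow, afun_one]
    exact ((kSysData F hQ.1 hK).mor_iff.2 (KMor.of_ext hK (hP.trans hle) hk
      (le_sup_left.trans le_sup_left) le_sup_right (fun x hx => by
        rw [e3 x (Subgroup.mem_sup_left hx), b4 x hx]) (one_mem K)
      fun x hx => by rw [e4 x hx, afun_one])).mem_autGroup fun _ _ => rfl
  have h2 := IsSubsystemOf.trans ((sub_centSys_iff hR.1 hU).2 h) h1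
  have hUS := hU.trans (centralizerIn_le.trans hT.1)
  refine czS_of_coprime hS hC hUS hh hQ.1 (hUS.trans (StronglyClosed.le_normalizer hsc))
    fun P hP α hα hc => ?_
  obtain ⟨-, -, g, hg, e1, κ, hκ, e2⟩ := (kSysData F hQ.1 hK).mor_iff.1
    (((mem_autGroup hP).1 hα).sub h2)
  obtain ⟨β, b1, ⟨m, β₀, -, b2, rfl⟩, b3, b4⟩ := exists_coprime_ext le_sup_left hg
    (by rw [hg.img_sup' e1 (img_eq_of_afun e2), img_afun]) e1 hc
  have h3 := afun_pow_of_eq le_sup_right (fun y hy => by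
    rw [b2 y (Subgroup.mem_sup_right hy), e2 y hy]) m
  refine ⟨_, (mem_autGroup hg.le).1 b1, b4, fun x hx => afun_fix_step (pgroup_of_le hS hg.le) b3
    (Subgroup.mem_sup_right hx) ?_⟩
  obtain ⟨h4, h5⟩ := pow_mem hκ m
  obtain ⟨o, ho, e5⟩ := (mem_resPre _).1 h5
  have h6 := mul_mem (inv_mem hx) (afun_mem (κ ^ m) hx)
  rw [h3 x hx, h3 _ h6, e5 _ ⟨h6, h4.2 x hx⟩, Subgroup.mem_bot.1 ho, afun_one]


section Push

variable {Ω' : Type*} [Group Ω'] {S' : Subgroup Ω'} {θ : S →* Ω'} {F' : FusionSystem S'}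

theorem push_weakly (hS : IsPGroup p S) (h : Surj F F' θ) (hE : E.IsWeaklyNormalIn F p) :
    ∃ E' : FusionSystem (imageAlong θ T), E'.IsWeaklyNormalIn F' p ∧
      Surj E E' (θ.comp (Subgroup.inclusion hE.2.2.2.1.1)) := by
  have hT := hE.2.2.2.1
  have := finite_of_le hT.1
  have := h.finite
  have hk := h.toMorph.ker_stronglyClosed
  have hpre : ∀ {P'} {x}, x ∈ preimageAlong (θ.comp (Subgroup.inclusion hT.1)) P' ↔
      x ∈ T ∧ ap θ x ∈ P' := fun {P' x} => by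
    rw [mem_preimageAlong]
    exact and_congr_right fun hx => by rw [ap_res _ hx]
  have e0 : preimageAlong (θ.comp (Subgroup.inclusion hT.1)) ⊥ = preimageAlong θ ⊥ ⊓ T := by
    ext x
    rw [hpre, Subgroup.mem_inf, mem_preimageAlong]
    exact ⟨fun h => ⟨⟨hT.1 h.1, h.2⟩, h.1⟩, fun h => ⟨h.2, h.1.2⟩⟩
  have hk' := sc_of_sub (stronglyClosed_inf hk hT) hE.2.2.1 inf_le_right
  obtain ⟨E', hE'⟩ := exists_factor hk' e0 (S' := imageAlong θ T)
    (by rw [← imageAlong_top, imageAlong_res _ le_rfl])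
  have h1 := hE'.surj (pgroup_of_le hS hT.1) hE.1 hk'
  have hF' := h.saturated hS hE.2.1
  have h2 : ∀ {P' f'}, Mor E' P' f' → ∃ P f, Mor E P f ∧ imageAlong θ P = P' ∧
      (∀ x ∈ T, ap θ x ∈ P' → x ∈ P) ∧ ∀ x ∈ P, f' (ap θ x) = ap θ (f x) := fun hf => by
    obtain ⟨f, h3, e⟩ := h1.lift hf
    exact ⟨_, f, h3, by rw [← imageAlong_res hT.1 h3.le, h1.image_preimage hf.le],
      fun x hx hx' => hpre.2 ⟨hx, hx'⟩, fun x hx => by
        rw [← ap_res hT.1 (h3.le hx), e x hx, ap_res _ (h3.mem hx)]⟩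
  refine ⟨E', ⟨h1.saturated (pgroup_of_le hS hT.1) hE.1, hF', isInvariantIn_of_strongInv
    (h.pgroup hS) hF' (isSubsystemOf_iff.2 fun P' f' hf => ?_) ?_
      fun P' Q' f' ψ' hf k1 k2 k3 hψ => ?_⟩, h1⟩
  · obtain ⟨P, f, h3, rfl, -, e⟩ := h2 hf
    exact h.toMorph.mor' (h3.sub hE.2.2.1) e
  · have h3 := h.image_stronglyClosed (stronglyClosed_sup hS hE.2.1 hT hk) le_sup_right
    rwa [imageAlong_sup hT.1 hk.1, image_preimage bot_le, sup_bot_eq] at h3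
  · obtain ⟨P, f, h3, rfl, -, e⟩ := h2 hf
    obtain ⟨ψ, h4, eψ⟩ := h.lift hψ
    have hPS := h3.le.trans hT.1
    have k4 : P ≤ preimageAlong θ Q' ⊓ T := fun x hx =>
      ⟨mem_preimageAlong.2 ⟨hPS hx, k1 (ap_mem_imageAlong' hx)⟩, h3.le hx⟩
    obtain ⟨g, hg, eg⟩ := IsInvariantIn.strongInv hE.2.2 P _ f ψ h3 k4 inf_le_right (fun x hx =>
      ⟨mem_preimageAlong.2 ⟨hT.1 (h3.mem hx), e x hx ▸ k3 _ (ap_mem_imageAlong' hx)⟩, h3.mem hx⟩)
      (h4.mono inf_le_left)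
    obtain ⟨g', hg', eg'⟩ := h1.mor hg
    rw [imageAlong_res _ hg.le, ← img_induced h4 eψ (k4.trans inf_le_left)] at hg'
    refine ⟨g', hg', fun y hy => ?_⟩
    obtain ⟨x, hx, rfl⟩ := (mem_imageAlong' hPS).1 hy
    have k5 := subset_img (f := ψ) hx
    rw [eψ x (k4 hx).1, ← ap_res hT.1 (hg.le k5), eg' _ k5, ap_res _ (hg.mem k5), eg x hx, e x hx,
      eψ _ (mem_preimageAlong.2 ⟨hT.1 (h3.mem hx), e x hx ▸ k3 _ (ap_mem_imageAlong' hx)⟩)]

end Push

theorem foc_le_of_sup (hZ : F.IsCentral Y) (hT : F.StronglyClosed T) (h : S ≤ T ⊔ Y) :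
    F.focalSubgroup ≤ T := foc_le_iff.2 fun P f hf x hx => by
  obtain ⟨g, hg, e1, e2⟩ := IsCentral.ext hZ hf
  obtain ⟨t, ht, z, hz, rfl⟩ := (mem_sup_of_le_normalizer (hT.1.trans (StronglyClosed.le_normalizer
    (IsNormal.stronglyClosed (IsCentral.isNormal hZ))))).1 (h (hf.le hx))
  have hz' : z ∈ P ⊔ Y := Subgroup.mem_sup_right hz
  have ht' : t ∈ P ⊔ Y := (Subgroup.mul_mem_cancel_right _ hz').1 (Subgroup.mem_sup_left hx)
  rw [← e1 _ hx, hg.map_mul ht' hz', e2 z hz, show (t * z)⁻¹ * (g t * z) =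
    z⁻¹ * (t⁻¹ * g t) * z⁻¹⁻¹ by group]
  exact StronglyClosed.conj_mem hT (inv_mem (hZ.1 hz))
    (mul_mem (inv_mem ht) (StronglyClosed.mem hT hg ht' ht))

theorem qs_weakly (hS : IsPGroup p S) (hq : F.Quasisimple p) (hE : E.IsWeaklyNormalIn F p) :
    T ≤ F.center ∨ F.IsSubsystemOf E := by
  have hZ := center_isCentral F
  have hs := IsNormal.stronglyClosed (IsCentral.isNormal hZ)
  obtain ⟨F', hF'⟩ := exists_factor_mk hs
  have h1 := hq.2.2 F' (isFactorSystem_iff.2 hF')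
  have h2 := hF'.surj hS hq.1 hs
  have := h2.finite
  have hT := hE.2.2.2.1
  obtain ⟨E', e1, e2⟩ := push_weakly hS h2 hE
  have := finite_of_le e1.2.2.2.1.1
  rcases h1.2.2 _ _ (opp_normal (h2.pgroup hS) e1) with h | ⟨h, h'⟩
  · exact .inl fun x hx => (hF'.ap_eq_one_iff (hT.1 hx)).1 (h.le (ap_mem_imageAlong' hx))
  have h3 : T = S := le_antisymm hT.1 (hq.2.1.ge.trans (hyp_le_foc.trans (foc_le_of_sup hZ hT (by
    rw [← hF'.ker, ← preimage_image hT.1, h]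
    exact fun x hx => mem_preimageAlong.2 ⟨hx, trivial⟩))))
  subst h3
  refine .inr (isSubsystemOf_iff.2 fun P f => IsInvariantIn.eq_of_aut hE.2.2 fun α hα => ?_)
  have hm := (mem_autGroup le_rfl).1 hα
  obtain ⟨f', hf', ef⟩ := h2.mor hm
  obtain ⟨g, hg, eg⟩ := e2.lift (((hom_eq_iff.1 h' _ _).2 hf').sub opp_sub)
  have h4 : T ≤ preimageAlong ((QuotientGroup.mk' (F.center.subgroupOf T)).comp
      (Subgroup.inclusion hT.1)) (imageAlong (QuotientGroup.mk' (F.center.subgroupOf T)) T) :=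
    fun x hx => mem_preimageAlong.2 ⟨hx, by rw [ap_res _ hx]; exact ap_mem_imageAlong' hx⟩
  replace hg := hg.mono h4
  obtain ⟨β, hβ, eβ⟩ := hg.exists_aut (hg.img_eq_self fun x hx => hg.mem hx)
  have h5 := mul_mem hα (inv_mem (IsSubsystemOf.autGroup_le hE.2.2.1 le_rfl hβ))
  obtain ⟨k, hk⟩ := pelt_of_step hS hs.1 (fun x hx => IsCentral.fix hZ ((mem_autGroup le_rfl).1 h5)
    (hs.1 hx) hx) fun x hx => by
      have h6 := afun_mem β⁻¹ hx
      have h7 := eg _ (h4 h6)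
      rw [ap_res _ h6, ap_res _ (hg.mem h6), ← eβ _ h6, afun_afun_inv _ hx, ef _ h6] at h7
      rw [← hF'.ap_eq_iff hx (afun_mem _ hx), afun_mul _ _ hx, h7]
  have h6 := mul_mem (IsInvariantIn.pelt_mem hS hq.1 hE.2.2 le_rfl h5 hk) hβ
  rwa [inv_mul_cancel_right] at h6

omit [Finite S] hp in
theorem comp_dich {C : FusionSystem U} (h : C.IsSubnormalIn F p) (hp : Fact p.Prime)
    (hq : C.Quasisimple p) (hf : Finite S) (hS : IsPGroup p S) :
    ∀ {T : Subgroup Ω} {E : FusionSystem T}, E.IsWeaklyNormalIn F p →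
      C.IsSubnormalIn E p ∨ (U ≤ centralizerIn S T ∧ CzS F C T) := by
  induction h with
  | refl F p =>
    intro T E hE
    rcases qs_weakly hS hq hE with h1 | h1
    · exact .inr ⟨le_inf le_rfl fun _ hs _ hx => (F.center_le_centralizer (h1 hx) _ hs).symm,
        fun P f hf => IsCentral.ext (IsCentral.of_le (center_isCentral F) h1) hf⟩
    · obtain rfl := le_antisymm (IsSubsystemOf.le h1) (IsSubsystemOf.le hE.2.2.1)
      obtain rfl := sub_antisymm h1 hE.2.2.1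
      exact .inl (.refl _ _)
  | step h1 h2 ih =>
    intro T E hE
    have hT := h2.1.2.2.2.1.1
    have := finite_of_le hT
    obtain ⟨D, ⟨-, d1, d2⟩, -⟩ := exists_wedge hS hE h2.1
    rcases ih hp hq ‹_› (pgroup_of_le hS hT) d2.1 with h3 | ⟨h3, h4⟩
    · exact .inl (.step h3 d1)
    · exact .inr (czS_up' hS h2 hE.2.2.2.1 hq.1 hq.2.1 h3 h4)

theorem comp_not_cent (hS : IsPGroup p S) (hC : C.IsComponentIn F p) (h : U ≤ T) :
    ¬ CzS F C T := fun h1 => by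
  have hU := IsSubsystemOf.le (IsSubnormalIn.sub hC.1)
  have := finite_of_le hU
  refine (qs_core (pgroup_of_le hS hU) hC.2).2 (IsCentral.le_center (central_of_fix
    (pgroup_of_le hS hU) hC.2.1 le_rfl fun P f hf x hx hx' => ?_))
  obtain ⟨g, -, e1, e2⟩ := h1 P f hf
  rw [← e1 x hx, e2 x (h hx')]

theorem comp_of_le (hS : IsPGroup p S) (hC : C.IsComponentIn F p) (hE : E.IsWeaklyNormalIn F p)
    (h : U ≤ T) : C.IsComponentIn E p :=
  ⟨(comp_dich hC.1 hp hC.2 ‹_› hS hE).resolve_right fun h1 => comp_not_cent hS hC h h1.2, hC.2⟩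

theorem exists_min_sub (Φ : ∀ {T : Subgroup Ω}, FusionSystem T → Prop) (h : Φ F) :
    ∃ (T : Subgroup Ω) (E : FusionSystem T), Φ E ∧ E.IsSubsystemOf F ∧
      ∀ {R : Subgroup Ω} (D : FusionSystem R), Φ D → D.IsSubsystemOf E → E.IsSubsystemOf D := by
  refine sys_induction (C := fun {Ω} _ {S} F => ∀ Φ : ∀ {T : Subgroup Ω}, FusionSystem T → Prop,
    Φ F → ∃ (T : Subgroup Ω) (E : FusionSystem T), Φ E ∧ E.IsSubsystemOf F ∧
      ∀ {R : Subgroup Ω} (D : FusionSystem R), Φ D → D.IsSubsystemOf E → E.IsSubsystemOf D) ?_ F Φ h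
  intro Ω _ S _ F _ ih Φ h
  by_cases h1 : ∀ {R : Subgroup Ω} (D : FusionSystem R), Φ D → D.IsSubsystemOf F → F.IsSubsystemOf D
  · exact ⟨S, F, h, fun _ => le_rfl, h1⟩
  push Not at h1
  obtain ⟨R, D, h2, h3, h4⟩ := h1
  obtain ⟨T, E, h5, h6, h7⟩ := ih D h3 h4 Φ h2
  exact ⟨T, E, h5, IsSubsystemOf.trans h6 h3, h7⟩

theorem comp_sub_wedge (hS : IsPGroup p S) {T₁ T₂ : Subgroup Ω} {D : FusionSystem (T₁ ⊓ T₂)}
    (hD : D.IsWeaklyNormalIn F p) (hC : C.IsComponentIn F p) (c1 : U ≤ T₁) (c2 : U ≤ T₂) :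
    C.IsSubsystemOf D := IsSubnormalIn.sub (comp_of_le hS hC hD (le_inf c1 c2)).1

theorem exists_layer (hS : IsPGroup p S) (hF : F.IsSaturated p) :
    ∃ (T : Subgroup Ω) (E : FusionSystem T), E.IsLayerOf F p := by
  obtain ⟨T, E, ⟨h1, h2⟩, -, h3⟩ := exists_min_sub (F := F) (fun E => E.IsNormalIn F p ∧
    ∀ (U : Subgroup Ω) (C : FusionSystem U), C.IsComponentIn F p → C.IsSubsystemOf E)
    ⟨isNormalIn_self hF, fun _ _ hC => IsSubnormalIn.sub hC.1⟩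
  refine ⟨T, E, h1, h2, fun R D d1 d2 => ?_⟩
  obtain ⟨Y, ⟨y0, y1, y2⟩, -⟩ := exists_wedge hS h1.1 d1.1
  exact IsSubsystemOf.trans (h3 Y ⟨y0, fun U C hC => comp_sub_wedge hS y0.1 hC
    (IsSubsystemOf.le (h2 U C hC)) (IsSubsystemOf.le (d2 U C hC))⟩ (IsNormalIn.sub y1))
    (IsNormalIn.sub y2)

theorem layer_le_weakly (hS : IsPGroup p S) (hE : E.IsLayerOf F p) {D : FusionSystem R}
    (hD : D.IsWeaklyNormalIn F p)
    (h : ∀ (U : Subgroup Ω) (C : FusionSystem U), C.IsComponentIn F p → U ≤ R) :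
    E.IsSubsystemOf D := by
  obtain ⟨Y, ⟨y0, -, y2⟩, -⟩ := exists_wedge hS hE.1.1 hD
  exact IsSubsystemOf.trans (hE.2.2 _ Y y0 fun U C hC => comp_sub_wedge hS y0.1 hC
    (IsSubsystemOf.le (hE.2.1 U C hC)) (h U C hC)) (IsNormalIn.sub y2)

end Cfsg.Agent.Fusion
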