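import Cfsg.Agent.Lib.Fusion.CProd2
import Cfsg.Prelude.Def_FusionFitting

/-! Transport of components; the layer is characteristic; the generalized Fitting subsystem. -/

set_option autoImplicit false
set_option linter.unusedSectionVars false

namespace Cfsg.Agent.Fusion

open Cfsg Cfsg.FusionSystem

section
variable {Ω : Type*} [Group Ω] {S : Subgroup Ω} {F : FusionSystem S} {p : ℕ} [hp : Fact p.Prime]
  [Finite S]

theorem qs_of (hS : IsPGroup p S) (hF : F.IsSaturated p) (hh : F.hyperfocalSubgroup p = S)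
    (hc : ¬ S ≤ F.center) (h : ∀ {T : Subgroup Ω} (E : FusionSystem T), E.IsNormalIn F p →
      T ≤ F.center ∨ F.IsSubsystemOf E) : F.Quasisimple p := by
  refine ⟨hF, hh, fun E hE => ?_⟩
  have hE := isFactorSystem_iff.1 hE
  have h2 := hE.surj hS hF (IsNormal.stronglyClosed (IsCentral.isNormal (center_isCentral F)))
  refine ⟨h2.saturated hS hF, h2.ne_bot (hE.ker.trans_ne fun e => hc e.ge), fun T' E' hE' => ?_⟩
  obtain ⟨D, d1, d2, -⟩ := (lift_wdata hS hF h2 (hE.ker.symm ▸ center_isCentral F) hE').exists_sys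
    hS hF
  have hT := d1.2.2.2.1
  have := finite_of_le hT.1
  have h3 := opp_normal hS d1
  have hT' := IsNormalIn.sc hE'
  rcases h _ h3 with h7 | h4
  · refine .inl (eq_bot_iff.2 fun y hy => ?_)
    obtain ⟨x, hx, rfl⟩ := h2.pre hT'.1 hy
    exact (hE.ap_eq_one_iff (hT.1 hx)).2 (h7 hx)
  · have h5 : imageAlong (QuotientGroup.mk' (F.center.subgroupOf S)) S = T' := by
      rw [← h2.image_preimage hT'.1]
      congr 1
      exact le_antisymm (IsSubsystemOf.le h4) hT.1
    have h6 : T' = ⊤ := by rw [← h5, imageAlong_top, h2.range]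
    subst h6
    refine .inr ⟨rfl, hom_eq_iff.2 fun P f => ⟨fun hf => hf.sub (IsNormalIn.sub hE'),
      IsInvariantIn.eq_of_aut (IsNormalIn.inv hE') fun γ hγ => ?_⟩⟩
    have e1 := h2.image_preimage (le_rfl (a := ⊤))
    obtain ⟨β, hβ, e⟩ := h2.exists_lift_aut hT.1 (preimageAlong_mono bot_le) e1 hγ
    obtain ⟨-, a, ha, ea⟩ := d2 _ ⟨preimageAlong_mono bot_le, le_rfl, by rw [e1]; exact TC.top hT'⟩
      (IsSubsystemOf.autGroup_le opp_sub le_rfl ((mem_autGroup le_rfl).2
        (((mem_autGroup hT.1).1 hβ).sub h4)))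
    have h7 := (mem_autGroup le_top).1 ha
    refine (mem_autGroup le_rfl).2 ((h7.mono e1.ge).congr fun y hy => ?_)
    obtain ⟨x, hx, rfl⟩ := h2.pre le_rfl hy
    rw [ea x hx, e x hx]
end

section
variable {Ω Ω' : Type*} [Group Ω] [Group Ω'] {S : Subgroup Ω} {S' : Subgroup Ω'}
  {F : FusionSystem S} {F' : FusionSystem S'} {α : S →* Ω'} {T U : Subgroup Ω}
  {T' U' : Subgroup Ω'} {p : ℕ} {E : FusionSystem T} {E' : FusionSystem T'}
  {C : FusionSystem U} {C' : FusionSystem U'}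

theorem Push.sub_sub (h : Push F F' α E E') (h' : Push F F' α C C') (hC : C.IsSubsystemOf E) :
    C'.IsSubsystemOf E' := by
  refine isSubsystemOf_iff.2 fun P' f' hf => ?_
  obtain ⟨P, f, k, rfl, e⟩ := h'.lift hf
  exact h.mor' (k.sub hC) e

theorem Push.sub_sub' (h : Push F F' α E E') (h' : Push F F' α C C') (hU : U ≤ T)
    (hC : C'.IsSubsystemOf E') : C.IsSubsystemOf E := by
  refine isSubsystemOf_iff.2 fun P f hf => ?_
  obtain ⟨f', k, e⟩ := h'.mor hf
  exact h.mor_of (hf.le.trans hU) (fun x hx => hU (hf.mem hx)) (k.sub hC) e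

theorem FIso.congr {β : S →* Ω'} (h : FIso F F' α) (e : ∀ x ∈ S, ap α x = ap β x) :
    FIso F F' β := by
  have : α = β := MonoidHom.ext fun x => by
    have := e x x.2; rwa [ap_of_mem _ x.2, ap_of_mem _ x.2] at this
  exact this ▸ h

theorem FIso.push_self (h : FIso F F' α) : Push F F' α F F' :=
  ⟨h, le_rfl, h.congr fun _ hx => (ap_res le_rfl hx).symm⟩

theorem Push.res (h : Push F F' α E E') (h' : Push F F' α C C') (hU : U ≤ T) :
    Push E E' (α.comp (Subgroup.inclusion h.le)) C C' :=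
  ⟨h.iso', hU, h'.iso'⟩

theorem FIso.exists_push [Finite S] (h : FIso F F' α) (hT : T ≤ S) (E : FusionSystem T) :
    ∃ E' : FusionSystem (imageAlong α T), Push F F' α E E' := by
  have := finite_of_le hT
  obtain ⟨E', hE'⟩ := Fusion.exists_push h.inj hT E
  exact ⟨E', h, hT, hE'⟩

/-- Pull back a subsystem along an isomorphism. -/
theorem FIso.exists_pull [Finite S] (h : FIso F F' α) (hT : T' ≤ S') (E' : FusionSystem T') :
    ∃ (κ : S' →* Ω) (T : Subgroup Ω) (E : FusionSystem T), Push F F' α E E' ∧ Push F' F κ E' E := by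
  have := h.toSurj.finite
  obtain ⟨κ, hκ, e1, e2, e3, e4⟩ := h.symm
  obtain ⟨E, hE⟩ := hκ.exists_push hT E'
  refine ⟨κ, _, E, ⟨h, hκ.image_le hT, ?_⟩, hE⟩
  obtain ⟨l, hl, l1, -⟩ := hE.iso'.symm
  refine hl.congr fun x hx => ?_
  obtain ⟨y, hy, rfl⟩ := (mem_imageAlong' hT).1 hx
  have := l1 y hy
  rw [ap_res hT hy] at this
  rw [this, ap_res _ hx, e2 y (hT hy)]

variable [hp : Fact p.Prime] [Finite S]

theorem FIso.quasisimple (h : FIso F F' α) (hS : IsPGroup p S) (hq : F.Quasisimple p) :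
    F'.Quasisimple p := by
  have := h.toSurj.finite
  have e : imageAlong α S = S' := imageAlong_top.trans h.range
  refine qs_of (h.toSurj.pgroup hS) (h.toSurj.saturated hS hq.1) ?_ (fun hc => ?_)
    fun {T'} E' hE' => ?_
  · rw [h.toSurj.hyp_eq, hq.2.1, e]
  · rw [← h.image_center, ← e, imageAlong_le_imageAlong_iff h.inj le_rfl (center_le F)] at hc
    exact (qs_core hS hq).2 hc
  · obtain ⟨κ, T, E, h1, h2⟩ := h.exists_pull (IsNormalIn.sc hE').1 E'
    rcases qs_weakly hS hq (h2.normal (h.toSurj.pgroup hS) hE').1 with k | k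
    · exact .inl (by rw [← h1.eq, ← h.image_center]; exact imageAlong_mono k)
    · exact .inr (h1.sub_sub h.push_self k)

omit [Finite S] hp in
theorem push_subnormal (hC : C.IsSubnormalIn F p) (hp : Fact p.Prime) (hf : Finite S)
    (hS : IsPGroup p S) : ∀ {S' : Subgroup Ω'} {F' : FusionSystem S'} {α : S →* Ω'},
      Push F F' α C C' → C'.IsSubnormalIn F' p := by
  induction hC with
  | refl F p =>
    intro S' F' α h
    have e : U' = S' := h.eq.symm.trans (imageAlong_top.trans h.iso.range)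
    subst e
    have := h.iso.toSurj.finite
    have : C' = F' := sub_antisymm (h.iso.push_self.sub_sub h (isSubsystemOf_iff.2 fun _ _ h => h))
      (h.sub_sub h.iso.push_self (isSubsystemOf_iff.2 fun _ _ h => h))
    rw [this]; exact .refl _ _
  | @step V S C D F p h1 h2 ih =>
    intro S' F' α h
    have hV := (IsNormalIn.sc h2).1
    obtain ⟨D', hD'⟩ := h.iso.exists_push hV D
    exact .step (ih hp (finite_of_le hV) (pgroup_of_le hS hV)
      (hD'.res h (IsSubsystemOf.le (IsSubnormalIn.sub h1)))) (hD'.normal hS h2)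

theorem Push.component (h : Push F F' α C C') (hS : IsPGroup p S) (hC : C.IsComponentIn F p) :
    C'.IsComponentIn F' p :=
  have := finite_of_le h.le
  ⟨push_subnormal hC.1 hp ‹_› hS h, h.iso'.quasisimple (pgroup_of_le hS h.le) hC.2⟩

theorem Push.layer (h : Push F F' α E E') (hS : IsPGroup p S) (hE : E.IsLayerOf F p) :
    E'.IsLayerOf F' p := by
  have := h.iso.toSurj.finite
  have hS' := h.iso.toSurj.pgroup hS
  refine ⟨h.normal hS hE.1, fun U' C' hC' => ?_, fun R' D' hD' hall => ?_⟩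
  · obtain ⟨κ, U, C, h1, h2⟩ := h.iso.exists_pull (IsSubsystemOf.le (IsSubnormalIn.sub hC'.1)) C'
    exact h.sub_sub h1 (hE.2.1 U C (h2.component hS' hC'))
  · obtain ⟨κ, R, D, h1, h2⟩ := h.iso.exists_pull (IsNormalIn.sc hD').1 D'
    refine h1.sub_sub h (layer_le_weakly hS hE (h2.normal hS' hD').1 fun U C hC => ?_)
    have hU := IsSubsystemOf.le (IsSubnormalIn.sub hC.1)
    obtain ⟨C', h3⟩ := h.iso.exists_push hU C
    have := IsSubsystemOf.le (hall _ C' (h3.component hS hC))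
    rwa [← h1.eq, imageAlong_le_imageAlong_iff h.iso.inj hU h1.le] at this

end

variable {Ω : Type*} [Group Ω] {S : Subgroup Ω} {F : FusionSystem S} {p : ℕ}
  {P Q T T' T₁ T₂ U V : Subgroup Ω} {E : FusionSystem T} {E' : FusionSystem T'}
  {C : FusionSystem U} {L : FusionSystem V} {f g : Ω → Ω} {E₁ : FusionSystem T₁}
  {E₂ : FusionSystem T₂}

theorem layer_sub (h : E.IsLayerOf F p) (h' : E'.IsLayerOf F p) : E.IsSubsystemOf E' :=
  h.2.2 _ _ h'.1 h'.2.1

theorem layer_eq (h : E.IsLayerOf F p) (h' : E'.IsLayerOf F p) : T = T' :=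
  le_antisymm (IsSubsystemOf.le (layer_sub h h')) (IsSubsystemOf.le (layer_sub h' h))

variable [hp : Fact p.Prime] [Finite S]

theorem layer_char (hS : IsPGroup p S) {α : S →* Ω} (h : FIso F F α) (hE : E.IsLayerOf F p) :
    imageAlong α T = T ∧ ∀ P f g, Mor E P f → (∀ x ∈ P, g (ap α x) = ap α (f x)) →
      Mor E (imageAlong α P) g := by
  obtain ⟨E', h1⟩ := h.exists_push (IsNormalIn.sc hE.1).1 E
  have h2 := h1.layer hS hE
  exact ⟨layer_eq h2 hE, fun P f g hf e => (h1.mor' hf e).sub (layer_sub h2 hE)⟩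

theorem char_weakly (hS : IsPGroup p S) (hE : E.IsWeaklyNormalIn F p) (hL : L.IsWeaklyNormalIn E p)
    (h : ∀ γ ∈ F.autGroup T, (∀ x ∈ V, afun γ x ∈ V) ∧ ∀ P f g, Mor L P f →
      (∀ x ∈ P, g (afun γ x) = afun γ (f x)) → Mor L (img (afun γ) P) g) :
    L.IsWeaklyNormalIn F p := by
  have hV := hL.2.2.2.1
  have hsc := IsInvariantIn.stronglyClosed_of hE.2.2 hV fun γ hγ => (h γ hγ).1
  refine ⟨hL.1, hE.2.1, isInvariantIn_of_strongInv hS hE.2.1
    (IsSubsystemOf.trans hL.2.2.1 hE.2.2.1) hsc fun P Q f ψ hf hP hQ hfQ hψ => ?_⟩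
  obtain ⟨γ, hγ, k, hk, e⟩ := IsInvariantIn.frattini hE.2.2 (hQ.trans hV.1) hψ
  obtain ⟨g, hg, eg⟩ := IsInvariantIn.strongInv hL.2.2 P Q f k hf hP hQ hfQ hk
  have key : ∀ y ∈ img k P, afun γ (g (afun γ⁻¹ (afun γ y))) = afun γ (g y) := fun y hy => by
    rw [afun_inv_afun _ (hV.1 (hg.le hy))]
  refine ⟨_, ((h γ hγ).2 _ g (fun y => afun γ (g (afun γ⁻¹ y))) hg key).mono (img_le_iff.2 fun x hx => ?_), fun x hx => ?_⟩
  · rw [e x (hP hx)]; exact subset_img (subset_img hx)
  · beta_reduce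
    rw [e x (hP hx), key _ (subset_img hx), eg x hx, e _ (hfQ x hx)]

theorem IsInvariantIn.fiso (hE : E.IsInvariantIn F) {γ : MulAut T} (hγ : γ ∈ F.autGroup T) :
    FIso E E (T.subtype.comp γ.toMonoidHom) :=
  (IsInvariantIn.pres hE hγ).fiso (IsInvariantIn.pres hE (inv_mem hγ))

theorem layer_weakly (hS : IsPGroup p S) (hE : E.IsWeaklyNormalIn F p) (hL : L.IsLayerOf E p) :
    L.IsWeaklyNormalIn F p := by
  have hT := hE.2.2.2.1.1
  have := finite_of_le hT
  have hV := (IsNormalIn.sc hL.1).1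
  refine char_weakly hS hE hL.1.1 fun γ hγ => ?_
  obtain ⟨h1, h2⟩ := layer_char (pgroup_of_le hS hT) (IsInvariantIn.fiso hE.2.2 hγ) hL
  rw [imageAlong_aut _ hV] at h1
  refine ⟨fun x hx => h1.le (subset_img hx), fun P f g hf e => ?_⟩
  rw [← imageAlong_aut _ (hf.le.trans hV)]
  exact h2 P f g hf fun x hx => by
    rw [ap_aut _ (hV (hf.le hx)), ap_aut _ (hV (hf.mem hx)), e x hx]

theorem opp_eq_of_qs [Finite U] (hU : IsPGroup p U) (hq : C.Quasisimple p) : opp C p = C := by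
  rcases qs_weakly hU hq (opp_normal hU (isNormalIn_self hq.1).1).1 with h | h
  · exact absurd h (qs_core hU hq).2
  · exact sub_antisymm opp_sub h

theorem normal_of_qs (hS : IsPGroup p S) (hq : C.Quasisimple p) (h : C.IsWeaklyNormalIn F p) :
    C.IsNormalIn F p := by
  have := finite_of_le h.2.2.2.1.1
  have h1 := opp_normal hS h
  rwa [opp_eq_of_qs (pgroup_of_le hS h.2.2.2.1.1) hq] at h1

theorem opp_layer (hS : IsPGroup p S) [Finite T] (hE : E.IsLayerOf F p) : opp E p = E :=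
  sub_antisymm opp_sub (layer_le_weakly hS hE (opp_normal hS hE.1.1).1 fun U C hC =>
    IsSubsystemOf.le (hE.2.1 U C hC))

theorem layer_normal (hS : IsPGroup p S) (hE : E.IsWeaklyNormalIn F p) (hL : L.IsLayerOf E p) :
    L.IsNormalIn F p := by
  have hT := hE.2.2.2.1.1
  have := finite_of_le hT
  have := finite_of_le (IsNormalIn.sc hL.1).1
  have h1 := opp_normal hS (layer_weakly hS hE hL)
  rwa [opp_layer (pgroup_of_le hS hT) hL] at h1

theorem CP.weakly_of (hS : IsPGroup p S) (hF : F.IsSaturated p) (h : CP E₁ E₂ F)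
    (hC : C.IsWeaklyNormalIn E₁ p) : C.IsWeaklyNormalIn F p := by
  have hU := hC.2.2.2.1
  refine ⟨hC.1, hF, isInvariantIn_of_strongInv hS hF (IsSubsystemOf.trans hC.2.2.1 h.sub1)
    (stronglyClosed_iff.2 ⟨hU.1.trans h.le1, fun P f hf x hx hx' =>
      StronglyClosed.mem hU (h.res1 hf) ⟨hx, hU.1 hx'⟩ hx'⟩) fun P Q f ψ hf hP hQ hfQ hψ => ?_⟩
  exact IsInvariantIn.strongInv hC.2.2 P Q f ψ hf hP hQ hfQ (h.res1' hψ (hQ.trans hU.1))

theorem le_CE_of_cent (hS : IsPGroup p S) (hE : E.IsWeaklyNormalIn F p)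
    (hh : C.hyperfocalSubgroup p = U) (h1 : U ≤ centralizerIn S T) (h2 : CzS F C T) :
    U ≤ CE F E p :=
  hh.ge.trans ((hyp_mono ((sub_centSys_iff hE.2.2.2.1.1 h1).2 h2)).trans
    (hyp_le_foc.trans (foc_le_CE hS hE.2.1 hE.2.2.2.1 (centSys_spec _ _))))

/-- The centralizer of a normal subsystem, as a normal subsystem. -/
theorem exists_CF' (hS : IsPGroup p S) (hE : E.IsNormalIn F p) :
    ∃ M : FusionSystem (CE F E p), M.IsNormalIn F p ∧ CzS F M T ∧ CS E M := by
  obtain ⟨X, x1, x2⟩ := exists_CF hS hE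
  have hs := CE_stronglyClosed hS hE
  have := finite_of_le hs.1
  have hT := IsNormalIn.sc hE
  have := finite_of_le hT.1
  have h1 : CzS F (opp X p) T := (sub_centSys_iff hT.1 CE_le).1 (IsSubsystemOf.trans opp_sub x2.1)
  have h2 := opp_normal hS x1
  refine ⟨opp X p, h2, h1, fun x hx y hy => ?_, central_of_fix (pgroup_of_le hS hT.1)
    (IsNormalIn.sat hE) inf_le_left fun P f hf x hx hx' => ?_, central_of_fix (pgroup_of_le hS hs.1)
    (IsNormalIn.sat h2) inf_le_right fun P f hf x hx hx' => ?_⟩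
  · have := (mem_centralizerIn.1 (CE_le hy)).2 x hx
    rw [mul_inv_eq_iff_eq_mul] at this
    exact this.symm
  · obtain ⟨g, -, e, e'⟩ := czS_CE hS hE P f hf
    rw [← e x hx, e' x hx'.2]
  · obtain ⟨g, -, e, e'⟩ := h1 P f hf
    rw [← e x hx, e' x hx'.1]

omit [Finite S] hp in
theorem comp_weakly_layer (hC : C.IsSubnormalIn F p) (hp : Fact p.Prime) (hq : C.Quasisimple p)
    (hf : Finite S) (hS : IsPGroup p S) : ∀ {T : Subgroup Ω} {E : FusionSystem T},
      E.IsLayerOf F p → C.IsWeaklyNormalIn E p := by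
  induction hC with
  | refl F p =>
    intro T E hE
    have h1 := hE.2.1 _ F ⟨.refl _ _, hq⟩
    exact IsWeaklyNormalIn.of_sub hS (isNormalIn_self hq.1).1 (IsNormalIn.sat hE.1) h1
      (IsNormalIn.sub hE.1)
  | @step V S C X F p h1 h2 ih =>
    intro T E hE
    have hV := (IsNormalIn.sc h2).1
    have := finite_of_le hV
    obtain ⟨W, L, hL⟩ := exists_layer (pgroup_of_le hS hV) (IsNormalIn.sat h2)
    have k1 := ih hp hq ‹_› (pgroup_of_le hS hV) hL
    have k2 := layer_normal hS h2.1 hL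
    obtain ⟨M, m1, m2, m3⟩ := exists_CF' hS k2
    have := finite_of_le (IsNormalIn.sc k2).1
    have := finite_of_le (IsNormalIn.sc m1).1
    obtain ⟨D, hD⟩ := exists_cp m3
    have d1 := hD.normal hS k2 m1
    have := finite_of_le (IsNormalIn.sc d1).1
    have hD' := pgroup_of_le hS (IsNormalIn.sc d1).1
    refine IsWeaklyNormalIn.of_sub hD' (hD.weakly_of hD' (IsNormalIn.sat d1) k1)
      (IsNormalIn.sat hE.1) (hE.2.1 _ C ⟨.step h1 h2, hq⟩)
      (layer_le_weakly hS hE d1.1 fun U' C' hC' => ?_)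
    rcases comp_dich hC'.1 hp hC'.2 hf hS k2.1 with k | k
    · exact (IsSubsystemOf.le (IsSubnormalIn.sub k)).trans le_sup_left
    · exact (le_CE_of_cent hS k2.1 hC'.2.2.1 k.1 k.2).trans le_sup_right

theorem comp_normal_layer (hS : IsPGroup p S) (hC : C.IsComponentIn F p) (hE : E.IsLayerOf F p) :
    C.IsNormalIn E p :=
  have := finite_of_le (IsNormalIn.sc hE.1).1
  normal_of_qs (pgroup_of_le hS (IsNormalIn.sc hE.1).1) hC.2
    (comp_weakly_layer hC.1 hp hC.2 ‹_› hS hE)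

theorem cs_core_layer (hS : IsPGroup p S) (hF : F.IsSaturated p) (hE : E.IsLayerOf F p) :
    CS (innerFusionSystem F.core) E := by
  have h1 := layer_sub_cent hS hF hE
  have h2 := IsSubsystemOf.le h1
  have hT := (IsNormalIn.sc hE.1).1
  have := finite_of_le hT
  have := finite_of_le (core_le F)
  have hc : ∀ x ∈ F.core, ∀ y ∈ T, x * y = y * x := fun x hx y hy => by
    have := (mem_centralizerIn.1 (h2 hy)).2 x hx
    rw [mul_inv_eq_iff_eq_mul] at this
    exact this.symm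
  refine ⟨hc, central_of_fix (pgroup_of_le hS (core_le F))
    (IsNormalIn.sat (inner_isNormalIn hS hF (core_isNormal F))) inf_le_left
    fun P f hf x hx hx' => ?_, central_of_fix (pgroup_of_le hS hT) (IsNormalIn.sat hE.1)
    inf_le_right fun P f hf x hx hx' => ?_⟩
  · obtain ⟨-, g, hg, e⟩ := mor_inner_iff.1 hf
    rw [e x hx, hc g hg x hx'.2, mul_inv_cancel_right]
  · obtain ⟨g, -, e, e'⟩ := (sub_centSys_iff (core_le F) h2).1 h1 P f hf
    rw [← e x hx, e' x hx'.1]

theorem fitting_iff (hF : Finite S) {D : FusionSystem U} : D.IsGeneralizedFittingOf F p ↔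
    ∃ (T : Subgroup Ω) (E : FusionSystem T), E.IsLayerOf F p ∧ CP (innerFusionSystem F.core) E D := by
  have := finite_of_le (core_le F)
  constructor
  · rintro ⟨T, E, h1, h2⟩
    have := finite_of_le (IsNormalIn.sc h1.1).1
    exact ⟨T, E, h1, cp_of h2⟩
  · rintro ⟨T, E, h1, h2⟩
    exact ⟨T, E, h1, h2.isCentralProductOf⟩

theorem exists_fitting (hS : IsPGroup p S) (hF : F.IsSaturated p) :
    ∃ (U : Subgroup Ω) (D : FusionSystem U), D.IsGeneralizedFittingOf F p := by
  obtain ⟨T, E, hE⟩ := exists_layer hS hF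
  have := finite_of_le (core_le F)
  have := finite_of_le (IsNormalIn.sc hE.1).1
  obtain ⟨D, hD⟩ := exists_cp (cs_core_layer hS hF hE)
  exact ⟨_, D, T, E, hE, hD.isCentralProductOf⟩

theorem fitting_normal (hS : IsPGroup p S) {D : FusionSystem U}
    (hD : D.IsGeneralizedFittingOf F p) : D.IsNormalIn F p := by
  obtain ⟨T, E, h1, h2⟩ := (fitting_iff ‹_›).1 hD
  exact h2.normal hS (inner_isNormalIn hS h1.1.1.2.1 (core_isNormal F)) h1.1

theorem comp_normal_fitting (hS : IsPGroup p S) (hC : C.IsComponentIn F p) {D : FusionSystem V}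
    (hD : D.IsGeneralizedFittingOf F p) : C.IsNormalIn D p := by
  have h0 := fitting_normal hS hD
  obtain ⟨T, E, h1, h2⟩ := (fitting_iff ‹_›).1 hD
  have := finite_of_le (IsNormalIn.sc h0).1
  have hV := pgroup_of_le hS (IsNormalIn.sc h0).1
  exact normal_of_qs hV hC.2 (h2.symm.weakly_of hV (IsNormalIn.sat h0)
    (comp_normal_layer hS hC h1).1)

theorem CE_le_core (hS : IsPGroup p S) (hE : E.IsNormalIn F p) (hQ : F.core ≤ T)
    (h : ∀ (U : Subgroup Ω) (C : FusionSystem U), C.IsComponentIn F p → U ≤ T) :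
    CE F E p ≤ F.core := by
  obtain ⟨M, m1, m2, -⟩ := exists_CF' hS hE
  have hs := (IsNormalIn.sc m1).1
  have := finite_of_le hs
  have hc : M.IsConstrained p := by
    by_contra hc
    obtain ⟨U, C, hC⟩ := exists_comp (pgroup_of_le hS hs) (IsNormalIn.sat m1) hc
    have hC' : C.IsComponentIn F p := ⟨.step hC.1 m1, hC.2⟩
    exact comp_not_cent hS hC' (h U C hC') fun P f hf => m2 P f (hf.sub (IsSubnormalIn.sub hC.1))
  have h1 := IsNormal.le_core (IsInvariantIn.core_normal hS hE.1.2.1 (IsNormalIn.inv m1))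
  refine fun x hx => h1 ((isConstrained_iff.1 hc).2 (mem_centralizerIn.2 ⟨hx, fun y hy => ?_⟩))
  exact (mem_centralizerIn.1 (CE_le hx)).2 y (hQ (h1 hy))

theorem CE_fitting (hS : IsPGroup p S) {D : FusionSystem U} (hD : D.IsGeneralizedFittingOf F p) :
    CE F D p ≤ U := by
  have h0 := fitting_normal hS hD
  obtain ⟨T, E, h1, h2⟩ := (fitting_iff ‹_›).1 hD
  exact (CE_le_core hS h0 h2.le1 fun U C hC =>
    (IsSubsystemOf.le (h1.2.1 U C hC)).trans h2.le2).trans h2.le1

theorem cp_bot (E : FusionSystem T) : CP E (innerFusionSystem ⊥) E := by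
  refine ⟨⟨fun x _ y hy => by rw [Subgroup.mem_bot.1 hy, mul_one, one_mul],
    by rw [inf_bot_eq]; exact isCentral_bot _, by rw [inf_bot_eq]; exact isCentral_bot _⟩,
    sup_bot_eq _, fun {P f} => ⟨fun hf => ⟨P, ⊥, f, _, hf, mor_id _ le_rfl, fun z hz =>
      ⟨z, hz, 1, one_mem _, (mul_one z).symm, (mul_one _).symm⟩⟩, ?_⟩⟩
  rintro ⟨P₁, P₂, f₁, f₂, h1, h2, h3⟩
  have key : ∀ z ∈ P, z ∈ P₁ ∧ f₁ z = f z := fun z hz => by
    obtain ⟨x, hx, y, hy, rfl, e⟩ := h3 z hz
    obtain rfl := Subgroup.mem_bot.1 (h2.le hy)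
    rw [e, h2.map_one, mul_one, mul_one]
    exact ⟨hx, rfl⟩
  exact (h1.mono fun z hz => (key z hz).1).congr fun z hz => (key z hz).2

theorem inner_bot_sub (E : FusionSystem T) : (innerFusionSystem (⊥ : Subgroup Ω)).IsSubsystemOf E :=
  isSubsystemOf_iff.2 fun P f hf => (mor_id E (hf.le.trans bot_le)).congr fun x hx => by
    obtain rfl := Subgroup.mem_bot.1 (hf.le hx)
    exact hf.map_one.symm

theorem layer_bot (hS : IsPGroup p S) (h : F.IsConstrained p) :
    (innerFusionSystem (⊥ : Subgroup Ω)).IsLayerOf F p :=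
  ⟨inner_isNormalIn hS h.1 (isNormal_bot F), fun _ _ hC => (no_comp_of_constrained hS h hC).elim,
    fun _ D _ _ => inner_bot_sub D⟩

theorem constrained_iff_fitting (hS : IsPGroup p S) (hF : F.IsSaturated p) :
    F.IsConstrained p ↔ (innerFusionSystem F.core).IsGeneralizedFittingOf F p := by
  refine ⟨fun h => ⟨_, _, layer_bot hS h, (cp_bot _).isCentralProductOf⟩, fun h => ?_⟩
  obtain ⟨T, E, h1, h2⟩ := (fitting_iff ‹_›).1 h
  by_contra hc
  obtain ⟨U, C, hC⟩ := exists_comp hS hF hc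
  exact comp_not_cent hS hC ((IsSubsystemOf.le (h1.2.1 U C hC)).trans h2.le2)
    (comp_cent_core hC.1 hp hC.2 ‹_› hS).2

end Cfsg.Agent.Fusion
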