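import Cfsg.Agent.Lib.Fusion.Comp4

/-! Conjugates of components; components of central products. -/

set_option autoImplicit false
set_option linter.unusedSectionVars false

namespace Cfsg.Agent.Fusion

open Cfsg Cfsg.FusionSystem

section
variable {Ω Ω' Ω'' : Type*} [Group Ω] [Group Ω'] [Group Ω''] {S : Subgroup Ω} {S' : Subgroup Ω'}
  {S'' : Subgroup Ω''} {F : FusionSystem S} {F' : FusionSystem S'} {F'' : FusionSystem S''}
  {α : S →* Ω'} {β : S' →* Ω''} {δ : S →* Ω''} {P : Subgroup Ω}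

theorem imageAlong_comp (h : ∀ x ∈ S, ap α x ∈ S') (e : ∀ x ∈ S, ap δ x = ap β (ap α x))
    (hP : P ≤ S) : imageAlong δ P = imageAlong β (imageAlong α P) := by
  have hP' : imageAlong α P ≤ S' := (imageAlong_le_iff hP).2 fun x hx => h x (hP hx)
  ext y
  rw [mem_imageAlong' hP, mem_imageAlong' hP']
  constructor
  · rintro ⟨x, hx, rfl⟩; exact ⟨_, ap_mem_imageAlong hP hx, (e x (hP hx)).symm⟩
  · rintro ⟨z, hz, rfl⟩
    obtain ⟨x, hx, rfl⟩ := (mem_imageAlong' hP).1 hz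
    exact ⟨x, hx, e x (hP hx)⟩

theorem Morph.comp (h : Morph F F' α) (h' : Morph F' F'' β)
    (e : ∀ x ∈ S, ap δ x = ap β (ap α x)) : Morph F F'' δ where
  mem x hx := by rw [e x hx]; exact h'.mem _ (h.mem x hx)
  mor := by
    intro P f hf
    obtain ⟨f', h1, e1⟩ := h.mor hf
    obtain ⟨f'', h2, e2⟩ := h'.mor h1
    rw [imageAlong_comp h.mem e hf.le]
    exact ⟨f'', h2, fun x hx => by
      rw [e x (hf.le hx), e2 _ (ap_mem_imageAlong hf.le hx), e1 x hx, e _ (hf.mem hx)]⟩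

theorem Surj.comp (h : Surj F F' α) (h' : Surj F' F'' β)
    (e : ∀ x ∈ S, ap δ x = ap β (ap α x)) : Surj F F'' δ where
  toMorph := h.toMorph.comp h'.toMorph e
  range := by
    rw [← imageAlong_top, imageAlong_comp h.mem e le_rfl, imageAlong_top, h.range, imageAlong_top,
      h'.range]
  lift := by
    intro P'' f'' hf
    obtain ⟨f', h1, e1⟩ := h'.lift hf
    obtain ⟨f, h2, e2⟩ := h.lift h1
    have k : ∀ x ∈ preimageAlong δ P'', x ∈ preimageAlong α (preimageAlong β P'') := fun x hx => by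
      obtain ⟨m, m'⟩ := mem_preimageAlong.1 hx
      exact mem_preimageAlong.2 ⟨m, mem_preimageAlong.2 ⟨h.mem x m, e x m ▸ m'⟩⟩
    refine ⟨f, h2.mono k, fun x hx => ?_⟩
    rw [e x (preimageAlong_le hx), e1 _ (mem_preimageAlong.1 (k x hx)).2, e2 x (k x hx),
      e _ (h2.mem (k x hx))]

theorem FIso.comp (h : FIso F F' α) (h' : FIso F' F'' β)
    (e : ∀ x ∈ S, ap δ x = ap β (ap α x)) : FIso F F'' δ where
  toSurj := h.toSurj.comp h'.toSurj e
  inj a b hab := by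
    rw [← ap_of_mem δ a.2, ← ap_of_mem δ b.2, e _ a.2, e _ b.2] at hab
    exact Subtype.ext (ap_inj h.inj a.2 b.2 (ap_inj h'.inj (h.mem _ a.2) (h.mem _ b.2) hab))
end

variable {Ω : Type*} [Group Ω] {S : Subgroup Ω} {F : FusionSystem S} {p : ℕ}
  {P Q T T' T₁ T₂ U U' V : Subgroup Ω} {E : FusionSystem T} {E' : FusionSystem T'}
  {C : FusionSystem U} {C' : FusionSystem U'} {L : FusionSystem V} {f g : Ω → Ω}
  {E₁ : FusionSystem T₁} {E₂ : FusionSystem T₂} [hp : Fact p.Prime] [Finite S]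

theorem comp_conj (hS : IsPGroup p S) (hF : F.IsSaturated p) (hC : C.IsComponentIn F p)
    {γ : U →* Ω} (hγ : Mor F U (ap γ)) (h : FIso C C' γ) : C'.IsComponentIn F p := by
  obtain ⟨V, L, hL⟩ := exists_layer hS hF
  have hV := (IsNormalIn.sc hL.1).1
  have := finite_of_le hV
  have h1 := comp_normal_layer hS hC hL
  have hU := IsNormalIn.sc h1
  have := finite_of_le hU.1
  obtain ⟨α, hα, g, hg, e⟩ := IsInvariantIn.frattini (IsNormalIn.inv hL.1) hU.1 hγ
  obtain ⟨a, ha, ea⟩ := hg.exists_aut (StronglyClosed.img_eq hU hg le_rfl)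
  have h2 : Push L L (V.subtype.comp α.toMonoidHom) C C' :=
    ⟨IsInvariantIn.fiso (IsNormalIn.inv hL.1) hα, hU.1,
      (IsInvariantIn.fiso (IsNormalIn.inv h1) (inv_mem ha)).comp h fun x hx => by
        rw [ap_res _ hx, ap_aut _ (hU.1 hx), ap_aut _ hx, e _ (afun_mem _ hx),
          ← ea _ (afun_mem _ hx), afun_afun_inv _ hx]⟩
  have h3 := h2.component (pgroup_of_le hS hV) ⟨IsNormalIn.subnormal h1, hC.2⟩
  exact ⟨.step h3.1 hL.1, h3.2⟩

theorem CP.weakly1 (hS : IsPGroup p S) (hF : F.IsSaturated p) (h : CP E₁ E₂ F)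
    (h₁ : E₁.IsSaturated p) : E₁.IsWeaklyNormalIn F p :=
  h.weakly_of hS hF (isNormalIn_self h₁).1

theorem CP.foc_cent (h : CP E₁ E₂ F) (h1 : U ≤ centralizerIn S T₁) (h2 : CzS F C T₁) :
    C.focalSubgroup ≤ T₂ := by
  refine foc_le_iff.2 fun P f hf z hz => ?_
  obtain ⟨g, hg, e, e'⟩ := h2 P f hf
  obtain ⟨P₁, P₂, f₁, f₂, k1, k2, -, -, k3⟩ := h.strong hg
  obtain ⟨x, hx, y, hy, rfl⟩ := h.mem (h1 (hf.le hz)).1
  obtain ⟨-, m, em⟩ := k3 x hx y hy (Subgroup.mem_sup_left hz)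
  obtain ⟨-, -, em'⟩ := k3 x hx 1 (one_mem _) (by rw [mul_one]; exact Subgroup.mem_sup_right hx)
  rw [mul_one, e' x hx, k2.map_one, mul_one] at em'
  rw [← e _ hz, em, ← em']
  have := T₂.mul_mem (T₂.inv_mem hy) (k2.mem m)
  convert this using 1
  group

theorem CP.comp_or (hS : IsPGroup p S) (hF : F.IsSaturated p) (h : CP E₁ E₂ F)
    (h₁ : E₁.IsSaturated p) (h₂ : E₂.IsSaturated p) (hC : C.IsComponentIn F p) :
    C.IsComponentIn E₁ p ∨ C.IsComponentIn E₂ p := by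
  rcases comp_dich hC.1 hp hC.2 ‹_› hS (h.weakly1 hS hF h₁) with k | k
  · exact .inl ⟨k, hC.2⟩
  · exact .inr (comp_of_le hS hC (h.symm.weakly1 hS hF h₂)
      (hC.2.2.1.ge.trans (hyp_le_foc.trans (h.foc_cent k.1 k.2))))

end Cfsg.Agent.Fusion
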