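import Cfsg.Agent.Lib.Fusion.NormModel

/-! Central quotients of constrained systems. -/

set_option autoImplicit false
set_option linter.unusedSectionVars false
set_option linter.unusedVariables false
open Cfsg Cfsg.FusionSystem

namespace Cfsg.Agent.Fusion

variable {Ω Ω' : Type*} [Group Ω] [Group Ω'] {S P : Subgroup Ω} {S' P' : Subgroup Ω'}
  {F : FusionSystem S} {F' : FusionSystem S'} {θ : S →* Ω'} {p : ℕ} [hp : Fact p.Prime] [Finite S]

theorem Surj.exists_lift_coprime (h : Surj F F' θ) (hP' : P' ≤ S') {γ : MulAut P'}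
    (hγ : γ ∈ F'.autGroup P') (hc : (orderOf γ).Coprime p) :
    ∃ β ∈ F.autGroup (preimageAlong θ P'), (orderOf β).Coprime p ∧
      ∀ x ∈ preimageAlong θ P', afun γ (ap θ x) = ap θ (afun β x) := by
  have hP : preimageAlong θ P' ≤ S := preimageAlong_le
  obtain ⟨ρ, -, e⟩ := h.toMorph.exists_autHom hP (h.image_preimage hP')
  obtain ⟨β, hβ, e'⟩ := h.exists_lift_aut hP (preimageAlong_mono bot_le) (h.image_preimage hP') hγ
  haveI := finite_autGroup F hP
  have h2 : ρ ⟨β, hβ⟩ = γ := aut_ext fun y hy => by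
    obtain ⟨x, hx, rfl⟩ := h.pre hP' hy
    rw [e _ x hx, e' x hx]
  obtain ⟨a, ⟨n, hn⟩, b, -, eg, ⟨k, hk⟩, hb⟩ := Transfer.exists_pPart p (⟨β, hβ⟩ : F.autGroup _)
  have h3 : ρ a = 1 := eq_one_of_coprime_pelt (hc.coprime_dvd_left (orderOf_dvd_of_mem_zpowers
    ⟨n, by rw [← hn, ← h2]; exact (map_zpow _ _ _).symm⟩)) (k := k) (by rw [← map_pow, hk, map_one])
  refine ⟨b, b.2, by rwa [Subgroup.orderOf_coe], fun x hx => ?_⟩
  rw [← h2, eg, map_mul, h3, one_mul, e _ x hx]

theorem Surj.constrained_of_central (hS : IsPGroup p S) (h : Surj F F' θ)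
    (hk : F.IsCentral (preimageAlong θ ⊥)) (hF : F.IsConstrained p) : F'.IsConstrained p := by
  have := h.finite
  have hQ := core_isNormal F
  refine constrained_of_coprime (h.pgroup hS) (h.saturated hS hF.1) (h.image_normal hQ)
    fun W hW hR γ hγ hc e y hy _ => ?_
  obtain ⟨β, b1, b2, b3⟩ := h.exists_lift_coprime hW hγ hc
  have hW' : preimageAlong θ W ≤ S := preimageAlong_le
  have hβ := (mem_autGroup hW').1 b1
  have hQW : F.core ≤ preimageAlong θ W := (le_preimage_image hQ.1).trans (preimageAlong_mono hR)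
  have hp' := pgroup_of_le hS hW'
  have := finite_of_le hW'
  have h1 : ∀ x ∈ F.core, afun β x = x := fun x hx => afun_fix_step hp' b2 (hQW hx)
    (IsCentral.fix hk hβ (mul_mem (inv_mem (hQW hx)) (afun_mem _ (hQW hx)))
      ((mem_ker_iff (hQ.1 hx) (hβ.mem (hQW hx))).2 (by
        rw [← b3 x (hQW hx), e _ (ap_mem_imageAlong hQ.1 hx)])))
  obtain ⟨x, hx, rfl⟩ := h.pre hW hy
  rw [b3 x hx, afun_fix_step hp' b2 hx (h1 _ ((isConstrained_iff.1 hF).2 (mem_centralizerIn.2
    ⟨hW' (mul_mem (inv_mem hx) (afun_mem _ hx)), comm_cent hQW h1 hx fun z hz =>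
      StronglyClosed.conj_mem (IsNormal.stronglyClosed hQ) (hW' hx) hz⟩)))]

theorem sub_constrained {G : Type*} [Group G] [Finite G] {S L : Subgroup G} (hS : SylowIn p S ⊤)
    (hF : (groupFusionSystem S).IsConstrained p) (hL : L.IsSubnormal) :
    SylowIn p (S ⊓ L) L ∧ (fusionSystemOfSubgroup L (S ⊓ L) inf_le_right).IsConstrained p := by
  induction hL with
  | top =>
    refine ⟨by rwa [inf_top_eq], constrained_congr (inf_top_eq S).symm (fun P f => ?_) hF⟩
    simp [mor_group_iff, mor_subgroup_iff]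
  | step H K hle _ hn ih =>
    have hc : ∀ c ∈ K, ∀ d ∈ H, c * d * c⁻¹ ∈ H := fun c hc d hd =>
      hn.conj_mem ⟨d, hle hd⟩ hd ⟨c, hc⟩
    have h1 := ih.1.inf_normal hle hc
    rw [inf_assoc, inf_eq_right.2 hle] at h1
    refine ⟨h1, constrained_of_sub ih.1.pgroup ih.2 (sub_saturated h1) (isSubsystemOf_iff.2 fun P f hf => ?_)
      (stronglyClosed_sub_iff.2 ⟨inf_le_inf_left _ hle, fun x hx g hg m => ⟨m.1, hc g hg x hx.2⟩⟩)⟩
    obtain ⟨a, b, g, hg, e⟩ := mor_subgroup_iff.1 hf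
    exact mor_subgroup_iff.2 ⟨a.trans (inf_le_inf_left _ hle), fun x hx => inf_le_inf_left _ hle (b x hx),
      g, hle hg, e⟩

end Cfsg.Agent.Fusion
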