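import Cfsg.Agent.Lib.Fusion.Free

/-! Induction on fusion systems, control by characteristic functors, models of subsystems. -/

set_option autoImplicit false

namespace Cfsg.Agent.Fusion

open Cfsg Cfsg.FusionSystem

universe u

section Ind

variable {Ω : Type*} [Group Ω] {S : Subgroup Ω}

/-- The graphs of the maps of a system. -/
def gr (F : FusionSystem S) : Set (Set (S × S)) :=
  {G | ∃ P f, Mor F P f ∧ G = {a | (a.1 : Ω) ∈ P ∧ f a.1 = a.2}}

theorem gr_mono {E F : FusionSystem S} (h : E.IsSubsystemOf F) : gr E ⊆ gr F := by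
  rintro G ⟨P, f, hf, rfl⟩
  exact ⟨P, f, isSubsystemOf_iff.1 h _ _ hf, rfl⟩

theorem sub_of_gr {E F : FusionSystem S} (h : gr E ⊆ gr F) : E.IsSubsystemOf F := by
  refine isSubsystemOf_iff.2 fun P f hf => ?_
  obtain ⟨Q, g, hg, e⟩ := h ⟨P, f, hf, rfl⟩
  have key : ∀ x ∈ P, x ∈ Q ∧ g x = f x := fun x hx => by
    have : ((⟨x, hf.le hx⟩, ⟨f x, hf.mem hx⟩) : S × S) ∈
        {a : S × S | (a.1 : Ω) ∈ P ∧ f a.1 = a.2} := ⟨hx, rfl⟩
    rw [e] at this
    exact this
  exact (hg.mono fun x hx => (key x hx).1).congr fun x hx => (key x hx).2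

end Ind

theorem sys_induction {C : ∀ {Ω : Type u} [Group Ω] {S : Subgroup Ω}, FusionSystem S → Prop}
    (step : ∀ {Ω : Type u} [Group Ω] {S : Subgroup Ω} [Finite S] (F : FusionSystem S),
      (∀ {Ω' : Type u} [Group Ω'] {S' : Subgroup Ω'} [Finite S'] (F' : FusionSystem S'),
        Nat.card S' < Nat.card S → C F') →
      (∀ {T : Subgroup Ω} (E : FusionSystem T), E.IsSubsystemOf F → ¬ F.IsSubsystemOf E → C E) →
      C F)
    {Ω : Type u} [Group Ω] {S : Subgroup Ω} [Finite S] (F : FusionSystem S) : C F := by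
  have main : ∀ n, ∀ {Ω : Type u} [Group Ω] {S : Subgroup Ω} [Finite S] (F : FusionSystem S),
      Nat.card S = n → C F := by
    intro n
    induction n using Nat.strong_induction_on with
    | _ n ih =>
      intro Ω _ S _ F hn
      have inner : ∀ m, ∀ F : FusionSystem S, (gr F).ncard = m → C F := by
        intro m
        induction m using Nat.strong_induction_on with
        | _ m ih2 =>
          intro F hm
          refine step F (fun F' h => ih _ (hn ▸ h) F' rfl) fun {T} E h1 h2 => ?_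
          rcases (IsSubsystemOf.le h1).lt_or_eq with hlt | rfl
          · have : Finite T := finite_of_le hlt.le
            exact ih _ (hn ▸ card_lt_of_lt hlt) E rfl
          · refine ih2 _ (hm ▸ Set.ncard_lt_ncard ⟨gr_mono h1, fun h => h2 (sub_of_gr h)⟩
              (Set.toFinite _)) E rfl
      exact inner _ F rfl
  exact main _ F rfl

variable {Ω : Type u} [Group Ω] {S : Subgroup Ω} {F : FusionSystem S} {P Q R T A U : Subgroup Ω}
  {p : ℕ} {f g φ : Ω → Ω}

/-- `E` contains the normalizer system of `Q` in `F`. -/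
def HasN (F E : FusionSystem S) (Q : Subgroup Ω) : Prop :=
  ∀ P g, Mor F P g → Q ≤ P → P ≤ normalizerIn S Q → img g Q = Q → Mor E P g

theorem hasN_iff {E : FusionSystem S} {N : FusionSystem (normalizerIn S Q)}
    (hN : F.IsNormalizerSystem Q N) (hQ : Q ≤ S) : HasN F E Q ↔ N.IsSubsystemOf E := by
  rw [isSubsystemOf_iff]
  refine ⟨fun h P f hf => ?_, fun h P g hg h1 h2 h3 => h _ _ (normSys_mor_of hN h2 hg le_rfl h1 h3)⟩
  obtain ⟨g, hg, e1, e2⟩ := normSys_ext hN hf
  exact ((h _ g hg le_sup_right (sup_le hf.le (le_normalizerIn hQ)) e2).mono le_sup_left).congr e1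

theorem HasN.of_normal {E : FusionSystem S} (h : HasN F E Q) (hQ : F.IsNormal Q)
    (hf : Mor F P f) : Mor E P f := by
  obtain ⟨g, hg, e1, e2⟩ := IsNormal.ext hQ hf
  exact ((h _ g hg le_sup_right (by rw [IsNormal.normalizerIn_eq hQ]; exact hg.le) e2).mono
    le_sup_left).congr e1

variable [Fact p.Prime] [Finite S]

theorem alperin_size (hS : IsPGroup p S) (hF : F.IsSaturated p) {E : FusionSystem S} {n : ℕ}
    (hE : ∀ R : Subgroup Ω, (R = S ∨ F.IsEssential p R) → n ≤ Nat.card R →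
      ∀ α ∈ F.autGroup R, Mor E R (afun α)) (hf : Mor F P f) (hn : n ≤ Nat.card P) :
    Mor E P f := by
  have D : SysData S fun P f => Mor F P f ∧ (n ≤ Nat.card P → Mor E P f) := by
    refine SysData.ofSub F (fun h => h.1) (fun h => h.1.le) (fun h _ hx => h.1.mem hx)
      (fun h e => ⟨h.1.congr e, fun hn => (h.2 hn).congr e⟩)
      (fun hP hs => ⟨mor_conj F hP hs, fun _ => mor_conj E hP hs⟩)
      (fun h1 h2 e => ⟨h1.1.comp h2.1 e, fun hn => (h1.2 hn).comp (h2.2 ?_) e⟩)
      (fun h1 h2 e => ⟨h2, fun hn => ?_⟩)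
    · have := finite_of_le h2.1.le
      exact hn.trans (h1.1.card_le e)
    · rw [h1.1.card_img] at hn
      obtain ⟨k, hk, e1, -⟩ := (h1.2 hn).inv
      refine hk.congr fun y hy => ?_
      obtain ⟨x, hx, rfl⟩ := h1.1.mem_img.1 hy
      rw [e1 x hx, e x hx]
  exact (alperin_ind hS hF D (fun R hR α hα => ⟨(mem_autGroup (alperin_family hS hF hR).1.1).1 hα,
    fun hn => hE R hR hn α hα⟩) hf).2 hn

/-- Control by a characteristic functor (Alperin–Gorenstein, Kessar–Linckelmann). -/
theorem control_fam (hS : IsPGroup p S) (hF : F.IsSaturated p) {E : FusionSystem S}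
    (𝓦 : Set (Subgroup Ω → Subgroup Ω))
    (hw1 : ∀ w ∈ 𝓦, ∀ Q, Q ≤ S → Q ≠ ⊥ → w (normalizerIn S Q) ≠ ⊥)
    (hw2 : ∀ w ∈ 𝓦, ∀ T, T ≤ S → w T ≤ T)
    (hw3 : ∀ w ∈ 𝓦, ∀ T f, Mor F T f → img f (w T) = w (img f T))
    (h0 : ∀ w ∈ 𝓦, HasN F E (w S))
    (hloc : ∀ Q, Q ≠ ⊥ → F.IsFullyNormalized Q →
      (∀ w ∈ 𝓦, ∀ P g, Mor F P g → w (normalizerIn S Q) ≤ P → P ≤ normalizerIn S Q →
        (∀ x ∈ P, g x ∈ normalizerIn S Q) →
        img g (w (normalizerIn S Q)) = w (normalizerIn S Q) → Mor E P g) → HasN F E Q)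
    (hf : Mor F P f) : Mor E P f := by
  have hnorm : ∀ w ∈ 𝓦, ∀ T, T ≤ S → normalizerIn S T ≤ normalizerIn S (w T) :=
      fun w hw T hT s hs => by
    replace hw2 := hw2 w hw
    replace hw3 := hw3 w hw
    have : Finite (w T) := finite_of_le ((hw2 T hT).trans hT)
    refine ⟨hs.1, mem_normalizer_of_finite fun x hx => ?_⟩
    have h1 := hw3 T _ (mor_conj F hT hs.1)
    have : Finite T := finite_of_le hT
    rw [(mor_conj F hT hs.1).img_eq_self fun x hx => conj_mem_of_mem_normalizerIn hs hx] at h1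
    exact h1 ▸ subset_img (f := fun x => s * x * s⁻¹) hx
  have main : ∀ T, T ≤ S → ∀ Q, Q ≠ ⊥ → F.IsFullyNormalized Q → normalizerIn S Q = T →
      HasN F E Q := by
    refine downward_induction fun T hT ih Q hQ hn e => hloc Q hQ hn ?_
    rw [e]
    intro w hw P g hg h1 h2 h3 h4
    replace hw1 := hw1 w hw
    replace hw2 := hw2 w hw
    replace hnorm := hnorm w hw
    replace h0 := h0 w hw
    rcases hT.lt_or_eq with hlt | rfl
    · have hU : w T ≤ S := (hw2 T hT).trans hT
      have hTN : T < normalizerIn S (w T) := (lt_normalizerIn hS hlt).trans_le (hnorm T hT)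
      have : Finite (normalizerIn S (w T)) := finite_of_le normalizerIn_le
      have hc := card_lt_of_lt hTN
      obtain ⟨φ, hφ, hfn⟩ := IsSaturated.exists_normalizer_mor' hS hF hU
      have hφE : Mor E _ φ := alperin_size hS hF (fun R hR hn α hα => by
        have hR' := (alperin_family hS hF hR).1
        have : Finite R := finite_of_le hR'.1
        have : Finite (normalizerIn S R) := finite_of_le normalizerIn_le
        have hcR := hc.trans_le hn
        refine ih _ normalizerIn_le (hcR.trans_le (Subgroup.card_le_of_le (le_normalizerIn hR'.1)))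
          R ?_ hR' rfl R _ ((mem_autGroup hR'.1).1 hα) le_rfl (le_normalizerIn hR'.1) (img_afun α)
        rintro rfl
        rw [Subgroup.card_bot] at hcR
        have : Finite T := finite_of_le hT
        have := Nat.card_pos (α := T)
        omega) hφ le_rfl
      have hUN : w T ≤ normalizerIn S (w T) := le_normalizerIn hU
      have hφU := hφ.mono hUN
      have hm : ∀ x ∈ normalizerIn S (w T), φ x ∈ normalizerIn S (img φ (w T)) :=
        fun x hx => hφ.normalizerIn_mem hU hx
      have : Finite (normalizerIn S (img φ (w T))) := finite_of_le normalizerIn_le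
      have hN := ih _ normalizerIn_le (hc.trans_le (hφ.card_le hm)) (img φ (w T)) (fun h => by
        apply hw1 Q hn.1 hQ
        rw [e, eq_bot_iff]
        intro x hx
        have : φ x ∈ (⊥ : Subgroup Ω) := h ▸ subset_img hx
        exact (hφU.eq_one_iff hx).1 this) hfn rfl
      have hPN := h2.trans hTN.le
      obtain ⟨h, hh, eh⟩ := hφ.exists_conj hPN hg fun x hx => hTN.le (h3 x hx)
      have hhE := hN _ h hh (img_mono h1) (img_le_iff.2 fun x hx => hm x (hPN hx)) (by
        rw [← hφU.img_comp', img_congr fun x hx => eh x (h1 hx), (hg.mono h1).img_comp', h4])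
      obtain ⟨f', hf', e'⟩ := hφE.exists_conj_back hPN hhE fun x hx => by
        rw [eh x hx]; exact subset_img (hTN.le (h3 x hx))
      exact hf'.congr fun x hx => hφ.inj (e' x hx).1 (hTN.le (h3 x hx)) (by rw [(e' x hx).2, eh x hx])
    · refine h0 P g hg h1 (h2.trans ?_) h4
      exact (le_normalizerIn le_rfl).trans (hnorm _ le_rfl)
  refine le_iff_mor.1 (alperin hS hF fun R hR α hα => ?_) _ _ hf
  have hR' := alperin_family hS hF hR
  refine (mem_autGroup hR'.1.1).2 ?_
  by_cases hb : R = ⊥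
  · subst hb
    exact (mor_id E bot_le).congr fun x hx => by
      rw [Subgroup.mem_bot.1 hx, afun_map_one]
  · exact main _ normalizerIn_le R hb hR'.1 rfl R _ ((mem_autGroup hR'.1.1).1 hα) le_rfl
      (le_normalizerIn hR'.1.1) (img_afun α)

theorem control (hS : IsPGroup p S) (hF : F.IsSaturated p) {E : FusionSystem S}
    (w : Subgroup Ω → Subgroup Ω) (hw1 : ∀ Q, Q ≤ S → Q ≠ ⊥ → w (normalizerIn S Q) ≠ ⊥)
    (hw2 : ∀ T, T ≤ S → w T ≤ T) (hw3 : ∀ T f, Mor F T f → img f (w T) = w (img f T))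
    (h0 : HasN F E (w S))
    (hloc : ∀ Q, Q ≠ ⊥ → F.IsFullyNormalized Q →
      (∀ P g, Mor F P g → w (normalizerIn S Q) ≤ P → P ≤ normalizerIn S Q →
        (∀ x ∈ P, g x ∈ normalizerIn S Q) →
        img g (w (normalizerIn S Q)) = w (normalizerIn S Q) → Mor E P g) → HasN F E Q)
    (hf : Mor F P f) : Mor E P f :=
  control_fam hS hF {w} (fun _ h => h ▸ hw1) (fun _ h => h ▸ hw2) (fun _ h => h ▸ hw3)
    (fun _ h => h ▸ h0) (fun Q h1 h2 h => hloc Q h1 h2 (h w rfl)) hf

/-- Stancu's lemma: `F` is generated by `C_F(Q)` and `N_F(Q C_S(Q))` when `Q` is normal. -/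
theorem stancu (hS : IsPGroup p S) (hF : F.IsSaturated p) (hQ : F.IsNormal Q) {E : FusionSystem S}
    (h1 : ∀ P g, Mor F P g → Q ≤ P → (∀ x ∈ Q, g x = x) → Mor E P g)
    (h2 : HasN F E (Q ⊔ centralizerIn S Q)) (hf : Mor F P f) : Mor E P f := by
  obtain ⟨g, hg, e1, e2⟩ := IsNormal.ext hQ hf
  have hgQ := hg.mono (le_sup_right : Q ≤ P ⊔ Q)
  have hr := IsSaturated.receptive' hS hF (IsNormal.fullyNormalized hQ)
  obtain ⟨ψ, hψ, e3⟩ := IsReceptive.ext hr hgQ e2
  have hn := WeaklyClosed.le_normalizer (IsNormal.weaklyClosed hQ)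
  have hPN : P ⊔ Q ≤ Next S Q g := fun s hs =>
    hg.mem_Next_of_ext le_sup_right (fun _ _ => rfl) hs (hn (hg.le hs))
  have hRN : Q ⊔ centralizerIn S Q ≤ Next S Q g := sup_le hgQ.le_Next centralizerIn_le_Next
  have hsc := stronglyClosed_sup_centralizer hS hF (IsNormal.stronglyClosed hQ)
  have hψE : Mor E _ ψ := h2 _ ψ hψ hRN
    (by rw [normalizerIn_eq_of_le (StronglyClosed.le_normalizer hsc)]; exact Next_le)
    (StronglyClosed.img_eq hsc hψ hRN)
  -- `g ∘ ψ⁻¹` is the identity on `Q`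
  obtain ⟨k, hk, k1, k2, k3, -⟩ := (hψ.mono hPN).inv
  have hQi : img ψ Q = Q := by rw [img_congr e3, e2]
  have hE2 : Mor E _ fun y => g (k y) := h1 _ _ (hk.comp hg k2)
    (hQi.ge.trans (img_mono le_sup_right)) fun y hy => by
      rw [← hQi] at hy
      obtain ⟨x, hx, rfl⟩ := (hψ.mem_img' hgQ.le_Next).1 hy
      rw [k1 x (Subgroup.mem_sup_right hx), e3 x hx]
  refine ((((hψE.mono hPN).comp hE2 fun x hx => subset_img hx)).mono le_sup_left).congr
    fun x hx => ?_
  beta_reduce
  rw [k1 x (Subgroup.mem_sup_left hx), e1 x hx]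

theorem IsNormal.of_sub (hS : IsPGroup p S) {E : FusionSystem T} (hE : E.IsSaturated p)
    (hsub : E.IsSubsystemOf F) (hP : F.IsNormal P) (hPT : P ≤ T) : E.IsNormal P := by
  have : Finite T := finite_of_le (IsSubsystemOf.le hsub)
  exact normal_of_zc (pgroup_of_le hS (IsSubsystemOf.le hsub)) hE
    (StronglyClosed.of_sub hsub (IsNormal.stronglyClosed hP) hPT) fun i =>
    WeaklyClosed.of_sub hsub (IsNormal.weaklyClosed (IsNormal.of_char hP (zc_le _ _) (zc_char _ _)))
      ((zc_le _ _).trans hPT)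

/-- The subgroup of `L` inducing a given group of automorphisms on `j(P)`. -/
def indSub {L : Type*} [Group L] (j : T →* L) (hP : P ≤ T) (B : Subgroup (MulAut P)) :
    Subgroup L where
  carrier := {g | ∃ α ∈ B, ∀ x ∈ P, ap j (afun α x) = g * ap j x * g⁻¹}
  one_mem' := ⟨1, B.one_mem, fun x _ => by rw [afun_one]; simp⟩
  mul_mem' := by
    rintro a b ⟨α, hα, e⟩ ⟨β, hβ, e'⟩
    refine ⟨α * β, B.mul_mem hα hβ, fun x hx => ?_⟩
    rw [afun_mul _ _ hx, e _ (afun_mem _ hx), e' x hx]; group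
  inv_mem' := by
    rintro a ⟨α, hα, e⟩
    refine ⟨α⁻¹, B.inv_mem hα, fun x hx => ?_⟩
    have := e _ (afun_mem α⁻¹ hx)
    rw [afun_afun_inv _ hx] at this
    rw [this]; group

omit [Fact p.Prime] [Finite S] in
theorem mem_indSub {L : Type*} [Group L] {j : T →* L} {hP : P ≤ T} {B : Subgroup (MulAut P)}
    {g : L} : g ∈ indSub j hP B ↔ ∃ α ∈ B, ∀ x ∈ P, ap j (afun α x) = g * ap j x * g⁻¹ := Iff.rfl

theorem sub_model_aux (hS : IsPGroup p S) (hF : F.IsSaturated p) {E : FusionSystem T}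
    (hE : E.IsSaturated p) (hsub : E.IsSubsystemOf F) (hP : E.IsNormal P) (hc : F.IsCentric P)
    {L : Type*} [Group L] [Finite L] (j : T →* L) (hj : Function.Injective j)
    (hreal : ∀ A f, P ≤ A → A ≤ T → (∀ x ∈ A, f x ∈ T) → (∀ x ∈ P, f x ∈ P) →
      (Mor F A f ↔ ∃ g : L, ∀ x ∈ A, ap j (f x) = g * ap j x * g⁻¹))
    (hC : Subgroup.centralizer (imageAlong j P : Set L) ≤ j.range) :
    (∀ A f, A ≤ T → (∀ x ∈ A, f x ∈ T) → (Mor E A f ↔
      ∃ g ∈ indSub j hP.1 (E.autGroup P), ∀ x ∈ A, ap j (f x) = g * ap j x * g⁻¹)) ∧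
    ∃ h : ∀ t, j t ∈ indSub j hP.1 (E.autGroup P),
      E.IsModel p (indSub j hP.1 (E.autGroup P)) (j.codRestrict _ h) := by
  have hTS := IsSubsystemOf.le hsub
  have : Finite T := finite_of_le hTS
  have hT := pgroup_of_le hS hTS
  have hPT : P ≤ T := hP.1
  have hn := WeaklyClosed.le_normalizer (IsNormal.weaklyClosed hP)
  have hmor : ∀ A f, A ≤ T → (∀ x ∈ A, f x ∈ T) → (Mor E A f ↔
      ∃ g ∈ indSub j hP.1 (E.autGroup P), ∀ x ∈ A, ap j (f x) = g * ap j x * g⁻¹) := by
    intro A f hA hfA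
    constructor
    · intro hf
      obtain ⟨g1, hg1, e1, e2⟩ := IsNormal.ext hP hf
      obtain ⟨g, eg⟩ := (hreal _ g1 le_sup_right hg1.le (fun x hx => hg1.mem hx)
        fun x hx => e2 ▸ subset_img hx).1 (isSubsystemOf_iff.1 hsub _ _ hg1)
      obtain ⟨α, hα, eα⟩ := (hg1.mono le_sup_right).exists_aut e2
      exact ⟨g, ⟨α, hα, fun x hx => by rw [eα x hx, eg x (Subgroup.mem_sup_right hx)]⟩,
        fun x hx => by rw [← e1 x hx, eg x (Subgroup.mem_sup_left hx)]⟩
    · rintro ⟨g, ⟨α, hα, eα⟩, eg⟩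
      obtain ⟨κ, k1, k2, k3⟩ := exists_inv_hom hj rfl
      have hAP : A ⊔ P ≤ T := sup_le hA hPT
      have hconj : ∀ x ∈ A ⊔ P, g * ap j x * g⁻¹ ∈ j.range := by
        intro x hx
        obtain ⟨a, ha, b, hb, rfl⟩ := (mem_sup_of_le_normalizer (hA.trans hn)).1 hx
        rw [ap_mul _ (hA ha) (hPT hb)]
        have : g * (ap j a * ap j b) * g⁻¹ = (g * ap j a * g⁻¹) * (g * ap j b * g⁻¹) := by group
        rw [this, ← eg a ha, ← eα b hb]
        exact Subgroup.mul_mem _ (ap_mem_range _ (hfA a ha)) (ap_mem_range _ (hPT (afun_mem _ hb)))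
      have eP : ∀ x ∈ P, ap κ (g * ap j x * g⁻¹) = afun α x := fun x hx => by
        rw [← eα x hx, k1 _ (hPT (afun_mem _ hx))]
      have h2 : Mor F (A ⊔ P) fun x => ap κ (g * ap j x * g⁻¹) :=
        (hreal _ _ le_sup_right hAP (fun x hx => k2 _ (hconj x hx))
          fun x hx => by rw [eP x hx]; exact afun_mem _ hx).2 ⟨g, fun x hx => k3 _ (hconj x hx)⟩
      obtain ⟨ψ, hψ, eψ⟩ := IsReceptive.ext (IsSaturated.receptive' hT hE
        (IsNormal.fullyNormalized hP)) ((mem_autGroup hPT).1 hα) (img_afun α)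
      have hN : A ⊔ P ≤ Next T P (afun α) := fun s hs => by
        refine mem_Next.2 ⟨⟨hAP hs, hn (hAP hs)⟩, _, k2 _ (hconj s hs), fun x hx => ?_⟩
        have hx' := conj_mem_of_mem_normalizer (hn (hAP hs)) hx
        have := h2.map_conj hs (Subgroup.mem_sup_right hx)
        beta_reduce at this
        rw [← eP _ hx', this, eP x hx]
      obtain ⟨z, hz, ez⟩ := eq_conj_of_eq_on_centric hS hF hc le_sup_right
        (isSubsystemOf_iff.1 hsub _ _ (hψ.mono hN)) h2 fun x hx => by rw [eψ x hx, eP x hx]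
      have hz' : z ∈ A ⊔ P := Subgroup.mem_sup_right hz.1
      refine (((mor_conj E hAP (hAP hz')).comp (hψ.mono hN) fun x hx => ?_).mono
        le_sup_left).congr fun x hx => ?_
      · exact Subgroup.mul_mem _ (Subgroup.mul_mem _ hz' hx) (Subgroup.inv_mem _ hz')
      · beta_reduce
        rw [← ez x (Subgroup.mem_sup_left hx), ← eg x hx, k1 _ (hfA x hx)]
  have hle : ∀ t, j t ∈ indSub j hP.1 (E.autGroup P) := fun t => by
    obtain ⟨α, hα, eα⟩ := (mor_conj E hPT t.2).exists_aut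
      (WeaklyClosed.img_eq (IsNormal.weaklyClosed hP) (mor_conj E hPT t.2) le_rfl)
    exact ⟨α, hα, fun x hx => by rw [eα x hx, ap_conj _ t.2 (hPT hx), ap_of_mem _ t.2]⟩
  refine ⟨hmor, hle, ?_⟩
  have hr : E.IsRealizedBy (j.codRestrict _ hle) := by
    refine isRealizedBy_iff.2 ⟨fun a b e => hj (congrArg Subtype.val e),
      fun P f hP hm => (hmor P f hP hm).trans ⟨?_, ?_⟩⟩
    · rintro ⟨g, hg, e⟩
      refine ⟨⟨g, hg⟩, fun x hx => Subtype.ext ?_⟩
      simp only [Subgroup.coe_mul, Subgroup.coe_inv]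
      rw [ap_codRestrict _ _ _ (hm x hx), ap_codRestrict _ _ _ (hP hx), e x hx]
    · rintro ⟨g, e⟩
      refine ⟨g, g.2, fun x hx => ?_⟩
      have := congrArg Subtype.val (e x hx)
      simp only [Subgroup.coe_mul, Subgroup.coe_inv] at this
      rwa [ap_codRestrict _ _ _ (hm x hx), ap_codRestrict _ _ _ (hP hx)] at this
  obtain ⟨pr, hpr⟩ := modelData_of_realized hr hP ⟨fun y hy g => by
    obtain ⟨x, hx, rfl⟩ := (mem_imageAlong' hPT).1 hy
    obtain ⟨α, -, eα⟩ := g.2
    refine (mem_imageAlong' hPT).2 ⟨_, afun_mem α hx, Subtype.ext ?_⟩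
    simp only [Subgroup.coe_mul, Subgroup.coe_inv]
    rw [ap_codRestrict _ _ _ (hPT hx), ap_codRestrict _ _ _ (hPT (afun_mem α hx)), eα x hx]⟩
    fun g hg => by
      obtain ⟨t, e⟩ : (g : L) ∈ j.range := hC fun y hy => by
        obtain ⟨x, hx, rfl⟩ := (mem_imageAlong' hPT).1 hy
        have := congrArg Subtype.val (hg _ (ap_mem_imageAlong hPT hx))
        simp only [Subgroup.coe_mul] at this
        rwa [ap_codRestrict _ _ _ (hPT hx)] at this
      exact ⟨t, Subtype.ext e⟩
  exact hpr.isModel hT hE ((centralizerIn_mono hTS).trans (IsCentric.cent_le hc))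

/-- A saturated subsystem of a constrained system containing a normal centric subgroup is realized
by a subgroup of the model. -/
theorem sub_model (hS : IsPGroup p S) {L : Type*} [Group L] {ι : S →* L} (hL : F.IsModel p L ι)
    (hP : F.IsNormal P) (hC : centralizerIn S P ≤ P) {E : FusionSystem T}
    (hE : E.IsSaturated p) (hsub : E.IsSubsystemOf F) (hPT : P ≤ T) :
    ∃ M : Subgroup L, (∀ g, g ∈ M ↔ ∃ α ∈ E.autGroup P, ∀ x ∈ P,
        ap ι (afun α x) = g * ap ι x * g⁻¹) ∧
      (∀ A f, A ≤ T → (∀ x ∈ A, f x ∈ T) → (Mor E A f ↔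
        ∃ g ∈ M, ∀ x ∈ A, ap ι (f x) = g * ap ι x * g⁻¹)) ∧
      ∃ ι' : T →* M, (∀ x ∈ T, ((ap ι' x : M) : L) = ap ι x) ∧ E.IsModel p M ι' := by
  have hTS := IsSubsystemOf.le hsub
  have : Finite L := hL.1
  let j : T →* L := ι.comp (Subgroup.inclusion hTS)
  have hj : ∀ x ∈ T, ap j x = ap ι x := fun x hx => by
    rw [ap_of_mem _ hx, ap_of_mem _ (hTS hx)]; rfl
  have hF := (IsModel.constrained hL).1
  obtain ⟨h1, h2, h3⟩ := sub_model_aux hS hF hE hsub (IsNormal.of_sub hS hE hsub hP hPT)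
    (isCentric_of_weaklyClosed (IsNormal.weaklyClosed hP) hC) j
    (hL.2.1.1.comp (Subgroup.inclusion_injective _)) (fun A f _ hA hm _ => by
      rw [IsRealizedBy.mor_iff hL.2.1 (hA.trans hTS) fun x hx => hTS (hm x hx)]
      exact exists_congr fun g => forall₂_congr fun x hx => by rw [hj _ (hm x hx), hj _ (hA hx)])
    (fun g hg => by
      have e : imageAlong j P = imageAlong ι P := by
        ext y
        rw [mem_imageAlong' hPT, mem_imageAlong' hP.1]
        exact exists_congr fun x => and_congr_right fun hx => by rw [hj _ (hPT hx)]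
      rw [e] at hg
      obtain ⟨x, hx, rfl⟩ := (mem_imageAlong' hP.1).1 (IsModel.centralizer_le hL hP hC hg)
      exact mem_range_iff.2 ⟨x, hPT hx, hj x (hPT hx)⟩)
  refine ⟨_, fun g => mem_indSub.trans ?_, fun A f hA hm => (h1 A f hA hm).trans ?_, _,
    fun x hx => (ap_codRestrict _ _ h2 hx).trans (hj x hx), h3⟩
  · exact exists_congr fun α => and_congr_right fun _ => forall₂_congr fun x hx => by
      rw [hj _ (hPT hx), hj _ (hPT (afun_mem _ hx))]
  · exact exists_congr fun g => and_congr_right fun _ => forall₂_congr fun x hx => by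
      rw [hj _ (hm x hx), hj _ (hA hx)]

/-- Section-freeness passes to a saturated subsystem whose centric radical subgroups are centric in
the big system. -/
theorem free_of_sub {H : Type*} [Group H] (hS : IsPGroup p S) (hF : F.IsSaturated p)
    (hfree : F.IsSectionFree p H) {E : FusionSystem T} (hE : E.IsSaturated p)
    (hsub : E.IsSubsystemOf F)
    (h : ∀ P, E.IsCentric P → E.IsRadical p P → F.IsCentric P) : E.IsSectionFree p H := by
  have hTS := IsSubsystemOf.le hsub
  have : Finite T := finite_of_le hTS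
  have hT := pgroup_of_le hS hTS
  refine free_of_radical hT hE fun P hn hc hr NN hNN L _ ι hL hI => ?_
  have hcF := h P hc hr
  have hPS := hcF.1
  obtain ⟨φ, hφ, hfn⟩ := IsSaturated.exists_normalizer_mor' hS hF hPS
  have hPP : P ≤ normalizerIn S P := le_normalizerIn hPS
  have hφP := hφ.mono hPP
  have hc' := isCentric_of_conj hcF hφP.isConj
  obtain ⟨L', _, ι', hL'⟩ := exists_local_model hS hF hfn hc'
  have hN' := normSys_spec F hfn.1
  refine hfree _ hfn hc' _ hN' L' ι' hL' ?_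
  have : Finite L' := hL'.1
  have hTN : normalizerIn T P ≤ normalizerIn S P := normalizerIn_mono hTS
  have hm : ∀ x ∈ normalizerIn S P, φ x ∈ normalizerIn S (img φ P) :=
    fun x hx => hφ.normalizerIn_mem hPS hx
  have : Finite (normalizerIn S (img φ P)) := finite_of_le normalizerIn_le
  have : Finite (normalizerIn T P) := finite_of_le normalizerIn_le
  let j : normalizerIn T P →* L' := ι'.comp ((mkHom _ φ fun x hx y hy =>
    hφ.map_mul (hTN hx) (hTN hy)).codRestrict _ fun x => hm x (hTN x.2))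
  have hj : ∀ x ∈ normalizerIn T P, ap j x = ap ι' (φ x) := fun x hx => by
    rw [ap_of_mem _ hx, ap_of_mem _ (hm x (hTN hx))]; rfl
  have hinj := hL'.2.1.1
  have hP'R : img φ P ≤ normalizerIn S (img φ P) := le_normalizerIn hφP.img_le
  have hPT : P ≤ normalizerIn T P := le_normalizerIn hn.1
  have hU := IsModel.image_normal hL' (normSys_normal hN' hφP.img_le)
  obtain ⟨-, h2, h3⟩ := sub_model_aux hS hF (normalizer_saturated hT hE hn hNN)
    (IsSubsystemOf.trans (normSys_sub hNN) hsub) (normSys_normal hNN hn.1) hcF j (fun a b e => by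
      have e' : ap j a = ap j b := by rw [ap_of_mem _ a.2, ap_of_mem _ b.2]; exact e
      rw [hj _ a.2, hj _ b.2] at e'
      exact Subtype.ext (hφ.inj (hTN a.2) (hTN b.2)
        (ap_inj hinj (hm _ (hTN a.2)) (hm _ (hTN b.2)) e'))) (fun A f hPA hA hfA hfP => by
      have hB : img φ A ≤ normalizerIn S (img φ P) := img_le_iff.2 fun x hx => hm x (hTN (hA hx))
      have : Finite (img φ P) := finite_of_le hφP.img_le
      constructor
      · intro hf
        obtain ⟨h, hh, eh⟩ := hφ.exists_conj (hA.trans hTN) hf fun x hx => hTN (hfA x hx)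
        have hh' := normSys_mor_of hN' hB hh le_rfl (img_mono hPA)
          ((hh.mono (img_mono hPA)).img_eq_self fun y hy => by
            obtain ⟨x, hx, rfl⟩ := hφP.mem_img.1 hy
            rw [eh x (hPA hx)]; exact subset_img (hfP x hx))
        obtain ⟨g, eg⟩ := (IsRealizedBy.mor_iff hL'.2.1 hB fun x hx => hh'.mem hx).1 hh'
        exact ⟨g, fun x hx => by
          rw [hj _ (hfA x hx), hj _ (hA hx), ← eg _ (subset_img hx), eh x hx]⟩
      · rintro ⟨g, eg⟩
        obtain ⟨k, hk, k1, k2, k3, -⟩ := (hφ.mono (hA.trans hTN)).inv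
        have hh : Mor (normSys F hfn.1) (img φ A) fun y => φ (f (k y)) :=
          (IsRealizedBy.mor_iff hL'.2.1 hB fun y hy => hm _ (hTN (hfA _ (k2 y hy)))).2
            ⟨g, fun y hy => by
              rw [← hj _ (hfA _ (k2 y hy)), eg _ (k2 y hy), hj _ (hA (k2 y hy)), k3 y hy]⟩
        obtain ⟨f2, hf2, e2⟩ := hφ.exists_conj_back (hA.trans hTN)
          (isSubsystemOf_iff.1 (normSys_sub hN') _ _ hh) fun x hx => by
            rw [k1 x hx]; exact subset_img (hTN (hfA x hx))
        exact hf2.congr fun x hx => hφ.inj (e2 x hx).1 (hTN (hfA x hx)) (by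
          rw [(e2 x hx).2, k1 x hx]))
    (fun g hg => by
      have e : imageAlong j P = imageAlong ι' (img φ P) := by
        ext y
        rw [mem_imageAlong' hPT, mem_imageAlong' hP'R]
        constructor
        · rintro ⟨x, hx, rfl⟩; exact ⟨φ x, subset_img hx, (hj x (hPT hx)).symm⟩
        · rintro ⟨y, hy, rfl⟩
          obtain ⟨x, hx, rfl⟩ := hφP.mem_img.1 hy
          exact ⟨x, hx, hj x (hPT hx)⟩
      rw [e] at hg
      have := IsModel.centralizer_le hL' (normSys_normal hN' hφP.img_le)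
        ((centralizerIn_mono normalizerIn_le).trans (IsCentric.cent_le hc')) hg
      rw [← e] at this
      exact imageAlong_le_range this)
  obtain ⟨e, -⟩ := IsModel.exists_equiv (pgroup_of_le hT normalizerIn_le) hL h3
  exact Involves.of_injective hI ((Subgroup.subtype _).comp e.toMonoidHom)
    ((Subgroup.subtype_injective _).comp e.injective)

theorem kSys_centric {K : Subgroup (MulAut Q)} (hr : F.IsReceptive Q) (hT : IsKNorm S Q K T)
    {E : FusionSystem T} (hE : ∀ P f, Mor E P f ↔ KMor F Q K T P f) (hQP : Q ≤ P)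
    (hP : E.IsCentric P) : F.IsCentric P := by
  have hPT : P ≤ T := hP.1
  refine isCentric_iff.2 ⟨hPT.trans hT.le, fun g hg c hc => ?_⟩
  obtain ⟨i, hi, i1, i2, i3, i4⟩ := (hg.mono hQP).inv
  obtain ⟨ψ, hψ, e⟩ := IsReceptive.ext hr hi i4
  have h1 : ∀ x ∈ P, g x ∈ Next S (img g Q) i := fun x hx => by
    refine mem_Next.2 ⟨hg.mem_normalizer_img hQP hx (hT.le_normalizer (hPT hx)), x,
      hT.le (hPT hx), fun y hy => ?_⟩
    obtain ⟨z, hz, rfl⟩ := (hg.mono hQP).mem_img.1 hy
    rw [← hg.map_conj hx (hQP hz), i1 z hz,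
      i1 _ (conj_mem_of_mem_normalizer (hT.le_normalizer (hPT hx)) hz)]
  have e' : ∀ x ∈ Q, ψ (g x) = afun (1 : MulAut Q) x := fun x hx => by
    rw [afun_one, e _ (subset_img hx), i1 x hx]
  have h2 : Mor E P fun x => ψ (g x) := (hE _ _).2 (KMor.of_ext hT hPT (hg.comp hψ h1) le_rfl hQP
    (fun _ _ => rfl) K.one_mem e')
  have h3 := (isCentric_iff.1 hP).2 _ h2
  rw [hg.img_comp'] at h3
  have hc1 : c ∈ centralizerIn S (img g Q) := centralizerIn_anti (img_mono hQP) hc
  have hc' : c ∈ Next S (img g Q) i := centralizerIn_le_Next hc1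
  refine (hψ.apply_mem_img_iff (img_le_iff.2 h1) hc').1 (h3 ⟨hT.centralizerIn_le ?_, ?_⟩)
  · have := hψ.mem_centralizer_img hi.le_Next hc' (mem_centralizerIn.1 hc1).2
    rwa [img_congr e, i4] at this
  · exact (hψ.mem_centralizer_img (img_le_iff.2 h1) hc' (mem_centralizerIn.1 hc).2).2

end Cfsg.Agent.Fusion
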