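import Cfsg.Agent.Lib.Fusion.Comp2
import Cfsg.Prelude.Def_TwoFusion

/-! Fusion systems over direct products of strongly closed subgroups. -/

set_option autoImplicit false
set_option linter.unusedSectionVars false
set_option linter.unusedVariables false
open Cfsg Cfsg.FusionSystem

namespace Cfsg.Agent.Fusion

variable {Ω : Type*} [Group Ω] {S A B P : Subgroup Ω} {F : FusionSystem S} {f : Ω → Ω} {p : ℕ}

theorem dp_symm (h : IsInternalDirectProduct A B S) : IsInternalDirectProduct B A S :=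
  ⟨h.2.1, h.1, fun b hb a ha => (h.2.2.1 a ha b hb).symm, (inf_comm _ _).trans h.2.2.2.1,
    (sup_comm _ _).trans h.2.2.2.2⟩

theorem dp_decomp (h : IsInternalDirectProduct A B S) {x : Ω} (hx : x ∈ S) :
    ∃ a ∈ A, ∃ b ∈ B, a * b = x :=
  (mem_sup_of_le_normalizer fun a ha => Subgroup.centralizer_le_normalizer _
    fun b hb => (h.2.2.1 a ha b hb).symm).1 (h.2.2.2.2.ge hx)

theorem dp_eq (h : IsInternalDirectProduct A B S) {x y : Ω} (hx : x ∈ A) (hy : y ∈ A)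
    (e : x⁻¹ * y ∈ B) : x = y :=
  inv_mul_eq_one.1 (Subgroup.mem_bot.1 (h.2.2.2.1.le ⟨A.mul_mem (A.inv_mem hx) hy, e⟩))

theorem dp_proj (h : IsInternalDirectProduct A B S) :
    ∃ θ : S →* Ω, ∀ x ∈ S, ap θ x ∈ A ∧ (ap θ x)⁻¹ * x ∈ B := by
  have : ∀ x, ∃ a, x ∈ S → a ∈ A ∧ a⁻¹ * x ∈ B := fun x => by
    by_cases hx : x ∈ S
    · obtain ⟨a, ha, b, hb, rfl⟩ := dp_decomp h hx
      exact ⟨a, fun _ => ⟨ha, by rwa [inv_mul_cancel_left]⟩⟩
    · exact ⟨1, fun h => absurd h hx⟩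
  choose π hπ using this
  refine ⟨mkHom S π fun x hx y hy => dp_eq h (hπ _ (S.mul_mem hx hy)).1
    (A.mul_mem (hπ x hx).1 (hπ y hy).1) ?_, fun x hx => by rw [ap_mkHom hx]; exact hπ x hx⟩
  have := B.mul_mem (hπ _ (S.mul_mem hx hy)).2 (B.inv_mem (B.mul_mem (hπ x hx).2 (hπ y hy).2))
  rw [show (π x)⁻¹ * x * ((π y)⁻¹ * y) = ((π x)⁻¹ * x * (π y)⁻¹) * y by group,
    ← h.2.2.1 _ (A.inv_mem (hπ y hy).1) _ (hπ x hx).2] at this
  convert this using 1; group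

variable [hp : Fact p.Prime] [Finite S]

theorem dp_factor (hS : IsPGroup p S) (hF : F.IsSaturated p) (h : IsInternalDirectProduct A B S)
    (hA : F.StronglyClosed A) (hB : F.StronglyClosed B) :
    (∀ P f, P ≤ A → Mor F P f → ∃ g, Mor F (P ⊔ B) g ∧ ∀ x ∈ P, g x = f x) ∧
      ∀ R : FusionSystem A, (∀ P f, Mor R P f ↔ P ≤ A ∧ Mor F P f) → R.IsSaturated p := by
  obtain ⟨θ, hθ⟩ := dp_proj h
  have e1 : ∀ x ∈ A, ap θ x = x := fun x hx => dp_eq h (hθ x (h.1 hx)).1 hx (hθ x (h.1 hx)).2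
  have e2 : ∀ x ∈ B, ap θ x = 1 := fun x hx => dp_eq h (hθ x (h.2.1 hx)).1 A.one_mem (by
    rw [mul_one]; exact (B.mul_mem_cancel_right hx).1 (hθ x (h.2.1 hx)).2)
  have e3 : ∀ P, P ≤ A → imageAlong θ P = P := fun P hP => Subgroup.ext fun x =>
    (mem_imageAlong' (hP.trans h.1)).trans ⟨fun ⟨y, hy, e⟩ => e ▸ (e1 y (hP hy)).symm ▸ hy,
      fun hx => ⟨x, hx, e1 x (hP hx)⟩⟩
  have e4 : ∀ P, P ≤ A → P ⊔ B ≤ preimageAlong θ P := fun P hP => sup_le
    (fun x hx => mem_preimageAlong.2 ⟨h.1 (hP hx), (e1 x (hP hx)).symm ▸ hx⟩)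
    fun x hx => mem_preimageAlong.2 ⟨h.2.1 hx, (e2 x hx).symm ▸ P.one_mem⟩
  obtain ⟨D, d1⟩ := exists_factor (α := θ) (S' := A) hB (Subgroup.ext fun x =>
    mem_preimageAlong.trans ⟨fun hx => by
      have := (hθ x hx.1).2
      rwa [Subgroup.mem_bot.1 hx.2, inv_one, one_mul] at this,
      fun hx => ⟨h.2.1 hx, e2 x hx⟩⟩) (le_antisymm (fun _ ⟨x, e⟩ => by
        rw [← e, ← ap_of_mem θ x.2]; exact (hθ x x.2).1)
      fun x hx => e1 x hx ▸ ap_mem_range θ (h.1 hx))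
  have d2 := d1.surj hS hF hB
  have k1 : ∀ P f, P ≤ A → Mor F P f → Mor D P f := fun P f hP hf => by
    obtain ⟨g, g1, g2⟩ := d2.toMorph.mor hf
    rw [e3 P hP] at g1
    exact g1.congr fun x hx => by
      rw [← e1 _ (StronglyClosed.mem hA hf hx (hP hx)), ← g2 x hx, e1 x (hP hx)]
  have k2 : ∀ P f, Mor D P f → ∃ g, Mor F (P ⊔ B) g ∧ ∀ x ∈ P, g x = f x := fun P f hf => by
    obtain ⟨g, g1, g2⟩ := d2.lift hf
    have m := fun x (hx : x ∈ P) => e4 P hf.le (Subgroup.mem_sup_left hx)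
    exact ⟨g, g1.mono (e4 P hf.le), fun x hx => by
      rw [← e1 _ (StronglyClosed.mem hA g1 (m x hx) (hf.le hx)), ← g2 x (m x hx), e1 x (hf.le hx)]⟩
  refine ⟨fun P f hP hf => k2 P f (k1 P f hP hf), fun R hR => ?_⟩
  rw [show R = D from sys_ext fun P f => (hR P f).trans ⟨fun h => k1 P f h.1 h.2, fun hf => ?_⟩]
  · exact d2.saturated hS hF
  · obtain ⟨g, g1, g2⟩ := k2 P f hf
    exact ⟨hf.le, (g1.mono le_sup_left).congr g2⟩

theorem dp_main (hS : IsPGroup p S) (hF : F.IsSaturated p) (h : IsInternalDirectProduct A B S)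
    (hA : F.StronglyClosed A) (hB : F.StronglyClosed B) {R R' : FusionSystem A}
    (hR : ∀ P f, Mor R P f ↔ P ≤ A ∧ Mor F P f)
    (hR' : ∀ P f, Mor R' P f ↔ P ≤ A ∧ Mor (centSys F hB.1) P f) :
    R.IsSaturated p ∧ R'.IsSaturated p ∧ R'.IsNormalIn F p ∧ R'.IsNormalIn R p ∧
      R.IsWeaklyNormalIn F p := by
  have := finite_of_le h.1
  have := finite_of_le h.2.1
  have := finite_of_le (centralizerIn_le (S := S) (P := B))
  have hc := centSys_spec F hB.1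
  have hAC : A ≤ centralizerIn S B := fun a ha => mem_centralizerIn.2 ⟨h.1 ha, fun b hb => by
    rw [h.2.2.1 a ha b hb]; group⟩
  obtain ⟨x1, s1⟩ := dp_factor hS hF h hA hB
  obtain ⟨x2, -⟩ := dp_factor hS hF (dp_symm h) hB hA
  have s2 := (dp_factor (pgroup_of_le hS centralizerIn_le) (centralizer_saturated hS hF
    (IsSaturated.fullyCentralized hS hF (fullyNormalized_of_normal hB.1
      (StronglyClosed.le_normalizer hB))) hc) (A := A) (B := centralizerIn S B ⊓ B)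
    ⟨hAC, inf_le_left, fun a ha b hb => h.2.2.1 a ha b hb.2,
      le_bot_iff.1 ((inf_le_inf_left _ inf_le_right).trans h.2.2.2.1.le),
      le_antisymm (sup_le hAC inf_le_left) fun x hx => by
        obtain ⟨a, ha, b, hb, rfl⟩ := dp_decomp h hx.1
        exact Subgroup.mul_mem_sup ha ⟨(Subgroup.mul_mem_cancel_left _ (hAC ha)).1 hx, hb⟩⟩
    (StronglyClosed.of_sub (centSys_sub hc) hA hAC) (stronglyClosed_iff.2 ⟨inf_le_left,
      fun P f hf x hx m => ⟨hf.mem hx, StronglyClosed.mem hB (hf.sub (centSys_sub hc)) hx m.2⟩⟩)).2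
      R' hR'
  have u1 : R.IsSubsystemOf F := isSubsystemOf_iff.2 fun P f hf => ((hR P f).1 hf).2
  have u2 : R'.IsSubsystemOf R := isSubsystemOf_iff.2 fun P f hf =>
    (hR P f).2 ⟨hf.le, ((hR' P f).1 hf).2.sub (centSys_sub hc)⟩
  have ea : ∀ α, α ∈ R.autGroup A ↔ α ∈ F.autGroup A := fun α => by
    rw [mem_autGroup le_rfl, mem_autGroup h.1, hR]; exact and_iff_right le_rfl
  have mk : ∀ P g, P ≤ A → Mor F (P ⊔ B) g → (∀ x ∈ B, g x = x) → Mor R' P g := fun P g hP hg e =>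
    (hR' P g).2 ⟨hP, centSys_mor_of hc (hP.trans hAC) hg le_sup_left le_sup_right e⟩
  have i1 : ∀ P f, Mor R' P f → ∀ α ∈ F.autGroup A, ∃ g, Mor R' (img (afun α) P) g ∧
      ∀ x ∈ P, g (afun α x) = afun α (f x) := fun P f hf α hα => by
    obtain ⟨a, a1, a2⟩ := x1 A _ le_rfl ((mem_autGroup h.1).1 hα)
    rw [h.2.2.2.2] at a1
    obtain ⟨b, b1, b2, b3, b4, -⟩ := a1.inv' (a1.img_eq_self fun x hx => a1.mem hx)
    obtain ⟨g, g1, g2, g3⟩ := centSys_ext hc ((hR' P f).1 hf).2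
    have hB' : ∀ x ∈ B, b x ∈ B := fun x hx => StronglyClosed.mem hB b1 (h.2.1 hx) hx
    have hP := hf.le.trans h.1
    have m : ∀ x ∈ img (afun α) P ⊔ B, b x ∈ P ⊔ B := img_le_iff.1 (by
      rw [(b1.mono (sup_le ((img_afun_le hf.le).trans h.1) h.2.1)).img_sup]
      refine sup_le_sup (img_le_iff.2 fun y hy => ?_) (img_le_iff.2 hB')
      obtain ⟨x, hx, rfl⟩ := (mem_img_afun hf.le).1 hy
      rwa [← a2 x (hf.le hx), b2 x (hP hx)])
    refine ⟨fun x => a (g (b x)), mk _ _ (img_afun_le hf.le) (((b1.mono (sup_le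
      ((img_afun_le hf.le).trans h.1) h.2.1)).comp g1 m).comp a1 fun x hx => g1.mem (m x hx))
      fun x hx => by rw [g3 _ (hB' x hx), b4 x (h.2.1 hx)], fun x hx => ?_⟩
    beta_reduce
    rw [← a2 x (hf.le hx), b2 x (hP hx), g2 x hx, a2 _ (hf.mem hx)]
  have i2 : ∀ P f, P ≤ A → Mor F P f → ∃ α ∈ F.autGroup A, ∃ g, Mor R' P g ∧
      ∀ x ∈ P, f x = afun α (g x) := fun P f hP hf => by
    obtain ⟨g, g1, g2⟩ := x1 P f hP hf
    obtain ⟨a, a1, a2⟩ := x2 B g le_rfl (g1.mono le_sup_right)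
    rw [(dp_symm h).2.2.2.2] at a1
    obtain ⟨b, b1, b2, b3, b4, -⟩ := a1.inv' (a1.img_eq_self fun x hx => a1.mem hx)
    obtain ⟨α, hα, e⟩ := (a1.mono h.1).exists_aut ((a1.mono h.1).img_eq_self
      fun x hx => StronglyClosed.mem hA a1 (h.1 hx) hx)
    have k := mk P _ hP (g1.comp b1 fun x hx => g1.mem hx) fun x hx => by
      rw [← a2 x hx, b2 x (h.2.1 hx)]
    exact ⟨α, hα, _, k, fun x hx => by
      rw [e _ (k.mem hx), b4 _ (g1.mem (Subgroup.mem_sup_left hx)), g2 x hx]⟩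
  have w : R'.IsWeaklyNormalIn F p :=
    ⟨s2, hF, isInvariantIn_iff.2 ⟨IsSubsystemOf.trans u2 u1, hA, i1, i2⟩⟩
  refine ⟨s1 R hR, s2, isNormalIn_iff.2 ⟨w, fun α hα => ?_⟩, normal_of_weakly ⟨s2, s1 R hR,
    isInvariantIn_iff.2 ⟨u2, stronglyClosed_top R, fun P f hf α hα => i1 P f hf α ((ea α).1 hα),
      fun P f hP hf => ?_⟩⟩ centralizerIn_le, s1 R hR, hF, isInvariantIn_iff.2 ⟨u1, hA,
        fun P f hf α hα => pres_of_mem ((ea α).2 hα) P f hf, fun P f hP hf => ⟨1, one_mem _, f,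
          (hR P f).2 ⟨hP, hf⟩, fun x _ => (afun_one _).symm⟩⟩⟩
  · obtain ⟨g, g1, g2, g3⟩ := centSys_ext hc ((hR' _ _).1 ((mem_autGroup le_rfl).1 hα)).2
    have e : A ⊔ centralizerIn S A = S := le_antisymm (sup_le h.1 centralizerIn_le)
      (h.2.2.2.2.ge.trans (sup_le_sup_left (fun b hb => mem_centralizerIn.2 ⟨h.2.1 hb, fun a ha => by
        rw [← h.2.2.1 a ha b hb]; group⟩) _))
    rw [e]
    rw [h.2.2.2.2] at g1
    refine ⟨g, g1, g1.img_eq_self fun x hx => g1.mem hx, g2, fun c hc => ?_⟩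
    obtain ⟨a, ha, b, hb, rfl⟩ := dp_decomp h hc.1
    have m := StronglyClosed.mem hA g1 (h.1 ha) ha
    rw [g1.map_mul (h.1 ha) (h.2.1 hb), g3 b hb, show (a * b)⁻¹ * (g a * b) = b⁻¹ * (a⁻¹ * g a * b) by
      group, h.2.2.1 _ (A.mul_mem (A.inv_mem ha) m) b hb, inv_mul_cancel_left]
    exact A.mul_mem (A.inv_mem ha) m
  · obtain ⟨α, hα, k⟩ := i2 P f hP (hf.sub u1)
    exact ⟨α, (ea α).2 hα, k⟩

end Cfsg.Agent.Fusion
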