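import Cfsg.Agent.Lib.Fusion.Ca3
import Cfsg.Agent.Lib.MS.Pre1

set_option autoImplicit false
set_option linter.unusedSectionVars false

/-! Extremely closed abelian 2-subgroups. -/
namespace Cfsg.Agent.Ca
open Subgroup Cfsg.Agent.MS Cfsg.Agent.Transfer
open scoped Classical

universe u
section
variable {X : Type u} [Group X] [Fintype X]
variable {C H U K : Subgroup X} {a b c v w x y z g : X} {p : ℕ}

/-- extremely closed in `C` -/
def EC (C H : Subgroup X) : Prop := ∀ g ∈ C, (H ⊔ cj g H) ⊓ NN H = H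

theorem EC.syl [Fact p.Prime] (h : EC C H) (hH : IsPGroup p H) (hg : g ∈ C) :
    IsSyl p H (H ⊔ cj g H) := syl_of_nn le_sup_left (by
  rw [h g hg]; exact ⟨le_rfl, hH, by rw [relIndex_self]; exact (Fact.out : p.Prime).not_dvd_one⟩)

theorem EC.compl [Fact p.Prime] (h : EC C H) (hH : IsPGroup p H) (hab : IsMulCommutative H)
    (hg : g ∈ C) : O {p}ᶜ (H ⊔ cj g H) ⊔ H = H ⊔ cj g H := by
  have hs := h.syl hH hg
  have hn := burnside hs ((h g hg).le.trans (ab_cc hab))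
  rw [sup_comm]; exact (hall_of_syl hs).sup hn

theorem EC.cj (h : EC ⊤ H) (x : X) : EC ⊤ (cj x H) := fun g _ => by
  have := congrArg (Transfer.cj x) (h (x⁻¹ * g * x) (mem_top _))
  rw [cj_inf, cj_sup, cj_normalizer, cj_cj] at this
  rw [cj_cj]
  convert this using 4; group

theorem EC.map [Fact p.Prime] (h : EC C H) (hH : IsPGroup p H) {Y : Type u} [Group Y] [Finite Y]
    (f : X →* Y) : EC (C.map f) (H.map f) := by
  rintro _ ⟨g, hg, rfl⟩
  have e : ∀ k : X, Transfer.cj (f k) (H.map f) = (Transfer.cj k H).map f := fun k => by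
    simp only [Transfer.cj, map_map]; congr 1; ext; simp
  refine le_antisymm ?_ (le_inf le_sup_left (le_nn _))
  rw [e, ← Subgroup.map_sup]
  rintro _ ⟨⟨x, hx, rfl⟩, hx'⟩
  have h1 : Transfer.cj x H ≤ (H ⊔ Transfer.cj g H) ⊓ (H.map f).comap f :=
    le_inf (cj_le' le_sup_left hx) (map_le_iff_le_comap.1 (by rw [← e, cj_nn hx']))
  obtain ⟨y, hy, h2⟩ := ((h.syl hH hg).mono (le_inf le_sup_left (le_comap_map _ _))
    inf_le_left).exists_cj_le (IsPGroup.cj hH x) h1
  rw [cj_cj] at h2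
  have h3 := (h g hg).le ⟨mul_mem hy.1 hx, mem_normalizer_of_cj_le h2⟩
  have h4 := mul_mem (inv_mem (mem_comap.1 hy.2)) (mem_map_of_mem f h3)
  simpa using h4

theorem odd_O (K : Subgroup X) : Odd #(O {2}ᶜ K) :=
  odd_iff_coprime_two.2 (pi_compl_iff_coprime.1 (O_pi _ _))

theorem odd_mem (hU : Odd #U) (hH : IsPGroup 2 H) (hn : H ≤ NN U) (hx : x ∈ U ⊔ H)
    (ho : Odd (orderOf x)) : x ∈ U :=
  (Hall.of_sup (π := {2}ᶜ) (pi_compl_iff_coprime.2 (odd_iff_coprime_two.1 hU))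
    (pi1_of_pg hH).compl_compl hn).le_of_normal (sup_le (le_nn U) hn) (zle hx)
    (pi_compl_iff_coprime.2 (by rw [Nat.card_zpowers]; exact odd_iff_coprime_two.1 ho))
    (mem_zpowers x)

theorem proj2 (hU : Odd #U) (hH : IsPGroup 2 H) (hn : H ≤ NN U) (hv : v ∈ U ⊔ H) (vv : v * v = 1) :
    ∃ h ∈ H, h * h = 1 ∧ v * h ∈ U := by
  obtain ⟨r, hr, h, hh, rfl⟩ := (mem_sup_l hn).1 hv
  have h1 : h * h = 1 := by
    refine eq_one_of_odd_of_mem hH (mul_mem hh hh) (odd_orderOf_of_mem hU ?_)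
    have := inv_mem (mul_mem hr (conj_mem_of_mem_normalizer (hn hh) hr))
    convert this using 1
    rw [eq_inv_iff_mul_eq_one, ← (MulAut.conj (h * h)⁻¹).injective.eq_iff]
    simp only [MulAut.conj_apply, ← vv]; rw [vv]
    calc _ = r * h * (r * h) := by group
      _ = _ := by rw [vv]; simp
  exact ⟨h, hh, h1, by rwa [mul_assoc, h1, mul_one]⟩

theorem two_inv (hU : Odd #U) (hH : IsPGroup 2 H) (hn : H ≤ NN U) (ha : a ∈ H) (hb : b ∈ H)
    (hab : a * b * (a * b) = 1) (aa : a * a = 1) (hv : v * a ∈ U) :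
    two (v * b) * two (v * b) = 1 ∧ Odd (orderOf (two (v * b) * (a * b))) := by
  have vK : v * b ∈ U ⊔ H := by
    have := mul_mem (mem_sup_left (T := H) hv) (mem_sup_right (mul_mem ha hb))
    rwa [mul_assoc, ← mul_assoc a, aa, one_mul] at this
  obtain ⟨h1, h2, h3⟩ := two_dec (v * b)
  have h4 := odd_mem hU hH hn (mul_mem (inv_mem (zle vK (two_mem _))) vK) h3
  set z := two (v * b)
  have h5 : z * (a * b) ∈ U := by
    have := mul_mem hv (conj_mem_of_mem_normalizer (hn (mul_mem ha hb)) (inv_mem h4))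
    rw [inv_self hab] at this
    convert this using 1
    calc z * (a * b) = v * b * (v * b)⁻¹ * z * (a * b) := by group
      _ = v * (a * a) * b * (v * b)⁻¹ * z * (a * b) := by rw [aa, mul_one]
      _ = _ := by group
  refine ⟨eq_one_of_odd_of_mem h1 (mul_mem (mem_zpowers z) (mem_zpowers z))
    (odd_orderOf_of_mem hU ?_), odd_orderOf_of_mem hU h5⟩
  have := mul_mem h5 (inv_conj_mem_of_mem_normalizer (hn (mul_mem ha hb)) h5)
  convert this using 1
  calc z * z = z * z * (a * b * (a * b)) := by rw [hab, mul_one]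
    _ = _ := by group

theorem cm_of_ab (hab : IsMulCommutative H) (ha : a ∈ H) (hb : b ∈ H) : Commute a b :=
  mem_CC.1 (ab_cc hab hb) a ha

theorem sq_mul (h : Commute a b) (aa : a * a = 1) (bb : b * b = 1) : a * b * (a * b) = 1 := by
  rw [mul_assoc, ← mul_assoc b, ← h.eq, mul_assoc, bb, mul_one, aa]

theorem ec_key (h : EC ⊤ H) (hH : IsPGroup 2 H) (hab : IsMulCommutative H) (ha : a ∈ H)
    (aa : a * a = 1) (hb : b ∈ H) (bb : b * b = 1) (hM : C1 b ≤ NN (O {2}ᶜ (C1 b) ⊔ H : Subgroup X))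
    (hx : x ∈ O {2}ᶜ (C1 b)) (hv : v ∈ cj g H) (vv : v * v = 1) (ho : Odd (orderOf (v * a))) :
    Odd (orderOf (v * (x * a * x⁻¹))) := by
  have HC : H ≤ C1 b := fun k hk => mem_C1'.2 (cm_of_ab hab hk hb)
  have xb : x * b * x⁻¹ = b := conj_eq_of_C1 (O_le _ _ hx)
  have bH' : b ∈ cj x H := xb ▸ conj_mem_cj hb
  have hH' := IsPGroup.cj hH x
  have n1 : ∀ J : Subgroup X, ∀ k, J ≤ NN (O {2}ᶜ (J ⊔ cj k J)) := fun J k =>
    nn_O (nn_of_le le_sup_left)
  have h1 : v * a ∈ O {2}ᶜ (H ⊔ cj g H) := odd_mem (odd_O _) hH (n1 H g) (by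
    rw [h.compl hH hab (mem_top g)]; exact mul_mem (mem_sup_right hv) (mem_sup_left ha)) ho
  obtain ⟨z1, z2⟩ := two_inv (odd_O _) hH (n1 H g) ha hb (sq_mul (cm_of_ab hab ha hb) aa bb) aa h1
  obtain ⟨a', ha', aa', h2⟩ := proj2 (odd_O _) hH' (n1 (cj x H) (g * x⁻¹)) (v := v) (by
    rw [(h.cj x).compl hH' (ab_cj hab x) (mem_top _), cj_cj, inv_mul_cancel_right]
    exact mem_sup_right hv) vv
  obtain ⟨-, z3⟩ := two_inv (odd_O _) hH' (n1 (cj x H) (g * x⁻¹)) ha' bH'
    (sq_mul (cm_of_ab (ab_cj hab x) ha' bH') aa' bb) aa' h2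
  set z := two (v * b) with hz
  have zb : z ∈ C1 b := by
    have := inv_of_inv (inv_r vv bb) (two_mem (v * b))
    rw [← hz, inv_self z1] at this
    exact mem_C1'.2 (commute_iff_conj.2 this).symm
  have n2 : H ≤ NN (O {2}ᶜ (C1 b)) := nn_O (nn_of_le HC)
  have abH := mul_mem ha hb
  have zM : z ∈ O {2}ᶜ (C1 b) ⊔ H := by
    obtain ⟨c, hc, e⟩ := conj_of_inv z2 (inv_r z1 (sq_mul (cm_of_ab hab ha hb) aa bb))
    rw [mul_assoc, sq_mul (cm_of_ab hab ha hb) aa bb, mul_one] at e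
    rw [e]
    exact conj_mem_of_mem_normalizer (hM (zle (mul_mem zb (HC abH)) hc)) (mem_sup_right abH)
  have xM : cj x H ≤ O {2}ᶜ (C1 b) ⊔ H := cj_le' le_sup_right (mem_sup_left hx)
  have k1 := odd_mem (odd_O _) hH n2 (mul_mem zM (mem_sup_right abH)) z2
  have k2 := odd_mem (odd_O _) hH n2 (mul_mem zM (xM (mul_mem ha' bH'))) z3
  have k3 : a⁻¹ * a' ∈ O {2}ᶜ (C1 b) := by
    have := conj_mem_of_mem_normalizer (n2 hb) (mul_mem (inv_mem k1) k2)
    convert this using 1; group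
  have k4 : (x * a * x⁻¹)⁻¹ * a' = 1 := by
    refine eq_one_of_odd_of_mem hH' (mul_mem (inv_mem (conj_mem_cj ha)) ha')
      (odd_orderOf_of_mem (odd_O (C1 b)) ?_)
    have := mul_mem (mul_mem hx (inv_conj_mem_of_mem_normalizer (n2 ha) (inv_mem hx))) k3
    convert this using 1; group
  rw [inv_mul_eq_one.1 k4]
  exact odd_orderOf_of_mem (odd_O _) h2

/-- the stabilizer of the set of involutions odd-related to `a` -/
def St (H : Subgroup X) (a : X) : Subgroup X where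
  carrier := {x | ∀ v, (∃ g, v ∈ cj g H) → v * v = 1 →
    (Odd (orderOf (v * a)) ↔ Odd (orderOf (v * (x * a * x⁻¹))))}
  one_mem' := fun v _ _ => by simp
  mul_mem' := fun {x y} hx hy v ⟨g, hv⟩ vv => by
    rw [hx v ⟨g, hv⟩ vv]
    have := hy (x⁻¹ * v * x) ⟨x⁻¹ * g, by
      rw [← cj_cj]; simpa using conj_mem_cj (g := x⁻¹) hv⟩ (by simpa using conj_mul_self vv x⁻¹)
    rw [← ord_conj x, ← ord_conj x (_ * (y * _ * _))] at this
    convert this using 3 <;> group
  inv_mem' := fun {x} hx v ⟨g, hv⟩ vv => by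
    have := hx (x * v * x⁻¹) ⟨x * g, by rw [← cj_cj]; exact conj_mem_cj hv⟩ (conj_mul_self vv x)
    rw [← ord_conj x⁻¹, ← ord_conj x⁻¹ (_ * (x * a * _))] at this
    convert this.symm using 3 <;> group

theorem ec_isol (h : EC ⊤ H) (hH : IsPGroup 2 H) (hab : IsMulCommutative H) (ha : a ∈ H)
    (aa : a * a = 1) (a1 : a ≠ 1) (hL : normalClosure (H : Set X) = ⊤)
    (hM : ∀ b ∈ H, b * b = 1 → b ≠ 1 → C1 b ≤ NN (O {2}ᶜ (C1 b) ⊔ H : Subgroup X)) :
    IsIsolated a := by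
  have n1 : ∀ k, H ≤ NN (O {2}ᶜ (H ⊔ cj k H)) := fun k => nn_O (nn_of_le le_sup_left)
  have fin : ∀ g, Odd (orderOf (g * a * g⁻¹ * a)) → Commute a (g * a * g⁻¹) → g * a * g⁻¹ = a := by
    intro g h1 h2
    have := eq_one_of_odd_of_mul_self h1 (sq_mul h2.symm (conj_mul_self aa g) aa)
    rw [eq_inv_of_mul_eq_one_left this, inv_self aa]
  by_cases hc : IsCyclic H
  · intro g hg
    obtain ⟨k, hk, kk, h1⟩ := proj2 (odd_O _) hH (n1 g) (v := g * a * g⁻¹) (by
      rw [h.compl hH hab (mem_top g)]; exact mem_sup_right (conj_mem_cj ha)) (conj_mul_self aa g)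
    have k1 : k ≠ 1 := fun e => a1 (by
      rw [e, mul_one] at h1
      simpa using eq_one_of_odd_of_mul_self (odd_orderOf_of_mem (odd_O _) h1) (conj_mul_self aa g))
    have e := cyc_eq hc (zle ha) (zle hk) (by
      rw [Nat.card_zpowers, Nat.card_zpowers, ord2 aa a1, ord2 kk k1])
    rw [(mem_zp2 aa (e ▸ mem_zpowers k)).resolve_left k1] at h1
    exact fin g (odd_orderOf_of_mem (odd_O _) h1) hg
  have s1 : C1 a ≤ St H a := fun x hx v _ _ => by rw [conj_eq_of_C1 hx]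
  have s2 : ∀ b ∈ H, b * b = 1 → b ≠ 1 → O {2}ᶜ (C1 b) ≤ St H a := by
    rintro b hb bb b1 x hx v ⟨g, hv⟩ vv
    refine ⟨ec_key h hH hab ha aa hb bb (hM b hb bb b1) hx hv vv, fun k => ?_⟩
    have := ec_key (v := x⁻¹ * v * x) (g := x⁻¹ * g) h hH hab ha aa hb bb (hM b hb bb b1)
      (inv_mem hx) (by rw [← cj_cj]; simpa using conj_mem_cj (g := x⁻¹) hv)
      (by simpa using conj_mul_self vv x⁻¹) (by
        rw [← ord_conj x⁻¹] at k; convert k using 2; group)
    rw [← ord_conj x] at this; convert this using 2; group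
  have s3 : ∀ g, cj g H ≤ St H a := by
    intro g
    refine le_sup_right.trans ((h.compl hH hab (mem_top g)).ge.trans (sup_le ?_
      (fun k hk => s1 (mem_C1'.2 (cm_of_ab hab hk ha)))))
    set U := O {2}ᶜ (H ⊔ cj g H)
    have hcop : (#H).Coprime #U := by
      obtain ⟨k, hk⟩ := IsPGroup.iff_card.1 hH
      rw [hk]; exact Nat.Coprime.pow_left _ (odd_iff_coprime_two.1 (odd_O _)).symm
    refine cop_gen hab hc (n1 g) hcop fun k hk k1 => ?_
    obtain ⟨b, hb, bb, b1⟩ := exists_invol (hH.to_le (zle hk)) (ne_bot_of_mem (mem_zpowers k) k1)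
    have bH := zle hk hb
    have HC : H ≤ C1 b := fun k hk => mem_C1'.2 (cm_of_ab hab hk bH)
    refine (inf_le_inf_left _ (C1_le_of_mem_zpowers hb)).trans ?_
    have n2 : H ≤ NN (U ⊓ C1 b : Subgroup X) := nn_inf (n1 g) (nn_of_le HC)
    rw [← Solv.coprime_commutator_sup_centralizer n2 (coprime_mono hcop le_rfl inf_le_left)
      (.inl (sol_of_pg hH))]
    refine sup_le (fun r hr => s2 b bH bb b1 ?_) (inf_le_right.trans ((cc_le_C1 ha).trans s1))
    refine odd_mem (odd_O _) hH (nn_O (nn_of_le HC)) ?_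
      (odd_orderOf_of_mem (odd_O _) (comm_le_left n2 hr).1)
    exact (commutator_mono le_rfl le_sup_right).trans
      (comm_le_right (inf_le_right.trans (hM b bH bb b1))) hr
  have s4 : ⊤ ≤ St H a := by
    rw [← hL, normalClosure, closure_le]
    intro c hc
    obtain ⟨k, hk, hc⟩ := Group.mem_conjugatesOfSet_iff.1 hc
    obtain ⟨g, rfl⟩ := isConj_iff.1 hc
    exact s3 g (conj_mem_cj hk)
  intro g hg
  refine fin g ?_ hg
  have := (s4 (mem_top g) a ⟨1, by simpa using ha⟩ aa).1 (by simp [aa])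
  rwa [hg.eq] at this

theorem card_quot_lt' (M : Subgroup X) [M.Normal] (h2 : M ≠ ⊥) :
    #(⊤ : Subgroup (X ⧸ M)) < #(⊤ : Subgroup X) := by
  have := card_quot_lt (G := ⊤) M le_top h2
  rwa [map_top_of_surjective _ (QuotientGroup.mk'_surjective M)] at this

theorem ec_top (h : EC ⊤ H) (hH : IsPGroup 2 H) (hab : IsMulCommutative H)
    (ih : ∀ (Y : Type u) [Group Y] [Finite Y] (C' H' : Subgroup Y), #C' < #(⊤ : Subgroup X) →
      H' ≤ C' → EC C' H' → IsPGroup 2 H' → IsMulCommutative H' →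
      C' ≤ NN (O {2}ᶜ C' ⊔ H' : Subgroup Y)) :
    ⊤ ≤ NN (O {2}ᶜ ⊤ ⊔ H : Subgroup X) := by
  have quot : ∀ (M : Subgroup X) [M.Normal], M ≠ ⊥ → O {2}ᶜ (⊤ : Subgroup (X ⧸ M)) = ⊥ →
      ⊤ ≤ NN (M ⊔ H : Subgroup X) := by
    intro M _ h1 h2
    have h3 := h.map hH (QuotientGroup.mk' M)
    rw [map_top_of_surjective _ (QuotientGroup.mk'_surjective M)] at h3
    have h4 := ih _ ⊤ _ (card_quot_lt' M h1) le_top h3 (hH.map _) (Subgroup.map_isMulCommutative _ _)
    rw [h2, bot_sup_eq] at h4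
    haveI := normalizer_eq_top_iff.1 (top_le_iff.1 h4)
    have := (inferInstance : ((H.map (QuotientGroup.mk' M)).comap (QuotientGroup.mk' M)).Normal)
    rw [comap_map_eq, QuotientGroup.ker_mk', sup_comm] at this
    exact nn_normal
  by_cases hO : O {2}ᶜ (⊤ : Subgroup X) = ⊥
  swap
  · haveI : (O {2}ᶜ (⊤ : Subgroup X)).Normal := normalizer_eq_top_iff.1 (top_le_iff.1 (nn_O nn_top))
    refine quot _ hO ?_
    rw [← map_top_of_surjective _ (QuotientGroup.mk'_surjective _), ← map_O _ (by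
      rw [QuotientGroup.ker_mk', top_inf_eq]; exact O_pi _ _), Subgroup.map_eq_bot_iff,
      QuotientGroup.ker_mk']
  rw [hO, bot_sup_eq]
  by_cases hL : normalClosure (H : Set X) = ⊤
  swap
  · have h1 := ih X _ H (card_lt_of_lt (lt_top_iff_ne_top.2 hL)) le_normalClosure
      (fun g _ => h g (mem_top g)) hH hab
    rw [show O {2}ᶜ (normalClosure (H : Set X)) = ⊥ from
      eq_bot_iff.2 (hO ▸ O_le_O le_top nn_normal), bot_sup_eq] at h1
    refine fun g _ => mem_normalizer_of_cj_le ((le_inf le_sup_right ?_).trans (h g (mem_top g)).le)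
    exact (cj_le le_normalClosure (nn_normal (mem_top g))).trans h1
  by_cases hZ : ∃ z ∈ H, z * z = 1 ∧ z ≠ 1 ∧ z ∈ center X
  · obtain ⟨z, zH, zz, z1, hz⟩ := hZ
    haveI : (zpowers z).Normal := normalizer_eq_top_iff.1 (top_le_iff.1
      fun g _ => nn_zp (mem_center_iff.1 hz g))
    have hO' : oddCore X = ⊥ := by
      have := O_odd_eq_bot_iff.1 hO
      rw [oddCore_eq_bot_iff] at this ⊢
      intro N hN hN'
      have k := le_O (π := {2}ᶜ) (A := N) (H := ⊤) le_top nn_normal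
        (pi_compl_iff_coprime.2 (odd_iff_coprime_two.1 hN'))
      exact eq_bot_iff.2 (hO ▸ k)
    have := quot _ (ne_bot_of_mem (mem_zpowers z) z1) (by
      have k := oddCore_eq_bot_iff.1 (oddCore_quotient_of_central zz hz hO')
      cases nonempty_fintype (X ⧸ zpowers z)
      exact k _ (normalizer_eq_top_iff.1 (top_le_iff.1 (nn_O nn_top))) (odd_O _))
    rwa [sup_eq_right.2 (zle zH)] at this
  by_cases h0 : H = ⊥
  · rw [h0]; exact nn_bot
  obtain ⟨a, ha, aa, a1⟩ := exists_invol hH h0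
  refine absurd ⟨a, ha, aa, a1, zstar_elt_center (ec_isol h hH hab ha aa a1 hL fun b hb bb b1 => ?_)
    (pg_of_sq aa) ?_⟩ hZ
  · refine ih X _ H (card_lt_of_lt (lt_top_iff_ne_top.2 fun e => hZ ⟨b, hb, bb, b1, ?_⟩))
      (fun k hk => mem_C1'.2 (cm_of_ab hab hk hb)) (fun g _ => h g (mem_top g)) hH hab
    exact mem_center_iff.2 fun g => mem_C1.1 (e ▸ mem_top g)
  · rw [oddCore_eq_bot_iff]
    intro N hN hN'
    have k := le_O (π := {2}ᶜ) (A := N) (H := ⊤) le_top nn_normal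
      (pi_compl_iff_coprime.2 (odd_iff_coprime_two.1 hN'))
    exact eq_bot_iff.2 (hO ▸ k)

end

theorem ec_main (n : ℕ) : ∀ (X : Type u) [Group X] [Finite X] (C H : Subgroup X), #C = n → H ≤ C →
    EC C H → IsPGroup 2 H → IsMulCommutative H → C ≤ NN (O {2}ᶜ C ⊔ H : Subgroup X) := by
  induction n using Nat.strong_induction_on with
  | _ n ih =>
  intro X _ _ C H hn hHC h hH hab
  cases nonempty_fintype C
  have e1 : (H.subgroupOf C).map C.subtype = H := map_subgroupOf_eq_of_le hHC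
  have e2 : (⊤ : Subgroup C).map C.subtype = C := by rw [← MonoidHom.range_eq_map, range_subtype]
  have := ec_top (H := H.subgroupOf C) (fun g _ => le_antisymm (fun x hx => by
      refine (h g g.2).le ⟨?_, mem_normalizer_of_conj_mem fun y hy =>
        conj_mem_of_mem_normalizer hx.2 (x := ⟨y, hHC hy⟩) hy⟩
      have k : H.subgroupOf C ⊔ cj g (H.subgroupOf C) ≤ (H ⊔ cj g H).subgroupOf C :=
        sup_le (subgroupOf_mono _ le_sup_left) (fun y hy => mem_sup_right
          ((mem_cj (g := (g : X)) (x := (y : X))).2 ((mem_cj (g := g) (x := y)).1 hy)))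
      exact k hx.1) (le_inf le_sup_left (le_nn _)))
    (hH.comap_subtype) inferInstance
    (fun Y _ _ C' H' h1 h2 => ih _ (by rw [← hn, ← card_top (G := C)]; exact h1) Y C' H' rfl h2)
  have k := BG.map_le_normalizer C.subtype this
  rwa [Subgroup.map_sup, e1, map_O _ (by rw [ker_subtype, inf_bot_eq]; exact IsPi.bot), e2] at k

theorem ec_final {G : Type u} [Group G] [Finite G] (H : Subgroup G) (hH2 : IsPGroup 2 H)
    (hHab : IsMulCommutative H) (hcl : ∀ g, (H ⊔ cj g H) ⊓ NN H = H) :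
    NN H ⊔ oddCore G = ⊤ := by
  cases nonempty_fintype G
  have h1 := ec_main _ G ⊤ H rfl le_top (fun g _ => hcl g) hH2 hHab
  have n2 : H ≤ NN (O {2}ᶜ (⊤ : Subgroup G)) := nn_O nn_top
  have h2 : IsSyl 2 H (O {2}ᶜ ⊤ ⊔ H) := by
    rw [sup_comm]; exact (Hall.of_sup' (pi1_of_pg hH2) (O_pi _ _) n2).syl
  have h3 := frattini h2 le_top h1
  have h4 : O {2}ᶜ (⊤ : Subgroup G) ≤ oddCore G := by
    haveI : (O {2}ᶜ (⊤ : Subgroup G)).Normal := normalizer_eq_top_iff.1 (top_le_iff.1 (nn_O nn_top))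
    exact le_oddCore (odd_O _)
  rw [eq_top_iff, ← h3]
  exact sup_le (sup_le (h4.trans le_sup_right) ((le_nn H).trans le_sup_left))
    (inf_le_right.trans le_sup_left)

end Cfsg.Agent.Ca
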