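import Cfsg.Agent.Lib.Fusion.PPrime

/-! Essential subgroups cannot be omitted from generating families. -/

set_option autoImplicit false
set_option linter.unusedSectionVars false
set_option linter.unusedVariables false
open Cfsg Cfsg.FusionSystem

namespace Cfsg.Agent.Fusion

variable {Ω : Type*} [Group Ω] {S P Q U V : Subgroup Ω} {F : FusionSystem S} {f g ψ : Ω → Ω} {p : ℕ}

/-- Data of a strongly embedded subgroup, upstairs. -/
structure SEData (p : ℕ) (A N H : Subgroup (MulAut Q)) : Prop where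
  mem : ∀ γ ∈ A, ∀ σ ∈ H, σ ∉ N → (∃ k, σ ^ p ^ k = 1) → γ * σ * γ⁻¹ ∈ H → γ ∈ H
  conj : ∀ X, X ≤ A → IsPGroup p X → ∃ γ ∈ A, ∀ x ∈ X, γ * x * γ⁻¹ ∈ H
  ne : ∃ k ∈ A, k ∉ H

/-- `ψ` carries `Aut_S(U)` into `H`. -/
def GoodH (S : Subgroup Ω) (H : Subgroup (MulAut Q)) (U : Subgroup Ω) (ψ : Ω → Ω) : Prop :=
  ∀ s ∈ normalizerIn S U, ∀ σ : MulAut Q, (∀ x ∈ U, afun σ (ψ x) = ψ (s * x * s⁻¹)) → σ ∈ H

variable {H : Subgroup (MulAut Q)}

theorem GoodH.congr (h : GoodH S H U f) (e : ∀ x ∈ U, f x = g x) : GoodH S H U g :=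
  fun s hs σ a => h s hs σ fun x hx => by
    rw [e x hx, e _ (conj_mem_of_mem_normalizerIn hs hx), a x hx]

variable [hp : Fact p.Prime] [Finite S]

theorem exists_seData (hQ : F.IsEssential p Q) : ∃ H, SEData p (F.autGroup Q) (Inn Q) H := by
  obtain ⟨h1, -, hn, Y, hY⟩ := hQ
  have := finite_of_le h1.1
  have := finite_mulAut Q
  let π := QuotientGroup.mk' ((Inn Q).subgroupOf (F.autGroup Q))
  have hm : ∀ a : F.autGroup Q, (a : MulAut Q) ∈ (Y.comap π).map (F.autGroup Q).subtype ↔ π a ∈ Y :=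
    fun a => Subgroup.mem_map_iff_mem (f := (F.autGroup Q).subtype) Subtype.val_injective
  refine ⟨(Y.comap π).map (F.autGroup Q).subtype, fun γ hγ σ hσ hN ⟨k, hk⟩ h => ?_, fun X h1 h2 => ?_, ?_⟩
  · have hσ' := Subgroup.map_subtype_le _ hσ
    exact (hm ⟨γ, hγ⟩).2 (IsStronglyPEmbedded.mem hY ((hm ⟨σ, hσ'⟩).1 hσ)
      (fun e => hN ((QuotientGroup.eq_one_iff (⟨σ, hσ'⟩ : F.autGroup Q)).1 e))
      ⟨k, by rw [← map_pow, show (⟨σ, hσ'⟩ : F.autGroup Q) ^ p ^ k = 1 from Subtype.ext hk, map_one]⟩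
      (by rw [← map_inv, ← map_mul, ← map_mul]; exact (hm _).1 h))
  · obtain ⟨R, r1, -, r2⟩ := IsStronglyPEmbedded.exists_sylow hY
    obtain ⟨c, -, hc⟩ := r1.conj (D := (X.subgroupOf _).map π) le_top ((pgroup_subgroupOf h2).map π)
    obtain ⟨c, rfl⟩ := QuotientGroup.mk'_surjective _ c
    exact ⟨c, c.2, fun x hx => (hm (c * ⟨x, h1 hx⟩ * c⁻¹)).2 (by
      rw [map_mul, map_mul, map_inv]; exact r2 (hc _ ⟨⟨x, h1 hx⟩, hx, rfl⟩))⟩
  · by_contra hn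
    push Not at hn
    refine hY.2.1 (top_le_iff.1 fun y _ => ?_)
    obtain ⟨a, rfl⟩ := QuotientGroup.mk'_surjective _ y
    exact (hm a).1 (hn a a.2)

theorem goodH_of (hS : IsPGroup p S) (hc : F.IsCentric Q) (hH : SEData p (F.autGroup Q) (Inn Q) H)
    (hψ : Mor F U ψ) (e : img ψ U = Q) {s : Ω} (hs : s ∈ normalizerIn S U) (hs' : s ∉ U)
    {σ : MulAut Q} (eσ : ∀ x ∈ U, afun σ (ψ x) = ψ (s * x * s⁻¹)) (hσ : σ ∈ H) : GoodH S H U ψ := by
  obtain ⟨τ, t1, t2, t3⟩ := hψ.exists_transport e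
  have key : ∀ s ∈ normalizerIn S U, ∀ σ : MulAut Q, (∀ x ∈ U, afun σ (ψ x) = ψ (s * x * s⁻¹)) →
      ∃ c : MulAut U, (∀ x ∈ U, afun c x = s * x * s⁻¹) ∧ τ c = σ := fun s hs σ a => by
    obtain ⟨c, hc⟩ := exists_cAut hs.2
    refine ⟨c, hc, aut_ext fun y hy => ?_⟩
    obtain ⟨x, hx, rfl⟩ := hψ.mem_img.1 (e.ge hy)
    rw [t1 c x hx, hc x hx, a x hx]
  have hX := (autInducedBy_pgroup hS U).map τ.toMonoidHom
  obtain ⟨γ, g1, g2⟩ := hH.conj _ (by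
    rintro _ ⟨c, hc, rfl⟩; exact (t2 c).2 (autInducedBy_le_autGroup F hψ.le hc)) hX
  obtain ⟨c, c1, rfl⟩ := key s hs σ eσ
  have m : τ c ∈ (autInducedBy S U).map τ.toMonoidHom := ⟨c, mem_autInducedBy.2 ⟨s, hs.1, c1⟩, rfl⟩
  have hγ := hH.mem γ g1 _ hσ (fun h => hs' (mem_of_cAut_mem_Inn
    (hc.2 U (isConj_symm (e ▸ hψ.isConj))) hψ.le hs.1 c1 ((t3 c).1 h)))
    ((hX ⟨_, m⟩).imp fun k hk => congrArg Subtype.val hk) (g2 _ m)
  intro t ht σ a
  obtain ⟨d, d1, rfl⟩ := key t ht σ a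
  have := g2 _ ⟨d, mem_autInducedBy.2 ⟨t, ht.1, d1⟩, rfl⟩
  exact (H.mul_mem_cancel_left hγ).1 ((H.mul_mem_cancel_right (H.inv_mem hγ)).1 this)

/-- Maps preserving good identifications. -/
def PresH (F : FusionSystem S) (H : Subgroup (MulAut Q)) (P : Subgroup Ω) (f : Ω → Ω) : Prop :=
  Mor F P f ∧ ∀ U U' ψ, U ≤ P → img f U = U' → Mor F U' ψ → img ψ U' = Q →
    (GoodH S H U' ψ ↔ GoodH S H U fun x => ψ (f x))

theorem presH_of (hS : IsPGroup p S) (hc : F.IsCentric Q) (hH : SEData p (F.autGroup Q) (Inn Q) H)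
    (hf : Mor F V f) (hV : ¬ F.IsConj Q V) : PresH F H V f := ⟨hf, fun U U' ψ h1 e hψ e' => by
  subst e
  have hf' := hf.mono h1
  have k1 := hf'.comp hψ fun x hx => subset_img hx
  have k2 := (hf'.img_comp' ψ).trans e'
  have := finite_of_le hf.le
  obtain ⟨s, hs, hs'⟩ := SetLike.exists_of_lt (lt_normalizerIn (pgroup_of_le hS hf.le)
    (lt_of_le_of_ne h1 fun e => hV (e ▸ isConj_symm (k2 ▸ k1.isConj))))
  have m : s ∈ normalizerIn S U := ⟨hf.le hs.1, hs.2⟩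
  have m' := hf.mem_normalizer_img h1 hs.1 hs.2
  obtain ⟨τ, t1, -⟩ := k1.exists_transport k2
  obtain ⟨c, hc'⟩ := exists_cAut hs.2
  have a : ∀ x ∈ U, afun (τ c) (ψ (f x)) = ψ (f (s * x * s⁻¹)) := fun x hx => by
    rw [t1 c x hx, hc' x hx]
  have b : ∀ y ∈ img f U, afun (τ c) (ψ y) = ψ (f s * y * (f s)⁻¹) := fun y hy => by
    obtain ⟨x, hx, rfl⟩ := hf'.mem_img.1 hy
    rw [a x hx, hf.map_conj hs.1 (h1 hx)]
  exact ⟨fun h => goodH_of hS hc hH k1 k2 m hs' a (h _ m' _ b), fun h => goodH_of hS hc hH hψ e' m'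
    (fun n => hs' ((hf.apply_mem_img_iff h1 hs.1).1 n)) b (h _ m _ a)⟩⟩

theorem exists_omit (hS : IsPGroup p S) (hF : F.IsSaturated p) (hQ : F.IsEssential p Q) :
    ∃ E : FusionSystem S, (∀ R, R ≤ S → ¬ F.IsConj Q R → F.autGroup R ≤ E.autGroup R) ∧ ¬ F ≤ E := by
  obtain ⟨H, hH⟩ := exists_seData hQ
  have hc := hQ.1
  have hlt : Q < S := lt_of_le_of_ne hc.1 fun e => by
    subst e
    obtain ⟨-, -, hn, Y, hY⟩ := hQ
    have := finite_mulAut Q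
    have h1 := (IsFullyAutomized.sylowIn (IsSaturated.fullyAutomized hS hF
      (fullyNormalized_of_normal le_rfl Subgroup.le_normalizer))).not_dvd_relIndex
    rw [← Inn_eq_autInducedBy] at h1
    exact h1 hY.1
  have hS' : ¬ F.IsConj Q S := fun h => (card_lt_of_lt hlt).ne (isConj_card h)
  have D : SysData S (PresH F H) := SysData.ofSub F (fun h => h.1) (fun h => h.1.le)
    (fun h _ hx => h.1.mem hx) (fun {P f g} h e => ⟨h.1.congr e, fun U U' ψ h1 h2 h3 h4 =>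
      (h.2 U U' ψ h1 ((img_congr fun x hx => e x (h1 hx)).trans h2) h3 h4).trans
        ⟨fun a => a.congr fun x hx => by rw [e x (h1 hx)],
          fun a => a.congr fun x hx => by rw [e x (h1 hx)]⟩⟩)
    (fun {P s} hP hs => ⟨mor_conj F hP hs, fun U U' ψ h1 =>
      (presH_of hS hc hH (mor_conj F le_rfl hs) hS').2 U U' ψ (h1.trans hP)⟩)
    (fun {P P' f g} hf hg m => ⟨hf.1.comp hg.1 m, fun U U' ψ h1 h2 h3 h4 => by
      have k : img f U ≤ P' := img_le_iff.2 fun x hx => m x (h1 hx)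
      have k' := ((hf.1.mono h1).img_comp' g).symm.trans h2
      exact (hg.2 _ U' ψ k k' h3 h4).trans (hf.2 U _ _ h1 rfl
        ((hg.1.mono k).comp h3 fun x hx => k' ▸ subset_img hx)
        (((hg.1.mono k).img_comp' ψ).trans (k' ▸ h4)))⟩)
    fun {P f g} hf hg e => ⟨hg, fun U U' ψ h1 h2 h3 h4 => by
      have k : U' ≤ P := h2 ▸ img_le_iff.2 fun y hy => by
        obtain ⟨x, hx, rfl⟩ := hf.1.mem_img.1 (h1 hy)
        rwa [e x hx]
      have k' : img f U' = U := by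
        rw [← h2, ← (hg.mono h1).img_comp' f]
        exact img_of_eq_id fun y hy => by
          obtain ⟨x, hx, rfl⟩ := hf.1.mem_img.1 (h1 hy)
          rw [e x hx]
      refine Iff.trans ?_ (hf.2 U' U _ k k' ((hg.mono h1).comp h3 fun x hx => h2 ▸ subset_img hx)
        (((hg.mono h1).img_comp' ψ).trans (h2 ▸ h4))).symm
      exact ⟨fun a => a.congr fun x hx => by rw [e x (k hx)],
        fun a => a.congr fun x hx => by rw [e x (k hx)]⟩⟩
  refine ⟨D.sys, fun R hR hn α hα => (mem_autGroup hR).2 (D.mor_iff.2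
    (presH_of hS hc hH ((mem_autGroup hR).1 hα) hn)), fun hle => ?_⟩
  obtain ⟨γ, g1, g2⟩ := hH.conj _ (autInducedBy_le_autGroup F hc.1) (autInducedBy_pgroup hS Q)
  obtain ⟨k, k1, k2⟩ := hH.ne
  obtain ⟨c, c1, c2⟩ := SetLike.exists_of_lt (Inn_lt_autInducedBy hS hlt (hc.2 Q (isConj_refl F hc.1)))
  have h1 : GoodH S H Q (afun γ) := fun s hs σ a => by
    obtain ⟨d, hd⟩ := exists_cAut hs.2
    rw [show σ = γ * d * γ⁻¹ from eq_mul_inv_of_mul_eq (aut_ext fun x hx => by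
      rw [afun_mul _ _ hx, afun_mul _ _ hx, a x hx, hd x hx])]
    exact g2 d (mem_autInducedBy.2 ⟨s, hs.1, hd⟩)
  have h2 := ((D.mor_iff.1 (le_iff_mor.1 hle _ _ ((mem_autGroup hc.1).1
    (mul_mem (mul_mem (inv_mem g1) k1) g1)))).2 Q Q _ le_rfl (img_afun _)
      ((mem_autGroup hc.1).1 g1) (img_afun _)).1 h1
  obtain ⟨s, hs, es⟩ := mem_autInducedBy.1 c1
  refine k2 (hH.mem k k1 _ (g2 c c1) (fun h => c2 ?_) ?_ (h2 s ⟨hs, mem_normalizer_of_afun es⟩ _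
    fun x hx => ?_))
  · have := (Inn_subgroupOf_normal (⊤ : Subgroup (MulAut Q))).conj_mem ⟨_, trivial⟩ h ⟨γ⁻¹, trivial⟩
    have e : γ⁻¹ * (γ * c * γ⁻¹) * γ⁻¹⁻¹ = c := by group
    exact e ▸ this
  · obtain ⟨j, hj⟩ := autInducedBy_pgroup hS Q ⟨c, c1⟩
    exact ⟨j, by rw [conj_pow, show c ^ p ^ j = 1 from congrArg Subtype.val hj]; group⟩
  · beta_reduce
    rw [← es x hx, ← afun_mul _ c hx, ← afun_mul _ _ hx, ← afun_mul _ _ hx, ← afun_mul _ _ hx]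
    congr 1; group

theorem exists_omit_top : ∃ E : FusionSystem S, (∀ R, R < S → F.autGroup R ≤ E.autGroup R) ∧
    E.autGroup S ≤ Inn S := by
  have D : SysData S (fun P f => Mor F P f ∧ (P = S → Mor (innerFusionSystem S) P f)) :=
    SysData.ofSub F (fun h => h.1) (fun h => h.1.le) (fun h _ hx => h.1.mem hx)
      (fun h e => ⟨h.1.congr e, fun a => (h.2 a).congr e⟩)
      (fun hP hs => ⟨mor_conj F hP hs, fun _ => mor_conj _ hP hs⟩)
      (fun {P P' f g} hf hg m => ⟨hf.1.comp hg.1 m, fun a => (hf.2 a).comp (hg.2 (by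
        subst a
        exact le_antisymm hg.1.le ((hf.1.img_eq_self fun x hx => hf.1.mem hx).ge.trans
          (img_le_iff.2 m)))) m⟩)
      fun {P f g} hf hg e => ⟨hg, fun a => (hf.2 (Subgroup.eq_of_le_of_card_ge hf.1.le
        (by rw [← hf.1.card_img, a]))).eq_inv e⟩
  refine ⟨D.sys, fun R hR α hα => (mem_autGroup hR.le).2 (D.mor_iff.2
    ⟨(mem_autGroup hR.le).1 hα, fun e => absurd e hR.ne⟩), fun α hα => ?_⟩
  exact mem_Inn.2 (mor_inner_iff.1 ((D.mor_iff.1 ((mem_autGroup le_rfl).1 hα)).2 rfl)).2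

theorem autGroup_of_not_le (h : ¬ P ≤ S) : F.autGroup P = ⊥ :=
  eq_bot_iff.2 ((Subgroup.closure_le _).2 fun _ hα => absurd (F.le_of_mem hα).1 h)

end Cfsg.Agent.Fusion
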