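import Cfsg.Agent.Lib.Fusion.Normal

/-! Fusion systems of finite groups. -/

set_option autoImplicit false

namespace Cfsg.Agent.Fusion

open Cfsg Cfsg.FusionSystem

variable {Ω : Type*} [Group Ω] {H T P Q R : Subgroup Ω} {f g : Ω → Ω} {p : ℕ} {hTH : T ≤ H}

theorem groupFusionSystem_eq (S : Subgroup Ω) :
    groupFusionSystem S = fusionSystemOfSubgroup ⊤ S le_top :=
  sys_ext fun P f => by simp [mor_group_iff, mor_subgroup_iff]

theorem innerFusionSystem_eq (S : Subgroup Ω) :
    innerFusionSystem S = fusionSystemOfSubgroup S S le_rfl :=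
  sys_ext fun P f => by
    rw [mor_inner_iff, mor_subgroup_iff]
    refine and_congr_right fun hP => ⟨fun ⟨g, hg, e⟩ => ⟨fun x hx => ?_, g, hg, e⟩, fun h => h.2⟩
    rw [e x hx]; exact S.mul_mem (S.mul_mem hg (hP hx)) (S.inv_mem hg)

theorem mem_img_conj {s y : Ω} : y ∈ img (fun x => s * x * s⁻¹) P ↔ s⁻¹ * y * s ∈ P := by
  rw [img_conj]
  constructor
  · rintro ⟨x, hx, rfl⟩; simpa [mul_assoc] using hx
  · intro h; exact ⟨_, h, by simp [mul_assoc]⟩

theorem mor_sub_conj (hTH : T ≤ H) (hP : P ≤ T) {s : Ω} (hs : s ∈ H)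
    (h : ∀ x ∈ P, s * x * s⁻¹ ∈ T) :
    Mor (fusionSystemOfSubgroup H T hTH) P (fun x => s * x * s⁻¹) :=
  mor_subgroup_iff.2 ⟨hP, h, s, hs, fun _ _ => rfl⟩

theorem autGroup_sub (hP : P ≤ T) :
    (fusionSystemOfSubgroup H T hTH).autGroup P = autInducedBy H P := by
  ext α
  rw [mem_autGroup hP, mor_subgroup_iff, mem_autInducedBy]
  exact ⟨fun h => h.2.2, fun h => ⟨hP, fun x hx => hP (afun_mem α hx), h⟩⟩

theorem isConj_sub_iff : (fusionSystemOfSubgroup H T hTH).IsConj P Q ↔
    P ≤ T ∧ Q ≤ T ∧ ∃ s ∈ H, img (fun x => s * x * s⁻¹) P = Q := by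
  rw [isConj_iff]
  constructor
  · rintro ⟨f, hf, rfl⟩
    obtain ⟨h1, -, s, hs, e⟩ := mor_subgroup_iff.1 hf
    exact ⟨h1, hf.img_le, s, hs, (img_congr e).symm⟩
  · rintro ⟨h1, h2, s, hs, e⟩
    exact ⟨_, mor_sub_conj hTH h1 hs fun x hx => h2 (e ▸ subset_img (f := fun x => s * x * s⁻¹) hx),
      e⟩

theorem card_img_conj (s : Ω) (P : Subgroup Ω) :
    Nat.card (img (fun x => s * x * s⁻¹) P) = Nat.card P := by
  rw [img_conj]; exact Subgroup.card_map_of_injective (MulAut.conj s).injective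

theorem img_conj_normalizerIn {s : Ω} (hs : s ∈ H) :
    img (fun x => s * x * s⁻¹) (normalizerIn H P) =
      normalizerIn H (img (fun x => s * x * s⁻¹) P) := by
  ext y
  simp only [mem_img_conj, mem_normalizerIn]
  refine and_congr ⟨fun h => ?_, fun h => H.mul_mem (H.mul_mem (H.inv_mem hs) h) hs⟩
    ⟨fun h x => ?_, fun h x => ?_⟩
  · simpa [mul_assoc] using H.mul_mem (H.mul_mem hs h) (H.inv_mem hs)
  · rw [h]; simp [mul_assoc]
  · have := h (s * x * s⁻¹); simpa [mul_assoc] using this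

theorem img_conj_centralizerIn {s : Ω} (hs : s ∈ H) :
    img (fun x => s * x * s⁻¹) (centralizerIn H P) =
      centralizerIn H (img (fun x => s * x * s⁻¹) P) := by
  ext y
  simp only [mem_img_conj, mem_centralizerIn]
  refine and_congr ⟨fun h => ?_, fun h => H.mul_mem (H.mul_mem (H.inv_mem hs) h) hs⟩
    ⟨fun h x hx => ?_, fun h x hx => ?_⟩
  · simpa [mul_assoc] using H.mul_mem (H.mul_mem hs h) (H.inv_mem hs)
  · have := h _ hx
    calc _ = s * (s⁻¹ * y * s * (s⁻¹ * x * s) * (s⁻¹ * y * s)⁻¹) * s⁻¹ := by group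
      _ = x := by rw [this]; group
  · have := h (s * x * s⁻¹) (by simpa [mul_assoc] using hx)
    calc _ = s⁻¹ * (y * (s * x * s⁻¹) * y⁻¹) * s := by group
      _ = x := by rw [this]; group

theorem normalizerIn_mono (hTH : T ≤ H) : normalizerIn T P ≤ normalizerIn H P :=
  inf_le_inf_right _ hTH

theorem centralizerIn_mono (hTH : T ≤ H) : centralizerIn T P ≤ centralizerIn H P :=
  inf_le_inf_right _ hTH

theorem centralizerIn_conj_mem {c d : Ω} (hc : c ∈ normalizerIn H P) (hd : d ∈ centralizerIn H P) :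
    c * d * c⁻¹ ∈ centralizerIn H P := by
  rw [mem_centralizerIn] at hd ⊢
  refine ⟨H.mul_mem (H.mul_mem hc.1 hd.1) (H.inv_mem hc.1), fun x hx => ?_⟩
  have := hd.2 _ (conj_mem_of_mem_normalizerIn (Subgroup.inv_mem _ hc) hx)
  calc _ = c * (d * (c⁻¹ * x * c⁻¹⁻¹) * d⁻¹) * c⁻¹ := by group
    _ = x := by rw [this]; group

variable [Fact p.Prime] [Finite H]

/-- A general version of the choice of a good conjugate. -/
theorem exists_conj_sylowIn (hT : SylowIn p T H) (hP : P ≤ T) (X : Subgroup Ω → Subgroup Ω)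
    (hX : X P ≤ normalizerIn H P)
    (hX' : ∀ s ∈ H, img (fun x => s * x * s⁻¹) (X P) = X (img (fun x => s * x * s⁻¹) P)) :
    ∃ s ∈ H, img (fun x => s * x * s⁻¹) P ≤ T ∧
      SylowIn p (T ⊓ X (img (fun x => s * x * s⁻¹) P)) (X (img (fun x => s * x * s⁻¹) P)) := by
  obtain ⟨B, hB, -⟩ := exists_sylowIn_ge (p := p) (bot_le : ⊥ ≤ X P) IsPGroup.of_bot
  have hBN : B ≤ Subgroup.normalizer (P : Set Ω) := hB.le.trans (hX.trans inf_le_right)
  have hBH : B ≤ H := hB.le.trans (hX.trans inf_le_left)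
  have hp : IsPGroup p (B ⊔ P : Subgroup Ω) :=
    IsPGroup.to_sup_of_normal_right' hB.pgroup (pgroup_of_le hT.pgroup hP) hBN
  obtain ⟨s, hs, e⟩ := hT.conj (sup_le hBH (hP.trans hT.le)) hp
  refine ⟨s, hs, img_le_iff.2 fun x hx => e x (Subgroup.mem_sup_right hx), ?_⟩
  have : Finite (X P) := finite_of_le (hX.trans inf_le_left)
  have h2 := hB.map (MulAut.conj s).toMonoidHom
  rw [← img_conj, ← img_conj, hX' s hs] at h2
  have hle : img (fun x => s * x * s⁻¹) B ≤ T ⊓ X (img (fun x => s * x * s⁻¹) P) :=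
    le_inf (img_le_iff.2 fun x hx => e x (Subgroup.mem_sup_left hx)) h2.le
  rwa [le_antisymm hle (h2.max _ inf_le_right (pgroup_of_le hT.pgroup inf_le_left) hle)] at h2

omit [Fact p.Prime] [Finite H] in
theorem inf_normalizerIn (hTH : T ≤ H) : T ⊓ normalizerIn H P = normalizerIn T P := by
  rw [normalizerIn, ← inf_assoc, inf_eq_left.2 hTH]; rfl

omit [Fact p.Prime] [Finite H] in
theorem inf_centralizerIn (hTH : T ≤ H) : T ⊓ centralizerIn H P = centralizerIn T P := by
  rw [centralizerIn, ← inf_assoc, inf_eq_left.2 hTH]; rfl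

theorem exists_conj_sylow_normalizer (hT : SylowIn p T H) (hP : P ≤ T) :
    ∃ s ∈ H, img (fun x => s * x * s⁻¹) P ≤ T ∧
      SylowIn p (normalizerIn T (img (fun x => s * x * s⁻¹) P))
        (normalizerIn H (img (fun x => s * x * s⁻¹) P)) := by
  simpa only [inf_normalizerIn hT.le] using exists_conj_sylowIn hT hP (normalizerIn H) le_rfl
    fun s hs => img_conj_normalizerIn hs

theorem exists_conj_sylow_centralizer (hT : SylowIn p T H) (hP : P ≤ T) :
    ∃ s ∈ H, img (fun x => s * x * s⁻¹) P ≤ T ∧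
      SylowIn p (centralizerIn T (img (fun x => s * x * s⁻¹) P))
        (centralizerIn H (img (fun x => s * x * s⁻¹) P)) := by
  simpa only [inf_centralizerIn hT.le] using exists_conj_sylowIn hT hP (centralizerIn H)
    centralizerIn_le_normalizerIn fun s hs => img_conj_centralizerIn hs

theorem fullyNormalized_sub_iff (hT : SylowIn p T H) (hP : P ≤ T) :
    (fusionSystemOfSubgroup H T hTH).IsFullyNormalized P ↔
      SylowIn p (normalizerIn T P) (normalizerIn H P) := by
  have hfin : ∀ Q, Finite (normalizerIn H Q) := fun Q => finite_of_le normalizerIn_le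
  constructor
  · intro h
    obtain ⟨s, hs, h1, h2⟩ := exists_conj_sylow_normalizer hT hP
    have h3 := h.2 _ (isConj_sub_iff.2 ⟨hP, h1, s, hs, rfl⟩)
    refine sylowIn_of_card_ge (normalizerIn_mono hTH) (pgroup_of_le hT.pgroup normalizerIn_le) ?_
    rwa [h2.card_eq, ← img_conj_normalizerIn hs, card_img_conj] at h3
  · refine fun h => ⟨hP, fun Q hQ => ?_⟩
    obtain ⟨-, h1, s, hs, rfl⟩ := isConj_sub_iff.1 hQ
    have h2 := h.map (MulAut.conj s).toMonoidHom
    rw [← img_conj, ← img_conj, img_conj_normalizerIn hs] at h2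
    rw [← card_img_conj s (normalizerIn T P)]
    exact h2.card_le (normalizerIn_mono hTH) (pgroup_of_le hT.pgroup normalizerIn_le)

theorem fullyCentralized_sub_iff (hT : SylowIn p T H) (hP : P ≤ T) :
    (fusionSystemOfSubgroup H T hTH).IsFullyCentralized P ↔
      SylowIn p (centralizerIn T P) (centralizerIn H P) := by
  have hfin : ∀ Q, Finite (centralizerIn H Q) := fun Q => finite_of_le centralizerIn_le
  constructor
  · intro h
    obtain ⟨s, hs, h1, h2⟩ := exists_conj_sylow_centralizer hT hP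
    have h3 := h.2 _ (isConj_sub_iff.2 ⟨hP, h1, s, hs, rfl⟩)
    refine sylowIn_of_card_ge (centralizerIn_mono hTH) (pgroup_of_le hT.pgroup centralizerIn_le) ?_
    rwa [h2.card_eq, ← img_conj_centralizerIn hs, card_img_conj] at h3
  · refine fun h => ⟨hP, fun Q hQ => ?_⟩
    obtain ⟨-, h1, s, hs, rfl⟩ := isConj_sub_iff.1 hQ
    have h2 := h.map (MulAut.conj s).toMonoidHom
    rw [← img_conj, ← img_conj, img_conj_centralizerIn hs] at h2
    rw [← card_img_conj s (centralizerIn T P)]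
    exact h2.card_le (centralizerIn_mono hTH) (pgroup_of_le hT.pgroup centralizerIn_le)

theorem sylow_centralizer_of_normalizer (hTH : T ≤ H)
    (h : SylowIn p (normalizerIn T P) (normalizerIn H P)) :
    SylowIn p (centralizerIn T P) (centralizerIn H P) := by
  have : Finite (normalizerIn H P) := finite_of_le normalizerIn_le
  have h2 := h.inf_normal centralizerIn_le_normalizerIn fun c hc d hd => centralizerIn_conj_mem hc hd
  have e : normalizerIn T P ⊓ centralizerIn H P = centralizerIn T P :=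
    le_antisymm (inf_le_inf inf_le_left inf_le_right)
      (le_inf centralizerIn_le_normalizerIn (centralizerIn_mono hTH))
  rwa [e] at h2

omit [Fact p.Prime] [Finite H] in
theorem autInducedBy_normalizerIn (K P : Subgroup Ω) :
    autInducedBy (normalizerIn K P) P = autInducedBy K P := by
  ext α
  simp only [mem_autInducedBy]
  exact ⟨fun ⟨g, hg, e⟩ => ⟨g, hg.1, e⟩, fun ⟨g, hg, e⟩ => ⟨g, ⟨hg, mem_normalizer_of_afun e⟩, e⟩⟩

theorem sylow_aut_of_normalizer (h : SylowIn p (normalizerIn T P) (normalizerIn H P)) :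
    SylowIn p (autInducedBy T P) (autInducedBy H P) := by
  have : Finite (normalizerIn H P) := finite_of_le normalizerIn_le
  have h2 := h.subgroupOf (L := Subgroup.normalizer (P : Set Ω)) inf_le_right
  have : Finite ((normalizerIn H P).subgroupOf (Subgroup.normalizer (P : Set Ω))) :=
    Finite.of_equiv (normalizerIn H P) (Subgroup.subgroupOfEquivOfLe inf_le_right).symm.toEquiv
  have h3 := h2.map (cAut P)
  rwa [← autInducedBy_eq_map, ← autInducedBy_eq_map, autInducedBy_normalizerIn,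
    autInducedBy_normalizerIn] at h3

/-- The extension property inside a finite group. -/
theorem exists_conj_ext (hTH : T ≤ H) (h : SylowIn p (normalizerIn T Q) (normalizerIn H Q))
    {D : Subgroup Ω} (hD : IsPGroup p D) (hDM : D ≤ kNorm H Q (autInducedBy T Q)) :
    ∃ c ∈ centralizerIn H Q, ∀ d ∈ D, c * d * c⁻¹ ∈ T := by
  have hM := isKNorm_kNorm (S := H) (Q := Q) (K := autInducedBy T Q)
  have : Finite (kNorm H Q (autInducedBy T Q)) := finite_of_le hM.le
  have h2 : SylowIn p (normalizerIn T Q) (kNorm H Q (autInducedBy T Q)) := by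
    refine h.of_le (fun t ht => ?_) (le_inf hM.le hM.le_normalizer)
    obtain ⟨α, e⟩ := exists_cAut ht.2
    exact (hM t).2 ⟨hTH ht.1, α, mem_autInducedBy.2 ⟨t, ht.1, e⟩, e⟩
  obtain ⟨m, hm, e⟩ := h2.conj hDM hD
  obtain ⟨hmH, α, hα, eα⟩ := (hM m).1 hm
  obtain ⟨t, ht, et⟩ := mem_autInducedBy.1 hα
  refine ⟨t⁻¹ * m, mem_centralizerIn.2 ⟨H.mul_mem (H.inv_mem (hTH ht)) hmH, fun x hx => ?_⟩,
    fun d hd => ?_⟩
  · calc _ = t⁻¹ * (m * x * m⁻¹) * t := by group
      _ = x := by rw [← eα x hx, et x hx]; group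
  · have := T.mul_mem (T.mul_mem (T.inv_mem ht) (e d hd).1) ht
    convert this using 1; group

theorem receptive_sub (hT : IsPGroup p T) (hQ : Q ≤ T)
    (h : SylowIn p (normalizerIn T Q) (normalizerIn H Q)) :
    (fusionSystemOfSubgroup H T hTH).IsReceptive Q := by
  refine isReceptive_iff.2 ⟨hQ, fun P f hf e => ?_⟩
  obtain ⟨hP, -, s, hs, es⟩ := mor_subgroup_iff.1 hf
  have hM := isKNorm_kNorm (S := H) (Q := Q) (K := autInducedBy T Q)
  obtain ⟨c, hc, ec⟩ := exists_conj_ext hTH h (D := img (fun x => s * x * s⁻¹) (Next T P f))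
    (by rw [img_conj]; exact (pgroup_of_le hT Next_le).map _) (img_le_iff.2 fun n hn => by
      obtain ⟨h1, t, ht, et⟩ := hn
      have key : ∀ y ∈ Q, s * n * s⁻¹ * y * (s * n * s⁻¹)⁻¹ = t * y * t⁻¹ := by
        intro y hy
        obtain ⟨x, hx, rfl⟩ := hf.mem_img.1 (e ▸ hy)
        rw [← et x hx, es x hx, es _ (conj_mem_of_mem_normalizerIn h1 hx)]; group
      have : Finite Q := finite_of_le (hQ.trans hTH)
      obtain ⟨α, eα⟩ := exists_cAut (P := Q) (g := t) (mem_normalizer_of_finite fun y hy => by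
        obtain ⟨x, hx, rfl⟩ := hf.mem_img.1 (e ▸ hy)
        rw [← et x hx, ← e]; exact subset_img (conj_mem_of_mem_normalizerIn h1 hx))
      exact (hM _).2 ⟨H.mul_mem (H.mul_mem hs (hTH h1.1)) (H.inv_mem hs), α,
        mem_autInducedBy.2 ⟨t, ht, eα⟩, fun y hy => by rw [eα y hy, key y hy]⟩)
  refine ⟨_, mor_sub_conj hTH Next_le (H.mul_mem hc.1 hs) fun x hx => ?_, fun x hx => ?_⟩
  · have := ec _ (subset_img hx)
    convert this using 1; group
  · have := (mem_centralizerIn.1 hc).2 (f x) (e ▸ subset_img hx)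
    rw [← this, es x hx]; group

theorem sub_saturated (hT : SylowIn p T H) : (fusionSystemOfSubgroup H T hTH).IsSaturated p := by
  intro P hP
  obtain ⟨s, hs, h1, h2⟩ := exists_conj_sylow_normalizer hT hP
  refine ⟨_, isConj_sub_iff.2 ⟨hP, h1, s, hs, rfl⟩, isFullyAutomized_iff.2 ⟨h1, ?_⟩,
    receptive_sub hT.pgroup h1 h2⟩
  rw [autGroup_sub h1]; exact sylow_aut_of_normalizer h2

omit [Finite H] in
theorem group_saturated {G : Type*} [Group G] [Finite G] (S : Sylow p G) :
    (groupFusionSystem (S : Subgroup G)).IsSaturated p := by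
  rw [groupFusionSystem_eq]; exact sub_saturated (sylowIn_top S)

omit [Finite H] in
theorem inner_saturated [Finite T] (hT : IsPGroup p T) : (innerFusionSystem T).IsSaturated p := by
  rw [innerFusionSystem_eq]; exact sub_saturated ⟨le_rfl, hT, fun _ h _ _ => h⟩

omit [Fact p.Prime] [Finite H] in
theorem normal_sub_of_le_normalizer (hR : R ≤ T) (hn : H ≤ Subgroup.normalizer (R : Set Ω)) :
    (fusionSystemOfSubgroup H T hTH).IsNormal R := by
  refine isNormal_iff.2 ⟨hR, fun P f hf => ?_⟩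
  obtain ⟨hP, h2, s, hs, es⟩ := mor_subgroup_iff.1 hf
  have e : img (fun x => s * x * s⁻¹) R = R := by
    ext y
    rw [mem_img_conj]
    have := Subgroup.mem_normalizer_iff.1 (hn (H.inv_mem hs)) y
    rw [inv_inv] at this
    exact this.symm
  refine ⟨_, mor_sub_conj hTH (sup_le hP hR) hs ?_, fun x hx => (es x hx).symm, e⟩
  rw [← img_le_iff, img_conj, Subgroup.map_sup, ← img_conj, ← img_conj, e]
  exact sup_le (img_le_iff.2 fun x hx => es x hx ▸ h2 x hx) hR

omit [Fact p.Prime] [Finite H] in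
theorem stronglyClosed_sub_iff : (fusionSystemOfSubgroup H T hTH).StronglyClosed R ↔
    R ≤ T ∧ ∀ x ∈ R, ∀ g ∈ H, g * x * g⁻¹ ∈ T → g * x * g⁻¹ ∈ R := by
  rw [stronglyClosed_iff]
  refine and_congr_right fun hR => ⟨fun h x hx g hg h' => ?_, fun h P f hf x hx hxR => ?_⟩
  · refine h (Subgroup.zpowers x) _ (mor_sub_conj hTH ((Subgroup.zpowers_le).2 (hR hx)) hg
      fun y hy => ?_) x (Subgroup.mem_zpowers x) hx
    obtain ⟨k, rfl⟩ := Subgroup.mem_zpowers_iff.1 hy
    rw [← conj_zpow]; exact T.zpow_mem h' k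
  · obtain ⟨-, h2, s, hs, es⟩ := mor_subgroup_iff.1 hf
    rw [es x hx]; exact h x hxR s hs (es x hx ▸ h2 x hx)

end Cfsg.Agent.Fusion
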