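import Cfsg.Agent.Lib.Fusion.Park
import Cfsg.Agent.Lib.Fusion.Group
import Cfsg.Agent.Lib.Transfer.Hol
import Cfsg.Agent.Lib.Transfer.Hall
import Cfsg.Agent.Lib.Transfer.Quad

/-! Focal and hyperfocal subgroups, transfer for fusion systems. -/

set_option autoImplicit false

namespace Cfsg.Agent.Fusion

open Cfsg Cfsg.FusionSystem MulAction

universe u v

theorem exists_comm_rep {V : Type*} [Group V] [Finite V] {α : MulAut V} {C : Subgroup V} [hC : C.Normal]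
    (hc : (orderOf α).Coprime (Nat.card V)) (h : ∀ y, y⁻¹ * α y ∈ C) (y : V) :
    ∃ c ∈ C, y⁻¹ * α y = c⁻¹ * α c := by
  have h1 : ∀ (n : ℕ) y, (α ^ n) y * y⁻¹ ∈ C := fun n y => by
    induction n with
    | zero => simp
    | succ n ih =>
      have := mul_mem (hC.conj_mem _ (h ((α ^ n) y)) ((α ^ n) y)) ih
      simpa [pow_succ', mul_assoc] using this
  have h2 : C.map α.toMonoidHom = C := Subgroup.eq_of_le_of_card_ge (by
    rintro _ ⟨c, hc, rfl⟩
    simpa using mul_mem hc (h c)) (Subgroup.card_map_of_injective α.injective).ge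
  obtain ⟨_, ⟨n, hn, rfl⟩, e⟩ := Solv.coprime_fixed_coset (A := Subgroup.zpowers (Transfer.hr α))
    (N := C.map Transfer.hl) (k := Transfer.hl y)
    (Subgroup.zpowers_le.2 (Transfer.hr_mem_normalizer h2)) (by
      rw [Nat.card_zpowers, orderOf_injective _ Transfer.hr_injective,
        Subgroup.card_map_of_injective Transfer.hl_injective]
      exact hc.coprime_dvd_right (Subgroup.card_subgroup_dvd_card C))
    (Or.inl (Solv.isSolvable_zpowers _)) (mem_normalizer_of_finite (by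
      rintro _ ⟨c, hc, rfl⟩
      exact ⟨_, hC.conj_mem c hc y, by simp⟩)) fun a ha => by
      obtain ⟨n, rfl⟩ := mem_powers_iff_mem_zpowers.2 ha
      refine ⟨_, h1 n y, ?_⟩
      beta_reduce
      rw [← map_pow, Transfer.hol_conj]; simp
  have e' : α (n * y) = n * y := Transfer.hol_commute_iff.1 (by
    rw [map_mul]; exact e _ (Subgroup.mem_zpowers _))
  refine ⟨(n * y)⁻¹ * n⁻¹ * (n * y), by simpa using hC.conj_mem _ (inv_mem hn) (n * y)⁻¹, ?_⟩
  rw [map_mul α, map_mul α, map_inv α (n * y), e', show α y = (α n)⁻¹ * (n * y) by rw [← e']; simp]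
  simp [mul_assoc]

variable {Ω : Type u} [Group Ω] {S : Subgroup Ω} {F : FusionSystem S} {P Q R T D : Subgroup Ω}
  {p : ℕ} {f g : Ω → Ω}

theorem Mor.mem_foc (hf : Mor F P f) {x : Ω} (hx : x ∈ P) : x⁻¹ * f x ∈ F.focalSubgroup := by
  obtain ⟨φ, hφ, e⟩ := hf
  exact Subgroup.subset_closure ⟨P, φ, ⟨x, hx⟩, hφ, by rw [e]⟩

theorem foc_le_iff : F.focalSubgroup ≤ D ↔ ∀ P f, Mor F P f → ∀ x ∈ P, x⁻¹ * f x ∈ D :=
  ⟨fun h _ _ hf _ hx => h (hf.mem_foc hx), fun h => (Subgroup.closure_le _).2 (by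
    rintro _ ⟨P, φ, x, hφ, rfl⟩
    have := h P _ (mor_hfun hφ) x x.2
    rwa [hfun_of_mem _ x.2] at this)⟩

theorem foc_le : F.focalSubgroup ≤ S :=
  foc_le_iff.2 fun _ _ hf _ hx => mul_mem (inv_mem (hf.le hx)) (hf.mem hx)

theorem commutator_le_foc : ⁅S, S⁆ ≤ F.focalSubgroup :=
  Subgroup.commutator_le.2 fun a ha b hb => by
    simpa [commutatorElement_def, mul_assoc] using (mor_conj F le_rfl hb).mem_foc (inv_mem ha)

theorem foc_mono {E : FusionSystem T} (h : E.IsSubsystemOf F) : E.focalSubgroup ≤ F.focalSubgroup :=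
  foc_le_iff.2 fun P f hf _ hx => (isSubsystemOf_iff.1 h P f hf).mem_foc hx

theorem conj_mem_of_commutator_le (h : ⁅S, S⁆ ≤ D) {s x : Ω} (hs : s ∈ S) (hx : x ∈ S) :
    x⁻¹ * (s * x * s⁻¹) ∈ D := by
  simpa [commutatorElement_def, mul_assoc] using
    h (Subgroup.commutator_mem_commutator (inv_mem hx) hs)

theorem focData (F : FusionSystem S) (h : ⁅S, S⁆ ≤ D) :
    SysData S (fun P f => Mor F P f ∧ ∀ x ∈ P, x⁻¹ * f x ∈ D) :=
  SysData.ofSub F (fun h => h.1) (fun h => h.1.le) (fun h _ hx => h.1.mem hx)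
    (fun h e => ⟨h.1.congr e, fun x hx => e x hx ▸ h.2 x hx⟩)
    (fun hP hs => ⟨mor_conj F hP hs, fun _ hx => conj_mem_of_commutator_le h hs (hP hx)⟩)
    (fun h h' e => ⟨h.1.comp h'.1 e, fun x hx => by
      simpa [mul_assoc] using mul_mem (h.2 x hx) (h'.2 _ (e x hx))⟩)
    fun h h' e => ⟨h', fun y hy => by
      obtain ⟨x, hx, rfl⟩ := h.1.mem_img.1 hy
      simpa [e x hx] using inv_mem (h.2 x hx)⟩

/-- the maps of `F` that move every element inside its `D`-coset -/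
def focSys (F : FusionSystem S) (h : ⁅S, S⁆ ≤ D) : FusionSystem S := (focData F h).sys

theorem focSys_mor {h : ⁅S, S⁆ ≤ D} :
    Mor (focSys F h) P f ↔ Mor F P f ∧ ∀ x ∈ P, x⁻¹ * f x ∈ D := SysData.mor_iff _

theorem sub_focSys_iff {h : ⁅S, S⁆ ≤ D} {E : FusionSystem T} (hE : E.IsSubsystemOf F) :
    E.IsSubsystemOf (focSys F h) ↔ E.focalSubgroup ≤ D := by
  rw [foc_le_iff, isSubsystemOf_iff]
  exact ⟨fun h P f hf => (focSys_mor.1 (h P f hf)).2,
    fun h P f hf => focSys_mor.2 ⟨isSubsystemOf_iff.1 hE P f hf, h P f hf⟩⟩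

theorem mem_of_res {α : MulAut P} {A : Subgroup (MulAut P)}
    (h : ∀ β ∈ A, (orderOf β).Coprime p → ∀ x ∈ P, x⁻¹ * afun β x ∈ D)
    (hα : α ∈ Transfer.res p A) : ∀ x ∈ P, x⁻¹ * afun α x ∈ D := by
  rw [Transfer.res_eq_closure] at hα
  induction hα using Subgroup.closure_induction with
  | mem β hβ => exact h β hβ.1 hβ.2
  | one => intro x _; simp [afun_one]
  | mul a b _ _ ha hb =>
    intro x hx
    simpa [afun_mul _ _ hx, mul_assoc] using mul_mem (hb x hx) (ha _ (afun_mem b hx))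
  | inv a _ ha => intro x hx; simpa [afun_afun_inv _ hx] using inv_mem (ha _ (afun_mem a⁻¹ hx))

theorem mem_hyp_of_res (hP : P ≤ S) {α : MulAut P} (hα : α ∈ Transfer.res p (F.autGroup P))
    {x : Ω} (hx : x ∈ P) : x⁻¹ * afun α x ∈ F.hyperfocalSubgroup p := by
  obtain ⟨β, hβ, rfl⟩ := hα
  exact Subgroup.subset_closure ⟨P, β, ⟨x, hx⟩, hP, hβ, by rw [afun_of_mem _ hx]; rfl⟩

theorem mem_hyp (hP : P ≤ S) {α : MulAut P} (hα : α ∈ F.autGroup P) (hc : (orderOf α).Coprime p)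
    {x : Ω} (hx : x ∈ P) : x⁻¹ * afun α x ∈ F.hyperfocalSubgroup p := by
  refine Subgroup.subset_closure ⟨P, ⟨α, hα⟩, ⟨x, hx⟩, hP, Subgroup.subset_closure ?_,
    by rw [afun_of_mem _ hx]⟩
  rwa [Set.mem_setOf_eq, ← Subgroup.orderOf_coe]

theorem hyp_le_iff : F.hyperfocalSubgroup p ≤ D ↔ ∀ P, P ≤ S → ∀ α ∈ F.autGroup P,
    (orderOf α).Coprime p → ∀ x ∈ P, x⁻¹ * afun α x ∈ D :=
  ⟨fun h _ hP _ hα hc _ hx => h (mem_hyp hP hα hc hx), fun h => (Subgroup.closure_le _).2 (by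
    rintro _ ⟨P, α, x, hP, hα, rfl⟩
    have := mem_of_res (h P hP) (α := α) ⟨α, hα, rfl⟩ x x.2
    rwa [afun_of_mem _ x.2] at this)⟩

theorem hyp_le_foc : F.hyperfocalSubgroup p ≤ F.focalSubgroup :=
  hyp_le_iff.2 fun _ hP _ hα _ _ hx => ((mem_autGroup hP).1 hα).mem_foc hx

theorem hyp_le : F.hyperfocalSubgroup p ≤ S := hyp_le_foc.trans foc_le

theorem hyp_mono {E : FusionSystem T} (h : E.IsSubsystemOf F) :
    E.hyperfocalSubgroup p ≤ F.hyperfocalSubgroup p :=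
  hyp_le_iff.2 fun P hP _ hα hc _ hx => by
    have := isSubsystemOf_iff.1 h P _ ((mem_autGroup hP).1 hα)
    exact mem_hyp this.le ((mem_autGroup this.le).2 this) hc hx

theorem Mor.hyp_gen (hf : Mor F P f) {α : MulAut P} (hα : α ∈ F.autGroup P)
    (hc : (orderOf α).Coprime p) {x : Ω} (hx : x ∈ P) :
    f (x⁻¹ * afun α x) ∈ F.hyperfocalSubgroup p := by
  obtain ⟨τ, e, h, -⟩ := hf.exists_transport rfl
  rw [hf.map_mul (inv_mem hx) (afun_mem _ hx), hf.map_inv hx, ← e α x hx]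
  exact mem_hyp hf.img_le ((h α).2 hα) (by rwa [MulEquiv.orderOf_eq]) (subset_img hx)

theorem Mor.hyp_mem (hf : Mor F S f) {x : Ω} (hx : x ∈ F.hyperfocalSubgroup p) :
    f x ∈ F.hyperfocalSubgroup p := by
  obtain ⟨φ, hφ, e⟩ := hf
  have : F.hyperfocalSubgroup p ≤ ((F.hyperfocalSubgroup p).comap φ).map S.subtype :=
    hyp_le_iff.2 fun P hP α hα hc x hx => ⟨⟨_, mul_mem (inv_mem (hP hx)) (hP (afun_mem _ hx))⟩,
      by rw [SetLike.mem_coe, Subgroup.mem_comap, e]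
         exact (Mor.mono ⟨φ, hφ, e⟩ hP).hyp_gen hα hc hx, rfl⟩
  obtain ⟨y, hy, rfl⟩ := this hx
  exact e y ▸ hy

theorem conj_mem_hyp {s x : Ω} (hs : s ∈ S) (hx : x ∈ F.hyperfocalSubgroup p) :
    s * x * s⁻¹ ∈ F.hyperfocalSubgroup p := (mor_conj F le_rfl hs).hyp_mem hx

variable [hp : Fact p.Prime] [Finite S]

theorem mor_mod_hyp (hS : IsPGroup p S) (hF : F.IsSaturated p) (hf : Mor F P f) :
    ∃ s ∈ S, ∀ x ∈ P, (s * x * s⁻¹)⁻¹ * f x ∈ F.hyperfocalSubgroup p := by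
  refine (alperin_ind hS hF (M := fun P f => Mor F P f ∧
    ∃ s ∈ S, ∀ x ∈ P, (s * x * s⁻¹)⁻¹ * f x ∈ F.hyperfocalSubgroup p)
    (SysData.ofSub F (fun h => h.1) (fun h => h.1.le) (fun h _ hx => h.1.mem hx)
    (fun ⟨h, s, hs, h'⟩ e => ⟨h.congr e, s, hs, fun x hx => e x hx ▸ h' x hx⟩)
    (fun hP hs => ⟨mor_conj F hP hs, _, hs, fun _ _ => by rw [inv_mul_cancel]; exact one_mem _⟩)
    (fun ⟨h1, s, hs, h⟩ ⟨h2, t, ht, h'⟩ e => ⟨h1.comp h2 e, t * s, mul_mem ht hs, fun x hx => by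
      simpa [mul_assoc] using mul_mem (conj_mem_hyp ht (h x hx)) (h' _ (e x hx))⟩)
    fun ⟨h1, s, hs, h⟩ h' e => ⟨h', s⁻¹, inv_mem hs, fun y hy => by
      obtain ⟨x, hx, rfl⟩ := h1.mem_img.1 hy
      simpa [e x hx, mul_assoc] using conj_mem_hyp (inv_mem hs) (inv_mem (h x hx))⟩)
    (fun P hP α hα => ?_) hf).2
  have hn : F.IsFullyNormalized P := hP.elim (fun h => h ▸ fullyNormalized_top F) fun h => h.2.1
  haveI : Finite P := finite_of_le hn.1
  haveI := finite_mulAut P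
  have h1 := IsFullyAutomized.sylowIn (IsSaturated.fullyAutomized hS hF hn)
  obtain ⟨σ, hσ, a, ha, rfl⟩ := Transfer.IsSyl.exists_mul_res
    ⟨h1.le, h1.pgroup, h1.not_dvd_relIndex⟩ hα
  obtain ⟨s, hs, e⟩ := mem_autInducedBy.1 hσ
  refine ⟨(mem_autGroup hn.1).1 hα, s, hs, fun x hx => ?_⟩
  rw [afun_mul _ _ hx, e _ (afun_mem _ hx)]
  simpa [mul_assoc] using conj_mem_hyp hs (mem_hyp_of_res hn.1 ha hx)

theorem hyp_stronglyClosed (hS : IsPGroup p S) (hF : F.IsSaturated p) :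
    F.StronglyClosed (F.hyperfocalSubgroup p) :=
  stronglyClosed_iff.2 ⟨hyp_le, fun _ _ hf x hx hx' => by
    obtain ⟨s, hs, h⟩ := mor_mod_hyp hS hF hf
    simpa [mul_assoc] using mul_mem (conj_mem_hyp hs hx') (h x hx)⟩

theorem foc_eq_sup (hS : IsPGroup p S) (hF : F.IsSaturated p) :
    F.focalSubgroup = F.hyperfocalSubgroup p ⊔ ⁅S, S⁆ :=
  le_antisymm (foc_le_iff.2 fun _ _ hf x hx => by
    obtain ⟨s, hs, h⟩ := mor_mod_hyp hS hF hf
    simpa [mul_assoc] using mul_mem (conj_mem_of_commutator_le le_sup_right hs (hf.le hx))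
      (Subgroup.mem_sup_left (T := ⁅S, S⁆) (h x hx))) (sup_le hyp_le_foc commutator_le_foc)

theorem inner_of_hyp_eq_bot (hS : IsPGroup p S) (hF : F.IsSaturated p)
    (h : F.hyperfocalSubgroup p = ⊥) (hf : Mor F P f) : Mor (innerFusionSystem S) P f := by
  obtain ⟨s, hs, e⟩ := mor_mod_hyp hS hF hf
  exact mor_inner_iff.2 ⟨hf.le, s, hs, fun x hx => (inv_mul_eq_one.1 (by simpa [h] using e x hx)).symm⟩

theorem hyp_le_of_fix (hS : IsPGroup p S) (h : ∀ P f, Mor F P f →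
    ∀ x ∈ P, x ∈ F.hyperfocalSubgroup p → f x ∈ P → x⁻¹ * f x ∈ D) : F.hyperfocalSubgroup p ≤ D :=
  hyp_le_iff.2 fun P hP α hα hc x hx => by
    haveI : Finite P := finite_of_le hP
    haveI : ((F.hyperfocalSubgroup p).subgroupOf P).Normal := ⟨fun a ha b => conj_mem_hyp (hP b.2) ha⟩
    obtain ⟨k, hk⟩ := (pgroup_of_le hS hP).exists_card_eq
    obtain ⟨c, hc', e⟩ := exists_comm_rep (C := (F.hyperfocalSubgroup p).subgroupOf P)
      (hk ▸ hc.pow_right k) (fun y => by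
        have := mem_hyp hP hα hc y.2
        rwa [afun_of_mem _ y.2] at this) ⟨x, hx⟩
    have := h P _ ((mem_autGroup hP).1 hα) c c.2 hc' (afun_mem _ c.2)
    rw [afun_of_mem _ c.2] at this
    rw [afun_of_mem _ hx]
    have e' := congrArg Subtype.val e
    simp only [Subgroup.coe_mul, Subgroup.coe_inv] at e'
    rwa [e']

section Park

variable {G : Type*} [Group G] [Finite G] {ι : S →* G} {H : Subgroup G} {π : H →* S}
  {A : Type*} [CommGroup A]

/-- the transfer of a homomorphism to a commutative group -/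
noncomputable def ptr (ι : S →* G) (π : H →* S) (l : S →* A) : S →* A :=
  (MonoidHom.transfer (l.comp π)).comp ι

omit [Finite S] hp in
theorem Park.ptr_inv (h : Park F ι H π) (l : S →* A) (hf : Mor F P f) {x : Ω} (hx : x ∈ P) :
    ap (ptr ι π l) (f x) = ap (ptr ι π l) x := by
  obtain ⟨g, e⟩ := h.real P f hf
  have := e x hx
  rw [ap_of_mem _ (hf.mem hx), ap_of_mem _ (hf.le hx)] at this ⊢
  simp only [ptr, MonoidHom.comp_apply, this, map_mul, map_inv]
  exact mul_inv_cancel_comm _ _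

omit [Finite S] hp in
theorem Park.ptr_foc (h : Park F ι H π) (l : S →* A) {x : Ω} (hx : x ∈ F.focalSubgroup) :
    ap (ptr ι π l) x = 1 := by
  have : F.focalSubgroup ≤ preimageAlong (ptr ι π l) ⊥ := foc_le_iff.2 fun P f hf x hx =>
    (mem_ker_iff (hf.le hx) (hf.mem hx)).2 (h.ptr_inv l hf hx).symm
  exact (mem_preimageAlong.1 (this hx)).2

omit [Finite S] hp in
theorem Park.ptr_eq_pow (h : Park F ι H π) (l : S →* A) {x : Ω} (hx : x ∈ S)
    (key : ∀ (k : ℕ) f, Mor F (Subgroup.zpowers (x ^ k)) f → ap l (f (x ^ k)) = ap l x ^ k) :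
    ap (ptr ι π l) x = ap l x ^ H.index := by
  rw [ap_of_mem _ hx, ptr, MonoidHom.comp_apply,
    Transfer.transfer_eq_pow_of_mem _ (h.mem _) fun k a ha => ?_, MonoidHom.comp_apply, h.sec,
    ap_of_mem _ hx]
  have e : ap ι (x ^ k) = ι ⟨x, hx⟩ ^ k := by rw [ap_pow _ hx, ap_of_mem _ hx]
  obtain ⟨f, hf, e'⟩ := h.mor a (Subgroup.zpowers (x ^ k)) (Subgroup.zpowers_le.2 (pow_mem hx k))
    fun y hy => by
      have : Subgroup.zpowers (x ^ k) ≤ preimageAlong ι (Transfer.cj a H) :=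
        Subgroup.zpowers_le.2 (mem_preimageAlong.2 ⟨pow_mem hx k, Transfer.mem_cj.2 (e ▸ ha)⟩)
      exact Transfer.mem_cj.1 (mem_preimageAlong.1 (this hy)).2
  have := key k f hf
  rw [e' _ (Subgroup.mem_zpowers _) (e ▸ ha), ap_of_mem _ (Subtype.prop _), ap_of_mem _ hx] at this
  simp only [MonoidHom.comp_apply, h.sec, ← this, e]

theorem Park.exists_transversal (hS : IsPGroup p S) (hF : F.IsSaturated p) (h : Park F ι H π) :
    ∃ t : G ⧸ H → G, (∀ y, (t y : G ⧸ H) = y) ∧ ∀ (x : S) y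
      (hy : (t (ι x • y))⁻¹ * ι x * t y ∈ H), (x⁻¹ * π ⟨_, hy⟩ : S).1 ∈ F.hyperfocalSubgroup p := by
  have h1 : ∀ z : G ⧸ H, ∃ g : G, (g : G ⧸ H) = z ∧ ∀ (x : S) (hx : g⁻¹ * ι x * g ∈ H),
      (x⁻¹ * π ⟨_, hx⟩ : S).1 ∈ F.hyperfocalSubgroup p := fun z => by
    obtain ⟨g, rfl⟩ := QuotientGroup.mk_surjective z
    obtain ⟨f, hf, e⟩ := h.mor g (preimageAlong ι (Transfer.cj g H)) preimageAlong_le
      fun y hy => Transfer.mem_cj.1 (mem_preimageAlong.1 hy).2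
    obtain ⟨s, hs, e'⟩ := mor_mod_hyp hS hF hf
    refine ⟨g * ι ⟨s, hs⟩, QuotientGroup.mk_mul_of_mem _ (h.mem _), fun x hx => ?_⟩
    have h2 : g⁻¹ * ap ι x * g ∈ H := by
      rw [ap_of_mem _ x.2]
      simpa [mul_assoc] using mul_mem (mul_mem (h.mem ⟨s, hs⟩) hx) (inv_mem (h.mem ⟨s, hs⟩))
    have h3 : x.1 ∈ preimageAlong ι (Transfer.cj g H) :=
      mem_preimageAlong.2 ⟨x.2, Transfer.mem_cj.2 h2⟩
    have := conj_mem_hyp (inv_mem hs) (e' _ h3)
    rw [e _ h3 h2] at this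
    rw [show (⟨_, hx⟩ : H) = ⟨_, h.mem ⟨s, hs⟩⟩⁻¹ * ⟨_, h2⟩ * ⟨_, h.mem ⟨s, hs⟩⟩ from
      Subtype.ext (by simp [ap_of_mem _ x.2, mul_assoc]), map_mul, map_mul, map_inv, h.sec]
    simpa [mul_assoc] using this
  choose g hg hg' using h1
  let r : Setoid (G ⧸ H) := ⟨fun a b => ∃ s : S, ι s • a = b, fun a => ⟨1, by simp⟩,
    fun ⟨s, e⟩ => ⟨s⁻¹, by simp [← e]⟩, fun ⟨s, e⟩ ⟨t, e'⟩ => ⟨t * s, by simp [mul_smul, e, e']⟩⟩
  let o : G ⧸ H → G ⧸ H := fun y => (Quotient.mk r y).out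
  have ho : ∀ y, ∃ s : S, ι s • o y = y := fun y => Quotient.mk_out (s := r) y
  have ho' : ∀ (s : S) y, o (ι s • y) = o y := fun s y => by
    simp only [o]; congr 1; exact (Quotient.sound (s := r) ⟨s, rfl⟩).symm
  choose u hu using ho
  refine ⟨fun y => ι (u y) * g (o y) * (ι (u y))⁻¹, fun y => ?_, fun x y hy => ?_⟩
  · rw [QuotientGroup.mk_mul_of_mem _ (inv_mem (h.mem _)), ← smul_eq_mul,
      ← MulAction.Quotient.smul_coe, hg, hu]
  · have h2 : (g (o y))⁻¹ * ι ((u (ι x • y))⁻¹ * x * u y) * g (o y) ∈ H := by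
      simpa [mul_assoc, ho'] using
        mul_mem (mul_mem (inv_mem (h.mem (u (ι x • y)))) hy) (h.mem (u y))
    have := conj_mem_hyp (u y).2 (hg' _ _ h2)
    rw [show (⟨_, hy⟩ : H) = ⟨_, h.mem (u (ι x • y))⟩ * ⟨_, h2⟩ * ⟨_, h.mem (u y)⟩⁻¹ from
      Subtype.ext (by simp [ho', mul_assoc]), map_mul, map_mul, map_inv, h.sec, h.sec]
    simpa [mul_assoc] using this

theorem Park.tate_hom (hS : IsPGroup p S) (hF : F.IsSaturated p) (h : Park F ι H π) {K : Type*}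
    [Group K] (ρ : S →* K) {Z : Subgroup K} (hZ : Z ≤ Subgroup.center K)
    (hρ : ∀ x : S, x.1 ∈ F.hyperfocalSubgroup p → ρ x ∈ Z) :
    ∃ ζ : S →* K, (∀ x, ζ x ∈ Z) ∧
      ∀ x : S, x.1 ∈ F.hyperfocalSubgroup p → ζ x = ρ x ^ H.index := by
  classical
  obtain ⟨t, ht, ht'⟩ := h.exists_transversal hS hF
  haveI := Fintype.ofFinite (G ⧸ H)
  have hc : ∀ (g : G) y, (t (g • y))⁻¹ * g * t y ∈ H := fun g y => by
    rw [mul_assoc, ← QuotientGroup.eq, ht, ← smul_eq_mul, ← MulAction.Quotient.smul_coe, ht]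
  let c : G → G ⧸ H → K := fun g y => ρ (π ⟨_, hc g y⟩)
  have hcc : ∀ a b y, c (a * b) y = c a (b • y) * c b y := fun a b y => by
    simp only [c, ← map_mul]; congr 2; exact Subtype.ext (by simp [mul_smul, mul_assoc])
  have hz : ∀ (x : S) y, (ρ x)⁻¹ * c (ι x) y ∈ Z := fun x y => by
    simpa using hρ _ (ht' x y (hc _ _))
  letI : CommGroup (Subgroup.center K) := { (inferInstance : Group (Subgroup.center K)) with
    mul_comm := fun a b => Subtype.ext (Subgroup.mem_center_iff.1 b.2 a) }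
  let z : S → G ⧸ H → Subgroup.center K := fun x y => ⟨_, hZ (hz x y)⟩
  let ζ : S →* Subgroup.center K := MonoidHom.mk' (fun x => ∏ y, z x y) fun a b => by
    rw [← Equiv.prod_comp (MulAction.toPerm (ι b)) (z a), ← Finset.prod_mul_distrib]
    refine Finset.prod_congr rfl fun y _ => Subtype.ext ?_
    have := Subgroup.mem_center_iff.1 (z a (ι b • y)).2 (ρ b)⁻¹
    change (ρ (a * b))⁻¹ * c (ι (a * b)) y = (z a (ι b • y)).1 * ((ρ b)⁻¹ * c (ι b) y)
    rw [← mul_assoc, ← this, map_mul, map_mul, hcc]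
    simp [z, mul_assoc]
  have hζ : ∀ x, (ζ x).1 ∈ Z := fun x =>
    (show Z.subgroupOf (Subgroup.center K) ≤ Z.subgroupOf _ from le_rfl)
      (Subgroup.prod_mem _ fun y _ => hz x y)
  let r : ∀ x : S, x.1 ∈ F.hyperfocalSubgroup p → Subgroup.center K := fun x hx => ⟨_, hZ (hρ x hx)⟩
  have hinv : ∀ (x x' : S) hx hx' (γ : G), ι x' = γ * ι x * γ⁻¹ →
      r x' hx' ^ H.index * ζ x' = r x hx ^ H.index * ζ x := fun x x' hx hx' γ e => by
    have e1 : ∀ x hx, r x hx ^ H.index * ζ x = ∏ y, r x hx * z x y := fun x hx => by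
      rw [Finset.prod_mul_distrib, Finset.prod_const, Subgroup.index, Nat.card_eq_fintype_card]; rfl
    have e2 : ∀ x hx y, (r x hx * z x y).1 = c (ι x) y := fun x hx y => by simp [r, z]
    have e3 : ∀ y, c (ι x') (γ • y) * c γ y = c γ (ι x • y) * c (ι x) y := fun y => by
      rw [← hcc, ← hcc, e]; simp
    have hβ : ∀ k : K, ((k : K ⧸ Subgroup.center K).out)⁻¹ * k ∈ Subgroup.center K := fun k =>
      QuotientGroup.eq.1 (QuotientGroup.out_eq' _)
    let β : G ⧸ H → Subgroup.center K := fun y => ⟨_, hβ (c γ y)⟩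
    rw [e1 x' hx', e1 x hx, ← Equiv.prod_comp (MulAction.toPerm γ), ← mul_left_inj (∏ y, β y)]
    conv_rhs => rw [← Equiv.prod_comp (MulAction.toPerm (ι x)) β]
    rw [← Finset.prod_mul_distrib, ← Finset.prod_mul_distrib]
    refine Finset.prod_congr rfl fun y _ => Subtype.ext ?_
    have h1 := Subgroup.mem_center_iff.1 (e2 x hx y ▸ (r x hx * z x y).2)
    have h2 := Subgroup.mem_center_iff.1 (e2 x' hx' (γ • y) ▸ (r x' hx' * z x' (γ • y)).2)
    have e4 : (c γ (ι x • y) : K ⧸ Subgroup.center K) = c γ y := by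
      rw [QuotientGroup.eq, eq_mul_inv_of_mul_eq (e3 y).symm, ← h2]
      simpa [mul_assoc] using mul_mem (e2 x hx y ▸ (r x hx * z x y).2)
        (inv_mem (e2 x' hx' (γ • y) ▸ (r x' hx' * z x' (γ • y)).2))
    rw [Subgroup.coe_mul, Subgroup.coe_mul _ _ (β _), e2 x hx, e2 x' hx']
    change c (ι x') (γ • y) * (_ * c γ y) = c (ι x) y *
      (((c γ (ι x • y) : K ⧸ Subgroup.center K).out)⁻¹ * c γ (ι x • y))
    rw [e4, ← mul_assoc, ← h2, mul_assoc, e3, ← h1, mul_assoc]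
  let T' := (F.hyperfocalSubgroup p).subgroupOf S
  let θ : T' →* Subgroup.center K := MonoidHom.mk' (fun x => r x.1 x.2 ^ H.index * ζ x.1)
    fun a b => by
      rw [show r (a * b).1 (a * b).2 = r a.1 a.2 * r b.1 b.2 from Subtype.ext (map_mul ρ _ _),
        Subgroup.coe_mul, map_mul, mul_pow, mul_mul_mul_comm]
  have hθ : F.hyperfocalSubgroup p ≤ (θ.ker.map T'.subtype).map S.subtype :=
    hyp_le_of_fix hS fun P f hf x hx hx' _ => by
      have h1 := StronglyClosed.mem (hyp_stronglyClosed hS hF) hf hx hx'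
      obtain ⟨γ, e⟩ := h.real P f hf
      have := hinv ⟨x, hf.le hx⟩ ⟨_, hf.mem hx⟩ hx' h1 γ (by
        rw [← ap_of_mem, ← ap_of_mem, e x hx])
      refine ⟨_, ⟨(⟨⟨x, hf.le hx⟩, hx'⟩ : T')⁻¹ * ⟨⟨_, hf.mem hx⟩, h1⟩, ?_, rfl⟩, rfl⟩
      rw [SetLike.mem_coe, MonoidHom.mem_ker, map_mul, map_inv, inv_mul_eq_one]
      exact this.symm
  refine ⟨(Subgroup.center K).subtype.comp ζ⁻¹, fun x => inv_mem (hζ x), fun x hx => ?_⟩
  obtain ⟨_, ⟨a, ha, rfl⟩, e⟩ := hθ hx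
  obtain rfl : a.1 = x := Subtype.ext e
  exact congrArg Subtype.val (eq_inv_of_mul_eq_one_left ha).symm

end Park

theorem mem_of_mem_foc (hS : IsPGroup p S) (hF : F.IsSaturated p) (hD : ⁅S, S⁆ ≤ D) {x : Ω}
    (hx : x ∈ F.focalSubgroup)
    (key : ∀ (k : ℕ) f, Mor F (Subgroup.zpowers (x ^ k)) f → (x ^ k)⁻¹ * f (x ^ k) ∈ D) :
    x ∈ D := by
  obtain ⟨G, _, _, ι, H, π, h, hi⟩ := exists_park hS hF
  have hxS := foc_le hx
  haveI : (D.subgroupOf S).Normal := ⟨fun a ha b => by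
    simpa [Subgroup.mem_subgroupOf] using
      mul_mem (show a.1 ∈ D from ha) (conj_mem_of_commutator_le hD b.2 a.2)⟩
  letI : CommGroup (S ⧸ D.subgroupOf S) :=
    { (inferInstance : Group (S ⧸ D.subgroupOf S)) with
      mul_comm := fun a b => by
        obtain ⟨a, rfl⟩ := QuotientGroup.mk_surjective a
        obtain ⟨b, rfl⟩ := QuotientGroup.mk_surjective b
        refine QuotientGroup.eq.2 ?_
        simpa [Subgroup.mem_subgroupOf, mul_assoc] using
          conj_mem_of_commutator_le hD (inv_mem a.2) b.2 }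
  have h1 := h.ptr_eq_pow (QuotientGroup.mk' (D.subgroupOf S)) hxS fun k f hf => by
    rw [← ap_pow _ hxS, ap_of_mem _ (hf.mem (Subgroup.mem_zpowers _)), ap_of_mem _ (pow_mem hxS k)]
    exact ((QuotientGroup.eq (s := D.subgroupOf S)).2 (key k f hf)).symm
  rw [h.ptr_foc _ hx, ap_of_mem _ hxS, ← map_pow, eq_comm] at h1
  obtain ⟨k, hk⟩ := hS ⟨x, hxS⟩
  exact Transfer.mem_of_pow_mem_of_pow_mem (((Nat.Prime.coprime_iff_not_dvd hp.out).2 hi).pow_left k)
    (by rw [show x ^ p ^ k = 1 from congrArg Subtype.val hk]; exact one_mem _)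
    (show (⟨x, hxS⟩ ^ H.index : S) ∈ D.subgroupOf S from (QuotientGroup.eq_one_iff _).1 h1)

theorem foc_inf_center (hS : IsPGroup p S) (hF : F.IsSaturated p) :
    F.focalSubgroup ⊓ F.center = ⁅S, S⁆ ⊓ F.center :=
  le_antisymm (fun x hx => ⟨mem_of_mem_foc hS hF le_rfl hx.1 fun k f hf => by
    rw [((mem_center_iff hS hF).1 (pow_mem hx.2 k)).2 _ f hf (Subgroup.mem_zpowers _)]; simp, hx.2⟩)
    (inf_le_inf_right _ commutator_le_foc)

/-- Tate's theorem. -/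
theorem hyp_le_of_frattini (hS : IsPGroup p S) (hF : F.IsSaturated p) (hD : S ≤ Subgroup.normalizer (D : Set Ω))
    (h : F.hyperfocalSubgroup p ≤ (frattini S).map S.subtype ⊔ D ⊓ F.hyperfocalSubgroup p) :
    F.hyperfocalSubgroup p ≤ D := by
  by_contra hn
  obtain ⟨G, _, _, ι, H, π, hP, hi⟩ := exists_park hS hF
  let T' := (F.hyperfocalSubgroup p).subgroupOf S
  haveI : T'.Normal := ⟨fun a ha b => conj_mem_hyp b.2 ha⟩
  haveI : (D.subgroupOf S).Normal := ⟨fun a ha b => conj_mem_of_mem_normalizer (P := D) (hD b.2) ha⟩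
  have hlt : D.subgroupOf S ⊓ T' < T' := inf_lt_right.2 fun h' => hn fun x hx =>
    h' (show (⟨x, hyp_le hx⟩ : S) ∈ T' from hx)
  obtain ⟨V, ⟨hV, hV1, hV2⟩, hmax⟩ := Set.Finite.exists_maximal (Set.toFinite
    {V : Subgroup S | V.Normal ∧ D.subgroupOf S ⊓ T' ≤ V ∧ V < T'}) ⟨_, inferInstance, le_rfl, hlt⟩
  obtain ⟨x, hx, hx1, hx2, hx3⟩ := Solv.exists_central_mod_pow (L := ⊤) (M := T') (N := V)
    (by haveI := hS.isNilpotent; infer_instance) (hS.to_subgroup _) le_top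
    Subgroup.le_normalizer_of_normal Subgroup.le_normalizer_of_normal hV2.not_ge
  have hW : V ⊔ Subgroup.zpowers x = T' := by
    by_contra hne
    refine hx1 (hmax ⟨⟨fun a ha b => ?_⟩, hV1.trans le_sup_left,
      lt_of_le_of_ne (sup_le hV2.le (Subgroup.zpowers_le.2 hx)) hne⟩ le_sup_left
      (Subgroup.mem_sup_right (Subgroup.mem_zpowers x)))
    refine conj_mem_of_mem_normalizer (Transfer.mem_normalizer_of_cj_le ?_) ha
    rw [Transfer.cj_sup, Transfer.cj_eq_of_normal, Transfer.cj_zpowers]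
    refine sup_le le_sup_left (Subgroup.zpowers_le.2 ?_)
    simpa [commutatorElement_def, mul_assoc] using mul_mem (Subgroup.mem_sup_left
      (inv_mem (hx3 b trivial))) (Subgroup.mem_sup_right (S := V) (Subgroup.mem_zpowers x))
  have hx4 : (x : S ⧸ V) ^ p = 1 := (QuotientGroup.eq_one_iff _).2 hx2
  obtain ⟨ζ, h1, h2⟩ := hP.tate_hom hS hF (QuotientGroup.mk' V) (Z := Subgroup.zpowers (x : S ⧸ V))
    (Subgroup.zpowers_le.2 (Subgroup.mem_center_iff.2 fun b => by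
      obtain ⟨b, rfl⟩ := QuotientGroup.mk_surjective b
      exact (commutatorElement_eq_one_iff_mul_comm.1 ((QuotientGroup.eq_one_iff _).2
        (hx3 b trivial))).symm)) fun y hy => by
      have : T' ≤ (Subgroup.zpowers (x : S ⧸ V)).comap (QuotientGroup.mk' V) := hW ▸ sup_le
        (fun v hv => by
          rw [Subgroup.mem_comap, show QuotientGroup.mk' V v = 1 from
            (QuotientGroup.eq_one_iff _).2 hv]; exact one_mem _)
        (Subgroup.zpowers_le.2 (Subgroup.mem_zpowers _))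
      exact this hy
  have h3 : (frattini S).map S.subtype ⊔ D ⊓ F.hyperfocalSubgroup p ≤ ζ.ker.map S.subtype := by
    refine sup_le (Subgroup.map_mono (Solv.frattini_le_of_commutator_le_of_pow_mem (p := p)
      (Subgroup.commutator_le.2 fun a _ b _ => ?_) fun a => ?_)) fun y hy => ⟨⟨y, hyp_le hy.2⟩, ?_, rfl⟩
    · obtain ⟨i, hi⟩ := h1 a
      obtain ⟨j, hj⟩ := h1 b
      rw [MonoidHom.mem_ker, map_commutatorElement, ← hi, ← hj, commutatorElement_eq_one_iff_commute]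
      exact Commute.zpow_zpow_self _ _ _
    · obtain ⟨i, hi⟩ := h1 a
      rw [MonoidHom.mem_ker, map_pow, ← hi]
      beta_reduce
      rw [← zpow_natCast, ← zpow_mul, mul_comm, zpow_mul, zpow_natCast, hx4, one_zpow]
    · rw [SetLike.mem_coe, MonoidHom.mem_ker, h2 _ hy.2,
        show QuotientGroup.mk' V ⟨y, hyp_le hy.2⟩ = 1 from
          (QuotientGroup.eq_one_iff _).2 (hV1 ⟨hy.1, hy.2⟩), one_pow]
  obtain ⟨y, hy, e⟩ := h3 (h hx)
  obtain rfl : y = x := Subtype.ext e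
  rw [SetLike.mem_coe, MonoidHom.mem_ker, h2 _ hx, ← map_pow] at hy
  exact hx1 (Transfer.mem_of_pow_mem_of_pow_mem ((Nat.Prime.coprime_iff_not_dvd hp.out).2 hi) hx2
    ((QuotientGroup.eq_one_iff _).1 hy))

end Cfsg.Agent.Fusion
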