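import Cfsg.Agent.Lib.Fusion.Focal
import Cfsg.Agent.Lib.Fusion.Inner

/-! More on focal and hyperfocal subgroups. -/

set_option autoImplicit false

namespace Cfsg.Agent.Fusion

open Cfsg Cfsg.FusionSystem MulAction

universe u v

theorem coc_mem {G : Type*} [Group G] {H : Subgroup G} {t : G ⧸ H → G} (ht : ∀ y, (t y : G ⧸ H) = y)
    (g : G) (y : G ⧸ H) : (t (g • y))⁻¹ * g * t y ∈ H := by
  rw [mul_assoc, ← QuotientGroup.eq, ht, ← smul_eq_mul, ← MulAction.Quotient.smul_coe, ht]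

theorem transfer_eq_prod {G A : Type*} [Group G] [CommGroup A] {H : Subgroup G} [H.FiniteIndex]
    [i : Fintype (G ⧸ H)] (φ : H →* A) {t : G ⧸ H → G} (ht : ∀ y, (t y : G ⧸ H) = y) (g : G) :
    MonoidHom.transfer φ g = ∏ y, φ ⟨_, coc_mem ht g y⟩ := by
  obtain rfl : i = H.fintypeQuotientOfFiniteIndex := Subsingleton.elim _ _
  letI := H.fintypeQuotientOfFiniteIndex
  rw [MonoidHom.transfer_def φ ⟨_, Subgroup.isComplement_range_left ht⟩,
    Subgroup.leftTransversals.diff, ← Equiv.prod_comp (MulAction.toPerm g)]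
  refine Finset.prod_congr rfl fun y _ => ?_
  congr 2
  rw [Subgroup.smul_apply_eq_smul_apply_inv_smul, Subgroup.IsComplement.leftQuotientEquiv_apply ht,
    Subgroup.IsComplement.leftQuotientEquiv_apply ht]
  simp [mul_assoc]

variable {Ω : Type u} [Group Ω] {S : Subgroup Ω} {F : FusionSystem S} {P Q R T D H : Subgroup Ω}
  {p : ℕ} {f g : Ω → Ω}

theorem commutator_le_frattini [Fact p.Prime] [Finite S] (hS : IsPGroup p S) :
    ⁅S, S⁆ ≤ (frattini S).map S.subtype := by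
  rw [← Subgroup.map_subtype_commutator]
  exact Subgroup.map_mono (Solv.commutator_le_frattini_of_isPGroup hS)

theorem eq_of_le_frattini_sup [Finite S] (hD : D ≤ S) (h : S ≤ (frattini S).map S.subtype ⊔ D) :
    D = S := by
  have := frattini_nongenerating (K := D.subgroupOf S) (eq_top_iff.2 fun x _ => by
    have := h x.2
    rw [← Subgroup.map_subgroupOf_eq_of_le hD, ← Subgroup.map_sup, sup_comm] at this
    exact (Subgroup.mem_map_iff_mem Subtype.val_injective).1 this)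
  exact le_antisymm hD (Subgroup.subgroupOf_eq_top.1 this)

variable [hp : Fact p.Prime]

theorem foc_sub [Finite Ω] (hT : SylowIn p T H) :
    (fusionSystemOfSubgroup H T hT.le).focalSubgroup = T ⊓ ⁅H, H⁆ ∧
    (fusionSystemOfSubgroup H T hT.le).focalSubgroup = T ⊓ (⁅H, H⁆ ⊔ Transfer.res p H) := by
  have h1 : (fusionSystemOfSubgroup H T hT.le).focalSubgroup ≤ T ⊓ ⁅H, H⁆ :=
    le_inf foc_le (foc_le_iff.2 fun P f hf x hx => by
      obtain ⟨h1, -, g, hg, e⟩ := mor_subgroup_iff.1 hf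
      rw [e x hx]
      exact conj_mem_of_commutator_le le_rfl hg (hT.le (h1 hx)))
  have h2 : T ⊓ (⁅H, H⁆ ⊔ Transfer.res p H) ≤ (fusionSystemOfSubgroup H T hT.le).focalSubgroup :=
    Transfer.IsSyl.inf_commutator_sup_res_le ⟨hT.le, hT.pgroup, hT.not_dvd_relIndex⟩
      fun x hx k hk h => by
        have := (mor_sub_conj hT.le (Subgroup.zpowers_le.2 hx) hk fun y hy => by
          obtain ⟨n, rfl⟩ := hy
          simpa [← conj_zpow] using zpow_mem h n).mem_foc (inv_mem (Subgroup.mem_zpowers x))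
        simpa [mul_assoc] using inv_mem this
  have h3 : T ⊓ ⁅H, H⁆ ≤ T ⊓ (⁅H, H⁆ ⊔ Transfer.res p H) := inf_le_inf_left _ le_sup_left
  exact ⟨le_antisymm h1 (h3.trans h2), le_antisymm (h1.trans h3) h2⟩

theorem hyp_sub [Finite Ω] (hT : SylowIn p T H) :
    (fusionSystemOfSubgroup H T hT.le).hyperfocalSubgroup p = T ⊓ Transfer.res p H := by
  have hn : ∀ c ∈ H, ∀ d ∈ Transfer.res p H, c * d * c⁻¹ ∈ Transfer.res p H := fun c hc d hd =>
    conj_mem_of_mem_normalizer (Transfer.le_normalizer_res H hc) hd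
  refine le_antisymm (le_inf hyp_le (hyp_le_iff.2 fun P hP α hα hc x hx => ?_)) ?_
  · haveI := finite_mulAut P
    rw [autGroup_sub hP, autInducedBy_eq_map] at hα
    have := Transfer.mem_res hα hc
    rw [← Transfer.map_res] at this
    obtain ⟨g, hg, rfl⟩ := this
    have h0 := Subgroup.mem_map_of_mem (Subgroup.subtype _) hg
    rw [Transfer.map_res] at h0
    have h1 : g.1 ∈ Transfer.res p H := Transfer.res_mono (Subgroup.map_le_iff_le_comap.2 le_rfl) h0
    simpa [afun_cAut _ hx, mul_assoc] using mul_mem (hn _ (inv_mem (hT.le (hP hx))) _ h1) (inv_mem h1)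
  · have h1 := hT.inf_normal (Transfer.res_le H) hn
    have h2 := (foc_sub h1).2
    rw [Transfer.res_res, sup_eq_right.2 (Subgroup.commutator_le.2 fun a ha b hb =>
      mul_mem (mul_mem (mul_mem ha hb) (inv_mem ha)) (inv_mem hb)), inf_assoc, inf_idem,
      foc_eq_sup h1.pgroup (sub_saturated h1), sup_comm] at h2
    rw [← eq_of_le_frattini_sup (hyp_le (p := p) (F := fusionSystemOfSubgroup _ _ h1.le))
      (h2.ge.trans (sup_le_sup_right (commutator_le_frattini h1.pgroup) _))]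
    exact hyp_mono (isSubsystemOf_iff.2 fun P f hf => by
      obtain ⟨a, b, g, hg, e⟩ := mor_subgroup_iff.1 hf
      exact mor_subgroup_iff.2 ⟨a.trans inf_le_left, fun x hx => (b x hx).1, g,
        Transfer.res_le H hg, e⟩)

variable [Finite S]

theorem tate (hS : IsPGroup p S) (hF : F.IsSaturated p) {E : FusionSystem S} (hE : E.IsSaturated p)
    (hEF : E.IsSubsystemOf F)
    (h : F.hyperfocalSubgroup p ≤ (frattini S).map S.subtype ⊔ E.focalSubgroup) :
    F.hyperfocalSubgroup p = E.hyperfocalSubgroup p := by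
  refine le_antisymm (hyp_le_of_frattini hS hF
    (StronglyClosed.le_normalizer (hyp_stronglyClosed hS hE)) (h.trans ?_)) (hyp_mono hEF)
  rw [foc_eq_sup hS hE, inf_eq_left.2 (hyp_mono hEF)]
  exact sup_le le_sup_left (sup_le le_sup_right ((commutator_le_frattini hS).trans le_sup_left))

section Surj

variable {Ω' : Type*} [Group Ω'] {S' : Subgroup Ω'} {F' : FusionSystem S'} {θ : S →* Ω'}

omit hp in
theorem Morph.image_foc (h : Morph F F' θ) : imageAlong θ F.focalSubgroup ≤ F'.focalSubgroup := by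
  have : F.focalSubgroup ≤ preimageAlong θ F'.focalSubgroup := foc_le_iff.2 fun P f hf x hx => by
    obtain ⟨f', hf', e⟩ := h.mor hf
    refine mem_preimageAlong.2 ⟨mul_mem (inv_mem (hf.le hx)) (hf.mem hx), ?_⟩
    rw [ap_mul _ (inv_mem (hf.le hx)) (hf.mem hx), ap_inv _ (hf.le hx), ← e x hx]
    exact hf'.mem_foc (ap_mem_imageAlong hf.le hx)
  exact (imageAlong_le_iff foc_le).2 fun x hx => (mem_preimageAlong.1 (this hx)).2

omit hp in
theorem Surj.foc_eq (h : Surj F F' θ) : F'.focalSubgroup = imageAlong θ F.focalSubgroup :=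
  le_antisymm (foc_le_iff.2 fun P f hf y hy => by
    obtain ⟨g, hg, e⟩ := h.lift hf
    obtain ⟨x, hx, rfl⟩ := h.pre hf.le hy
    rw [e x hx, ← ap_inv _ (hg.le hx), ← ap_mul _ (inv_mem (hg.le hx)) (hg.mem hx)]
    exact ap_mem_imageAlong foc_le (hg.mem_foc hx)) h.toMorph.image_foc

omit hp in
theorem Morph.image_hyp (h : Morph F F' θ) :
    imageAlong θ (F.hyperfocalSubgroup p) ≤ F'.hyperfocalSubgroup p := by
  have : F.hyperfocalSubgroup p ≤ preimageAlong θ (F'.hyperfocalSubgroup p) :=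
    hyp_le_iff.2 fun P hP α hα hc x hx => by
      obtain ⟨ρ, h1, e⟩ := h.exists_autHom hP rfl
      haveI := finite_autGroup F hP
      refine mem_preimageAlong.2 ⟨mul_mem (inv_mem (hP hx)) (hP (afun_mem _ hx)), ?_⟩
      rw [ap_mul _ (inv_mem (hP hx)) (hP (afun_mem _ hx)), ap_inv _ (hP hx), ← e ⟨α, hα⟩ x hx]
      exact mem_hyp (h.image_le hP) (h1 _) (Nat.Coprime.coprime_dvd_left (orderOf_map_dvd ρ _)
        (by rwa [← Subgroup.orderOf_coe])) (ap_mem_imageAlong hP hx)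
  exact (imageAlong_le_iff hyp_le).2 fun x hx => (mem_preimageAlong.1 (this hx)).2

theorem Surj.hyp_le (h : Surj F F' θ) (hD : ∀ P, preimageAlong θ ⊥ ≤ P → P ≤ S →
    ∀ α ∈ F.autGroup P, (orderOf α).Coprime p → ∀ x ∈ P, x⁻¹ * afun α x ∈ D) :
    F'.hyperfocalSubgroup p ≤ imageAlong θ D :=
  hyp_le_iff.2 fun P' hP' γ hγ hc y hy => by
    have hP : preimageAlong θ P' ≤ S := preimageAlong_le
    have hk : preimageAlong θ ⊥ ≤ preimageAlong θ P' := preimageAlong_mono bot_le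
    obtain ⟨ρ, h1, e⟩ := h.toMorph.exists_autHom hP (h.image_preimage hP')
    obtain ⟨β, hβ, e'⟩ := h.exists_lift_aut hP hk (h.image_preimage hP') hγ
    haveI := finite_autGroup F hP
    have h2 : γ ∈ Subgroup.map ρ ⊤ := ⟨⟨β, hβ⟩, trivial, aut_ext fun y hy => by
      obtain ⟨x, hx, rfl⟩ := h.pre hP' hy
      rw [e _ x hx, e' x hx]⟩
    have := Transfer.mem_res h2 hc
    rw [← Transfer.map_res, Transfer.res_top] at this
    obtain ⟨a, ha, rfl⟩ := this
    obtain ⟨x, hx, rfl⟩ := h.pre hP' hy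
    rw [e _ x hx, ← ap_inv _ (hP hx), ← ap_mul _ (inv_mem (hP hx)) (hP (afun_mem _ hx))]
    exact mem_imageAlong.2 ⟨_, mem_of_res (hD _ hk hP) ⟨a, ha, rfl⟩ x hx,
      mul_mem (inv_mem (hP hx)) (hP (afun_mem _ hx)), rfl⟩

theorem Surj.hyp_eq (h : Surj F F' θ) :
    F'.hyperfocalSubgroup p = imageAlong θ (F.hyperfocalSubgroup p) :=
  le_antisymm (h.hyp_le fun _ _ hP _ hα hc _ hx => mem_hyp hP hα hc hx) h.toMorph.image_hyp

end Surj

theorem hyp_le_of_ge (hS : IsPGroup p S) (hF : F.IsSaturated p) (hT : F.StronglyClosed T)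
    (hTD : T ≤ D) (hDS : D ≤ S) (hD : ∀ P, T ≤ P → P ≤ S →
    ∀ α ∈ F.autGroup P, (orderOf α).Coprime p → ∀ x ∈ P, x⁻¹ * afun α x ∈ D) :
    F.hyperfocalSubgroup p ≤ D := by
  haveI := StronglyClosed.subgroupOf_normal hT
  obtain ⟨E, hE⟩ := exists_factor_mk hT
  have h := hE.surj hS hF hT
  have := h.hyp_le (hE.ker.symm ▸ hD)
  rw [h.hyp_eq] at this
  exact (le_preimage_image hyp_le).trans ((preimageAlong_mono this).trans
    (preimage_image_of_le hDS (hE.ker.symm ▸ hTD)).le)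

theorem hyp_act (hS : IsPGroup p S) (hF : F.IsSaturated p) (hT : F.StronglyClosed T) :
    F.hyperfocalSubgroup p ≤ kNorm S T (Transfer.res p (F.autGroup T) ⊔ Inn T) := by
  have hN := StronglyClosed.le_normalizer hT
  refine hyp_le_of_ge hS hF hT (fun t ht => (isKNorm_kNorm t).2 ⟨hT.1 ht, ?_⟩) isKNorm_kNorm.le
    fun P hTP hP α hα hc x hx => (isKNorm_kNorm _).2 ⟨mul_mem (inv_mem (hP hx)) (hP (afun_mem _ hx)), ?_⟩
  · obtain ⟨σ, e⟩ := exists_cAut (hN (hT.1 ht))
    exact ⟨σ, Subgroup.mem_sup_right (mem_Inn.2 ⟨t, ht, e⟩), e⟩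
  · haveI : Finite P := finite_of_le hP
    have hm := (mem_autGroup hP).1 hα
    have hs := mem_stabAut_of_finite hTP fun y hy => StronglyClosed.mem hT hm (hTP hy) hy
    obtain ⟨σ, e⟩ := exists_cAut (hN (hP hx))
    have h1 : resAut hTP ⟨α, hs⟩ ∈ Transfer.res p (F.autGroup T) :=
      Transfer.mem_res ((hm.mono hTP).mem_autGroup fun y hy => afun_resAut _ _ hy)
        (Nat.Coprime.coprime_dvd_left (orderOf_map_dvd _ _) (by rwa [← Subgroup.orderOf_coe]))
    have h2 : σ ∈ F.autGroup T := (mor_conj F hT.1 (hP hx)).mem_autGroup e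
    refine ⟨σ⁻¹ * resAut hTP ⟨α, hs⟩ * σ⁻¹⁻¹ * (resAut hTP ⟨α, hs⟩)⁻¹, Subgroup.mem_sup_left
      (mul_mem (conj_mem_of_mem_normalizer (Transfer.le_normalizer_res _ (inv_mem h2)) h1)
        (inv_mem h1)), fun y hy => ?_⟩
    obtain ⟨z, hz, rfl⟩ : ∃ z ∈ T, afun (resAut hTP ⟨α, hs⟩) z = y :=
      ⟨_, afun_mem _ hy, afun_afun_inv _ hy⟩
    have hz' := conj_mem_of_mem_normalizer (hN (hP hx)) hz
    rw [afun_mul _ _ (afun_mem _ hz), afun_inv_afun _ hz, inv_inv, afun_mul _ _ hz, e z hz,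
      afun_mul _ _ hz', afun_resAut _ _ hz', afun_resAut _ _ hz, hm.map_conj hx (hTP hz)]
    have hw := StronglyClosed.mem hT hm (hTP hz') hz'
    rw [hm.map_conj hx (hTP hz)] at hw
    have := afun_inv_afun σ (conj_mem_of_mem_normalizer (inv_mem (hN (hP hx))) hw)
    rw [e _ (conj_mem_of_mem_normalizer (inv_mem (hN (hP hx))) hw)] at this
    simpa [mul_assoc] using this

end Cfsg.Agent.Fusion
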