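import Cfsg.Agent.Lib.Fusion.GroupQuot
import Cfsg.Agent.Lib.Solv.Cores
import Cfsg.Agent.Lib.Transfer.Residual
import Cfsg.Prelude.Def_FusionReduction

/-! Sections of local models: embedding and quotient lemmas, section-free systems. -/

set_option autoImplicit false

namespace Cfsg.Agent.Fusion

open Cfsg Cfsg.FusionSystem

section Involves

variable {H L L' : Type*} [Group H] [Group L] [Group L']

theorem involves_iff : Involves H L ↔ ∃ (K : Subgroup L) (φ : K →* H), Function.Surjective φ := by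
  constructor
  · rintro ⟨K, R, _, ⟨e⟩⟩
    exact ⟨K, e.toMonoidHom.comp (QuotientGroup.mk' _),
      e.surjective.comp (QuotientGroup.mk'_surjective _)⟩
  · rintro ⟨K, φ, hφ⟩
    have e : (φ.ker.map K.subtype).subgroupOf K = φ.ker :=
      Subgroup.comap_map_eq_self_of_injective K.subtype_injective _
    have : ((φ.ker.map K.subtype).subgroupOf K).Normal := by rw [e]; infer_instance
    exact ⟨K, φ.ker.map K.subtype, this, ⟨(QuotientGroup.quotientMulEquivOfEq e).trans
      (QuotientGroup.quotientKerEquivOfSurjective φ hφ)⟩⟩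

theorem Involves.of_injective (h : Involves H L) (φ : L →* L') (hφ : Function.Injective φ) :
    Involves H L' := by
  obtain ⟨K, ψ, hψ⟩ := involves_iff.1 h
  exact involves_iff.2 ⟨K.map φ, ψ.comp (K.equivMapOfInjective φ hφ).symm.toMonoidHom,
    hψ.comp (K.equivMapOfInjective φ hφ).symm.surjective⟩

theorem Involves.of_surjective (h : Involves H L) (φ : L' →* L) (hφ : Function.Surjective φ) :
    Involves H L' := by
  obtain ⟨K, ψ, hψ⟩ := involves_iff.1 h
  exact involves_iff.2 ⟨K.comap φ, ψ.comp (φ.subgroupComap K),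
    hψ.comp (φ.subgroupComap_surjective_of_surjective K hφ)⟩

theorem Involves.trans (h : Involves H L) (h' : Involves L L') : Involves H L' := by
  obtain ⟨K, ψ, hψ⟩ := involves_iff.1 h'
  exact Involves.of_injective (Involves.of_surjective h ψ hψ) K.subtype K.subtype_injective

theorem involves_refl : Involves H H :=
  involves_iff.2 ⟨⊤, (⊤ : Subgroup H).subtype, fun x => ⟨⟨x, trivial⟩, rfl⟩⟩

end Involves

section Group

variable {G : Type*} [Group G] [Finite G] {p : ℕ} [Fact p.Prime]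

theorem SylowIn.isSyl {B C : Subgroup G} (h : SylowIn p B C) : Transfer.IsSyl p B C :=
  ⟨h.le, h.pgroup, h.not_dvd_relIndex⟩

theorem sylowIn_of_isSyl {B C : Subgroup G} (h : Transfer.IsSyl p B C) : SylowIn p B C :=
  sylowIn_of_not_dvd_relIndex h.le h.pgroup h.not_dvd

theorem centralizer_le_of_pPrimeCore (h : pPrimeCore p G = ⊥) {T U : Subgroup G}
    (hT : SylowIn p T ⊤) (hn : U.Normal) (hC : centralizerIn T U ≤ U) :
    Subgroup.centralizer (U : Set G) ≤ U := by
  set C := Subgroup.centralizer (U : Set G) with hCdef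
  have hCn : C.Normal := inferInstance
  have h1 : SylowIn p (T ⊓ C) C := hT.inf_normal le_top fun c _ d hd => hCn.conj_mem d hd c
  have hTC : T ⊓ C ≤ U := fun x hx => hC (mem_centralizerIn.2 ⟨hx.1, fun y hy => by
    rw [← hx.2 y hy]; simp⟩)
  have h2 : HasNormalPComplement p C := by
    refine h1.isSyl.hasNPC_of_controls le_rfl inf_le_right (fun x hx g hg _ => ⟨1, Subgroup.one_mem _, ?_⟩)
      (Transfer.hasNPC_of_isPGroup h1.pgroup)
    rw [← hg x (hTC hx)]; simp
  have h3 : (Transfer.res p C).Normal := by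
    rw [← Subgroup.normalizer_eq_top_iff, eq_top_iff]
    exact le_trans (le_of_eq (Subgroup.normalizer_eq_top C).symm) (Transfer.normalizer_le_normalizer_res C)
  have h4 : Transfer.res p C = ⊥ := by
    rw [eq_bot_iff, ← h]
    exact Solv.le_pPrimeCore ((Nat.Prime.coprime_iff_not_dvd Fact.out).2
      (Transfer.hasNPC_sub_iff.1 h2)).symm
  have h5 := h1.isSyl.res_sup
  rw [h4, bot_sup_eq] at h5
  exact h5 ▸ hTC

theorem pPrimeCore_eq_bot_of_char
    (h : Subgroup.centralizer ((pCore p G : Subgroup G) : Set G) ≤ pCore p G) :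
    pPrimeCore p G = ⊥ := by
  rw [eq_bot_iff, ← Solv.pCore_inf_pPrimeCore (p := p) (G := G)]
  exact le_inf (le_trans (Subgroup.le_centralizer_iff.1 Solv.pCore_le_centralizer_pPrimeCore) h) le_rfl

omit [Finite G] [Fact p.Prime] in
theorem char_of_normal {U : Subgroup G} (hn : U.Normal) (hp : IsPGroup p U)
    (h : Subgroup.centralizer (U : Set G) ≤ U) :
    Subgroup.centralizer ((pCore p G : Subgroup G) : Set G) ≤ pCore p G :=
  (Subgroup.centralizer_le (le_pCore hn hp)).trans (h.trans (le_pCore hn hp))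

end Group

universe u

variable {Ω : Type u} [Group Ω] {S : Subgroup Ω} {F : FusionSystem S} {P Q R A U : Subgroup Ω}
  {p : ℕ} {f g φ : Ω → Ω}

theorem Mor.exists_conj (hφ : Mor F U φ) (hA : A ≤ U) (hf : Mor F A f) (hm : ∀ x ∈ A, f x ∈ U) :
    ∃ h, Mor F (img φ A) h ∧ ∀ x ∈ A, h (φ x) = φ (f x) := by
  obtain ⟨k, hk, e1, e2, -, -⟩ := (hφ.mono hA).inv
  exact ⟨fun y => φ (f (k y)), (hk.comp hf e2).comp hφ fun y hy => hm _ (e2 y hy),
    fun x hx => by beta_reduce; rw [e1 x hx]⟩

theorem Mor.exists_conj_back (hφ : Mor F U φ) (hA : A ≤ U) {h : Ω → Ω} (hh : Mor F (img φ A) h)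
    (hm : ∀ x ∈ A, h (φ x) ∈ img φ U) :
    ∃ f, Mor F A f ∧ ∀ x ∈ A, f x ∈ U ∧ φ (f x) = h (φ x) := by
  obtain ⟨k, hk, -, e2, e3, -⟩ := hφ.inv
  exact ⟨fun x => k (h (φ x)), (((hφ.mono hA).comp hh fun x hx => subset_img hx)).comp hk hm,
    fun x hx => ⟨e2 _ (hm x hx), e3 _ (hm x hx)⟩⟩

theorem IsModel.centralizer_le [Fact p.Prime] [Finite S] {G : Type*} [Group G] {ι : S →* G}
    (h : F.IsModel p G ι) (hQ : F.IsNormal Q) (hC : centralizerIn S Q ≤ Q) :
    Subgroup.centralizer (imageAlong ι Q : Set G) ≤ imageAlong ι Q := by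
  have hn := IsModel.image_normal h hQ
  obtain ⟨_, hr, ⟨T, hT⟩, hc⟩ := h
  refine centralizer_le_of_pPrimeCore (pPrimeCore_eq_bot_of_char hc) (hT ▸ sylowIn_top T) hn ?_
  rw [← imageAlong_centralizerIn hr.1 rfl hQ.1]
  exact imageAlong_mono hC

theorem IsModel.sylowIn {G : Type*} [Group G] {ι : S →* G} (h : F.IsModel p G ι) :
    SylowIn p ι.range ⊤ := by
  obtain ⟨_, -, ⟨T, hT⟩, -⟩ := h
  exact hT ▸ sylowIn_top T

theorem ap_codRestrict {G : Type*} [Group G] (j : S →* G) (M : Subgroup G) (hM : ∀ t, j t ∈ M)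
    {x : Ω} (hx : x ∈ S) : ((ap (j.codRestrict M hM) x : M) : G) = ap j x := by
  rw [ap_of_mem _ hx, ap_of_mem _ hx]; rfl

theorem isModel_subgroup [Fact p.Prime] {L : Type*} [Group L] [Finite L] (M : Subgroup L)
    (j : S →* L) (hj : Function.Injective j) (hsyl : SylowIn p j.range M)
    (hmor : ∀ P f, P ≤ S → (∀ x ∈ P, f x ∈ S) →
      (Mor F P f ↔ ∃ g ∈ M, ∀ x ∈ P, ap j (f x) = g * ap j x * g⁻¹))
    {V : Subgroup L} (hV : V ≤ M) (hp : IsPGroup p V) (hn : M ≤ Subgroup.normalizer (V : Set L))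
    (hC : ∀ g ∈ M, g ∈ Subgroup.centralizer (V : Set L) → g ∈ V) :
    F.IsModel p M (j.codRestrict M fun t => hsyl.le ⟨t, rfl⟩) := by
  refine ⟨inferInstance, isRealizedBy_iff.2 ⟨fun a b e => hj (congrArg Subtype.val e),
    fun P f hP hm => (hmor P f hP hm).trans ⟨?_, ?_⟩⟩, ?_, ?_⟩
  · rintro ⟨g, hg, e⟩
    refine ⟨⟨g, hg⟩, fun x hx => Subtype.ext ?_⟩
    simp only [Subgroup.coe_mul, Subgroup.coe_inv]
    rw [ap_codRestrict _ _ _ (hm x hx), ap_codRestrict _ _ _ (hP hx), e x hx]
  · rintro ⟨g, e⟩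
    refine ⟨g, g.2, fun x hx => ?_⟩
    have := congrArg Subtype.val (e x hx)
    simp only [Subgroup.coe_mul, Subgroup.coe_inv] at this
    rwa [ap_codRestrict _ _ _ (hm x hx), ap_codRestrict _ _ _ (hP hx)] at this
  · obtain ⟨R, hR⟩ := hsyl.exists_sylow
    refine ⟨R, hR.trans ?_⟩
    ext ⟨x, hx⟩
    exact ⟨fun ⟨t, e⟩ => ⟨t, Subtype.ext e⟩, fun ⟨t, e⟩ => ⟨t, congrArg Subtype.val e⟩⟩
  · refine char_of_normal (U := V.subgroupOf M) ((Subgroup.normal_subgroupOf_iff_le_normalizer hV).2 hn)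
      (pgroup_subgroupOf hp) fun g hg => hC g g.2 fun v hv => ?_
    exact congrArg Subtype.val (hg ⟨v, hV hv⟩ hv)

variable [Fact p.Prime] [Finite S]

theorem normSys_card_le (hS : IsPGroup p S) (hF : F.IsSaturated p) (hQ : F.IsFullyNormalized Q)
    {N : FusionSystem (normalizerIn S Q)} (hN : F.IsNormalizerSystem Q N) (hQP : Q ≤ P)
    (hP : N.IsFullyNormalized P) (hg : Mor F P g) :
    Nat.card (normalizerIn (normalizerIn S (img g P)) (img g Q)) ≤
      Nat.card (normalizerIn (normalizerIn S Q) P) := by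
  have hPN : P ≤ normalizerIn S Q := hP.1
  obtain ⟨χ, hχ, e⟩ := IsSaturated.exists_normalizer_mor hS hF hQ
    (isConj_symm (hg.mono hQP).isConj)
  have h1 : ∀ x ∈ P, g x ∈ normalizerIn S (img g Q) := fun x hx =>
    hg.mem_normalizer_img hQP hx (hPN hx).2
  have h2 : Mor N P fun x => χ (g x) := normSys_mor_of hN hPN (hg.comp hχ h1) le_rfl hQP
    (by rw [(hg.mono hQP).img_comp', e])
  have h3 := hP.2 _ h2.isConj
  rw [hg.img_comp'] at h3
  refine le_trans ?_ h3
  have hle : normalizerIn (normalizerIn S (img g P)) (img g Q) ≤ normalizerIn S (img g Q) :=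
    normalizerIn_mono normalizerIn_le
  have : Finite (normalizerIn (normalizerIn S Q) (img χ (img g P))) :=
    finite_of_le (normalizerIn_le.trans normalizerIn_le)
  refine (hχ.mono hle).card_le fun x hx => ⟨?_, ?_⟩
  · have := hχ.normalizerIn_mem (hg.mono hQP).img_le (hle hx)
    rwa [e] at this
  · exact (hχ.mem_normalizer_img (img_le_iff.2 h1) (hle hx) hx.1.2).2

theorem normSys_centric (hS : IsPGroup p S) (hF : F.IsSaturated p) (hQ : F.IsFullyNormalized Q)
    {N : FusionSystem (normalizerIn S Q)} (hN : F.IsNormalizerSystem Q N) (hQP : Q ≤ P)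
    (hP : N.IsCentric P) : F.IsCentric P := by
  have hPN : P ≤ normalizerIn S Q := hP.1
  refine isCentric_iff.2 ⟨hPN.trans normalizerIn_le, fun g hg => ?_⟩
  obtain ⟨χ, hχ, e⟩ := IsSaturated.exists_normalizer_mor hS hF hQ
    (isConj_symm (hg.mono hQP).isConj)
  have h1 : ∀ x ∈ P, g x ∈ normalizerIn S (img g Q) := fun x hx =>
    hg.mem_normalizer_img hQP hx (hPN hx).2
  have h2 : Mor N P fun x => χ (g x) := normSys_mor_of hN hPN (hg.comp hχ h1) le_rfl hQP
    (by rw [(hg.mono hQP).img_comp', e])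
  have h3 := (isCentric_iff.1 hP).2 _ h2
  rw [hg.img_comp'] at h3
  intro c hc
  have hc' : c ∈ normalizerIn S (img g Q) :=
    centralizerIn_le_normalizerIn (centralizerIn_anti (img_mono hQP) hc)
  refine (hχ.apply_mem_img_iff (img_le_iff.2 h1) hc').1 (h3 ⟨?_, ?_⟩)
  · have := hχ.normalizerIn_mem (hg.mono hQP).img_le hc'
    rwa [e] at this
  · exact (hχ.mem_centralizer_img (img_le_iff.2 h1) hc' (mem_centralizerIn.1 hc).2).2

/-- The model of `N_{N_F(Q)}(P)` embeds in the model of `N_F(P')`. -/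
theorem model_embed (hS : IsPGroup p S) (hF : F.IsSaturated p) (hQ : F.IsFullyNormalized Q)
    {N : FusionSystem (normalizerIn S Q)} (hN : F.IsNormalizerSystem Q N) (hQP : Q ≤ P)
    (hP : N.IsFullyNormalized P) (hc : F.IsCentric P)
    {NN : FusionSystem (normalizerIn (normalizerIn S Q) P)} (hNN : N.IsNormalizerSystem P NN)
    {L : Type*} [Group L] {ι : normalizerIn (normalizerIn S Q) P →* L} (hL : NN.IsModel p L ι)
    (hφ : Mor F (normalizerIn S P) φ)
    {N' : FusionSystem (normalizerIn S (img φ P))} (hN' : F.IsNormalizerSystem (img φ P) N')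
    {L' : Type*} [Group L'] {ι' : normalizerIn S (img φ P) →* L'} (hL' : N'.IsModel p L' ι') :
    ∃ θ : L →* L', Function.Injective θ := by
  let T := normalizerIn (normalizerIn S Q) P
  let R' := normalizerIn S (img φ P)
  have hPN : P ≤ normalizerIn S Q := hP.1
  have hPS : P ≤ S := hc.1
  have hPT : P ≤ T := le_normalizerIn hPN
  have hTN : T ≤ normalizerIn S P := normalizerIn_mono normalizerIn_le
  have hPP : P ≤ normalizerIn S P := le_normalizerIn hPS
  have hφP := hφ.mono hPP
  have hm : ∀ x ∈ normalizerIn S P, φ x ∈ R' := fun x hx => hφ.normalizerIn_mem hPS hx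
  have : Finite L' := hL'.1
  have : Finite R' := finite_of_le normalizerIn_le
  have : Finite T := finite_of_le (hTN.trans normalizerIn_le)
  have hP'R : img φ P ≤ R' := le_normalizerIn hφP.img_le
  have hQ'R : img φ Q ≤ R' := (img_mono hQP).trans hP'R
  let j : T →* L' := ι'.comp ((mkHom T φ fun x hx y hy =>
    hφ.map_mul (hTN hx) (hTN hy)).codRestrict R' fun x => hm x (hTN x.2))
  have hj : ∀ x ∈ T, ap j x = ap ι' (φ x) := fun x hx => by
    rw [ap_of_mem _ hx, ap_of_mem _ (hm x (hTN hx))]; rfl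
  have hinj := hL'.2.1.1
  have hi := isRealizedBy_iff_iso.1 hL'.2.1
  have hX : img φ T = normalizerIn R' (img φ Q) := by
    have : Finite (normalizerIn R' (img φ Q)) := finite_of_le normalizerIn_le
    exact (hφ.mono hTN).img_eq_of_card_le (fun x hx => ⟨hm x (hTN hx),
      (hφ.mem_normalizer_img (hQP.trans hPP) (hTN hx) hx.1.2).2⟩)
      (normSys_card_le hS hF hQ hN hQP hP hφP)
  have hfn : N'.IsFullyNormalized (img φ Q) := ⟨hQ'R, fun Q'' hQ'' => by
    obtain ⟨ψ, hψ, rfl⟩ := isConj_iff.1 hQ''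
    obtain ⟨k, hk, e1, e2⟩ := normSys_ext hN' hψ
    have h1 := normSys_card_le hS hF hQ hN hQP hP (hφP.comp hk fun x hx =>
      (le_sup_right : img φ P ≤ _) (subset_img hx))
    rw [hφP.img_comp', e2, (hφP.mono hQP).img_comp', img_congr e1] at h1
    rw [← hX, (hφ.mono hTN).card_img]
    exact h1⟩
  have hrange : j.range = normalizerIn ι'.range (imageAlong ι' (img φ Q)) := by
    rw [← imageAlong_normalizerIn hinj rfl hQ'R, ← hX]
    ext y
    rw [mem_range_iff, mem_imageAlong' (hX ▸ normalizerIn_le)]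
    constructor
    · rintro ⟨x, hx, rfl⟩; exact ⟨φ x, subset_img hx, (hj x hx).symm⟩
    · rintro ⟨y, hy, rfl⟩
      obtain ⟨x, hx, rfl⟩ := (hφ.mono hTN).mem_img.1 hy
      exact ⟨x, hx, hj x hx⟩
  have hsyl : SylowIn p j.range (normalizerIn ⊤ (imageAlong ι' (img φ Q))) := by
    rw [hrange]
    have := hi.fullyNormalized hfn
    rw [groupFusionSystem_eq] at this
    exact (fullyNormalized_sub_iff (IsModel.sylowIn hL') imageAlong_le_range).1 this
  have hU := IsModel.image_normal hL' (normSys_normal hN' hφP.img_le)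
  have hcen := IsModel.centralizer_le hL' (normSys_normal hN' hφP.img_le)
    ((centralizerIn_mono normalizerIn_le).trans ((isCentric_iff.1 hc).2 _ hφP))
  have hM := isModel_subgroup (F := NN) (p := p) _ j (fun a b e => by
      have e' : ap j a = ap j b := by rw [ap_of_mem _ a.2, ap_of_mem _ b.2]; exact e
      rw [hj _ a.2, hj _ b.2] at e'
      exact Subtype.ext (hφ.inj (hTN a.2) (hTN b.2) (ap_inj hinj (hm _ (hTN a.2)) (hm _ (hTN b.2)) e')))
    hsyl (V := imageAlong ι' (img φ P)) ?_ ?_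
    (pgroup_of_le (IsModel.sylowIn hL').pgroup imageAlong_le_range)
    (le_top.trans (Subgroup.normalizer_eq_top _).ge) (fun g _ hg => hcen hg)
  · obtain ⟨e, -⟩ := IsModel.exists_equiv (pgroup_of_le hS (hTN.trans normalizerIn_le)) hL hM
    exact ⟨(Subgroup.subtype _).comp e.toMonoidHom, (Subgroup.subtype_injective _).comp e.injective⟩
  · intro A f hA hfA
    have hAP : A ⊔ P ≤ T := sup_le hA hPT
    have hB : img φ (A ⊔ P) ≤ R' := img_le_iff.2 fun x hx => hm x (hTN (hAP hx))
    constructor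
    · intro hf
      obtain ⟨g1, hg1, e1, e1'⟩ := normSys_ext hNN hf
      obtain ⟨g2, hg2, e2, e2'⟩ := normSys_ext hN hg1
      have hg2' : Mor F (A ⊔ P) g2 := hg2.mono le_sup_left
      have hg2T : ∀ x ∈ A ⊔ P, g2 x ∈ T := hg2'.mem_of_sup
        (fun x hx => by rw [e2 x (Subgroup.mem_sup_left hx), e1 x hx]; exact hfA x hx)
        (fun x hx => by rw [e2 x (Subgroup.mem_sup_right hx)]; exact hPT (e1' ▸ subset_img hx))
      obtain ⟨h, hh, eh⟩ := hφ.exists_conj (hAP.trans hTN) hg2' fun x hx => hTN (hg2T x hx)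
      have eP : img h (img φ P) = img φ P := by
        rw [← hφP.img_comp', img_congr fun x hx => eh x (Subgroup.mem_sup_right hx),
          (hg2'.mono le_sup_right).img_comp',
          img_congr fun x hx => e2 x (Subgroup.mem_sup_right hx), e1']
      have eQ : img h (img φ Q) = img φ Q := by
        rw [← (hφP.mono hQP).img_comp', img_congr fun x hx => eh x (Subgroup.mem_sup_right (hQP hx)),
          (hg2.mono le_sup_right).img_comp', e2']
      have hh' : Mor N' (img φ (A ⊔ P)) h := normSys_mor_of hN' hB hh le_rfl (img_mono le_sup_right) eP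
      obtain ⟨g, eg⟩ := (IsRealizedBy.mor_iff hL'.2.1 hB fun x hx => hh'.mem hx).1 hh'
      refine ⟨g, ⟨trivial, mem_normalizer_of_finite fun y hy => ?_⟩, fun x hx => ?_⟩
      · obtain ⟨z, hz, rfl⟩ := (mem_imageAlong' hQ'R).1 hy
        rw [← eg z (img_mono (hQP.trans le_sup_right) hz)]
        exact ap_mem_imageAlong hQ'R (eQ ▸ subset_img hz)
      · rw [hj _ (hfA x hx), hj _ (hA hx), ← eg _ (subset_img (Subgroup.mem_sup_left hx)),
          eh x (Subgroup.mem_sup_left hx), e2 x (Subgroup.mem_sup_left hx), e1 x hx]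
    · rintro ⟨g, hg, eg⟩
      obtain ⟨κ, k1, k2, k3⟩ := exists_inv_hom hinj rfl
      have hconj : ∀ x ∈ A ⊔ P, g * ap ι' (φ x) * g⁻¹ ∈ imageAlong ι' (img φ T) := by
        have hTR : img φ T ≤ R' := hX ▸ normalizerIn_le
        intro x hx
        obtain ⟨a, ha, b, hb, rfl⟩ := (mem_sup_of_le_normalizer (fun a ha => (hA ha).2)).1 hx
        rw [hφ.map_mul (hTN (hA ha)) (hPP hb), ap_mul _ (hm _ (hTN (hA ha))) (hm _ (hPP hb))]
        have : g * (ap ι' (φ a) * ap ι' (φ b)) * g⁻¹ =
          (g * ap ι' (φ a) * g⁻¹) * (g * ap ι' (φ b) * g⁻¹) := by group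
        rw [this, ← hj a (hA ha), ← eg a ha, hj _ (hfA a ha)]
        exact Subgroup.mul_mem _ (ap_mem_imageAlong hTR (subset_img (hfA a ha)))
          (imageAlong_mono (img_mono hPT) (hU.conj_mem _ (ap_mem_imageAlong hP'R (subset_img hb)) g))
      have hTR : img φ T ≤ R' := hX ▸ normalizerIn_le
      have key : ∀ {V : Subgroup Ω}, V ≤ R' → ∀ {y}, y ∈ imageAlong ι' V → ap κ y ∈ V := by
        intro V hV y hy
        obtain ⟨z, hz, rfl⟩ := (mem_imageAlong' hV).1 hy
        rw [k1 z (hV hz)]; exact hz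
      have hconj' : ∀ y ∈ img φ (A ⊔ P), g * ap ι' y * g⁻¹ ∈ imageAlong ι' (img φ T) := fun y hy => by
        obtain ⟨x, hx, rfl⟩ := (hφ.mono (hAP.trans hTN)).mem_img.1 hy
        exact hconj x hx
      have hh : Mor N' (img φ (A ⊔ P)) fun y => ap κ (g * ap ι' y * g⁻¹) :=
        (IsRealizedBy.mor_iff hL'.2.1 hB fun y hy => hTR (key hTR (hconj' y hy))).2
          ⟨g, fun y hy => k3 _ (imageAlong_le_range (hconj' y hy))⟩
      obtain ⟨f2, hf2, e2⟩ := hφ.exists_conj_back (hAP.trans hTN)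
        (isSubsystemOf_iff.1 (normSys_sub hN') _ _ hh)
        fun x hx => img_mono hTN (key hTR (hconj x hx))
      have : Finite P := finite_of_le hPS
      have : Finite Q := finite_of_le (hQP.trans hPS)
      have eP : img f2 P = P := (hf2.mono le_sup_right).img_eq_self fun x hx => by
        obtain ⟨h1, h2⟩ := e2 x (Subgroup.mem_sup_right hx)
        refine (hφ.apply_mem_img_iff hPP h1).1 ?_
        rw [h2]
        exact key hP'R (hU.conj_mem _ (ap_mem_imageAlong hP'R (subset_img hx)) g)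
      have eQ : img f2 Q = Q := (hf2.mono (hQP.trans le_sup_right)).img_eq_self fun x hx => by
        obtain ⟨h1, h2⟩ := e2 x (Subgroup.mem_sup_right (hQP hx))
        refine (hφ.apply_mem_img_iff (hQP.trans hPP) h1).1 ?_
        rw [h2]
        exact key hQ'R (conj_mem_of_mem_normalizerIn hg (ap_mem_imageAlong hQ'R (subset_img hx)))
      have h3 : Mor N (A ⊔ P) f2 := normSys_mor_of hN (hAP.trans normalizerIn_le) hf2 le_rfl
        (hQP.trans le_sup_right) eQ
      refine (normSys_mor_of hNN hA h3 le_sup_left le_sup_right eP).congr fun x hx => ?_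
      obtain ⟨h1, h2⟩ := e2 x (Subgroup.mem_sup_left hx)
      refine hφ.inj h1 (hTN (hfA x hx)) ?_
      rw [h2, ← hj x (hA hx), ← eg x hx, hj _ (hfA x hx), k1 _ (hm _ (hTN (hfA x hx)))]
  · refine le_trans ?_ hsyl.le
    intro y hy
    obtain ⟨z, hz, rfl⟩ := (mem_imageAlong' hP'R).1 hy
    obtain ⟨x, hx, rfl⟩ := hφP.mem_img.1 hz
    exact mem_range_iff.2 ⟨x, hPT hx, hj x (hPT hx)⟩

omit [Fact p.Prime] [Finite S] in
theorem IsModel.transport {T : Subgroup Ω} (e : T = S) {E : FusionSystem T}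
    (h : ∀ P f, Mor E P f ↔ Mor F P f) {L : Type*} [Group L] {ι : S →* L} (hL : F.IsModel p L ι) :
    ∃ ι' : T →* L, E.IsModel p L ι' := by
  subst e
  obtain rfl := sys_ext h
  exact ⟨ι, hL⟩

omit [Fact p.Prime] [Finite S] in
theorem normalizerIn_eq_of_le (h : S ≤ Subgroup.normalizer (Q : Set Ω)) : normalizerIn S Q = S :=
  le_antisymm normalizerIn_le fun _ hx => ⟨hx, h hx⟩

omit [Fact p.Prime] [Finite S] in
theorem IsNormal.normalizerIn_eq (h : F.IsNormal Q) : normalizerIn S Q = S :=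
  normalizerIn_eq_of_le (WeaklyClosed.le_normalizer (IsNormal.weaklyClosed h))

omit [Fact p.Prime] in
theorem IsNormal.fullyNormalized (h : F.IsNormal Q) : F.IsFullyNormalized Q :=
  fullyNormalized_of_normal h.1 (WeaklyClosed.le_normalizer (IsNormal.weaklyClosed h))

theorem normSys_radical (hS : IsPGroup p S) {N : FusionSystem (normalizerIn S Q)}
    (hN : F.IsNormalizerSystem Q N) (hQ : Q ≤ S) (h : N.IsRadical p Q) : F.IsRadical p Q := by
  have : Finite (normalizerIn S Q) := finite_of_le normalizerIn_le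
  have h1 := (isRadical_iff (pgroup_of_le hS normalizerIn_le)).1 h
  rw [normSys_autGroup hN hQ] at h1
  exact (isRadical_iff hS).2 ⟨hQ, h1.2⟩

theorem exists_local_model (hS : IsPGroup p S) (hF : F.IsSaturated p) (hP : F.IsFullyNormalized P)
    (hc : F.IsCentric P) : ∃ (L : Type u) (_ : Group L) (ι : normalizerIn S P →* L),
      (normSys F hP.1).IsModel p L ι :=
  haveI : Finite (normalizerIn S P) := finite_of_le normalizerIn_le
  exists_model (pgroup_of_le hS normalizerIn_le)
    (normSys_constrained hS hF hP (IsCentric.cent_le hc) (normSys_spec F hP.1))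

variable {H : Type*} [Group H]

theorem free_of_radical (hS : IsPGroup p S) (hF : F.IsSaturated p)
    (h : ∀ Q : Subgroup Ω, F.IsFullyNormalized Q → F.IsCentric Q → F.IsRadical p Q →
      ∀ N : FusionSystem (normalizerIn S Q), F.IsNormalizerSystem Q N →
      ∀ (L : Type u) [Group L] (ι : normalizerIn S Q →* L), N.IsModel p L ι → ¬ Involves H L) :
    F.IsSectionFree p H := by
  have key : ∀ Q, Q ≤ S → F.IsFullyNormalized Q → F.IsCentric Q →
      ∀ N : FusionSystem (normalizerIn S Q), F.IsNormalizerSystem Q N →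
      ∀ (L : Type u) [Group L] (ι : normalizerIn S Q →* L), N.IsModel p L ι → ¬ Involves H L := by
    refine downward_induction fun Q hQ ih hn hc N hN L _ ι hL hI => ?_
    have : Finite (normalizerIn S Q) := finite_of_le normalizerIn_le
    have hle : Q ≤ N.core := IsNormal.le_core (normSys_normal hN hQ)
    have hTS : N.core ≤ S := (core_le N).trans normalizerIn_le
    rcases hle.eq_or_lt with e | hlt
    · refine h Q hn hc (normSys_radical hS hN hQ ?_) N hN L ι hL hI
      have := core_radical (pgroup_of_le hS normalizerIn_le) (IsModel.constrained hL)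
      rwa [← e] at this
    · have hcT := isCentric_of_le hc hle hTS
      obtain ⟨φ, hφ, hfn⟩ := IsSaturated.exists_normalizer_mor' hS hF hTS
      have hφT := hφ.mono (le_normalizerIn hTS)
      have hc' := isCentric_of_conj hcT hφT.isConj
      obtain ⟨L', _, ι', hL'⟩ := exists_local_model hS hF hfn hc'
      obtain ⟨ι'', hL''⟩ := IsModel.transport (IsNormal.normalizerIn_eq (core_isNormal N))
        (E := normSys N (core_le N))
        (fun _ _ => normSys_eq_of_normal (normSys_spec N _) (core_isNormal N)) hL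
      obtain ⟨θ, hθ⟩ := model_embed hS hF hn hN hle (IsNormal.fullyNormalized (core_isNormal N)) hcT
        (normSys_spec N _) hL'' hφ (normSys_spec F _) hL'
      have : Finite N.core := finite_of_le hTS
      exact ih _ hφT.img_le (by rw [hφT.card_img]; exact card_lt_of_lt hlt) hfn hc' _
        (normSys_spec F _) L' ι' hL' (Involves.of_injective hI θ hθ)
  exact fun Q hn hc => key Q hn.1 hn hc

theorem free_normSys (hS : IsPGroup p S) (hF : F.IsSaturated p) (hfree : F.IsSectionFree p H)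
    (hQ : F.IsFullyNormalized Q) {N : FusionSystem (normalizerIn S Q)}
    (hN : F.IsNormalizerSystem Q N) : N.IsSectionFree p H := by
  have : Finite (normalizerIn S Q) := finite_of_le normalizerIn_le
  have hR := pgroup_of_le hS (normalizerIn_le (S := S) (P := Q))
  refine free_of_radical hR (normalizer_saturated hS hF hQ hN) fun P hn hc hr NN hNN L _ ι hL hI => ?_
  have hQP : Q ≤ P := IsNormal.le_of_radical hR (normSys_normal hN hQ.1) hc hr
  have hcF := normSys_centric hS hF hQ hN hQP hc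
  obtain ⟨φ, hφ, hfn⟩ := IsSaturated.exists_normalizer_mor' hS hF hcF.1
  have hc' := isCentric_of_conj hcF (hφ.mono (le_normalizerIn hcF.1)).isConj
  obtain ⟨L', _, ι', hL'⟩ := exists_local_model hS hF hfn hc'
  obtain ⟨θ, hθ⟩ := model_embed hS hF hQ hN hQP hn hcF hNN hL hφ (normSys_spec F _) hL'
  exact hfree _ hfn hc' _ (normSys_spec F _) L' ι' hL' (Involves.of_injective hI θ hθ)

omit [Fact p.Prime] [Finite S] in
theorem normSys_normal_of_le {N : FusionSystem (normalizerIn S P)} (hN : F.IsNormalizerSystem P N)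
    (hP : P ≤ S) (hQ : F.WeaklyClosed Q) (hQP : Q ≤ P) : N.IsNormal Q :=
  IsNormal.of_invariant (normSys_normal hN hP) hQP fun α hα x hx => by
    rw [normSys_autGroup hN hP] at hα
    exact WeaklyClosed.mem hQ ((mem_autGroup hP).1 hα) hQP hx

theorem exists_lift_conj' {G M : Type*} [Group G] [Group M] [Finite G] {T : Subgroup G}
    (hT : SylowIn p T ⊤) (π : G →* M) {B : Subgroup G} (hB : B ≤ T) (g : G)
    (h : ∀ x ∈ B, π (g * x * g⁻¹) ∈ T.map π) :
    ∃ k, π k = π g ∧ ∀ x ∈ B, k * x * k⁻¹ ∈ T := by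
  obtain ⟨k, hk, e⟩ := exists_lift_conj hT π.ker hB g fun x hx => by
    obtain ⟨t, ht, e⟩ := h x hx
    exact ⟨t, ht, QuotientGroup.eq.2 (by rw [MonoidHom.mem_ker, map_mul, map_inv, e, inv_mul_cancel])⟩
  exact ⟨k * g, by rw [map_mul, π.mem_ker.1 hk, one_mul], e⟩

section Quot

variable {Ω' : Type*} [Group Ω'] {S' P' : Subgroup Ω'} {θ : S →* Ω'} {E : FusionSystem S'}

omit [Fact p.Prime] [Finite S] in
theorem Surj.preimage_normalizerIn (h : Surj F E θ) (hP' : P' ≤ S') :
    preimageAlong θ (normalizerIn S' P') = normalizerIn S (preimageAlong θ P') := by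
  ext x
  rw [mem_preimageAlong]
  constructor
  · rintro ⟨hx, h1⟩
    exact mem_normalizer_of_ap preimageAlong_le (preimageAlong_mono bot_le) hx
      (by rw [h.image_preimage hP']; exact h1.2)
  · intro hx
    refine ⟨hx.1, mem_normalizerIn.2 ⟨h.mem _ hx.1, fun y => ⟨fun hy => ?_, fun hy => ?_⟩⟩⟩
    · obtain ⟨z, hz, rfl⟩ := h.pre hP' hy
      rw [← ap_conj _ hx.1 (preimageAlong_le hz)]
      exact (mem_preimageAlong.1 (conj_mem_of_mem_normalizerIn hx hz)).2
    · obtain ⟨z, hz, e⟩ := h.pre hP' hy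
      have := (mem_preimageAlong.1 (conj_mem_of_mem_normalizerIn (Subgroup.inv_mem _ hx) hz)).2
      rw [ap_conj _ (S.inv_mem hx.1) (preimageAlong_le hz), e, ap_inv _ hx.1] at this
      simpa [mul_assoc] using this

omit [Fact p.Prime] in
theorem Surj.preimage_fullyNormalized (h : Surj F E θ) (hP' : E.IsFullyNormalized P') :
    F.IsFullyNormalized (preimageAlong θ P') := by
  refine ⟨preimageAlong_le, fun R hR => ?_⟩
  obtain ⟨f, hf, rfl⟩ := isConj_iff.1 hR
  obtain ⟨f', hf', e⟩ := h.mor hf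
  rw [h.image_preimage hP'.1] at hf'
  rw [h.img_lift hP'.1 hf e, ← h.preimage_normalizerIn hf'.img_le, ← h.preimage_normalizerIn hP'.1]
  have key : ∀ X ≤ S', Nat.card (preimageAlong θ X) = Nat.card X * Nat.card θ.ker := fun X hX => by
    have e1 : Nat.card (preimageAlong θ X) = Nat.card (X.comap θ) :=
      (Subgroup.card_map_of_injective S.subtype_injective)
    rw [e1, ← Subgroup.card_mul_index ((θ.ker).subgroupOf (X.comap θ)),
      Nat.card_congr (Subgroup.subgroupOfEquivOfLe (fun x hx => by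
        rw [Subgroup.mem_comap, θ.mem_ker.1 hx]; exact X.one_mem)).toEquiv, mul_comm]
    congr 1
    rw [← Subgroup.relIndex, Subgroup.relIndex_ker, Subgroup.map_comap_eq, h.range, inf_of_le_right hX]
  rw [key _ normalizerIn_le, key _ normalizerIn_le]
  exact Nat.mul_le_mul_right _ (hP'.2 _ hf'.isConj)

omit [Fact p.Prime] in
theorem Surj.preimage_centric (h : Surj F E θ) (hP' : E.IsCentric P') :
    F.IsCentric (preimageAlong θ P') := by
  refine isCentric_iff.2 ⟨preimageAlong_le, fun f hf c hc => ?_⟩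
  obtain ⟨f', hf', e⟩ := h.mor hf
  rw [h.image_preimage hP'.1] at hf'
  rw [h.img_lift hP'.1 hf e] at hc ⊢
  refine mem_preimageAlong.2 ⟨hc.1, (isCentric_iff.1 hP').2 _ hf'
    (mem_centralizerIn.2 ⟨h.mem _ hc.1, fun y hy => ?_⟩)⟩
  obtain ⟨z, hz, rfl⟩ := h.pre hf'.img_le hy
  rw [← ap_conj _ hc.1 (preimageAlong_le hz), (mem_centralizerIn.1 hc).2 z hz]

theorem model_quot (hS : IsPGroup p S) (h : Surj F E θ) (hP' : P' ≤ S')
    (hC : centralizerIn S' P' ≤ P') {N : FusionSystem (normalizerIn S (preimageAlong θ P'))}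
    (hN : F.IsNormalizerSystem _ N) {L : Type*} [Group L]
    {ι : normalizerIn S (preimageAlong θ P') →* L} (hL : N.IsModel p L ι)
    {N' : FusionSystem (normalizerIn S' P')} (hN' : E.IsNormalizerSystem P' N')
    {L' : Type*} [Group L'] {ι' : normalizerIn S' P' →* L'} (hL' : N'.IsModel p L' ι') :
    ∃ π : L →* L', Function.Surjective π ∧
      ∀ x ∈ normalizerIn S (preimageAlong θ P'), π (ap ι x) = ap ι' (ap θ x) := by
  let P := preimageAlong θ P'
  let R := normalizerIn S P
  let R' := normalizerIn S' P'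
  have hRR : preimageAlong θ R' = R := h.preimage_normalizerIn hP'
  have hPS : P ≤ S := preimageAlong_le
  have hRS : R ≤ S := normalizerIn_le
  have hPR : P ≤ R := le_normalizerIn hPS
  have hQP : preimageAlong θ ⊥ ≤ P := preimageAlong_mono bot_le
  have : Finite L := hL.1
  have : Finite R := finite_of_le hRS
  have : Finite S' := h.finite
  have : Finite R' := finite_of_le normalizerIn_le
  have hinj := hL.2.1.1
  have hV := IsModel.image_normal hL (normSys_normal_of_le hN hPS
    (StronglyClosed.weaklyClosed h.toMorph.ker_stronglyClosed) hQP)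
  let V := imageAlong ι (preimageAlong θ ⊥)
  let π : L →* (L ⧸ V) ⧸ pPrimeCore p (L ⧸ V) := (QuotientGroup.mk' _).comp (QuotientGroup.mk' V)
  have hπ : Function.Surjective π :=
    (QuotientGroup.mk'_surjective _).comp (QuotientGroup.mk'_surjective _)
  have hm : ∀ x ∈ R, ap θ x ∈ R' := fun x hx => (mem_preimageAlong.1 (hRR ▸ hx)).2
  have hker : ∀ x ∈ R, π (ap ι x) = 1 ↔ ap θ x = 1 := fun x hx => by
    constructor
    · intro e
      have h1 : (QuotientGroup.mk (ap ι x) : L ⧸ V) ∈ pPrimeCore p (L ⧸ V) :=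
        (QuotientGroup.eq_one_iff _).1 e
      obtain ⟨k, hk⟩ := hS ⟨x, hRS hx⟩
      have h2 : (QuotientGroup.mk (ap ι x) : L ⧸ V) ^ p ^ k = 1 := by
        rw [← QuotientGroup.mk_pow, ← ap_pow _ hx, show x ^ p ^ k = 1 from congrArg Subtype.val hk,
          ap_one]; rfl
      have h3 : (QuotientGroup.mk (ap ι x) : L ⧸ V) = 1 := by
        rw [← orderOf_eq_one_iff]
        exact Nat.eq_one_of_dvd_coprimes ((Solv.coprime_card_pPrimeCore p).pow_right k)
          (Subgroup.orderOf_dvd_natCard _ h1) (orderOf_dvd_of_pow_eq_one h2)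
      have h4 := (ap_mem_image_iff hinj (hQP.trans hPR) hx).1 ((QuotientGroup.eq_one_iff _).1 h3)
      exact Subgroup.mem_bot.1 (mem_preimageAlong.1 h4).2
    · intro e
      have : (QuotientGroup.mk (ap ι x) : L ⧸ V) = 1 := (QuotientGroup.eq_one_iff _).2
        (ap_mem_imageAlong (hQP.trans hPR) (mem_preimageAlong.2 ⟨hRS hx, e⟩))
      show QuotientGroup.mk' _ (QuotientGroup.mk (ap ι x) : L ⧸ V) = 1
      rw [this, map_one]
  let θR : R →* R' := (θ.comp (Subgroup.inclusion hRS)).codRestrict R' fun x => by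
    have := hm x x.2
    rwa [ap_of_mem _ (hRS x.2)] at this
  have eθ : ∀ x : R, (θR x : Ω') = ap θ x := fun x => by rw [ap_of_mem _ (hRS x.2)]; rfl
  have hθR : Function.Surjective θR := fun y => by
    obtain ⟨x, hx, e⟩ := h.pre normalizerIn_le y.2
    exact ⟨⟨x, hRR ▸ hx⟩, Subtype.ext ((eθ _).trans e)⟩
  let j : R' →* _ := θR.liftOfSurjective hθR ⟨π.comp ι, fun x hx => by
    have := (hker x x.2).2 (by rw [← eθ, θR.mem_ker.1 hx]; rfl)
    rwa [ap_of_mem _ x.2] at this⟩
  have hj : ∀ x ∈ R, ap j (ap θ x) = π (ap ι x) := fun x hx => by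
    rw [ap_of_mem _ (hm x hx), ap_of_mem ι hx]
    have : (⟨ap θ x, hm x hx⟩ : R') = θR ⟨x, hx⟩ := Subtype.ext (eθ ⟨x, hx⟩).symm
    rw [this]
    exact MonoidHom.liftOfRightInverse_comp_apply _ _ _ _ _
  have hjinj : Function.Injective j := (injective_iff_map_eq_one j).2 fun y hy => by
    obtain ⟨x, rfl⟩ := hθR y
    refine Subtype.ext ((eθ x).trans ((hker x x.2).1 ?_))
    rw [← hj x x.2, ← eθ, ap_of_mem _ (θR x).2]; exact hy
  have himg : ∀ X ≤ R, imageAlong j (imageAlong θ X) = (imageAlong ι X).map π := fun X hX => by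
    have h1 : imageAlong θ X ≤ R' := (imageAlong_le_iff (hX.trans hRS)).2 fun x hx => hm x (hX hx)
    ext y
    rw [mem_imageAlong' h1]
    constructor
    · rintro ⟨z, hz, rfl⟩
      obtain ⟨x, hx, rfl⟩ := (mem_imageAlong' (hX.trans hRS)).1 hz
      exact ⟨_, ap_mem_imageAlong hX hx, (hj x (hX hx)).symm⟩
    · rintro ⟨z, hz, rfl⟩
      obtain ⟨x, hx, rfl⟩ := (mem_imageAlong' hX).1 hz
      exact ⟨_, ap_mem_imageAlong (hX.trans hRS) hx, hj x (hX hx)⟩
  have hrange : j.range = ι.range.map π := by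
    have := himg R le_rfl
    rwa [← hRR, h.image_preimage normalizerIn_le, imageAlong_top, hRR, imageAlong_top] at this
  have hsyl : SylowIn p j.range ⊤ := by
    have := (IsModel.sylowIn hL).map π
    rwa [← hrange, Subgroup.map_top_of_surjective _ hπ] at this
  have hU : (imageAlong j P').Normal := by
    rw [← h.image_preimage hP', himg _ hPR]
    exact (IsModel.image_normal hL (normSys_normal hN hPS)).map π hπ
  have hM : N'.IsModel p _ j := by
    refine ⟨inferInstance, isRealizedBy_iff.2 ⟨hjinj, fun A f hA hfA => ⟨fun hf => ?_, ?_⟩⟩,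
      hsyl.exists_sylow_top, char_of_normal hU (pgroup_of_le hsyl.pgroup imageAlong_le_range)
        (centralizer_le_of_pPrimeCore Solv.pPrimeCore_quotient_pPrimeCore hsyl hU ?_)⟩
    · obtain ⟨g, hg, e1, e2⟩ := normSys_ext hN' hf
      obtain ⟨f1, hf1, e3⟩ := h.lift hg
      have hB : preimageAlong θ (A ⊔ P') ≤ R :=
        hRR ▸ preimageAlong_mono (sup_le hA (le_normalizerIn hP'))
      have hPB : P ≤ preimageAlong θ (A ⊔ P') := preimageAlong_mono le_sup_right
      have h1 : Mor N _ f1 := normSys_mor_of hN hB hf1 le_rfl hPB (by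
        rw [h.img_lift hP' (hf1.mono hPB) fun x hx => e3 x (hPB hx), e2])
      obtain ⟨l, el⟩ := (IsRealizedBy.mor_iff hL.2.1 hB fun x hx => h1.mem hx).1 h1
      refine ⟨π l, fun y hy => ?_⟩
      obtain ⟨x, hx, rfl⟩ := h.pre (hA.trans normalizerIn_le) hy
      have hx' : x ∈ preimageAlong θ (A ⊔ P') := preimageAlong_mono le_sup_left hx
      rw [← e1 _ hy, e3 x hx', hj _ (h1.mem hx'), el x hx', hj _ (hB hx'), map_mul, map_mul, map_inv]
    · rintro ⟨m, em⟩
      obtain ⟨l, rfl⟩ := hπ m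
      have hB : preimageAlong θ A ≤ R := hRR ▸ preimageAlong_mono hA
      obtain ⟨k, ek, hk⟩ := exists_lift_conj' (IsModel.sylowIn hL) π
        (imageAlong_le_range (α := ι) (P := preimageAlong θ A)) l fun y hy => by
          obtain ⟨x, hx, rfl⟩ := (mem_imageAlong' hB).1 hy
          have hxA := (mem_preimageAlong.1 hx).2
          rw [map_mul, map_mul, map_inv, ← hj x (hB hx), ← em _ hxA, ← hrange]
          exact ap_mem_range _ (hfA _ hxA)
      obtain ⟨κ, -, k2, k3⟩ := exists_inv_hom hinj rfl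
      have hk' : ∀ x ∈ preimageAlong θ A, k * ap ι x * k⁻¹ ∈ ι.range := fun x hx =>
        hk _ (ap_mem_imageAlong hB hx)
      have h1 : Mor N (preimageAlong θ A) fun x => ap κ (k * ap ι x * k⁻¹) :=
        (IsRealizedBy.mor_iff hL.2.1 hB fun x hx => k2 _ (hk' x hx)).2 ⟨k, fun x hx => k3 _ (hk' x hx)⟩
      obtain ⟨g, hg, e1, e2⟩ := normSys_ext hN h1
      obtain ⟨g', hg', e3⟩ := h.mor hg
      have hA' : A ≤ imageAlong θ (preimageAlong θ A ⊔ P) := by
        conv_lhs => rw [← h.image_preimage (hA.trans normalizerIn_le)]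
        exact imageAlong_mono le_sup_left
      have h2 := normSys_mor_of hN' hA hg' hA' (by
          conv_lhs => rw [← h.image_preimage hP']
          exact imageAlong_mono le_sup_right) (by
          conv_lhs => rw [← h.image_preimage hP']
          rw [img_induced hg e3 le_sup_right, e2, h.image_preimage hP'])
      refine h2.congr fun y hy => ap_inj hjinj (h2.mem hy) (hfA y hy) ?_
      obtain ⟨x, hx, rfl⟩ := h.pre (hA.trans normalizerIn_le) hy
      rw [e3 x (Subgroup.mem_sup_left hx), e1 x hx, hj _ (h1.mem hx), k3 _ (hk' x hx), em _ hy,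
        hj x (hB hx), map_mul, map_mul, map_inv, ek]
    · rw [← imageAlong_centralizerIn hjinj rfl (le_normalizerIn hP')]
      exact imageAlong_mono ((centralizerIn_mono normalizerIn_le).trans hC)
  obtain ⟨e, he⟩ := IsModel.exists_equiv (pgroup_of_le (h.pgroup hS) normalizerIn_le) hM hL'
  refine ⟨e.toMonoidHom.comp π, e.surjective.comp hπ, fun x hx => ?_⟩
  show e (π (ap ι x)) = _
  rw [← hj x hx, ap_of_mem j (hm x hx), he, ap_of_mem ι' (hm x hx)]

theorem free_surj (hS : IsPGroup p S) (hF : F.IsSaturated p) (hfree : F.IsSectionFree p H)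
    (h : Surj F E θ) : E.IsSectionFree p H := by
  intro P' hn hc N' hN' L' _ ι' hL' hI
  obtain ⟨L, _, ι, hL⟩ := exists_local_model hS hF (h.preimage_fullyNormalized hn)
    (h.preimage_centric hc)
  obtain ⟨π, hπ, -⟩ := model_quot hS h hn.1 ((isCentric_iff.1 hc).2 _ (mor_id E hn.1) |>.trans'
    (by rw [img_id]) |>.trans (by rw [img_id])) (normSys_spec F _) hL hN' hL'
  exact hfree _ (h.preimage_fullyNormalized hn) (h.preimage_centric hc) _ (normSys_spec F _) L ι hL
    (Involves.of_surjective hI π hπ)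

end Quot

end Cfsg.Agent.Fusion
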