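import Cfsg.Agent.Lib.Char.Kernel

set_option autoImplicit false
set_option linter.unusedSectionVars false
set_option maxHeartbeats 400000

/-! The Feit-Thompson degree bound for an abelian subgroup with disjoint centralizer traces. -/
namespace Cfsg.Agent.Ft
open Finset Cfsg Cfsg.Agent.Char ComplexConjugate Classical

variable {G : Type*} [Group G] [Fintype G]

noncomputable def A (L : Subgroup G) (f : G → ℂ) (x : G) : ℂ :=
  (Nat.card L : ℂ)⁻¹ * ∑ g, if g ∈ L then f (g * x) else 0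

theorem sub_sum {M : Type*} [AddCommMonoid M] (P : Subgroup G) [Fintype P] (F : G → M) :
    ∑ g : P, F g = ∑ g, if g ∈ P then F g else 0 := by
  rw [← sum_filter]; exact (sum_subtype _ (by simp) _).symm

theorem A_mul (L : Subgroup G) (f : G → ℂ) {h : G} (hh : h ∈ L) (x : G) : A L f (h * x) = A L f x := by
  unfold A
  congr 1
  rw [← Equiv.sum_comp (Equiv.mulRight h) fun g => if g ∈ L then f (g * x) else 0]
  simp [L.mul_mem_cancel_right hh, mul_assoc]

theorem A_eq (L : Subgroup G) {f : G → ℂ} {x : G} (h : ∀ g ∈ L, f (g * x) = f x) : A L f x = f x := by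
  rw [A, ← sub_sum L fun g => f (g * x), sum_congr rfl fun (g : L) _ => h g g.2]
  have := card_ne_zero' L
  simp only [sum_const, card_univ, nsmul_eq_mul, ← Nat.card_eq_fintype_card]
  field_simp

theorem A_irr (L : Subgroup G) [hL : L.Normal] {θ : G → ℂ} (h : IsIrrCharacter G θ) :
    A L θ = θ ∨ A L θ = 0 := by
  obtain ⟨r, hr⟩ : ∃ r : ℂ, ∀ x, A L θ x = r * θ x := by
    refine ⟨(Nat.card L : ℂ)⁻¹ * (∑ g, (if g ∈ L then 1 else 0) * θ g) / θ 1, fun x => ?_⟩
    have := h.sum_mul_apply_mul (φ := fun g => if g ∈ L then 1 else 0) (fun g y => by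
      simp only [hL.mem_comm_iff (a := y * g), inv_mul_cancel_left]) x
    simp only [ite_mul, one_mul, zero_mul] at this ⊢
    rw [A, this]; ring
  have h1 : A L (A L θ) 1 = A L θ 1 := A_eq L fun g hg => A_mul L θ hg 1
  have h2 : A L (A L θ) 1 = r * A L θ 1 := by
    rw [A, A, mul_left_comm, mul_sum _ _ r]
    simp [hr]
  rw [h2, hr] at h1
  have h3 : (r - 1) * r * θ 1 = 0 := by linear_combination h1
  rcases mul_eq_zero.1 ((mul_eq_zero.1 h3).resolve_right h.apply_one_ne_zero) with h4 | h4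
  · exact .inl (funext fun x => by rw [hr, sub_eq_zero.1 h4, one_mul])
  · exact .inr (funext fun x => by rw [hr, h4, zero_mul]; rfl)

theorem A_gen (L : Subgroup G) [L.Normal] {φ : G → ℂ} (h : IsCharacter G φ) :
    IsGeneralizedCharacter G (A L φ) := by
  obtain ⟨c, -, hc⟩ := h.exists_coeff
  have : A L φ = ∑ χ : IrrCharacter G, (c χ : ℂ) • A L χ := by
    funext x
    conv_lhs => rw [hc]
    simp only [A, Finset.sum_apply, Pi.smul_apply, smul_eq_mul, mul_left_comm _ (Nat.card L : ℂ)⁻¹, ← mul_sum]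
    simp only [mul_sum _ _ (c _ : ℂ)]
    rw [sum_comm]
    congr 1
    exact sum_congr rfl fun g _ => by split_ifs <;> simp
  rw [this]
  refine IsGeneralizedCharacter.sum fun χ _ => IsGeneralizedCharacter.natCast_smul ?_ _
  rcases A_irr L χ.2 with h | h <;> rw [h]
  exacts [χ.2.isGen, IsGeneralizedCharacter.zero]

theorem A_ineq (L : Subgroup G) [L.Normal] {φ : G → ℂ} (h : IsCharacter G φ) (hne : φ ≠ A L φ) :
    (Nat.card G : ℝ) + ∑ x, ‖A L φ x‖ ^ 2 ≤ ∑ x, ‖φ x‖ ^ 2 := by
  have hb := h.isGen.sub (A_gen L h)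
  obtain ⟨n, hn⟩ := hb.classInner_eq_int hb
  have h0 : n ≠ 0 := fun q => hne (sub_eq_zero.1 (classInner_self_eq_zero.1 (by rw [hn, q, Int.cast_zero])))
  have h1 := classInner_self_re_nonneg (φ - A L φ)
  rw [hn, Complex.intCast_re, Int.cast_nonneg_iff] at h1
  have h2 : classInner (A L φ) (A L φ) = classInner φ (A L φ) := by
    unfold classInner
    congr 1
    have : ∀ g, ∑ x, (if g ∈ L then φ (g * x) else 0) * conj (A L φ x) =
        if g ∈ L then ∑ x, φ x * conj (A L φ x) else 0 := fun g => by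
      split_ifs with hg
      · rw [← Equiv.sum_comp (Equiv.mulLeft g) fun x => φ x * conj (A L φ x)]
        simp [A_mul L φ hg]
      · simp
    conv_lhs => enter [2, x, 1]; rw [A]
    simp only [mul_assoc, ← mul_sum, sum_mul]
    rw [sum_comm, sum_congr rfl fun g _ => this g]
    exact A_eq L (f := fun _ => ∑ x, φ x * conj (A L φ x)) (x := 1) fun _ _ => rfl
  rw [classInner_sub_left, classInner_sub_right, classInner_sub_right, h2, ← conj_classInner φ (A L φ),
    ← h2, conj_classInner] at hn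
  have h3 := congrArg Complex.re hn
  simp only [Complex.sub_re, classInner_self_re, Complex.intCast_re, sub_self, sub_zero] at h3
  have h4 : (1 : ℝ) ≤ n := by exact_mod_cast (by omega : 1 ≤ n)
  have h5 : (0 : ℝ) < Nat.card G := by exact_mod_cast Nat.card_pos
  rw [← mul_sub, inv_mul_eq_iff_eq_mul₀ h5.ne'] at h3
  nlinarith

theorem ti_sum (N : Subgroup G) (S : G → Prop) (hS : ∀ g a, S g → S (a * g * a⁻¹) → a ∈ N) (h1 : ¬ S 1)
    (f : G → ℝ) (hf : ∀ g a, f (a * g * a⁻¹) = f g) (f0 : ∀ g, 0 ≤ f g) (f1 : 0 < f 1) :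
    Nat.card G * ∑ g, (if S g then f g else 0) < Nat.card N * ∑ g, f g := by
  have e1 : Nat.card G * ∑ g, (if S g then f g else 0) = ∑ x, ∑ a, if S (a * x * a⁻¹) then f x else 0 := by
    rw [sum_comm, sum_congr rfl fun a _ => show ∑ x, (if S (a * x * a⁻¹) then f x else 0) =
      ∑ g, (if S g then f g else 0) from ?_]
    · simp
    · rw [← Equiv.sum_comp (MulAut.conj a).toEquiv fun g => if S g then f g else 0]
      simp [hf]
  rw [e1, mul_sum]
  have hN : (0 : ℝ) < Nat.card N := by exact_mod_cast Nat.card_pos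
  refine sum_lt_sum (fun x _ => ?_) ⟨1, mem_univ _, by simp only [mul_one, mul_inv_cancel, h1]; simpa using mul_pos hN f1⟩
  rw [← sum_filter, sum_const, nsmul_eq_mul]
  refine mul_le_mul_of_nonneg_right (Nat.cast_le.2 ?_) (f0 x)
  rcases (univ.filter fun a => S (a * x * a⁻¹)).eq_empty_or_nonempty with h | ⟨b, hb⟩
  · simp [h]
  rw [Nat.card_eq_fintype_card, Fintype.card_subtype]
  refine card_le_card_of_injOn (fun a => a * b⁻¹) (fun a ha => ?_) fun a _ a' _ h => mul_right_cancel h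
  simp only [coe_filter, mem_filter, mem_univ, true_and, Set.mem_ofPred_eq] at ha hb ⊢
  exact hS _ _ hb (by convert ha using 1; group)

variable {H : Subgroup G} (hab : ∀ a ∈ H, ∀ b ∈ H, a * b = b * a) (hZ : H ⊓ Subgroup.center G = ⊥)
  (hone : ∀ g : G, g ∉ Subgroup.center G → ∀ a b : G, Subgroup.centralizer ({g} : Set G) ⊓ H.map (MulAut.conj a).toMonoidHom ≠ ⊥ → Subgroup.centralizer ({g} : Set G) ⊓ H.map (MulAut.conj b).toMonoidHom ≠ ⊥ → H.map (MulAut.conj a).toMonoidHom = H.map (MulAut.conj b).toMonoidHom)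
include hab hZ hone

theorem partA {χ : G → ℂ} (hχ : IsIrrCharacter G χ) (hker : ∃ h ∈ H, χ h ≠ χ 1) :
    (Nat.card H : ℝ) * ‖A H χ 1‖ ^ 2 < ‖χ 1‖ ^ 2 := by
  set N := Subgroup.normalizer (H : Set G) with hN
  set Z := Subgroup.center G with hZ'
  let S : G → Prop := fun g => g ∉ Z ∧ ∃ h ∈ H, h ≠ 1 ∧ h * g = g * h
  have hc := hχ.isCharacter
  have hS : ∀ g a, S g → S (a * g * a⁻¹) → a ∈ N := by
    rintro g a ⟨-, h, hh, h1, h2⟩ ⟨hg, k, hk, k1, k2⟩
    have := hone _ hg a 1 (fun q => h1 (by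
      have : a * h * a⁻¹ ∈ (⊥ : Subgroup G) := q ▸ ⟨Subgroup.mem_centralizer_singleton_iff.2 (by
        simp only [conj_mul, h2]), h, hh, rfl⟩
      simpa using this)) (fun q => k1 (Subgroup.mem_bot.1 (q ▸
        ⟨Subgroup.mem_centralizer_singleton_iff.2 k2, k, hk, by simp⟩)))
    rw [Subgroup.mem_normalizer_iff]
    intro y
    have := SetLike.ext_iff.1 this (a * y * a⁻¹)
    simpa using this
  have t1 := ti_sum N S hS (fun q => q.1 (one_mem _)) (fun g => ‖χ g‖ ^ 2) (fun g a => by rw [hc.apply_conj])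
    (fun _ => sq_nonneg _) (by have := hχ.apply_one_ne_zero; positivity)
  have h5 : (0 : ℝ) < Nat.card G := by exact_mod_cast Nat.card_pos
  have t2 := congrArg Complex.re hχ.classInner_self
  rw [classInner_self_re, Complex.one_re, inv_mul_eq_iff_eq_mul₀ h5.ne', mul_one] at t2
  rw [t2, mul_comm, mul_lt_mul_iff_left₀ h5] at t1
  have HN : H ≤ N := Subgroup.le_normalizer
  have eA : ∀ x : N, A (H.subgroupOf N) (fun x : N => χ x) x = A H χ x := fun x => by
    rw [A, A, Nat.card_congr (Subgroup.subgroupOfEquivOfLe HN).toEquiv]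
    congr 1
    refine (sub_sum N fun g => if g ∈ H then χ (g * x) else 0).trans (sum_congr rfl fun g _ => ?_)
    by_cases hg : g ∈ H <;> simp [hg, HN.trans' le_rfl]
    exact fun q => absurd (HN hg) q
  have t3 := A_ineq (H.subgroupOf N) (hc.res N) (fun q => by
    obtain ⟨h, hh, h1⟩ := hker
    have q1 := congrFun q ⟨h, HN hh⟩
    have q2 := congrFun q 1
    rw [eA] at q1 q2
    exact h1 (q1.trans ((by simpa using A_mul H χ hh 1 : A H χ h = A H χ 1).trans q2.symm)))
  simp only [eA] at t3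
  rw [sub_sum N fun g => ‖A H χ g‖ ^ 2, sub_sum N fun g => ‖χ g‖ ^ 2] at t3
  let W : Finset G := univ.image fun u : H × Z => u.1 * u.2
  have cW : W.card = Nat.card H * Nat.card Z := by
    rw [card_image_of_injective, card_univ, ← Nat.card_eq_fintype_card, Nat.card_prod]
    rintro ⟨a, z⟩ ⟨b, w⟩ q
    have q : (a : G) * z = b * w := q
    have q' : (b : G)⁻¹ * a = w * (z : G)⁻¹ := by rw [inv_mul_eq_iff_eq_mul, ← mul_assoc, ← q]; simp
    have : (b : G)⁻¹ * a ∈ (⊥ : Subgroup G) :=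
      hZ ▸ ⟨H.mul_mem (H.inv_mem b.2) a.2, q' ▸ Z.mul_mem w.2 (Z.inv_mem z.2)⟩
    rw [Subgroup.mem_bot, inv_mul_eq_one] at this
    rw [this] at q
    exact Prod.ext (Subtype.ext this.symm) (Subtype.ext (mul_left_cancel q))
  have aZ : ∀ z ∈ Z, ‖A H χ z‖ = ‖A H χ 1‖ := fun z hz => by
    obtain ⟨ω, h1, h2⟩ := hχ.center_le_charCenter hz
    have : A H χ z = ω * A H χ 1 := by
      rw [A, A, mul_left_comm, mul_sum _ _ ω]
      simp [Subgroup.mem_center_iff.1 hz, h2]
    rw [this, norm_mul, h1, one_mul]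
  have pt : ∀ g, (if g ∈ N then ‖χ g‖ ^ 2 else 0) + (if g ∈ W then ‖A H χ 1‖ ^ 2 else 0) ≤
      (if g ∈ N then ‖A H χ g‖ ^ 2 else 0) + (if S g then ‖χ g‖ ^ 2 else 0) +
        if g ∈ Z then ‖χ 1‖ ^ 2 else 0 := fun g => by
    have hW : g ∈ W → g ∈ N ∧ ‖A H χ g‖ = ‖A H χ 1‖ ∧ (S g ∨ g ∈ Z) := fun q => by
      obtain ⟨⟨h, z⟩, -, rfl⟩ := mem_image.1 q
      refine ⟨mul_mem (HN h.2) (Subgroup.center_le_normalizer _ z.2), by rw [A_mul H χ h.2, aZ z z.2], ?_⟩
      by_cases q : (h : G) * z ∈ Z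
      · exact .inr q
      refine .inl ⟨q, h, h.2, fun q' => q (by simp [q']), ?_⟩
      rw [mul_assoc, Subgroup.mem_center_iff.1 z.2]
    have hW' : (if g ∈ W then ‖A H χ 1‖ ^ 2 else 0) ≤ if g ∈ N then ‖A H χ g‖ ^ 2 else 0 := by
      split_ifs with q q' q'
      · rw [(hW q).2.1]
      · exact absurd (hW q).1 q'
      · positivity
      · rfl
    have hχ' : (if g ∈ N then ‖χ g‖ ^ 2 else 0) ≤ ‖χ g‖ ^ 2 := by split_ifs; rfl; positivity
    by_cases gZ : g ∈ Z
    · have := hc.mem_charCenter.1 (hχ.center_le_charCenter gZ)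
      rw [if_pos gZ, if_neg (fun q : S g => q.1 gZ), ← this]
      linarith
    by_cases gS : S g
    · rw [if_pos gS, if_neg gZ]; linarith
    rw [if_neg gS, if_neg gZ, if_neg fun q => (hW q).2.2.elim gS gZ, add_zero, add_zero, add_zero]
    split_ifs with gN
    · have inj : Function.Injective fun k : H => (⟨k * (g * k⁻¹ * g⁻¹), mul_mem k.2
          ((Subgroup.mem_normalizer_iff.1 gN _).1 (inv_mem k.2))⟩ : H) := fun a b q => by
        have q : (a : G) * (g * (a : G)⁻¹ * g⁻¹) = b * (g * (b : G)⁻¹ * g⁻¹) := congrArg Subtype.val q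
        by_contra hne
        refine gS ⟨gZ, (b : G)⁻¹ * a, mul_mem (inv_mem b.2) a.2,
          fun q' => hne (Subtype.ext (inv_mul_eq_one.1 q').symm), ?_⟩
        calc (b : G)⁻¹ * a * g = (b : G)⁻¹ * (a * (g * (a : G)⁻¹ * g⁻¹)) * g * a := by group
          _ = _ := by rw [q]; group
      rw [A_eq H fun h hh => ?_]
      obtain ⟨k, hk⟩ := Finite.surjective_of_injective inj ⟨h, hh⟩
      rw [← hc.apply_conj g k, ← show _ = h from congrArg Subtype.val hk]
      congr 1; simp [mul_assoc]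
    · rfl
  have t4 := sum_le_sum fun g (_ : g ∈ univ) => pt g
  have t5 : ∑ g, (if g ∈ Z then ‖χ 1‖ ^ 2 else 0) = Nat.card Z * ‖χ 1‖ ^ 2 := by
    rw [← sum_filter, sum_const, nsmul_eq_mul, Nat.card_eq_fintype_card, Fintype.card_subtype]
  rw [sum_add_distrib, sum_add_distrib, sum_add_distrib, t5,
    sum_ite_mem, univ_inter, sum_const, cW, nsmul_eq_mul, Nat.cast_mul] at t4
  have h6 : (0 : ℝ) < Nat.card Z := by exact_mod_cast Nat.card_pos
  refine lt_of_mul_lt_mul_left (a := (Nat.card Z : ℝ)) ?_ h6.le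
  have t6 : (∑ g, if S g then ‖χ g‖ ^ 2 else 0) < Nat.card N :=
    lt_of_eq_of_lt (sum_congr rfl fun g _ => by congr) t1
  linarith

omit hab hZ hone in
theorem A_one (χ : G → ℂ) : A H χ 1 = classInner (fun h : H => χ h) fun _ => 1 := by
  rw [classInner_one_right, A, sub_sum H χ]; simp

theorem partA' {χ : G → ℂ} (hχ : IsIrrCharacter G χ) (hker : ∃ h ∈ H, χ h ≠ χ 1) {d m : ℕ} (hd : χ 1 = d)
    (hm : classInner (fun h : H => χ h) (fun _ => 1) = m) : Nat.card H * m ^ 2 < d ^ 2 := by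
  have := partA hab hZ hone hχ hker
  rw [A_one, hm, hd, Complex.norm_natCast, Complex.norm_natCast] at this
  exact_mod_cast this

theorem partB {χ : G → ℂ} (hχ : IsIrrCharacter G χ) {d : ℕ} (hd : χ 1 = d) (h1 : d ≠ 1)
    (hM : ∀ M : Subgroup G, M.Normal → H ≤ M → M = ⊤) : Nat.card H < (1 + d) ^ 2 := by
  by_contra! hle
  have hc := hχ.isCharacter
  have hφ := hc.mul hc.conj
  obtain ⟨c, hc1, hc2⟩ := hφ.exists_coeff
  choose e he using fun θ : IrrCharacter G => θ.2.isCharacter.exists_degree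
  choose m hm using fun θ : IrrCharacter G => (θ.2.isCharacter.res H).classInner_eq_nat isCharacter_one
  have k1 : ∀ θ ≠ irrOne G, (1 + d) * m θ < e θ := fun θ hθ => by
    have := partA' hab hZ hone θ.2 (by
      by_contra! q
      exact θ.2.charKer_ne_top (fun q' => hθ (Subtype.ext q')) (hM _ θ.2.isCharacter.normal_charKer
        fun h hh => θ.2.isCharacter.mem_charKer.2 (q h hh))) (he θ) (hm θ)
    exact lt_of_pow_lt_pow_left₀ 2 (Nat.zero_le _)
      ((by rw [mul_pow]; exact Nat.mul_le_mul_right _ hle : _ ≤ _).trans_lt this)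
  have c1 : c (irrOne G) = 1 := by
    have := hc1 (irrOne G)
    rw [coe_irrOne, ← classInner_mul_right, show χ * (fun _ => (1 : ℂ)) = χ from mul_one χ,
      hχ.classInner_self] at this
    exact_mod_cast this.symm
  have e1 : e (irrOne G) = 1 := by
    have : ((e (irrOne G) : ℕ) : ℂ) = 1 := (he (irrOne G)).symm
    exact_mod_cast this
  have m1 : m (irrOne G) = 1 := by
    have := hm (irrOne G)
    rw [show classInner (fun x : H => (irrOne G : G → ℂ) x) (fun _ => 1) = 1 from
      isIrrCharacter_one.classInner_self] at this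
    exact_mod_cast this.symm
  have s1 : d * d = ∑ θ, c θ * e θ := by
    have := congrFun hc2 1
    simp only [Pi.mul_apply, hd, map_natCast, Finset.sum_apply, Pi.smul_apply, he, smul_eq_mul] at this
    exact_mod_cast this
  have s2 : d ≤ ∑ θ, c θ * m θ := by
    obtain ⟨b, hb1, hb2⟩ := (hc.res H).exists_coeff
    have q1 : d = ∑ l, b l := by
      have := congrFun hb2 1
      simp only [OneMemClass.coe_one, hd, Finset.sum_apply, Pi.smul_apply, smul_eq_mul,
        fun l : IrrCharacter H => l.2.apply_one_of_comm fun x y => Subtype.ext (hab _ x.2 _ y.2),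
        mul_one] at this
      exact_mod_cast this
    have q2 := (hc.res H).isClassFunction.classInner_eq_sum fun h : H => χ h
    have q3 : classInner (fun h : H => χ h) (fun h : H => χ h) = ∑ θ, (c θ : ℂ) * m θ := by
      have : (fun h : H => χ h) * (fun h : H => conj (χ h)) =
          ∑ θ : IrrCharacter G, (c θ : ℂ) • fun h : H => (θ : G → ℂ) h := by
        funext h
        simpa [Finset.sum_apply] using congrFun hc2 h
      conv_lhs => enter [2]; rw [← mul_one fun h : H => χ h]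
      rw [classInner_mul_right, this, classInner_sum_left]
      exact sum_congr rfl fun θ _ => by rw [classInner_smul_left, ← hm]; rfl
    simp only [q3, hb1, map_natCast] at q2
    rw [q1, show ∑ θ, c θ * m θ = ∑ l, b l * b l by exact_mod_cast q2]
    exact sum_le_sum fun l _ => Nat.le_mul_self _
  rw [← add_sum_erase _ _ (mem_univ (irrOne G)), c1] at s1 s2
  rw [e1] at s1
  rw [m1] at s2
  have s3 : (1 + d) * ∑ θ ∈ univ.erase (irrOne G), c θ * m θ < ∑ θ ∈ univ.erase (irrOne G), c θ * e θ := by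
    rw [mul_sum]
    refine sum_lt_sum (fun θ hθ => ?_) ?_
    · rw [mul_left_comm]; exact Nat.mul_le_mul_left _ (k1 θ (ne_of_mem_erase hθ)).le
    · obtain ⟨θ, hθ, h0⟩ := exists_ne_zero_of_sum_ne_zero
        (s := univ.erase (irrOne G)) (f := fun θ => c θ * e θ) fun q => by
          rw [q] at s1; exact h1 (Nat.eq_one_of_mul_eq_one_left s1)
      refine ⟨θ, hθ, ?_⟩
      rw [mul_left_comm]
      exact mul_lt_mul_of_pos_left (k1 θ (ne_of_mem_erase hθ)) (Nat.pos_of_ne_zero (left_ne_zero_of_mul h0))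
  nlinarith

end Cfsg.Agent.Ft
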