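import Cfsg.Agent.Lib.Fusion.Ft1
import Cfsg.Agent.Lib.Block.Blich
import Cfsg.Agent.Lib.Char.Down

set_option autoImplicit false
set_option linter.unusedSectionVars false
set_option maxHeartbeats 400000

/-! Normal Sylow subgroups of linear groups of small degree. -/
namespace Cfsg.Agent.Ft
open Cfsg Cfsg.Agent.Blk Classical
open Cfsg.Agent.Char hiding cj cj_mul cj_inv_cj cj_cj_inv sum_cj_eq om
open Subgroup (zpowers mem_zpowers center)
open scoped Pointwise

universe u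
section
variable {G : Type*} [Group G] [Finite G] {p : ℕ} [hp : Fact p.Prime]

theorem itoC {M : Subgroup G} [M.Normal] (hM : ¬ p ∣ Nat.card M) (hab : commutator G ≤ M) {χ : G → ℂ}
    (hχ : IsIrrCharacter G χ) (hd : charDegree χ + 1 < p) {x : G} {a : ℕ} (hx : x ^ p ^ a = 1) :
    x ∈ charCenter χ := by
  have := Fintype.ofFinite M
  obtain ⟨δ, hδ⟩ := hχ.isCharacter.exists_detChar
  have hd1 := hχ.isCharacter.cast_charDegree.symm
  set d := charDegree χ with hdd
  have hc : d.Coprime (p ^ a) := ((Nat.Prime.coprime_iff_not_dvd hp.out).2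
    (Nat.not_dvd_of_pos_of_lt hχ.charDegree_pos (by omega))).symm.pow_right a
  obtain ⟨u, w, huw⟩ := Nat.isCoprime_iff_coprime.2 hc
  have hψ := hχ.mul_units (δ ^ (-u))
  set ψ : G → ℂ := fun g => ((δ ^ (-u)) g : ℂ) * χ g with hψd
  have ψ1 : ψ 1 = d := by simp [hψd, hd1]
  have dψ : ∀ y : G, y ^ p ^ a = 1 → detChar ψ y = 1 := fun y hy => by
    rw [hψd, hχ.isCharacter.detChar_units_mul _ hd1, hδ]
    have h1 : δ y ^ ((p ^ a : ℕ) : ℤ) = 1 := by rw [zpow_natCast, ← map_pow, hy, map_one]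
    have h2 : (δ ^ (-u)) y ^ d * δ y = 1 := by
      rw [MonoidHom.zpow_apply, ← zpow_natCast, ← zpow_mul, ← zpow_add_one,
        show -u * d + 1 = ((p ^ a : ℕ) : ℤ) * w by linear_combination -huw, zpow_mul, h1, one_zpow]
    simpa using congrArg Units.val h2
  have := hψ.isCharacter.normal_charKer
  have key : ∀ y : G, y ^ p ^ a = 1 → y ^ p ∈ charKer ψ → y ∈ charKer ψ := fun y hy h1 => by
    by_contra h2
    obtain ⟨φ, hφ, hφ'⟩ := hψ.isCharacter.exists_quotient (charKer ψ) le_rfl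
    have h3 : orderOf (y : G ⧸ charKer ψ) = p := orderOf_eq_prime
      (by rwa [← QuotientGroup.mk_pow, QuotientGroup.eq_one_iff]) (by rwa [Ne, QuotientGroup.eq_one_iff])
    have h4 : φ 1 = ψ 1 := hφ' 1
    obtain ⟨j, hj, h5⟩ := exists_pow_apply_ne hφ h3
      (fun q => h2 (hψ.isCharacter.mem_charKer.2 (by rw [← hφ', q, h4])))
      (by rw [charDegree, h4, ψ1]; simpa using hd)
    obtain ⟨σ, -, k, hk, h6, -, h7⟩ := exists_pfix (G := G) hj
    have h8 : p ∣ Nat.card G := h3 ▸ (orderOf_dvd_natCard _).trans (Subgroup.card_quotient_dvd_card _)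
    rw [← (pow_eq_pow_iff_modEq (n := k)).2 (h3 ▸ h7.of_dvd (dvd_pow_self p
      (hp.out.factorization_pos_of_dvd Nat.card_pos.ne' h8).ne')), ← QuotientGroup.mk_pow, hφ', hφ'] at h5
    obtain ⟨lam, -, h9⟩ := (hψ.comp_pow hk).exists_eq_mul_of_comm hψ hab (by
      have : (fun n : M => ψ ((n : G) ^ k)) = fun n : M => ψ n := funext fun n => by
        rw [h6 _ fun q => hM (q.trans (Solv.orderOf_dvd_card_of_mem n.2))]
      rw [this, Ne, classInner_self_eq_zero]
      exact fun q => hψ.apply_one_ne_zero (congrFun q 1))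
    letI : CommGroup (zpowers y) := IsCyclic.commGroup
    have h10 := hψ.isCharacter.detChar_comp ((zpowers y).subtype.comp (powMonoidHom k)) ⟨y, mem_zpowers y⟩
    have h11 := (hψ.isCharacter.res (zpowers y)).detChar_units_mul (lam.comp (zpowers y).subtype) (d := d) ψ1
      ⟨y, mem_zpowers y⟩
    rw [hψ.isCharacter.detChar_res, dψ y hy, mul_one] at h11
    have h12 : detChar ψ (y ^ k) = 1 := dψ _ (by rw [← pow_mul, mul_comm, pow_mul, hy, one_pow])
    have h13 : (lam y : ℂ) ^ d = 1 := h11.symm.trans ((congrFun (congrArg detChar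
      (funext fun z : zpowers y => (congrFun h9 z).symm)) _).trans (h10.trans h12))
    have h14 : (lam y : ℂ) ^ p ^ a = 1 := by rw [← Units.val_pow_eq_pow_val, ← map_pow, hy]; simp
    have h15 : (lam y : ℂ) = 1 := (pow_eq_one_iff_of_coprime hc).1 ⟨h13, h14⟩
    exact h5 (by rw [congrFun h9 y, h15, one_mul])
  have h1 : ∀ i, x ^ p ^ i ∈ charKer ψ → x ∈ charKer ψ := fun i => by
    induction i with
    | zero => simp
    | succ i ih =>
      exact fun h => ih (key _ (by rw [← pow_mul, mul_comm, pow_mul, hx, one_pow]) (by rwa [← pow_mul]))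
  have h2 := congrArg norm (hψ.isCharacter.mem_charKer.1 (h1 a (hx ▸ one_mem _)))
  rw [hχ.isCharacter.mem_charCenter]
  simpa only [hψd, norm_mul, norm_units_hom, one_mul] using h2

def pel (p : ℕ) (a : G) : Prop := ∃ k, a ^ p ^ k = 1
def E (p : ℕ) (L : Subgroup G) : Prop := ∀ a ∈ L, ∀ b ∈ L, pel p a → pel p b → pel p (a * b)

omit hp in
theorem pel_conj {a : G} (h : pel p a) (g : G) : pel p (g * a * g⁻¹) := h.imp fun k hk => by simp [conj_pow, hk]
omit hp in
theorem pel_mem {Q : Subgroup G} (hQ : IsPGroup p Q) {a : G} (h : a ∈ Q) : pel p a :=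
  (hQ ⟨a, h⟩).imp fun _ hk => congrArg Subtype.val hk

def R {L : Subgroup G} (h : E p L) : Subgroup G where
  carrier := {a | a ∈ L ∧ pel p a}
  mul_mem' ha hb := ⟨mul_mem ha.1 hb.1, h _ ha.1 _ hb.1 ha.2 hb.2⟩
  one_mem' := ⟨one_mem _, 0, by simp⟩
  inv_mem' ha := ⟨inv_mem ha.1, ha.2.imp fun k hk => by simp [hk]⟩

omit hp in
theorem R_p {L : Subgroup G} (h : E p L) : IsPGroup p (R h) := fun a => a.2.2.imp fun _ hk => Subtype.ext hk

theorem K1 {L : Subgroup G} (h : E p L) (Q : Sylow p G) (hQ : (Q : Subgroup G) ≤ L) {y : G} (hy : y ∈ L)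
    (hy' : pel p y) : y ∈ (Q : Subgroup G) :=
  (Q.is_maximal' (R_p h) fun _ ha => ⟨hQ ha, pel_mem Q.isPGroup' ha⟩).le ⟨hy, hy'⟩

theorem E_of_normal {K : Subgroup G} (Q : Sylow p K) (h : (Q : Subgroup K).Normal) : E p K := by
  have : ∀ a : K, pel p (a : G) → a ∈ (Q : Subgroup K) := fun a ⟨k, hk⟩ => by
    obtain ⟨g, hg⟩ := Transfer.exists_conj_mem_sylow Q (x := a) (k := k) (Subtype.ext hk)
    simpa [mul_assoc] using h.conj_mem _ hg g⁻¹
  intro a ha b hb h1 h2
  exact (pel_mem Q.isPGroup' (mul_mem (this ⟨a, ha⟩ h1) (this ⟨b, hb⟩ h2))).imp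
    fun _ hk => congrArg Subtype.val hk

theorem E_sub {L : Subgroup G} {K : Subgroup L} : E p K ↔ E p (K.map L.subtype) := by
  have : ∀ a : L, pel p (a : G) ↔ pel p a := fun a => exists_congr fun k => by
    rw [← Subtype.coe_inj]; simp
  refine ⟨?_, fun h a ha b hb h1 h2 =>
    (this _).1 (h _ ⟨a, ha, rfl⟩ _ ⟨b, hb, rfl⟩ ((this _).2 h1) ((this _).2 h2))⟩
  rintro h _ ⟨a, ha, rfl⟩ _ ⟨b, hb, rfl⟩ h1 h2
  exact (this (a * b)).2 (h a ha b hb ((this _).1 h1) ((this _).1 h2))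

omit hp in
theorem E_of_comm (h : ∀ a b : G, pel p a → pel p b → a * b = b * a) : E p (⊤ : Subgroup G) := by
  rintro a - b - ⟨k, hk⟩ ⟨l, hl⟩
  refine ⟨k + l, ?_⟩
  rw [Commute.mul_pow (h a b ⟨k, hk⟩ ⟨l, hl⟩), pow_add, pow_mul, hk, mul_comm (p ^ k), pow_mul, hl]; simp

end

theorem main {p n : ℕ} [hp : Fact p.Prime] (hn : n + 1 < p) (G : Type u) [Group G] [Finite G] :
    ∀ {χ : G → ℂ}, IsCharacter G χ → (∀ g, χ g = χ 1 → g = 1) → charDegree χ = n →
      ((n + 1) ^ 2 ≤ p ∨ ∀ K : Subgroup G, ¬ p ^ 2 ∣ Nat.card K → E p K) → E p (⊤ : Subgroup G) := by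
  refine Solv.card_induction (P := fun G _ _ => ∀ {χ : G → ℂ}, IsCharacter G χ →
    (∀ g, χ g = χ 1 → g = 1) → charDegree χ = n →
      ((n + 1) ^ 2 ≤ p ∨ ∀ K : Subgroup G, ¬ p ^ 2 ∣ Nat.card K → E p K) → E p (⊤ : Subgroup G))
    (fun G _ _ ih χ hχ h hd hyp => ?_) G
  have := Fintype.ofFinite G
  have ih : ∀ L : Subgroup G, L ≠ ⊤ → E p L := fun L hL => by
    have := E_sub.1 (ih L (Solv.card_lt_of_ne_top hL) (hχ.res L) (fun g hg => Subtype.ext (h g hg)) hd
      (hyp.imp_right fun hyp K hK => E_sub.2 (hyp _ (by rwa [Subgroup.card_map_of_injective L.subtype_injective]))))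
    rwa [← MonoidHom.range_eq_map, Subgroup.range_subtype] at this
  have hS : ∀ P : Subgroup G, IsPGroup p P → P ≤ Ce P :=
    fun P hP => comm_of_large hχ h (large_of_pgroup hP (by omega))
  by_contra h0
  have hA : ∀ (P : Sylow p G) (L : Subgroup G), L.Normal → (P : Subgroup G) ≤ L → L = ⊤ := fun P L hL hP => by
    by_contra h1
    have : ∀ a, pel p a → a ∈ L := fun a ⟨k, hk⟩ => by
      obtain ⟨g, hg⟩ := Transfer.exists_conj_mem_sylow P hk
      simpa [mul_assoc] using hL.conj_mem _ (hP hg) g⁻¹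
    exact h0 fun a _ b _ ha hb => ih L h1 a (this a ha) b (this b hb) ha hb
  have hC : ∀ g : G, (∀ θ, IsIrrCharacter G θ → classInner χ θ ≠ 0 → g ∈ charKer θ) → g = 1 :=
    fun g hg => h g (hχ.mem_charKer.1 (hχ.mem_charKer_of_forall_constituent hg))
  obtain ⟨P⟩ : Nonempty (Sylow p G) := inferInstance
  by_cases hZ : p ∣ Nat.card (center G)
  · have h1 := ih _ (pResidual_ne_top P (hS _ P.isPGroup') hZ)
    have h2 : ¬ p ∣ Nat.card (pResidual p G) := fun h2 => by
      obtain ⟨Q, hQ⟩ := (R_p h1).exists_le_sylow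
      have : (R h1).Normal := ⟨fun a ha g => ⟨Subgroup.Normal.conj_mem inferInstance _ ha.1 g, pel_conj ha.2 g⟩⟩
      have h3 := hA Q (Ce (R h1)) inferInstance ((hS _ Q.isPGroup').trans (Ce_anti hQ))
      obtain ⟨z, hz⟩ := exists_prime_orderOf_dvd_card' p h2
      have h4 : z ∈ center (pResidual p G) := Subgroup.mem_center_iff.2 fun g => Subtype.ext
        (mem_Ce.1 (show (g : G) ∈ Ce (R h1) from h3 ▸ Subgroup.mem_top _) z ⟨z.2, 1, by
          rw [pow_one, ← Subgroup.coe_pow, orderOf_dvd_iff_pow_eq_one.1 hz.dvd]; rfl⟩).symm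
      obtain ⟨S⟩ : Nonempty (Sylow p (pResidual p G)) := inferInstance
      exact pResidual_ne_top S (comm_of_large (hχ.res _) (fun g hg => Subtype.ext (h g hg))
        (large_of_pgroup S.isPGroup' (by change charDegree χ < p; omega)))
        (hz.symm.dvd.trans (Solv.orderOf_dvd_card_of_mem h4)) (Transfer.res_eq_self_iff.1 Transfer.res_pResidual)
    have h3 : commutator G ≤ pResidual p G := by
      rw [← Subgroup.Normal.quotient_commutative_iff_commutator_le]
      have : ∀ x : G, ∃ s ∈ (P : Subgroup G), (x : G ⧸ pResidual p G) = s := fun x => by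
        obtain ⟨y, hy, s, hs, rfl⟩ := Subgroup.mem_sup_of_normal_left.1
          (Transfer.pResidual_sup_sylow P ▸ Subgroup.mem_top x)
        exact ⟨s, hs, by rw [QuotientGroup.mk_mul, (QuotientGroup.eq_one_iff y).2 hy, one_mul]⟩
      refine ⟨⟨fun a b => ?_⟩⟩
      obtain ⟨a, rfl⟩ := QuotientGroup.mk_surjective a
      obtain ⟨b, rfl⟩ := QuotientGroup.mk_surjective b
      obtain ⟨s, hs, h3⟩ := this a
      obtain ⟨t, ht, h4⟩ := this b
      rw [h3, h4, ← QuotientGroup.mk_mul, ← QuotientGroup.mk_mul, mem_Ce.1 (hS _ P.isPGroup' hs) t ht]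
    refine h0 (E_of_comm fun a b ⟨k, hk⟩ _ => commutatorElement_eq_one_iff_mul_comm.1 (hC _ fun θ hθ h4 => ?_))
    exact hθ.isCharacter.commutator_mem_charKer
      (itoC h2 h3 hθ (by have := degree_le_of_constituent hχ hθ h4; omega) hk) b
  have hZ' : ∀ x : G, pel p x → x ≠ 1 → Ce1 x ≠ ⊤ := fun x ⟨k, hk⟩ h1 h2 => by
    obtain ⟨j, -, hj⟩ := (Nat.dvd_prime_pow hp.out).1 (orderOf_dvd_of_pow_eq_one hk)
    refine hZ (.trans ?_ (Solv.orderOf_dvd_card_of_mem (Subgroup.centralizer_eq_top_iff_subset.1 h2 rfl)))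
    rw [hj]
    exact dvd_pow_self p fun q => h1 (orderOf_eq_one_iff.1 (by rw [hj, q, pow_zero]))
  obtain ⟨θ, hθ, h1, h2⟩ : ∃ θ, IsIrrCharacter G θ ∧ classInner χ θ ≠ 0 ∧ θ 1 ≠ 1 := by
    by_contra! q
    exact h0 (E_of_comm fun a b _ _ => commutatorElement_eq_one_iff_mul_comm.1 (hC _ fun θ hθ h4 =>
      hθ.apply_one_eq_one_iff.1 (q θ hθ h4)
        (Subgroup.commutator_mem_commutator (Subgroup.mem_top a) (Subgroup.mem_top b))))
  have hSy : ∀ (Q : Sylow p G) {x : G}, x ∈ (Q : Subgroup G) → (Q : Subgroup G) ≤ Ce1 x := fun Q x hx =>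
    mem_Ce_iff_le.1 (hS _ Q.isPGroup' hx)
  have h3 := partB (H := P) (fun a ha b hb => mem_Ce.1 (hS _ P.isPGroup' hb) a ha)
    (eq_bot_iff.2 fun x hx => by
      by_contra q
      exact hZ' x (pel_mem P.isPGroup' hx.1) q (Subgroup.centralizer_eq_top_iff_subset.2 (Set.singleton_subset_iff.2 hx.2)))
    (fun g hg a b ha hb => by
      obtain ⟨⟨x, x1, x2⟩, hx⟩ := Subgroup.ne_bot_iff_exists_ne_one.1 ha
      obtain ⟨⟨y, y1, y2⟩, hy⟩ := Subgroup.ne_bot_iff_exists_ne_one.1 hb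
      change ((a • P : Sylow p G) : Subgroup G) = (b • P : Sylow p G)
      change x ∈ ((a • P : Sylow p G) : Subgroup G) at x2
      change y ∈ ((b • P : Sylow p G) : Subgroup G) at y2
      have px := pel_mem (a • P).isPGroup' x2
      have py := pel_mem (b • P).isPGroup' y2
      have e1 := ih (Ce1 g) fun q => hg (Subgroup.centralizer_eq_top_iff_subset.1 q rfl)
      have e2 := ih _ (hZ' x px fun q => hx (Subtype.ext q))
      have e3 := ih _ (hZ' y py fun q => hy (Subtype.ext q))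
      have q1 := K1 e2 _ (hSy _ x2) (mem_Ce1.2 (mem_Ce.1 (hS _ (R_p e1) ⟨x1, px⟩) y ⟨y1, py⟩)) py
      exact le_antisymm (fun z hz => K1 e3 _ (hSy _ y2) (hSy _ q1 hz) (pel_mem (a • P).isPGroup' hz))
        fun z hz => K1 e3 _ (hSy _ q1) (hSy _ y2 hz) (pel_mem (b • P).isPGroup' hz))
    hθ hθ.isCharacter.cast_charDegree.symm
    (fun q => h2 (by rw [← hθ.isCharacter.cast_charDegree, q, Nat.cast_one])) (hA P)
  have h4 : (1 + charDegree θ) ^ 2 ≤ (n + 1) ^ 2 :=
    Nat.pow_le_pow_left (by have := degree_le_of_constituent hχ hθ h1; omega) 2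
  rcases hyp with hyp | hyp
  · refine h0 (E_of_comm fun a b ha _ => ?_)
    obtain ⟨k, hk⟩ := ha
    obtain ⟨g, hg⟩ := Transfer.exists_conj_mem_sylow P hk
    rw [Solv.eq_bot_of_isPGroup_of_not_dvd P.isPGroup' (Nat.not_dvd_of_pos_of_lt Nat.card_pos (by omega)),
      Subgroup.mem_bot, conj_eq_one_iff] at hg
    simp [hg]
  · refine h0 (hyp ⊤ fun q => ?_)
    rw [Subgroup.card_top] at q
    have := Nat.le_of_dvd Nat.card_pos (P.pow_dvd_card_of_pow_dvd_card q)
    have := Nat.pow_lt_pow_left hn two_ne_zero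
    omega

end Cfsg.Agent.Ft
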