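import Cfsg.Agent.Lib.Fusion.Reduce
import Cfsg.Agent.Lib.Transfer.Thom

/-! Control theorems for characteristic functors in fusion systems. -/

set_option autoImplicit false

namespace Cfsg.Agent.Fusion

open Cfsg Cfsg.FusionSystem
open scoped commutatorElement

universe u v

variable {Ω : Type u} [Group Ω] {S : Subgroup Ω} {F : FusionSystem S} {P Q R T A U : Subgroup Ω}
  {p : ℕ} {f g φ : Ω → Ω}

/-- `N_F(Q)` as a system over `S`, for `Q` normal in `S`. -/
def nSys (F : FusionSystem S) (hQ : Q ≤ S) (hn : S ≤ Subgroup.normalizer (Q : Set Ω)) :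
    FusionSystem S := (kSysData F hQ (isKNorm_top_of_le hn)).sys

theorem nSys_mor {hQ : Q ≤ S} {hn : S ≤ Subgroup.normalizer (Q : Set Ω)} :
    Mor (nSys F hQ hn) P f ↔
      ∃ g, Mor F (P ⊔ Q) g ∧ (∀ x ∈ P, g x = f x) ∧ img g Q = Q := by
  refine (SysData.mor_iff _).trans ⟨?_, ?_⟩
  · rintro ⟨-, -, g, hg, e, α, -, e'⟩
    exact ⟨g, hg, e, img_eq_of_afun e'⟩
  · rintro ⟨g, hg, e, e'⟩
    obtain ⟨α, -, eα⟩ := (hg.mono le_sup_right).exists_aut e'
    exact KMor.of_ext (isKNorm_top_of_le hn) (le_sup_left.trans hg.le) hg le_sup_left le_sup_right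
      e trivial fun x hx => (eα x hx).symm

theorem nSys_mor_of {hQ : Q ≤ S} {hn : S ≤ Subgroup.normalizer (Q : Set Ω)} (hg : Mor F U g)
    (hP : P ≤ U) (hQU : Q ≤ U) (e : img g Q = Q) : Mor (nSys F hQ hn) P g :=
  nSys_mor.2 ⟨g, hg.mono (sup_le hP hQU), fun _ _ => rfl, e⟩

theorem nSys_sub {hQ : Q ≤ S} {hn : S ≤ Subgroup.normalizer (Q : Set Ω)} :
    (nSys F hQ hn).IsSubsystemOf F := isSubsystemOf_iff.2 fun _ _ h => by
  obtain ⟨g, hg, e, -⟩ := nSys_mor.1 h
  exact (hg.mono le_sup_left).congr e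

theorem normal_of_nSys {hQ : Q ≤ S} {hn : S ≤ Subgroup.normalizer (Q : Set Ω)}
    (h : F.IsSubsystemOf (nSys F hQ hn)) : F.IsNormal Q :=
  isNormal_iff.2 ⟨hQ, fun _ _ hf => nSys_mor.1 (isSubsystemOf_iff.1 h _ _ hf)⟩

theorem nSys_iff {hQ : Q ≤ S} {hn : S ≤ Subgroup.normalizer (Q : Set Ω)}
    {N : FusionSystem (normalizerIn S Q)} (hN : F.IsNormalizerSystem Q N) :
    Mor (nSys F hQ hn) P f ↔ Mor N P f := by
  rw [nSys_mor]
  refine ⟨fun ⟨g, hg, e, e'⟩ => (normSys_mor_of hN ?_ hg le_sup_left le_sup_right e').congr e,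
    normSys_ext hN⟩
  rw [normalizerIn_eq_of_le hn]
  exact le_sup_left.trans hg.le

/-- `C_F(Q)` as a system over `S`, for `Q` central in `S`. -/
def cSys (F : FusionSystem S) (hQ : Q ≤ centralizerIn S S) : FusionSystem S :=
  (kSysData F (hQ.trans centralizerIn_le) (isKNorm_bot_of_le fun s hs x hx => by
    have := (mem_centralizerIn.1 (hQ hx)).2 s hs
    calc s * x * s⁻¹ = (x * s * x⁻¹) * x * s⁻¹ := by rw [this]
      _ = x := by group)).sys

theorem cSys_mor {hQ : Q ≤ centralizerIn S S} : Mor (cSys F hQ) P f ↔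
    ∃ g, Mor F (P ⊔ Q) g ∧ (∀ x ∈ P, g x = f x) ∧ ∀ x ∈ Q, g x = x := by
  refine (SysData.mor_iff _).trans ⟨?_, ?_⟩
  · rintro ⟨-, -, g, hg, e, α, hα, e'⟩
    exact ⟨g, hg, e, fun x hx => by rw [e' x hx, Subgroup.mem_bot.1 hα, afun_one]⟩
  · rintro ⟨g, hg, e, e'⟩
    exact ⟨le_sup_left.trans hg.le, fun x hx => e x hx ▸ hg.mem (Subgroup.mem_sup_left hx), g, hg,
      e, 1, Subgroup.one_mem _, fun x hx => by rw [e' x hx, afun_one]⟩

theorem cSys_mor_of {hQ : Q ≤ centralizerIn S S} (hg : Mor F U g)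
    (hP : P ≤ U) (hQU : Q ≤ U) (e : ∀ x ∈ Q, g x = x) : Mor (cSys F hQ) P g :=
  cSys_mor.2 ⟨g, hg.mono (sup_le hP hQU), fun _ _ => rfl, e⟩

theorem cSys_sub {hQ : Q ≤ centralizerIn S S} :
    (cSys F hQ).IsSubsystemOf F := isSubsystemOf_iff.2 fun _ _ h => by
  obtain ⟨g, hg, e, -⟩ := cSys_mor.1 h
  exact (hg.mono le_sup_left).congr e

theorem central_of_cSys {hQ : Q ≤ centralizerIn S S}
    (h : F.IsSubsystemOf (cSys F hQ)) : F.IsCentral Q :=
  isCentral_iff.2 ⟨hQ.trans centralizerIn_le, fun _ _ hf =>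
    cSys_mor.1 (isSubsystemOf_iff.1 h _ _ hf)⟩

theorem cSys_iff {hQ : Q ≤ centralizerIn S S}
    {N : FusionSystem (centralizerIn S Q)} (hN : F.IsCentralizerSystem Q N) :
    Mor (cSys F hQ) P f ↔ Mor N P f := by
  rw [cSys_mor]
  refine ⟨fun ⟨g, hg, e, e'⟩ => (centSys_mor_of hN (fun x hx => ?_) hg le_sup_left le_sup_right
    e').congr e, centSys_ext hN⟩
  have hx' := hg.le (Subgroup.mem_sup_left hx)
  refine mem_centralizerIn.2 ⟨hx', fun y hy => ?_⟩
  have := (mem_centralizerIn.1 (hQ hy)).2 x hx'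
  calc x * y * x⁻¹ = (y * x * y⁻¹) * y * x⁻¹ := by rw [this]
    _ = y := by group

theorem Mor.fix_zpowers (hf : Mor F P f) {z : Ω} (hz : z ∈ P) (e : f z = z) :
    ∀ x ∈ Subgroup.zpowers z, f x = x := by
  rintro _ ⟨k, rfl⟩
  beta_reduce
  rw [hf.map_zpow hz, e]

/-- `F` is `H`-free for every `H` in the class `Bad`. -/
def Free (p : ℕ) (Bad : ∀ (H : Type v) [Group H], Prop) (F : FusionSystem S) : Prop :=
  ∀ (H : Type v) [Group H], Bad H → F.IsSectionFree p H

variable {Bad : ∀ (H : Type v) [Group H], Prop}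

theorem Free.loc {D : FusionSystem T} (h : Free p Bad F) (hD : Loc.{u, v} p F D) : Free p Bad D :=
  fun H _ hH => hD.free H (h H hH)

theorem free_involves {K : Type*} [Group K] (h : F.IsSectionFree p K) :
    Free p (fun (H : Type v) _ => Involves K H) F :=
  fun _ _ hH Q h1 h2 N hN L _ ι hL hI => h Q h1 h2 N hN L ι hL (Involves.trans hH hI)

theorem free_false : Free p (fun (_ : Type v) _ => False) F := fun _ _ h => h.elim

theorem IsRealizedBy.exists_mor {L : Type*} [Group L] {ι : S →* L} (hL : F.IsRealizedBy ι)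
    (hA : A ≤ S) (g : L) (h : ∀ x ∈ A, g * ap ι x * g⁻¹ ∈ ι.range) :
    ∃ f, Mor F A f ∧ ∀ x ∈ A, ap ι (f x) = g * ap ι x * g⁻¹ := by
  obtain ⟨κ, -, k2, k3⟩ := exists_inv_hom hL.1 rfl
  exact ⟨fun x => ap κ (g * ap ι x * g⁻¹), (IsRealizedBy.mor_iff hL hA
    fun x hx => k2 _ (h x hx)).2 ⟨g, fun x hx => k3 _ (h x hx)⟩, fun x hx => k3 _ (h x hx)⟩

theorem IsRealizedBy.exists_elt {L : Type*} [Group L] {ι : S →* L} (hL : F.IsRealizedBy ι)
    (hf : Mor F A f) : ∃ g : L, ∀ x ∈ A, ap ι (f x) = g * ap ι x * g⁻¹ :=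
  (IsRealizedBy.mor_iff hL hf.le fun _ hx => hf.mem hx).1 hf

theorem IsRealizedBy.normal_of {L : Type*} [Group L] {ι : S →* L} (hL : F.IsRealizedBy ι)
    (hQ : Q ≤ S) (h : (imageAlong ι Q).Normal) : F.IsNormal Q :=
  ((isRealizedBy_iff_iso.1 hL).normal_iff hQ).1 (group_normal_of_normal h imageAlong_le_range)

variable [Fact p.Prime] [Finite S]

theorem Free.surj {Ω' : Type*} [Group Ω'] {S' : Subgroup Ω'} {θ : S →* Ω'} {F' : FusionSystem S'}
    (h : Free p Bad F) (hS : IsPGroup p S) (hF : F.IsSaturated p) (hθ : Surj F F' θ) :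
    Free p Bad F' := fun H _ hH => free_surj hS hF (h H hH) hθ

theorem IsModel.not_involves {L : Type u} [Group L] {ι : S →* L} (hL : F.IsModel p L ι)
    {H : Type*} [Group H] (h : F.IsSectionFree p H) : ¬ Involves H L := by
  have hn := core_isNormal F
  have hN := normSys_spec F hn.1
  obtain ⟨ι', h'⟩ := IsModel.transport (IsNormal.normalizerIn_eq hn)
    (fun _ _ => normSys_eq_of_normal hN hn) hL
  exact h _ (IsNormal.fullyNormalized hn) (IsConstrained.core_centric (IsModel.constrained hL)) _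
    hN L ι' h'

theorem nSys_saturated (hS : IsPGroup p S) (hF : F.IsSaturated p) {hQ : Q ≤ S}
    {hn : S ≤ Subgroup.normalizer (Q : Set Ω)} : (nSys F hQ hn).IsSaturated p := by
  have h := fullyNormalized_of_normal (F := F) hQ hn
  refine kSaturated hS hF (IsSaturated.receptive' hS hF h) ?_ (isKNorm_top_of_le hn)
    fun _ _ => SysData.mor_iff _
  rw [inf_top_eq, inf_top_eq]
  exact IsFullyAutomized.sylowIn (IsSaturated.fullyAutomized hS hF h)

omit [Fact p.Prime] [Finite S] in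
theorem Loc.transport {D : FusionSystem T} {D' : FusionSystem U} (h : Loc.{u, v} p F D) (e : U = T)
    (h' : ∀ P f, Mor D' P f ↔ Mor D P f) : Loc.{u, v} p F D' := by
  subst e
  rwa [sys_ext h']

theorem loc_nSys (hS : IsPGroup p S) (hF : F.IsSaturated p) {hQ : Q ≤ S}
    {hn : S ≤ Subgroup.normalizer (Q : Set Ω)} : Loc.{u, v} p F (nSys F hQ hn) :=
  (loc_normSys hS hF (fullyNormalized_of_normal hQ hn) (normSys_spec F hQ)).transport
    (normalizerIn_eq_of_le hn).symm fun _ _ => nSys_iff (normSys_spec F hQ)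

theorem exists_pull (hS : IsPGroup p S) {L : Type*} [Group L] {ι : S →* L}
    (hL : F.IsModel p L ι) {H : Subgroup L} (hH : ι.range ≤ H) :
    ∃ D : FusionSystem S, Loc.{u, v} p F D ∧ (∀ A f, Mor D A f ↔ Mor F A f ∧
      ∃ g ∈ H, ∀ x ∈ A, ap ι (f x) = g * ap ι x * g⁻¹) ∧ (F.IsSubsystemOf D → H = ⊤) := by
  have : Finite L := hL.1
  have D : SysData S fun A f => Mor F A f ∧ ∃ g ∈ H, ∀ x ∈ A, ap ι (f x) = g * ap ι x * g⁻¹ := by
    refine SysData.ofSub F (fun h => h.1) (fun h => h.1.le) (fun h _ hx => h.1.mem hx)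
      (fun ⟨h, g, hg, e⟩ e' => ⟨h.congr e', g, hg, fun x hx => by rw [← e' x hx, e x hx]⟩)
      (fun hP hs => ⟨mor_conj F hP hs, _, hH (ap_mem_range ι hs),
        fun x hx => ap_conj _ hs (hP hx)⟩)
      (fun ⟨h, g, hg, e⟩ ⟨h', g', hg', e'⟩ hm => ⟨h.comp h' hm, g' * g, H.mul_mem hg' hg,
        fun x hx => by rw [e' _ (hm x hx), e x hx]; group⟩)
      (fun ⟨h, g, hg, e⟩ h' e' => ⟨h', g⁻¹, H.inv_mem hg, fun y hy => ?_⟩)
    obtain ⟨x, hx, rfl⟩ := h.mem_img.1 hy
    rw [e' x hx, e x hx]; group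
  have hm : ∀ A f, Mor D.sys A f ↔ Mor F A f ∧
      ∃ g ∈ H, ∀ x ∈ A, ap ι (f x) = g * ap ι x * g⁻¹ := fun _ _ => D.mor_iff
  have hsub : D.sys.IsSubsystemOf F := isSubsystemOf_iff.2 fun A f h => ((hm A f).1 h).1
  have hr : D.sys.IsRealizedBy (ι.codRestrict H fun t => hH ⟨t, rfl⟩) := by
    refine isRealizedBy_iff.2 ⟨fun a b e => hL.2.1.1 (congrArg Subtype.val e),
      fun P f hP hm' => (hm P f).trans ⟨?_, ?_⟩⟩
    · rintro ⟨-, g, hg, e⟩
      refine ⟨⟨g, hg⟩, fun x hx => Subtype.ext ?_⟩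
      simp only [Subgroup.coe_mul, Subgroup.coe_inv]
      rw [ap_codRestrict _ _ _ (hm' x hx), ap_codRestrict _ _ _ (hP hx), e x hx]
    · rintro ⟨g, e⟩
      have e' : ∀ x ∈ P, ap ι (f x) = g * ap ι x * (g : L)⁻¹ := fun x hx => by
        have := congrArg Subtype.val (e x hx)
        simp only [Subgroup.coe_mul, Subgroup.coe_inv] at this
        rwa [ap_codRestrict _ _ _ (hm' x hx), ap_codRestrict _ _ _ (hP hx)] at this
      exact ⟨(IsRealizedBy.mor_iff hL.2.1 hP hm').2 ⟨g, e'⟩, g, g.2, e'⟩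
  have hsat : D.sys.IsSaturated p := by
    refine realized_saturated hr ?_
    obtain ⟨R, hR⟩ := ((IsModel.sylowIn hL).of_le hH le_top).exists_sylow
    refine ⟨R, hR.trans ?_⟩
    ext ⟨x, hx⟩
    exact ⟨fun ⟨t, e⟩ => ⟨t, Subtype.ext e⟩, fun ⟨t, e⟩ => ⟨t, congrArg Subtype.val e⟩⟩
  have hc := IsModel.constrained hL
  have hn := core_isNormal F
  refine ⟨D.sys, ⟨hsat, hsub, centralizerIn_le, ⟨⊥, isNormal_bot _, normalizerIn_bot⟩,
    fun H _ hfree => free_of_sub hS hc.1 hfree hsat hsub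
    fun P h1 h2 => isCentric_of_le (IsConstrained.core_centric hc) (IsNormal.le_of_radical hS
      (IsNormal.of_sub hS hsat hsub hn hn.1) h1 h2) h1.1⟩, hm, fun h => ?_⟩
  rw [eq_top_iff]
  intro g _
  obtain ⟨f, hf, e⟩ := IsRealizedBy.exists_mor hL.2.1 hn.1 g fun x hx => imageAlong_le_range
    ((IsModel.image_normal hL hn).conj_mem _ (ap_mem_imageAlong hn.1 hx) g)
  obtain ⟨-, k, hk, e'⟩ := (hm _ _).1 (isSubsystemOf_iff.1 h _ _ hf)
  have : k⁻¹ * g ∈ Subgroup.centralizer (imageAlong ι F.core : Set L) := fun y hy => by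
    obtain ⟨x, hx, rfl⟩ := (mem_imageAlong' hn.1).1 hy
    have := (e x hx).symm.trans (e' x hx)
    calc ap ι x * (k⁻¹ * g) = k⁻¹ * (k * ap ι x * k⁻¹) * g := by group
      _ = _ := by rw [← this]; group
  have := hH (imageAlong_le_range (IsModel.centralizer_le hL hn (isConstrained_iff.1 hc).2 this))
  simpa using H.mul_mem hk this

section Functor

variable {W : ∀ (Q : Type u) [Group Q], Subgroup Q}

theorem reduce_ind (hW : IsCharPFunctor p W) (hS : IsPGroup p S) (hF : F.IsSaturated p)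
    {E : FusionSystem S} (h0 : HasN F E (inducedFunctor W S))
    (hsub : ∀ {T : Subgroup Ω} (D : FusionSystem T), Loc.{u, v} p F D → ¬ F.IsSubsystemOf D →
      (∀ P g, Mor D P g → inducedFunctor W T ≤ P →
        img g (inducedFunctor W T) = inducedFunctor W T → Mor E P g) → D.IsSubsystemOf E)
    (hcon : F.IsConstrained p → F.IsSubsystemOf E)
    (hcen : F.core ≠ ⊥ → F.core ≠ S → F.autGroup F.core ≤ autInducedBy S F.core →
      F.IsSubsystemOf E) : F.IsSubsystemOf E := by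
  refine reduce hS hF (inducedFunctor W) (fun T hT hc hb => ?_) (fun T _ => ind_le W T)
    (fun T f hf => ind_img hW hS hf) h0 hsub hcon fun h1 h2 => ?_
  · have : Finite T := finite_of_le hT
    exact ind_ne_bot hW (pgroup_of_le hS hT) fun e =>
      centralizerIn_self_ne_bot hS hb (eq_bot_iff.2 (hc.trans e.le))
  · by_cases h : F.core = S
    · exact isSubsystemOf_iff.2 fun P f hf => h0.of_normal (ind_normal hW hS
        (by have := core_isNormal F; rwa [h] at this)) hf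
    · exact hcen h1 h h2

/-- The quotient by `O_p(F)` in the inductive arguments. -/
theorem exists_quot_core (hW : IsCharPFunctor p W) (hS : IsPGroup p S) (hF : F.IsSaturated p)
    (h1 : F.core ≠ ⊥) (h2 : F.core ≠ S) : ∃ (Ω' : Type u) (_ : Group Ω') (S' : Subgroup Ω')
    (_ : Finite S') (θ : S →* Ω') (F' : FusionSystem S'), Surj F F' θ ∧
      preimageAlong θ ⊥ = F.core ∧ IsPGroup p S' ∧ F'.IsSaturated p ∧ Nat.card S' < Nat.card S ∧
      S' ≠ ⊥ ∧ ∀ U', U' ≤ S' → U' ≠ ⊥ → ¬ F.IsNormal (preimageAlong θ U') := by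
  obtain ⟨Ω', _, S', θ, F', h, hk⟩ := exists_quot (core_isNormal F)
  refine ⟨Ω', _, S', h.finite, θ, F', h, hk, h.pgroup hS, h.saturated hS hF,
    h.card_lt (hk ▸ h1), h.ne_bot (hk ▸ h2), fun U' hU hb hn => ?_⟩
  exact (h.ker_lt hU hb).not_ge (hk ▸ IsNormal.le_core hn)

omit [Fact p.Prime] [Finite S] in
theorem Surj.preimage_le_normalizer {Ω' : Type*} [Group Ω'] {S' U' : Subgroup Ω'} {θ : S →* Ω'}
    {F' : FusionSystem S'} (h : Surj F F' θ) (hU : S' ≤ Subgroup.normalizer (U' : Set Ω')) :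
    S ≤ Subgroup.normalizer (preimageAlong θ U' : Set Ω) :=
  le_normalizer_of_conj_mem fun s hs x hx => by
    obtain ⟨h1, h2⟩ := mem_preimageAlong.1 hx
    refine mem_preimageAlong.2 ⟨S.mul_mem (S.mul_mem hs h1) (S.inv_mem hs), ?_⟩
    rw [ap_conj _ hs h1]
    exact conj_mem_of_mem_normalizer (hU (h.mem s hs)) h2

theorem ind_le_normalizer (hW : IsCharPFunctor p W) (hS : IsPGroup p S) :
    S ≤ Subgroup.normalizer (inducedFunctor W S : Set Ω) :=
  (ind_normalizer hW hS).ge.trans inf_le_right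

theorem IsModel.ind_eq (hW : IsCharPFunctor p W) (hS : IsPGroup p S) {L : Type u} [Group L]
    {ι : S →* L} (hL : F.IsModel p L ι) {P : Subgroup L} (hP : P = ι.range) :
    inducedFunctor W P = imageAlong ι (inducedFunctor W S) := by
  rw [ind_image hW hS hL.2.1.1 le_rfl, imageAlong_top, hP]

omit [Finite S] in
theorem functor_normal (hW : IsCharPFunctor p W)
    (hbase : ∀ (L : Type u) [Group L] [Finite L] (P : Sylow p L),
      Subgroup.centralizer (pCore p L : Set L) ≤ pCore p L →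
      (∀ (H : Type v) [Group H], Bad H → ¬ Involves H L) →
      (inducedFunctor W (P : Subgroup L)).Normal) [Finite S] (F : FusionSystem S) :
    IsPGroup p S → F.IsSaturated p → Free p Bad F → F.IsNormal (inducedFunctor W S) := by
  refine sys_induction (C := fun {Ω} _ {S} F => IsPGroup p S → F.IsSaturated p → Free p Bad F →
    F.IsNormal (inducedFunctor W S)) ?_ F
  intro Ω _ S _ F ih1 ih2 hS hF hfree
  have key : F.IsNormal (inducedFunctor W S) →
      F.IsSubsystemOf (nSys F (ind_le W S) (ind_le_normalizer hW hS)) := fun h =>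
    isSubsystemOf_iff.2 fun P f hf => nSys_mor.2 (IsNormal.ext h hf)
  refine normal_of_nSys (reduce_ind hW hS hF (E := nSys F (ind_le W S) (ind_le_normalizer hW hS))
    (fun P g hg h1 _ h2 => nSys_mor_of hg le_rfl h1 h2) (fun D hD hne h => ?_) (fun hc => ?_)
    fun h1 h2 h3 => ?_)
  · have hn := ih2 D hD.sub hne (pgroup_of_le hS (IsSubsystemOf.le hD.sub)) hD.sat (hfree.loc hD)
    refine isSubsystemOf_iff.2 fun P f hf => ?_
    obtain ⟨g, hg, e1, e2⟩ := IsNormal.ext hn hf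
    exact ((h _ g hg le_sup_right e2).mono le_sup_left).congr e1
  · obtain ⟨L, _, ι, hL⟩ := exists_model hS hc
    have : Finite L := hL.1
    obtain ⟨P, hP⟩ := hL.2.2.1
    have := hbase L P hL.2.2.2 fun H _ hH => IsModel.not_involves hL (hfree H hH)
    rw [IsModel.ind_eq hW hS hL hP] at this
    exact key (IsRealizedBy.normal_of hL.2.1 (ind_le W S) this)
  · obtain ⟨Ω', _, S', _, θ, F', h, hk, hS', hF', hc, hb, hn⟩ := exists_quot_core hW hS hF h1 h2
    refine absurd (h.normal_preimage hS hF (hk ▸ core_isNormal F)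
      (hk ▸ pgroup_of_le (autInducedBy_pgroup hS _) h3)
      (ih1 F' hc hS' hF' (hfree.surj hS hF h))) (hn _ (ind_le W S') (ind_ne_bot hW hS' hb))

omit [Finite S] in
theorem functor_center (hW : IsCharPFunctor p W)
    (hWZ : ∀ (Q : Type u) [Group Q] [Finite Q], IsPGroup p Q → Subgroup.center Q ≤ W Q) (n : ℕ)
    (hbase : ∀ (L : Type u) [Group L] [Finite L] (P : Sylow p L),
      Subgroup.centralizer (pCore p L : Set L) ≤ pCore p L →
      (∀ (H : Type v) [Group H], Bad H → ¬ Involves H L) → ∀ y ∈ centralizerIn P P,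
      (∀ H : Subgroup L, P ≤ H → H ≠ ⊤ → ∀ g ∈ H, g * y ^ n * g⁻¹ = y ^ n) →
      (∀ g ∈ Subgroup.normalizer (inducedFunctor W (P : Subgroup L) : Set L),
        g * y ^ n * g⁻¹ = y ^ n) → ∀ g, g * y ^ n * g⁻¹ = y ^ n) [Finite S] (F : FusionSystem S) :
    IsPGroup p S → F.IsSaturated p → Free p Bad F → ∀ y ∈ centralizerIn S S,
      (∀ g, Mor F (inducedFunctor W S) g → img g (inducedFunctor W S) = inducedFunctor W S →
        g (y ^ n) = y ^ n) → F.IsCentral (Subgroup.zpowers (y ^ n)) := by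
  refine sys_induction (C := fun {Ω} _ {S} F => IsPGroup p S → F.IsSaturated p → Free p Bad F →
    ∀ y ∈ centralizerIn S S, (∀ g, Mor F (inducedFunctor W S) g →
      img g (inducedFunctor W S) = inducedFunctor W S → g (y ^ n) = y ^ n) →
      F.IsCentral (Subgroup.zpowers (y ^ n))) ?_ F
  intro Ω _ S _ F ih1 ih2 hS hF hfree y hy hfix
  have hZ : ∀ {Ω : Type u} [Group Ω] {T : Subgroup Ω} [Finite T], IsPGroup p T →
      centralizerIn T T ≤ inducedFunctor W T := fun {Ω} _ {T} _ hT x hx =>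
    mem_ind.2 ⟨hx.1, hWZ T hT (Subgroup.mem_center_iff.2 fun t => Subtype.ext (hx.2 t t.2))⟩
  have hz : Subgroup.zpowers (y ^ n) ≤ centralizerIn S S :=
    (Subgroup.zpowers_le.2 (Subgroup.pow_mem _ hy n))
  have hzW := hz.trans (hZ hS)
  have key : F.IsCentral (Subgroup.zpowers (y ^ n)) → F.IsSubsystemOf (cSys F hz) := fun h =>
    isSubsystemOf_iff.2 fun P f hf => cSys_mor.2 (IsCentral.ext h hf)
  have ihS : ∀ D : FusionSystem S, Loc.{u, v} p F D → ¬ F.IsSubsystemOf D →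
      D.IsCentral (Subgroup.zpowers (y ^ n)) := fun D hD hne =>
    ih2 D hD.sub hne hS hD.sat (hfree.loc hD) y hy
      fun g hg => hfix g (isSubsystemOf_iff.1 hD.sub _ _ hg)
  refine central_of_cSys (reduce_ind hW hS hF (E := cSys F hz)
    (fun P g hg h1 _ h2 => cSys_mor_of hg le_rfl (hzW.trans h1) (hg.fix_zpowers
      (h1 (hzW (Subgroup.mem_zpowers _))) (hfix g (hg.mono h1) h2))) (fun {T} D hD hne h => ?_)
    (fun hc => key ?_) fun h1 h2 h3 => key ?_)
  · have hT := IsSubsystemOf.le hD.sub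
    have : Finite T := finite_of_le hT
    have hT' := pgroup_of_le hS hT
    have hy' : y ∈ centralizerIn T T := ⟨hD.cen hy, (centralizerIn_anti hT hy).2⟩
    have hn := ih2 D hD.sub hne hT' hD.sat (hfree.loc hD) y hy' fun g hg e => by
      obtain ⟨k, -, e1, e2⟩ := cSys_mor.1 (h _ g hg le_rfl e)
      rw [← e1 _ (hZ hT' (Subgroup.pow_mem _ hy' n)), e2 _ (Subgroup.mem_zpowers _)]
    refine isSubsystemOf_iff.2 fun P f hf => ?_
    obtain ⟨g, hg, e1, e2⟩ := IsCentral.ext hn hf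
    exact cSys_mor.2 ⟨g, isSubsystemOf_iff.1 hD.sub _ _ hg, e1, e2⟩
  · obtain ⟨L, _, ι, hL⟩ := exists_model hS hc
    have : Finite L := hL.1
    obtain ⟨P, hP⟩ := hL.2.2.1
    have hn := core_isNormal F
    have hyQ : y ^ n ∈ F.core := (isConstrained_iff.1 hc).2
      (centralizerIn_anti hn.1 (Subgroup.pow_mem _ hy n))
    have hb := hbase L P hL.2.2.2 (fun H _ hH => IsModel.not_involves hL (hfree H hH)) (ap ι y)
      (by
        rw [hP, ← imageAlong_top, ← imageAlong_centralizerIn hL.2.1.1 imageAlong_top.symm le_rfl]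
        exact ap_mem_imageAlong centralizerIn_le hy)
      (fun H hH hne g hg => by
        obtain ⟨D, hD, hm, ht⟩ := exists_pull.{u, v} hS hL (hP ▸ hH)
        obtain ⟨f, hf, e⟩ := IsRealizedBy.exists_mor hL.2.1 hn.1 g fun x hx => imageAlong_le_range
          ((IsModel.image_normal hL hn).conj_mem _ (ap_mem_imageAlong hn.1 hx) g)
        rw [← ap_pow _ hy.1, ← e _ hyQ, IsCentral.fix (ihS D hD fun h => hne (ht h))
          ((hm _ _).2 ⟨hf, g, hg, e⟩) hyQ (Subgroup.mem_zpowers _)])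
      (fun g hg => by
        rw [IsModel.ind_eq hW hS hL hP] at hg
        have h1 : ∀ x ∈ inducedFunctor W S, g * ap ι x * g⁻¹ ∈ imageAlong ι (inducedFunctor W S) :=
          fun x hx => conj_mem_of_mem_normalizer hg (ap_mem_imageAlong (ind_le W S) hx)
        obtain ⟨f, hf, e⟩ := IsRealizedBy.exists_mor hL.2.1 (ind_le W S) g
          fun x hx => imageAlong_le_range (h1 x hx)
        have : Finite (inducedFunctor W S) := finite_of_le (ind_le W S)
        rw [← ap_pow _ hy.1, ← e _ (hzW (Subgroup.mem_zpowers _)), hfix f hf (hf.img_eq_self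
          fun x hx => (ap_mem_image_iff hL.2.1.1 (ind_le W S) (hf.mem hx)).1 (e x hx ▸ h1 x hx))])
    refine central_of_fix hS hF (hz.trans centralizerIn_le) fun A f hf x hx hxz => ?_
    obtain ⟨g, e⟩ := IsRealizedBy.exists_elt hL.2.1 hf
    refine ap_inj hL.2.1.1 (hf.mem hx) (hf.le hx) ?_
    rw [e x hx]
    obtain ⟨k, rfl⟩ := hxz
    have h1 : ap ι ((y ^ n) ^ k) = (ap ι y ^ n) ^ k := by
      rw [← ap_pow _ hy.1, ap_of_mem _ (S.pow_mem hy.1 n), ap_of_mem _ (hf.le hx), ← map_zpow]; rfl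
    beta_reduce
    rw [h1, ← conj_zpow, hb g]
  · obtain ⟨Ω', _, S', _, θ, F', h, hk, hS', hF', hc, hb, hn⟩ := exists_quot_core hW hS hF h1 h2
    have hU := hn _ (ind_le W S') (ind_ne_bot hW hS' hb)
    have hUn := h.preimage_le_normalizer (ind_le_normalizer hW hS')
    have h4 := ihS (nSys F preimageAlong_le hUn) (loc_nSys hS hF) fun h => hU (normal_of_nSys h)
    have hy' : ap θ y ∈ centralizerIn S' S' := mem_centralizerIn.2 ⟨h.mem y hy.1, fun x hx => by
      obtain ⟨x', hx', rfl⟩ := mem_range_iff.1 (h.range.ge hx)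
      rw [← ap_conj _ hy.1 hx', (mem_centralizerIn.1 hy).2 x' hx']⟩
    have hyU : y ^ n ∈ preimageAlong θ (inducedFunctor W S') := Subgroup.pow_mem _
      (mem_preimageAlong.2 ⟨hy.1, hZ hS' hy'⟩) n
    have h5 := ih1 F' hc hS' hF' (hfree.surj hS hF h) _ hy' fun g' hg' e => by
      obtain ⟨g, hg, e1, e2⟩ := h.lift_norm hg' le_rfl e
      rw [← ap_pow _ hy.1, e2 _ hyU, IsCentral.fix h4 (nSys_mor_of hg le_rfl le_rfl e1) hyU
        (Subgroup.mem_zpowers _)]
    have h6 := IsNormal.le_core (h.normal_preimage hS hF (hk ▸ core_isNormal F)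
      (hk ▸ pgroup_of_le (autInducedBy_pgroup hS _) h3) (IsCentral.isNormal h5))
    have hyQ : y ^ n ∈ F.core := h6 (mem_preimageAlong.2 ⟨S.pow_mem hy.1 n,
      ap_pow θ hy.1 n ▸ Subgroup.mem_zpowers _⟩)
    refine central_of_fix hS hF (hz.trans centralizerIn_le) fun A f hf x hx hxz => ?_
    obtain ⟨g, hg, e1, e2⟩ := IsNormal.ext (core_isNormal F) hf
    obtain ⟨α, hα, eα⟩ := (hg.mono le_sup_right).exists_aut e2
    obtain ⟨s, hs, es⟩ := mem_autInducedBy.1 (h3 hα)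
    have hxQ := Subgroup.zpowers_le.2 hyQ hxz
    have := (mem_centralizerIn.1 (hz hxz)).2 s hs
    rw [← e1 x hx, ← eα x hxQ, es x hxQ]
    calc s * x * s⁻¹ = (x * s * x⁻¹) * x * s⁻¹ := by rw [this]
      _ = x := by group

/-- The `p`-th power trick of Glauberman. -/
theorem central_pow_of_quad {L : Type*} [Group L] [Finite L] (P : Sylow p L)
    (hc : Subgroup.centralizer (pCore p L : Set L) ≤ pCore p L) {y : L}
    (hy : y ∈ centralizerIn (P : Subgroup L) P)
    (hmin : ∀ H : Subgroup L, P ≤ H → H ≠ ⊤ → ∀ g ∈ H, g * y ^ p * g⁻¹ = y ^ p)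
    {a : L} (ha : a ∈ P) (ha' : a ∉ pCore p L)
    (hq : ∀ v ∈ centralizerIn (pCore p L) (pCore p L), Commute a ⁅a, v⁆) (g : L) :
    g * y ^ p * g⁻¹ = y ^ p := by
  by_contra hg
  have hQP := pCore_le_sylow P
  have hn := pCore_normal p L
  set Q := pCore p L with hQ
  -- the centralizer `K` of the `p`-th powers of `Z(Q)`
  let K : Subgroup L := Subgroup.centralizer {x | ∃ v ∈ centralizerIn Q Q, x = v ^ p}
  have hZn : ∀ v ∈ centralizerIn Q Q, ∀ g : L, g * v * g⁻¹ ∈ centralizerIn Q Q := fun v hv g =>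
    centralizerIn_conj_mem (H := ⊤) ⟨trivial, by rw [Subgroup.normalizer_eq_top]; trivial⟩
      ⟨trivial, hv.2⟩ |> fun h => ⟨hn.conj_mem _ hv.1 g, h.2⟩
  have hK : K.Normal := ⟨fun k hk g => by
    rintro _ ⟨v, hv, rfl⟩
    have := hk _ ⟨_, hZn v hv g⁻¹, rfl⟩
    rw [conj_pow, inv_inv] at this
    calc v ^ p * (g * k * g⁻¹) = g * (g⁻¹ * v ^ p * g * k) * g⁻¹ := by group
      _ = _ := by rw [this]; group⟩
  have hyQ : y ∈ centralizerIn Q Q := ⟨hc fun x hx => hy.2 x (hQP hx), fun x hx => hy.2 x (hQP hx)⟩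
  have hfix : ∀ k ∈ K, k * y ^ p * k⁻¹ = y ^ p := fun k hk => by
    rw [← hk _ ⟨y, hyQ, rfl⟩]; group
  have hsyl := (sylowIn_top P).inf_normal (N := K) le_top fun c _ d hd => hK.conj_mem d hd c
  have hN : Subgroup.normalizer ((P ⊓ K : Subgroup L) : Set L) = ⊤ := by
    by_contra hne
    obtain ⟨k, hk, m, hm, rfl⟩ := (SylowIn.isSyl hsyl).frattini (g := g)
      (by rw [Subgroup.normalizer_eq_top]; trivial)
    apply hg
    have := hmin _ (fun s hs => Transfer.mem_normalizer_inf (Subgroup.le_normalizer hs)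
      (by rw [Subgroup.normalizer_eq_top]; trivial)) hne m hm
    calc k * m * y ^ p * (k * m)⁻¹ = k * (m * y ^ p * m⁻¹) * k⁻¹ := by group
      _ = _ := by rw [this, hfix k hk]
  have hPK : (P : Subgroup L) ⊓ K ≤ Q :=
    le_pCore (Subgroup.normalizer_eq_top_iff.1 hN) hsyl.pgroup
  have step : ∀ j : ℕ, a ^ p ^ (j + 1) ∈ Q → a ^ p ^ j ∈ Q := fun j hj => by
    refine hPK ⟨P.pow_mem ha _, ?_⟩
    rintro _ ⟨v, hv, rfl⟩
    have h1 := Transfer.conj_pow_of_commute (hq v hv) (p ^ (j + 1))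
    have h2 := Transfer.conj_pow_of_commute (hq v hv) (p ^ j)
    have h3 : a ^ p ^ (j + 1) * v * (a ^ p ^ (j + 1))⁻¹ = v := by
      rw [hv.2 _ hj]; group
    have h4 : ⁅a, v⁆ ^ p ^ (j + 1) = 1 := by
      rw [h3] at h1; exact right_eq_mul.1 h1
    have h5 : Commute ⁅a, v⁆ v := by
      have : ⁅a, v⁆ ∈ Q := Subgroup.mul_mem _ (hZn v hv a).1 (Q.inv_mem hv.1)
      exact hv.2 _ this
    have h6 : a ^ p ^ j * v ^ p * (a ^ p ^ j)⁻¹ = v ^ p := by
      rw [← conj_pow, h2, (h5.pow_left _).mul_pow, ← pow_mul, ← pow_succ, h4, one_mul]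
    calc v ^ p * a ^ p ^ j = (a ^ p ^ j * v ^ p * (a ^ p ^ j)⁻¹) * a ^ p ^ j := by rw [h6]
      _ = _ := by group
  obtain ⟨k, hk⟩ := P.isPGroup' ⟨a, ha⟩
  have hk' : a ^ p ^ k ∈ Q := by
    have : a ^ p ^ k = 1 := congrArg Subtype.val hk
    rw [this]; exact Q.one_mem
  clear hk
  apply ha'
  induction k with
  | zero => simpa using hk'
  | succ k ih => exact ih (step k hk')

omit [Fact p.Prime] [Finite S] in
theorem closure_pow_le {n : ℕ} {x : Ω}
    (hx : x ∈ Subgroup.closure ((fun z => z ^ n) '' (centralizerIn S S : Set Ω))) :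
    ∃ y ∈ centralizerIn S S, x = y ^ n := by
  induction hx using Subgroup.closure_induction with
  | mem x hx => obtain ⟨y, hy, rfl⟩ := hx; exact ⟨y, hy, rfl⟩
  | one => exact ⟨1, Subgroup.one_mem _, (one_pow _).symm⟩
  | mul x y _ _ h1 h2 =>
    obtain ⟨a, ha, rfl⟩ := h1
    obtain ⟨b, hb, rfl⟩ := h2
    exact ⟨a * b, Subgroup.mul_mem _ ha hb, (Commute.mul_pow (hb.2 a ha.1) n).symm⟩
  | inv x _ h => obtain ⟨a, ha, rfl⟩ := h; exact ⟨a⁻¹, Subgroup.inv_mem _ ha, (inv_pow _ _).symm⟩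

omit [Fact p.Prime] in
theorem fix_of_mem_center {N : FusionSystem (normalizerIn S Q)} (hN : F.IsNormalizerSystem Q N)
    (hQ : Q ≤ S) {z : Ω} (hz : z ∈ N.center) (hzQ : z ∈ Q) (hg : Mor F Q g) (e : img g Q = Q) :
    g z = z := by
  have : Finite (normalizerIn S Q) := finite_of_le normalizerIn_le
  exact IsCentral.fix (center_isCentral N) (normSys_mor_of hN (le_normalizerIn hQ) hg le_rfl le_rfl
    e) hzQ hz

theorem center_le_of_sub {E : FusionSystem T} (hS : IsPGroup p S) (hE : E.IsSaturated p)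
    (h : E.IsSubsystemOf F) (hT : centralizerIn S S ≤ T) : F.center ≤ E.center := fun z hz => by
  have : Finite T := finite_of_le (IsSubsystemOf.le h)
  exact (mem_center_iff (pgroup_of_le hS (IsSubsystemOf.le h)) hE).2
    ⟨hT ⟨center_le F hz, center_le_centralizer F hz⟩, fun P f hf hP =>
      IsCentral.fix (center_isCentral F) (isSubsystemOf_iff.1 h _ _ hf) hP hz⟩

end Functor

end Cfsg.Agent.Fusion
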