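import Cfsg.Agent.Lib.Fusion.Cent

/-! Gluing: automorphism groups in generated systems. -/

set_option autoImplicit false
set_option linter.unusedSectionVars false

namespace Cfsg.Agent.Fusion

open Cfsg Cfsg.FusionSystem

variable {Ω : Type*} [Group Ω] {S : Subgroup Ω} {F : FusionSystem S} {P Q R T U U' W N M : Subgroup Ω}
  {f g k ψ : Ω → Ω} {p : ℕ} {X : Subgroup Ω → (Ω → Ω) → Prop} {B : Subgroup (MulAut U)}

/-- `f` agrees on `U` with an element of `B` -/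
def InB (B : Subgroup (MulAut U)) (f : Ω → Ω) : Prop := ∃ b ∈ B, ∀ x ∈ U, afun b x = f x

theorem InB.congr (h : InB B f) (e : ∀ x ∈ U, f x = g x) : InB B g := by
  obtain ⟨b, hb, e'⟩ := h
  exact ⟨b, hb, fun x hx => (e' x hx).trans (e x hx)⟩

theorem InB.comp (h : InB B f) (h' : InB B g) : InB B fun x => g (f x) := by
  obtain ⟨a, ha, e⟩ := h
  obtain ⟨b, hb, e'⟩ := h'
  exact ⟨b * a, mul_mem hb ha, fun x hx => by
    rw [afun_mul _ _ hx, e' _ (afun_mem _ hx), e x hx]⟩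

theorem InB.inv (h : InB B f) (e : ∀ x ∈ U, g (f x) = x) : InB B g := by
  obtain ⟨a, ha, e'⟩ := h
  exact ⟨a⁻¹, inv_mem ha, fun x hx => by
    rw [← e _ (afun_mem a⁻¹ hx), ← e' _ (afun_mem _ hx), afun_afun_inv _ hx]⟩

variable [hp : Fact p.Prime] [Finite S]

theorem gen_ind {n : ℕ} {Φ : Subgroup Ω → (Ω → Ω) → Prop}
    (hgen : ∀ D : FusionSystem S, (∀ Q g, X Q g → Mor D Q g) → F.IsSubsystemOf D)
    (hX : ∀ Q g, X Q g → Mor F Q g) (hn : n < Nat.card S)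
    (hup : ∀ (P Q : Subgroup Ω) g, Nat.card P = n → P < Q → Mor F Q g → Φ P g)
    (hcomp : ∀ (P : Subgroup Ω) f g, Nat.card P = n → Mor F P f → Mor F (img f P) g → Φ P f → Φ (img f P) g →
      Φ P fun x => g (f x))
    (hinv : ∀ (P : Subgroup Ω) f g, Nat.card P = n → Mor F P f → Φ P f → (∀ x ∈ P, g (f x) = x) → Φ (img f P) g)
    (hcongr : ∀ P f g, Φ P f → (∀ x ∈ P, f x = g x) → Φ P g)
    (hXΦ : ∀ (P : Subgroup Ω) g, X P g → Nat.card P = n → Φ P g) (hf : Mor F P f) (hP : Nat.card P = n) :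
    Φ P f := by
  have D : SysData S (fun R f => Mor F R f ∧ (Nat.card R = n → Φ R f)) :=
    SysData.ofSub F (fun h => h.1) (fun h => h.1.le) (fun h _ hx => h.1.mem hx)
      (fun h e => ⟨h.1.congr e, fun hc => hcongr _ _ _ (h.2 hc) e⟩)
      (fun hR hs => ⟨mor_conj F hR hs, fun hc => hup _ _ _ hc (lt_of_le_of_ne hR fun e => by
        rw [e] at hc; exact hn.ne' hc) (mor_conj F le_rfl hs)⟩)
      (fun {P Q f g} h1 h2 e => ⟨h1.1.comp h2.1 e, fun hc => by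
        have hc' := h1.1.card_img.trans hc
        refine hcomp _ _ _ hc h1.1 (h2.1.mono (img_le_iff.2 e)) (h1.2 hc) ?_
        rcases (img_le_iff.2 e).eq_or_lt with h | h
        · have h3 := h2.2 (by rw [← h]; exact hc')
          rwa [← h] at h3
        · exact hup _ _ _ hc' h h2.1⟩)
      fun h hg e => ⟨hg, fun hc => hinv _ _ _ (h.1.card_img.symm.trans hc) h.1
        (h.2 (h.1.card_img.symm.trans hc)) e⟩
  exact (D.mor_iff.1 (hf.sub (hgen D.sys fun Q g h => D.mor_iff.2 ⟨hX Q g h, hXΦ Q g h⟩))).2 hP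

theorem inB_edge (hS : IsPGroup p S) (hbig : ∀ Q, Q ≤ S → Nat.card U < Nat.card Q → SatClass F p Q)
    (hJ : ∀ P', F.IsConj U P' → Jn F P' U)
    (hB : ∀ R, U < R → R ≤ normalizerIn S U → ∀ α ∈ F.autGroup R, α ∈ stabAut R U →
      InB B (afun α)) :
    ∀ Q, Q ≤ S → ∀ φ, U < Q → Q ≤ normalizerIn S U → Mor F Q φ → img φ U = U → InB B φ := by
  refine downward_induction ?_
  intro Q hQ ih φ hPQ hQN hφ eφ
  have := finite_of_le hQ
  have := finite_of_le (normalizerIn_le : normalizerIn S U ≤ S)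
  have mφ : ∀ x ∈ U, φ x ∈ U := fun x hx => eφ ▸ subset_img hx
  have hle := hφ.img_le_normalizerIn hPQ.le hQN
  rw [eφ] at hle
  rcases hQN.eq_or_lt with e | hlt
  · obtain ⟨α, hα, eα⟩ := hφ.exists_aut (hφ.img_eq_self fun x hx => e ▸ hle (subset_img hx))
    exact (hB Q hPQ hQN α hα (mem_stabAut_of_finite hPQ.le fun x hx => by
      rw [eα x (hPQ.le hx)]; exact mφ x hx)).congr fun x hx => eα x (hPQ.le hx)
  obtain ⟨i, hi, i1, i2, -, i4⟩ := hφ.inv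
  have eP := hφ.img_inv_img hPQ.le i1
  rw [eφ] at eP
  have hlt' : img φ Q < normalizerIn S U := lt_of_le_of_ne hle fun e => by
    have := card_lt_of_lt hlt
    rw [← e, hφ.card_img] at this; exact lt_irrefl _ this
  obtain ⟨θ, hθ, eθ, hg⟩ := exists_gp' hS hJ (hbig Q hQ (card_lt_of_lt hPQ)) hPQ.le hQN
  have hPφ : U < img φ Q := eφ ▸ hφ.img_lt hPQ
  obtain ⟨N1, ψ1, l1, m1, h1, d1, e1⟩ := hg.step hS hθ hPQ.le rfl eθ hlt
  obtain ⟨N2, ψ2, l2, m2, h2, d2, e2⟩ := hg.step hS (hi.comp hθ i2) hPφ.le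
    (by rw [hi.img_comp', i4]) (by rw [(hi.mono hPφ.le).img_comp', eP, eθ]) hlt'
  have := finite_of_le h1.le
  have := finite_of_le h2.le
  have a1 := ih N1 h1.le (card_lt_of_lt l1) ψ1 (hPQ.trans l1) m1 h1 e1
  have a2 := ih N2 h2.le (hφ.card_img ▸ card_lt_of_lt l2) ψ2 (hPφ.trans l2) m2 h2 e2
  obtain ⟨j, hj, j1, j2, -⟩ := (h1.mono l1.le).inv' d1
  obtain ⟨k, hk, k1, -⟩ := h2.inv
  have hα := (hj.comp hφ j2).comp h2 fun x hx => l2.le (subset_img (j2 x hx))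
  have := finite_of_le hθ.img_le
  obtain ⟨α, hαF, eα⟩ := hα.exists_aut
    (hα.img_eq_self fun x hx => d2 ▸ subset_img (subset_img (j2 x hx)))
  have hPθ : U < img θ Q := eθ ▸ hθ.img_lt hPQ
  have m1' : ∀ x ∈ U, ψ1 x ∈ U := fun x hx => e1 ▸ subset_img hx
  have hst : α ∈ stabAut _ U := mem_stabAut_of_finite hPθ.le fun y hy => by
    obtain ⟨x, hx, rfl⟩ := (h1.mono (hPQ.trans l1).le).mem_img.1 (e1.symm ▸ hy)
    rw [eα _ (hPθ.le hy), j1 x (hPQ.le hx)]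
    exact e2 ▸ subset_img (mφ x hx)
  have a3 := hB _ hPθ (eθ ▸ hθ.img_le_normalizerIn hPQ.le hQN) α hαF hst
  have a4 := a2.inv fun x hx => k1 x ((hPφ.trans l2).le hx)
  refine ((a1.comp a3).comp a4).congr fun x hx => ?_
  rw [eα _ (hPθ.le (m1' x hx)), j1 x (hPQ.le hx), k1 _ ((hPφ.trans l2).le (mφ x hx))]

theorem glue_step (hS : IsPGroup p S)
    (hgen : ∀ D : FusionSystem S, (∀ Q g, X Q g → Mor D Q g) → F.IsSubsystemOf D)
    (hX : ∀ Q g, X Q g → Mor F Q g ∧ img g Q = Q) (hU : F.IsFullyNormalized U) (hlt : U < S)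
    (hbig : ∀ Q, Q ≤ S → Nat.card U < Nat.card Q → SatClass F p Q)
    (hB : ∀ R, U < R → R ≤ normalizerIn S U → ∀ α ∈ F.autGroup R, α ∈ stabAut R U →
      InB B (afun α))
    (hXB : ∀ Q g ψ, X Q g → Mor F Q ψ → img ψ Q = U → ∃ b ∈ B, ∀ x ∈ Q, afun b (ψ x) = ψ (g x)) :
    (∀ Q, F.IsConj U Q → Jn F Q U) ∧ F.autGroup U ≤ B := by
  have hn := card_lt_of_lt hlt
  have hJ : ∀ Q, F.IsConj U Q → Jn F Q U := fun Q hQ => by
    obtain ⟨f, hf, rfl⟩ := isConj_iff.1 hQ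
    obtain ⟨C, c1, c2⟩ := gen_ind (Φ := fun P f => Mor F P f → Jb F P (img f P)) hgen
      (fun Q g h => (hX Q g h).1) hn (fun P Q g hc h hg _ => ((Up.base h hg fun _ _ => rfl).jb hS
        (hc ▸ hbig)).2) (fun P f g hc hf hg h1 h2 _ => by
        rw [hf.img_comp']
        exact (h1 hf).trans hS (by rwa [hf.card_img, hc]) hf.le
          (eq_or_lt_of_card hg.le hlt (hf.card_img.trans hc)) hg.img_le (h2 hg))
      (fun P f g _ hf h e _ => by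
        rw [hf.img_inv_img le_rfl e]
        obtain ⟨C, c1, c2⟩ := h hf
        exact ⟨C, c2, c1⟩) (fun P f g h e hg => by
        rw [← img_congr e]; exact h (hg.congr fun x hx => (e x hx).symm))
      (fun P g h _ _ => by rw [(hX P g h).2]; exact ⟨P, Jn.refl _ _, Jn.refl _ _⟩) hf rfl hf
    exact Jb.jn hf.img_le ⟨C, c2, c1⟩ hU
  have edge := inB_edge hS hbig hJ hB
  have up : ∀ Q R f ψ χ, Q < R → R ≤ normalizerIn S Q → Mor F R f → Mor F (normalizerIn S Q) ψ →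
      img ψ Q = U → Mor F (normalizerIn S (img f Q)) χ → img χ (img f Q) = U →
      ∃ b ∈ B, ∀ x ∈ Q, afun b (ψ x) = χ (f x) := by
    intro Q R f ψ χ hl hm hf' hψ eψ hχ eχ
    obtain ⟨i, hi, i1, i2, -⟩ := (hψ.mono hm).inv
    have hg := (hi.comp hf' i2).comp hχ fun x hx =>
      hf'.img_le_normalizerIn hl.le hm (subset_img (i2 x hx))
    have eg : img (fun x => χ (f (i x))) U = U := by
      conv_lhs => rw [← eψ, ← ((hψ.mono hm).mono hl.le).img_comp']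
      rw [img_congr (g := fun x => χ (f x)) fun x hx => by rw [i1 x (hl.le hx)],
        (hf'.mono hl.le).img_comp', eχ]
    obtain ⟨b, hb, e⟩ := edge _ hg.le _ (eψ ▸ (hψ.mono hm).img_lt hl)
      (eψ ▸ (hψ.mono hm).img_le_normalizerIn hl.le hm) hg eg
    exact ⟨b, hb, fun x hx => by
      rw [e _ (eψ ▸ subset_img hx)]; beta_reduce; rw [i1 x (hl.le hx)]⟩
  refine ⟨hJ, fun α hα => ?_⟩
  have hm := (mem_autGroup hU.1).1 hα
  obtain ⟨b, hb, e⟩ := gen_ind (Φ := fun Q f => Mor F Q f → ∀ ψ χ, Mor F (normalizerIn S Q) ψ →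
    img ψ Q = U → Mor F (normalizerIn S (img f Q)) χ → img χ (img f Q) = U →
      ∃ b ∈ B, ∀ x ∈ Q, afun b (ψ x) = χ (f x)) hgen (fun Q g h => (hX Q g h).1) hn
    (fun P Q g _ h hg _ ψ χ => by
      have := finite_of_le hg.le
      exact up P _ g ψ χ (lt_normalizerIn (pgroup_of_le hS hg.le) h) (normalizerIn_mono hg.le)
        (hg.mono normalizerIn_le))
    (fun P f g _ hf hg h1 h2 _ ψ χ hψ eψ hχ eχ => by
      rw [hf.img_comp'] at hχ eχ
      obtain ⟨θ, hθ, eθ⟩ := hJ _ (isConj_trans (isConj_symm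
        (eψ ▸ (hψ.mono (le_normalizerIn hf.le)).isConj)) hf.isConj)
      obtain ⟨a, a1, a2⟩ := h1 hf ψ θ hψ eψ hθ eθ
      obtain ⟨b, b1, b2⟩ := h2 hg θ χ hθ eθ hχ eχ
      exact ⟨b * a, mul_mem b1 a1, fun x hx => by
        rw [afun_mul _ _ (eψ ▸ subset_img hx), a2 x hx, b2 _ (subset_img hx)]⟩)
    (fun P f g _ hf h e _ ψ χ hψ eψ hχ eχ => by
      rw [hf.img_inv_img le_rfl e] at hχ eχ
      obtain ⟨a, a1, a2⟩ := h hf χ ψ hχ eχ hψ eψ
      refine ⟨a⁻¹, inv_mem a1, fun y hy => ?_⟩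
      obtain ⟨x, hx, rfl⟩ := hf.mem_img.1 hy
      rw [e x hx, ← a2 x hx, afun_inv_afun _ (eχ ▸ subset_img hx)])
    (fun P f g h e hg ψ χ hψ eψ hχ eχ => by
      rw [← img_congr e] at hχ eχ
      obtain ⟨a, a1, a2⟩ := h (hg.congr fun x hx => (e x hx).symm) ψ χ hψ eψ hχ eχ
      exact ⟨a, a1, fun x hx => by rw [a2 x hx, e x hx]⟩)
    (fun P g h hc hg ψ χ hψ eψ hχ eχ => by
      obtain ⟨a, a1, a2⟩ := hXB P g ψ h (hψ.mono (le_normalizerIn hg.le)) eψ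
      have e0 := (hX P g h).2
      rw [e0] at hχ eχ
      obtain ⟨b, b1, b2⟩ := up P _ (fun x => x) ψ χ (lt_normalizerIn hS
        (eq_or_lt_of_card hg.le hlt hc)) le_rfl (mor_id F normalizerIn_le) hψ eψ
        (by rwa [img_id]) (by rwa [img_id])
      exact ⟨b * a, mul_mem b1 a1, fun x hx => by
        rw [afun_mul _ _ (eψ ▸ subset_img hx), a2 x hx, b2 _ (e0 ▸ subset_img hx)]⟩)
    hm rfl hm (fun x => x) (fun x => x) (mor_id F normalizerIn_le) (img_id _)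
    (mor_id F normalizerIn_le) (by rw [img_id, img_afun])
  rwa [← aut_ext e]

theorem receptive_of_jn (hU : U ≤ S) (hJ : ∀ Q, F.IsConj U Q → Jn F Q U)
    (h : ∀ a ∈ F.autGroup U, ∃ g, Mor F (Next S U (afun a)) g ∧ ∀ x ∈ U, g x = afun a x) :
    F.IsReceptive U := by
  refine isReceptive_iff.2 ⟨hU, fun P f hf e => ?_⟩
  obtain ⟨ψ, hψ, eψ⟩ := hJ P (isConj_symm (e ▸ hf.isConj))
  have hl := le_normalizerIn hf.le
  obtain ⟨i, hi, i1, i2, -, i4⟩ := (hψ.mono hl).inv' eψ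
  obtain ⟨a, ha, ea⟩ := (hi.comp hf i2).exists_aut (by rw [hi.img_comp', i4, e])
  obtain ⟨g, hg, eg⟩ := h a ha
  have mψ : ∀ x ∈ P, ψ x ∈ U := fun x hx => eψ ▸ subset_img hx
  refine ⟨_, (hψ.mono Next_le_normalizerIn).comp hg fun s hs => ?_, fun x hx => by
    rw [eg _ (mψ x hx), ea _ (mψ x hx), i1 x hx]⟩
  obtain ⟨h1, t, ht, et⟩ := mem_Next.1 hs
  refine mem_Next.2 ⟨eψ ▸ hψ.normalizerIn_mem hf.le h1, t, ht, fun y hy => ?_⟩
  obtain ⟨x, hx, rfl⟩ := (hψ.mono hl).mem_img.1 (eψ.symm ▸ hy)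
  have h2 := conj_mem_of_mem_normalizerIn h1 hx
  rw [← hψ.map_conj h1 (hl hx), ea _ (mψ _ h2), i1 _ h2, ea _ (mψ x hx), i1 x hx, et x hx]

theorem mem_kNorm {K : Subgroup (MulAut U)} {s : Ω} :
    s ∈ kNorm S U K ↔ s ∈ S ∧ ∃ α ∈ K, ∀ x ∈ U, afun α x = s * x * s⁻¹ := isKNorm_kNorm s

theorem ext_of_local (hS : IsPGroup p S) (hU : U ≤ S) (hc : centralizerIn S U ≤ U)
    (hB : SylowIn p (autInducedBy S U) B)
    (h : ∀ K, U ≤ K → K ≤ normalizerIn S U → ∀ a ∈ B, (orderOf a).Coprime p →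
      (∀ σ ∈ autInducedBy K U, a * σ * a⁻¹ ∈ autInducedBy K U) →
      ∃ b ∈ F.autGroup K, ∀ x ∈ U, afun b x = afun a x) {a : MulAut U} (ha : a ∈ B) :
    ∃ g, Mor F (Next S U (afun a)) g ∧ ∀ x ∈ U, g x = afun a x := by
  have := finite_of_le hU
  have := finite_mulAut U
  have hsat := sub_saturated (hTH := hB.le) hB
  have hR := hB.pgroup
  have hUK : ∀ Y, Inn U ≤ Y → U ≤ kNorm S U Y := fun Y hY u hu => by
    obtain ⟨σ, e⟩ := exists_cAut (Subgroup.le_normalizer hu : u ∈ Subgroup.normalizer (U : Set Ω))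
    exact mem_kNorm.2 ⟨hU hu, σ, hY (mem_Inn.2 ⟨u, hu, e⟩), e⟩
  have hKN : ∀ Y, kNorm S U Y ≤ normalizerIn S U := fun Y =>
    le_inf isKNorm_kNorm.le isKNorm_kNorm.le_normalizer
  have hmap : ∀ (Y Y' : Subgroup (MulAut U)) (a : MulAut U) N g, Mor F N g → U ≤ N →
      (∀ x ∈ U, g x = afun a x) → (∀ σ ∈ Y, a * σ * a⁻¹ ∈ Y') → ∀ s ∈ N, s ∈ kNorm S U Y →
      g s ∈ kNorm S U Y' := fun Y Y' a N g hg h1 e h2 s hs hs' => by
    obtain ⟨-, σ, hσ, eσ⟩ := mem_kNorm.1 hs'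
    refine mem_kNorm.2 ⟨hg.mem hs, _, h2 σ hσ, fun x hx => ?_⟩
    have h3 := afun_mem a⁻¹ hx
    rw [afun_mul _ _ hx, afun_mul _ _ h3, ← e _ (afun_mem _ h3), eσ _ h3, hg.map_conj hs (h1 h3),
      e _ h3, afun_afun_inv _ hx]
  have hN : ∀ Y, Inn U ≤ Y → Y ≤ autInducedBy S U →
      SylowIn p (normalizerIn (autInducedBy S U) Y) (normalizerIn B Y) →
      normalizerIn B Y ≤ resImg (le_sup_left : U ≤ U ⊔ kNorm S U Y) (F.autGroup _) := by
    intro Y h1 h2 h3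
    have e0 : U ⊔ kNorm S U Y = kNorm S U Y := sup_eq_right.2 (hUK Y h1)
    have e1 : autInducedBy (U ⊔ kNorm S U Y) U = Y := le_antisymm (fun σ hσ => by
      obtain ⟨s, hs, e⟩ := mem_autInducedBy.1 hσ
      obtain ⟨-, τ, hτ, e'⟩ := mem_kNorm.1 (e0 ▸ hs)
      rwa [aut_ext fun x hx => (e x hx).trans (e' x hx).symm]) fun σ hσ => by
      obtain ⟨s, hs, e⟩ := mem_autInducedBy.1 (h2 hσ)
      exact mem_autInducedBy.2 ⟨s, Subgroup.mem_sup_right (mem_kNorm.2 ⟨hs, σ, hσ, e⟩), e⟩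
    rw [← Transfer.IsSyl.res_sup (p := p) ⟨h3.le, h3.pgroup, h3.not_dvd_relIndex⟩]
    refine sup_le (Transfer.res_le_iff.2 fun n hn hc => (mem_resImg _).2 (h _ le_sup_left
      (e0.le.trans (hKN Y)) n hn.1 hc (by
        rw [e1]; exact fun σ hσ => conj_mem_of_mem_normalizerIn hn hσ))) fun r hr => ?_
    obtain ⟨t, ht, e⟩ := mem_autInducedBy.1 hr.1
    have hm := mor_conj F (e0.le.trans isKNorm_kNorm.le) ht
    have := finite_of_le hm.le
    obtain ⟨b, hb, eb⟩ := hm.exists_aut (hm.img_eq_self fun s hs => Subgroup.mem_sup_right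
      (hmap Y Y r _ _ hm le_sup_left (fun x hx => (e x hx).symm)
        (fun σ hσ => conj_mem_of_mem_normalizerIn hr hσ) s hs (e0 ▸ hs)))
    exact (mem_resImg _).2 ⟨b, hb, fun x hx => by rw [eb x (Subgroup.mem_sup_left hx), e x hx]⟩
  have hN' : ∀ Y, Inn U ≤ Y → (fusionSystemOfSubgroup B _ hB.le).IsFullyNormalized Y →
      ∀ n ∈ B, (∀ σ ∈ Y, n * σ * n⁻¹ ∈ Y) → ∃ g, Mor F (kNorm S U Y) g ∧ ∀ x ∈ U, g x = afun n x :=
    fun Y h1 h2 n hn hn' => by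
      obtain ⟨b, hb, e⟩ := (mem_resImg _).1 (hN Y h1 h2.1 ((fullyNormalized_sub_iff hB h2.1).1 h2)
        ⟨hn, mem_normalizer_of_finite hn'⟩)
      exact ⟨_, ((mem_autGroup (sup_le hU isKNorm_kNorm.le)).1 hb).mono le_sup_right, e⟩
  have key : ∀ Y, Y ≤ autInducedBy S U → Inn U ≤ Y → ∀ a ∈ B,
      (∀ σ ∈ Y, a * σ * a⁻¹ ∈ autInducedBy S U) →
      ∃ g, Mor F (kNorm S U Y) g ∧ ∀ x ∈ U, g x = afun a x := by
    refine downward_induction fun Y hY ih h1 a ha h2 => ?_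
    rcases hY.eq_or_lt with rfl | hlt
    · exact hN' _ h1 (fullyNormalized_top _) a ha h2
    have hma := mor_sub_conj hB.le hY ha h2
    obtain ⟨g₁, hg₁, hn⟩ := IsSaturated.exists_normalizer_mor' hR hsat hY
    obtain ⟨g₂, hg₂, e₂⟩ := IsSaturated.exists_normalizer_mor hR hsat hn
      (isConj_trans (isConj_symm hma.isConj) (hg₁.mono (le_normalizerIn hY)).isConj)
    obtain ⟨-, b1, b, hb, eb⟩ := mor_subgroup_iff.1 hg₁
    obtain ⟨-, c1, c, hc', ec⟩ := mor_subgroup_iff.1 hg₂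
    have hl := le_normalizerIn hY
    have hl' := le_normalizerIn hma.img_le
    have hI : ∀ (d : MulAut U) (Z : Subgroup (MulAut U)), Inn U ≤ Z →
        Inn U ≤ img (fun x => d * x * d⁻¹) Z := fun d Z hZ σ hσ =>
      mem_img_conj.2 (hZ (by simpa using Inn_conj (a := d⁻¹) hσ))
    have e₁ : img g₁ Y = img (fun x => b * x * b⁻¹) Y := img_congr fun x hx => eb x (hl hx)
    obtain ⟨k₁, hk₁, f₁⟩ := ih _ normalizerIn_le (card_lt_of_lt (lt_normalizerIn hR hlt))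
      (h1.trans hl) b hb fun σ hσ => eb σ hσ ▸ b1 σ hσ
    obtain ⟨k₂, hk₂, f₂⟩ := ih _ normalizerIn_le (hma.card_img ▸ card_lt_of_lt (lt_normalizerIn hR
      (eq_or_lt_of_card hma.img_le hlt hma.card_img))) ((hI a Y h1).trans hl') c hc'
      fun σ hσ => ec σ hσ ▸ c1 σ hσ
    have m1 : ∀ σ ∈ Y, b * σ * b⁻¹ ∈ img g₁ Y := fun σ hσ => eb σ (hl hσ) ▸ subset_img hσ
    obtain ⟨k₃, hk₃, f₃⟩ := hN' _ (e₁ ▸ hI b Y h1) hn (c * a * b⁻¹)
      (mul_mem (mul_mem hc' ha) (inv_mem hb)) fun σ hσ => by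
        have h3 : b⁻¹ * σ * b ∈ Y := mem_img_conj.1 (e₁ ▸ hσ)
        have h4 := subset_img (f := g₂) (subset_img (f := fun x => a * x * a⁻¹) h3)
        rw [e₂, ec _ (hl' (subset_img h3))] at h4
        simpa [mul_assoc] using h4
    have hmono : ∀ {Y Y' : Subgroup (MulAut U)}, Y ≤ Y' → kNorm S U Y ≤ kNorm S U Y' :=
      fun h s hs => by
        obtain ⟨h1, σ, hσ, e⟩ := mem_kNorm.1 hs
        exact mem_kNorm.2 ⟨h1, σ, h hσ, e⟩
    have hk₂' := hk₂.mono (hmono hl')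
    have hU₂ := hUK _ (hI a Y h1)
    obtain ⟨i, hi, i1, -⟩ := hk₂'.inv
    have hk := (hk₁.mono (hmono hl)).comp hk₃ fun s hs =>
      hmap Y _ b _ _ hk₁ (hUK _ (h1.trans hl)) f₁ m1 s (hmono hl hs) hs
    have ek : ∀ x ∈ U, k₃ (k₁ x) = afun (c * a) x := fun x hx => by
      rw [f₁ x hx, f₃ _ (afun_mem _ hx), ← afun_mul _ _ hx, inv_mul_cancel_right]
    refine ⟨_, hk.comp hi fun s hs => ?_, fun x hx => by
      rw [ek x hx, afun_mul _ _ hx, ← f₂ _ (afun_mem _ hx), i1 _ (hU₂ (afun_mem _ hx))]⟩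
    obtain ⟨-, σ, hσ, eσ⟩ := mem_kNorm.1 hs
    obtain ⟨t, ht, et⟩ := mem_autInducedBy.1 (h2 σ hσ)
    have ht' : t ∈ kNorm S U (img (fun x => a * x * a⁻¹) Y) :=
      mem_kNorm.2 ⟨ht, _, subset_img (f := fun x => a * x * a⁻¹) hσ, et⟩
    have h3 : (k₂ t)⁻¹ * k₃ (k₁ s) ∈ U := hc (mem_centralizerIn.2 ⟨mul_mem (inv_mem (hk₂'.mem ht'))
      (hk.mem hs), fun y hy => by
        have h4 := afun_mem (c * a)⁻¹ hy
        have h5 := hk.map_conj hs (hUK _ h1 h4)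
        have h6 := hk₂'.map_conj ht' (hU₂ (afun_mem a h4))
        rw [← eσ _ h4, ek _ (afun_mem _ h4), ek _ h4, afun_afun_inv _ hy] at h5
        rw [← et _ (afun_mem _ h4), f₂ _ (afun_mem _ (afun_mem _ h4)), f₂ _ (afun_mem _ h4),
          ← afun_mul _ _ h4, ← afun_mul _ _ h4, ← afun_mul _ _ h4, afun_afun_inv _ hy,
          inv_mul_cancel_right, ← mul_assoc, afun_mul _ _ h4, h5] at h6
        calc _ = (k₂ t)⁻¹ * (k₃ (k₁ s) * y * (k₃ (k₁ s))⁻¹) * k₂ t := by group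
          _ = y := by rw [h6]; group⟩)
    have h4 : img k₂ U = U := img_eq_of_afun f₂
    have h5 := mul_mem (subset_img (f := k₂) ht') (img_mono hU₂ (h4.symm.le h3))
    rwa [mul_inv_cancel_left] at h5
  obtain ⟨g, hg, e⟩ := key (autInducedBy S U ⊓ (autInducedBy S U).comap (MulAut.conj a).toMonoidHom)
    inf_le_left (le_inf (Inn_le_autInducedBy hU) fun σ hσ => Inn_le_autInducedBy hU (Inn_conj hσ))
    a ha fun σ hσ => hσ.2
  refine ⟨g, hg.mono fun s hs => ?_, e⟩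
  obtain ⟨σ, eσ⟩ := exists_cAut (Next_le_normalizerIn hs).2
  exact mem_kNorm.2 ⟨Next_le hs, σ, ⟨mem_autInducedBy.2 ⟨s, Next_le hs, eσ⟩,
    (mem_Next_afun_iff (Next_le hs) eσ).1 hs⟩, eσ⟩

end Cfsg.Agent.Fusion
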