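import Cfsg.Agent.Lib.Fusion.Comp5

/-! Automorphisms of `p'`-order "induced by" a normal subsystem. -/

set_option autoImplicit false
set_option linter.unusedSectionVars false

namespace Cfsg.Agent.Fusion

open Cfsg Cfsg.FusionSystem

theorem mem_of_sup_pgroup {Γ : Type*} [Group Γ] {p : ℕ} [Fact p.Prime] {A B : Subgroup Γ}
    (hB : IsPGroup p B) (hn : ∀ s ∈ B, ∀ x ∈ A, s * x * s⁻¹ ∈ A) {b : Γ} (hb : b ∈ A ⊔ B)
    (hc : (orderOf b).Coprime p) : b ∈ A := by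
  rw [sup_comm] at hb
  obtain ⟨s, hs, a, ha, rfl⟩ := (mem_sup_of_le_normalizer (le_normalizer_of_conj_mem hn)).1 hb
  obtain ⟨k, hk⟩ := hB ⟨s, hs⟩
  have hk' : s ^ p ^ k = 1 := congrArg Subtype.val hk
  have key : ∀ n : ℕ, (s * a) ^ n * (s ^ n)⁻¹ ∈ A := by
    intro n
    induction n with
    | zero => simp
    | succ n ih =>
      have := A.mul_mem ih (hn _ (B.pow_mem hs (n + 1)) a ha)
      convert this using 1
      rw [pow_succ, pow_succ]; group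
  have := key (p ^ k)
  rw [hk', inv_one, mul_one] at this
  exact mem_of_pow_mem hc this

variable {Ω : Type*} [Group Ω] {S : Subgroup Ω} {F : FusionSystem S} {p : ℕ}
  {P Q T U K M M' M₁ A B N W : Subgroup Ω} {E : FusionSystem T} {f g θ : Ω → Ω}

theorem coprime_res (h : M' ≤ M) {b : MulAut M} {b' : MulAut M'}
    (e : ∀ x ∈ M', afun b x = afun b' x) (hc : (orderOf b).Coprime p) : (orderOf b').Coprime p := by
  by_cases h0 : orderOf b = 0
  · rw [h0, Nat.coprime_zero_left] at hc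
    rw [hc]; exact Nat.coprime_one_right _
  refine Nat.Coprime.of_dvd_left (orderOf_dvd_of_pow_eq_one (aut_ext fun x hx => ?_)) hc
  rw [← afun_pow_of_eq h e _ x hx, pow_orderOf_eq_one, afun_one, afun_one]

def EGood (F : FusionSystem S) (E : FusionSystem T) (p : ℕ) (b : MulAut M) : Prop :=
  ∃ (θ : Ω → Ω) (W : Subgroup Ω) (b' : MulAut W), Mor F M θ ∧ (∀ x ∈ M, θ x ∈ W) ∧ W ≤ S ∧
    TC F T (W ⊓ T) ∧ b' ∈ YE F E W ∧ (orderOf b').Coprime p ∧
    ∀ x ∈ M, afun b' (θ x) = θ (afun b x)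

def GE (F : FusionSystem S) (E : FusionSystem T) (p : ℕ) (M : Subgroup Ω) : Subgroup (MulAut M) :=
  Subgroup.closure {b | EGood F E p b ∨ (Mor F M (afun b) ∧ TElt F T b)}

theorem EGood.of_YE (hM : M ≤ S) (h : TC F T (M ⊓ T)) {b : MulAut M} (hb : b ∈ YE F E M)
    (hc : (orderOf b).Coprime p) : EGood F E p b :=
  ⟨_, M, b, mor_id F hM, fun _ hx => hx, hM, h, hb, hc, fun _ _ => rfl⟩

theorem EGood.back {b : MulAut M} {b' : MulAut M'} (h : EGood F E p b') (hf : Mor F M f)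
    (hm : ∀ x ∈ M, f x ∈ M') (e : ∀ x ∈ M, afun b' (f x) = f (afun b x)) : EGood F E p b := by
  obtain ⟨θ, W, c, h1, h2, h3, h4, h5, h6, h7⟩ := h
  exact ⟨_, W, c, hf.comp h1 hm, fun x hx => h2 _ (hm x hx), h3, h4, h5, h6,
    fun x hx => by rw [h7 _ (hm x hx), e x hx]⟩

theorem EGood.le {b : MulAut M} (h : EGood F E p b) : M ≤ S := by
  obtain ⟨θ, W, c, h1, -⟩ := h
  exact h1.le

theorem EGood.res {b : MulAut M} {b' : MulAut M'} (h : EGood F E p b) (hM : M' ≤ M)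
    (e : ∀ x ∈ M', afun b x = afun b' x) : EGood F E p b' :=
  h.back (mor_id F (hM.trans h.le)) (fun _ hx => hM hx) e

theorem EGood.transport {b : MulAut M} {b' : MulAut M'} (h : EGood F E p b) (hf : Mor F M f)
    (e : img f M = M') (e' : ∀ x ∈ M, afun b' (f x) = f (afun b x)) : EGood F E p b' := by
  obtain ⟨i, hi, i1, i2, i3, -⟩ := hf.inv' e
  exact h.back hi i2 fun y hy => by
    conv_rhs => rw [← i3 y hy, e' _ (i2 y hy), i1 _ (afun_mem _ (i2 y hy))]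

theorem EGood.coprime {b : MulAut M} (h : EGood F E p b) : (orderOf b).Coprime p := by
  obtain ⟨θ, W, c, h1, h2, h3, h4, h5, h6, h7⟩ := h
  obtain ⟨τ, hτ, -⟩ := h1.exists_transport rfl
  rw [← τ.orderOf_eq]
  refine coprime_res (img_le_iff.2 h2) (fun y hy => ?_) h6
  obtain ⟨x, hx, rfl⟩ := h1.mem_img.1 hy
  rw [h7 x hx, hτ b x hx]

theorem EGood.mem_YE (hE : E.IsInvariantIn F) {b : MulAut M} (h : EGood F E p b) : b ∈ YE F E M := by
  obtain ⟨θ, W, c, h1, h2, h3, h4, h5, h6, h7⟩ := h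
  obtain ⟨τ, hτ, -⟩ := h1.exists_transport rfl
  obtain ⟨i, hi, i1, i2, i3, i4⟩ := h1.inv
  refine YE_transport hE hi i4 (YE_res h3 (img_le_iff.2 h2) h5 (b' := τ b) fun y hy => ?_)
    fun y hy => ?_
  · obtain ⟨x, hx, rfl⟩ := h1.mem_img.1 hy
    rw [h7 x hx, hτ b x hx]
  · obtain ⟨x, hx, rfl⟩ := h1.mem_img.1 hy
    rw [i1 x hx, hτ b x hx, i1 _ (afun_mem _ hx)]

theorem EGood.mem_GE {b : MulAut M} (h : EGood F E p b) : b ∈ GE F E p M :=
  Subgroup.subset_closure (.inl h)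

theorem TElt.mem_GE {b : MulAut M} (h : TElt F T b) (h' : Mor F M (afun b)) : b ∈ GE F E p M :=
  Subgroup.subset_closure (.inr ⟨h', h⟩)

theorem TElt.mem_YE (hE : E.IsInvariantIn F) {b : MulAut M} (h : TElt F T b) : b ∈ YE F E M := by
  obtain ⟨f, hf, t, ht, e⟩ := h
  obtain ⟨τ, hτ, -⟩ := hf.exists_transport rfl
  obtain ⟨i, hi, i1, i2, i3, i4⟩ := hf.inv
  refine YE_transport hE hi i4 (cAut_mem_YE hE.2.1 hf.img_le ht (σ := τ b) fun y hy => ?_)
    fun y hy => ?_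
  · obtain ⟨x, hx, rfl⟩ := hf.mem_img.1 hy
    rw [hτ b x hx, e x hx]
  · obtain ⟨x, hx, rfl⟩ := hf.mem_img.1 hy
    rw [i1 x hx, hτ b x hx, i1 _ (afun_mem _ hx)]

theorem GE_le (hE : E.IsInvariantIn F) : GE F E p M ≤ YE F E M :=
  (Subgroup.closure_le _).2 fun _ hb => hb.elim (EGood.mem_YE hE) fun h => h.2.mem_YE hE

theorem autT_le_GE (hT : T ≤ S) (hM : M ≤ S) : autInducedBy T M ≤ GE F E p M := fun _ hb =>
  (telt_of_mem hM hb).mem_GE ((mem_autGroup hM).1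
    (autInducedBy_le_autGroup F hM (autInducedBy_mono hT hb)))

theorem GE_transport (hf : Mor F M f) (e : img f M = M') {b : MulAut M} {b' : MulAut M'}
    (hb : b ∈ GE F E p M) (e' : ∀ x ∈ M, afun b' (f x) = f (afun b x)) : b' ∈ GE F E p M' := by
  obtain ⟨τ, hτ, hτ', -⟩ := hf.exists_transport e
  rw [aut_eq_transport hf e hτ e']
  have : GE F E p M ≤ (GE F E p M').comap τ.toMonoidHom :=
    (Subgroup.closure_le _).2 fun c hc => hc.elim (fun hc => (hc.transport hf e (hτ c)).mem_GE)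
      fun hc => (hc.2.transport hf e (hτ c)).mem_GE ((mem_autGroup (e ▸ hf.img_le)).1
        ((hτ' c).2 ((mem_autGroup hf.le).2 hc.1)))
  exact this hb

theorem GE_conj (hM : M ≤ S) : ∀ a ∈ F.autGroup M, ∀ b ∈ GE F E p M, a * b * a⁻¹ ∈ GE F E p M :=
  fun a ha b hb => GE_transport ((mem_autGroup hM).1 ha) (img_afun a) hb (afun_conj_eq a b)

def GrN (F : FusionSystem S) (E : FusionSystem T) (p : ℕ) (M : Subgroup Ω) : Prop :=
  ∀ M₁ : Subgroup Ω, M ≤ M₁ → M₁ ≤ normalizerIn S M → ∀ b₁ ∈ F.autGroup M₁,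
    (orderOf b₁).Coprime p → ∀ b : MulAut M, EGood F E p b → (∀ x ∈ M, afun b₁ x = afun b x) →
      EGood F E p b₁

def Gr (F : FusionSystem S) (E : FusionSystem T) (p : ℕ) (M : Subgroup Ω) : Prop :=
  ∀ M₁ : Subgroup Ω, M ≤ M₁ → M₁ ≤ S → ∀ b₁ ∈ F.autGroup M₁,
    (orderOf b₁).Coprime p → ∀ b : MulAut M, EGood F E p b → (∀ x ∈ M, afun b₁ x = afun b x) →
      EGood F E p b₁

def GG (F : FusionSystem S) (E : FusionSystem T) (p : ℕ) (M : Subgroup Ω) : Prop :=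
  ∀ b ∈ GE F E p M, (orderOf b).Coprime p → EGood F E p b

def GS (F : FusionSystem S) (E : FusionSystem T) (p : ℕ) (M : Subgroup Ω) : Prop :=
  GE F E p M ⊓ autInducedBy S M ≤ autInducedBy T M

theorem GrN.back (hθ : Mor F (normalizerIn S M) θ) (hM : M ≤ S) (h : GrN F E p (img θ M)) :
    GrN F E p M := by
  intro M₁ h1 h2 b₁ hb₁ hc b hb e
  have hθ₁ := hθ.mono h2
  obtain ⟨τ, hτ, hτ', -⟩ := hθ₁.exists_transport rfl
  obtain ⟨τ₀, hτ₀, -⟩ := (hθ₁.mono h1).exists_transport rfl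
  refine (h _ (img_mono h1) (hθ₁.img_le_normalizerIn h1 h2) (τ b₁) ((hτ' _).2 hb₁)
    (by rwa [τ.orderOf_eq]) (τ₀ b) (hb.transport (hθ₁.mono h1) rfl (hτ₀ b)) fun y hy => ?_).back hθ₁
    (fun x hx => subset_img hx) (hτ b₁)
  obtain ⟨x, hx, rfl⟩ := (hθ₁.mono h1).mem_img.1 hy
  rw [hτ _ x (h1 hx), hτ₀ _ x hx, e x hx]

theorem GG.back (hθ : Mor F M θ) (h : GG F E p (img θ M)) : GG F E p M := by
  intro b hb hc
  obtain ⟨τ, hτ, -⟩ := hθ.exists_transport rfl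
  exact (h (τ b) (GE_transport hθ rfl hb (hτ b)) (by rwa [τ.orderOf_eq])).back hθ
    (fun x hx => subset_img hx) (hτ b)

theorem GS.back (hT : F.StronglyClosed T) (hθ : Mor F (normalizerIn S M) θ) (hM : F.IsCentric M)
    (h : GS F E p (img θ M)) : GS F E p M := by
  rintro b ⟨hb, hb'⟩
  obtain ⟨s, hs, es⟩ := mem_autInducedBy.1 hb'
  have hl := le_normalizerIn hM.1
  have hθ' := hθ.mono hl
  have hsN : s ∈ normalizerIn S M := ⟨hs, mem_normalizer_of_afun es⟩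
  obtain ⟨τ, hτ, -⟩ := hθ'.exists_transport rfl
  have es' : ∀ y ∈ img θ M, afun (τ b) y = θ s * y * (θ s)⁻¹ := fun y hy => by
    obtain ⟨x, hx, rfl⟩ := hθ'.mem_img.1 hy
    rw [hτ b x hx, es x hx, hθ.map_conj hsN (hl hx)]
  obtain ⟨t, ht, et⟩ := mem_autInducedBy.1 (h ⟨GE_transport hθ' rfl hb (hτ b),
    mem_autInducedBy.2 ⟨_, hθ.mem hsN, es'⟩⟩)
  have h1 : t⁻¹ * θ s ∈ img θ M := (isCentric_iff.1 hM).2 θ hθ' (mem_centralizerIn.2
    ⟨mul_mem (inv_mem (hT.1 ht)) (hθ.mem hsN), fun y hy => by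
      calc _ = t⁻¹ * (θ s * y * (θ s)⁻¹) * t := by group
        _ = y := by rw [← es' y hy, et y hy]; group⟩)
  obtain ⟨m, hm, em⟩ := hθ'.mem_img.1 h1
  have h2 : θ (s * m⁻¹) = t := by
    rw [hθ.map_mul hsN (inv_mem (hl hm)), hθ.map_inv (hl hm), em]; group
  have h3 := mul_mem hsN (inv_mem (hl hm))
  refine mem_autInducedBy.2 ⟨s * m⁻¹, (StronglyClosed.mem_iff hT hθ h3).1 (h2 ▸ ht),
    fun x hx => hθ'.inj (afun_mem _ hx) (conj_mem_of_mem_normalizerIn h3 hx) ?_⟩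
  rw [← hτ b x hx, et _ (subset_img hx), hθ.map_conj h3 (hl hx), h2]

variable [hp : Fact p.Prime] [Finite S]

theorem stab_normalizerIn (hW : W ≤ S) (hM : M ≤ W) {b : MulAut W} (hb : b ∈ F.autGroup W)
    (e : img (afun b) M = M) :
    ∃ c ∈ F.autGroup (normalizerIn W M), ∀ x ∈ normalizerIn W M, afun c x = afun b x := by
  have hm := ((mem_autGroup hW).1 hb).mono (normalizerIn_le : normalizerIn W M ≤ W)
  have := finite_of_le hm.le
  exact hm.exists_aut (hm.img_eq_self fun x hx => ⟨afun_mem _ hx.1, by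
    have := hm.mem_normalizer_img (le_normalizerIn hM) hx hx.2
    rw [e] at this
    exact this.2⟩)

theorem GrN.gr (hS : IsPGroup p S) (h : GrN F E p M)
    (ih : ∀ M', M' ≤ S → M < M' → Gr F E p M') : Gr F E p M := by
  intro M₁ h1 h2 b₁ hb₁ hc b hb e
  rcases h1.eq_or_lt with rfl | hlt
  · rwa [aut_ext e]
  have := finite_of_le h2
  obtain ⟨c, c1, c2⟩ := stab_normalizerIn h2 h1 hb₁ (img_eq_of_afun e)
  have hl := le_normalizerIn h1
  exact ih _ (normalizerIn_le.trans h2) (lt_normalizerIn (pgroup_of_le hS h2) hlt) M₁ normalizerIn_le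
    h2 b₁ hb₁ hc c (h _ hl (normalizerIn_mono h2) c c1
      (coprime_res normalizerIn_le (fun x hx => (c2 x hx).symm) hc) b hb
      fun x hx => by rw [c2 x (hl hx), e x hx]) fun x hx => (c2 x hx).symm

/-- Two extensions of an automorphism of a centric subgroup differ by an inner automorphism. -/
theorem eq_mul_inn (hS : IsPGroup p S) (hF : F.IsSaturated p) (hM : F.IsCentric M) (hA : M ≤ A)
    (hAS : A ≤ S) {a d : MulAut A} (ha : a ∈ F.autGroup A) (hd : d ∈ F.autGroup A)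
    (e : ∀ x ∈ M, afun a x = afun d x) : ∃ σ ∈ autInducedBy A A, d = a * σ := by
  obtain ⟨z, hz, ez⟩ := eq_conj_of_eq_on_centric hS hF hM hA ((mem_autGroup hAS).1 ha)
    ((mem_autGroup hAS).1 hd) e
  obtain ⟨σ, eσ⟩ := exists_cAut (P := A) (Subgroup.le_normalizer (hA hz.1))
  exact ⟨σ, mem_autInducedBy.2 ⟨z, hA hz.1, eσ⟩, aut_ext fun x hx => by
    rw [ez x hx, afun_mul _ _ hx, eσ x hx]⟩

theorem good_of_eq (hS : IsPGroup p S) (hE : E.IsWeaklyNormalIn F p) (hM : F.IsCentric M)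
    (hA : M ≤ A) (hG : GG F E p A) {a d : MulAut A} (ha : EGood F E p a) (hd : d ∈ F.autGroup A)
    (hc : (orderOf d).Coprime p) (e : ∀ x ∈ M, afun a x = afun d x) : EGood F E p d := by
  obtain ⟨σ, hσ, rfl⟩ := eq_mul_inn hS hE.2.1 hM hA ha.le (ha.mem_YE hE.2.2).1.1 hd e
  exact hG _ (mem_of_sup_pgroup (autInducedBy_pgroup (pgroup_of_le hS ha.le) A)
    (fun s hs => GE_conj ha.le s (autInducedBy_le_autGroup F ha.le (autInducedBy_mono ha.le hs)))
    (Subgroup.mul_mem_sup ha.mem_GE hσ) hc) hc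

theorem ext2 (hS : IsPGroup p S) (hF : F.IsSaturated p) (hM : F.IsCentric M) {b : MulAut M}
    (hc : (orderOf b).Coprime p) (hA : M ≤ A) (hA' : A ≤ normalizerIn S M) (hB : M ≤ B)
    (hB' : B ≤ normalizerIn S M) {a : MulAut A} {c : MulAut B} (ha : a ∈ F.autGroup A)
    (hc' : c ∈ F.autGroup B) (ea : ∀ x ∈ M, afun a x = afun b x)
    (ec : ∀ x ∈ M, afun c x = afun b x) :
    ∃ d ∈ F.autGroup (A ⊔ B), (orderOf d).Coprime p ∧ (∀ x ∈ M, afun d x = afun b x) ∧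
      (∃ d₁ ∈ F.autGroup A, ∀ x ∈ A, afun d x = afun d₁ x) ∧
      ∃ d₂ ∈ F.autGroup B, ∀ x ∈ B, afun d x = afun d₂ x := by
  have hma := (mem_autGroup (hA'.trans normalizerIn_le)).1 ha
  have hmc := (mem_autGroup (hB'.trans normalizerIn_le)).1 hc'
  have hm := (hma.mono hA).congr ea
  obtain ⟨g, hg, eg⟩ := IsReceptive.ext (IsSaturated.receptive_of_centric hS hF hM) hm (img_afun b)
  have key : ∀ {A : Subgroup Ω} {a : MulAut A}, M ≤ A → A ≤ normalizerIn S M → Mor F A (afun a) →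
      (∀ x ∈ M, afun a x = afun b x) → ∀ {D : Subgroup Ω} {k : Ω → Ω}, Mor F D k → A ≤ D →
      (∀ x ∈ M, k x = afun b x) → ∀ x ∈ A, k x ∈ A := by
    intro A a hA hA' hma ea D k hk hD ek x hx
    obtain ⟨z, hz, ez⟩ := eq_conj_of_eq_on_centric hS hF hM hA hma (hk.mono hD)
      fun x hx => (ea x hx).trans (ek x hx).symm
    rw [ez x hx]
    exact afun_mem _ (mul_mem (mul_mem (hA hz.1) hx) (inv_mem (hA hz.1)))
  have hAN : A ≤ Next S M (afun b) := fun s hs => hma.mem_Next_of_ext hA ea hs (hA' hs).2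
  have hBN : B ≤ Next S M (afun b) := fun s hs => hmc.mem_Next_of_ext hB ec hs (hB' hs).2
  have hg' := hg.mono (sup_le hAN hBN)
  have := finite_of_le hg'.le
  obtain ⟨d, d1, -, d2, d3⟩ := exists_coprime_ext (hA.trans le_sup_left) hg'
    (hg'.img_eq_self (hg'.mem_of_sup
      (fun x hx => Subgroup.mem_sup_left (key hA hA' hma ea hg hAN eg x hx))
      fun x hx => Subgroup.mem_sup_right (key hB hB' hmc ec hg hBN eg x hx))) eg hc
  have hd := (mem_autGroup hg'.le).1 d1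
  have := finite_of_le hma.le
  have := finite_of_le hmc.le
  obtain ⟨d₁, k1, k2⟩ := (hd.mono le_sup_left).exists_aut ((hd.mono le_sup_left).img_eq_self
    (key hA hA' hma ea hd le_sup_left d3))
  obtain ⟨d₂, k3, k4⟩ := (hd.mono le_sup_right).exists_aut ((hd.mono le_sup_right).img_eq_self
    (key hB hB' hmc ec hd le_sup_right d3))
  exact ⟨d, d1, d2, d3, ⟨d₁, k1, fun x hx => (k2 x hx).symm⟩, d₂, k3, fun x hx => (k4 x hx).symm⟩

theorem good_step (hS : IsPGroup p S) (hE : E.IsWeaklyNormalIn F p) (hM : F.IsCentric M)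
    (ih : ∀ M', M' ≤ S → M < M' → Gr F E p M' ∧ GG F E p M' ∧ GS F E p M') (h1 : M < A)
    (h2 : A ≤ normalizerIn S M) (h3 : normalizerIn S M ≤ Subgroup.normalizer (A : Set Ω))
    (h : ∀ b : MulAut M, EGood F E p b → ∃ a : MulAut A, EGood F E p a ∧
      ∀ x ∈ M, afun a x = afun b x)
    (h' : ∀ b : MulAut M, TElt F T b → ∃ a ∈ GE F E p A, ∀ x ∈ M, afun a x = afun b x) :
    GrN F E p M ∧ GG F E p M ∧ GS F E p M := by
  have hA := h2.trans normalizerIn_le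
  have := finite_of_le hA
  obtain ⟨i1, i2, i3⟩ := ih A hA h1
  have hle : GE F E p M ≤ resImg h1.le (GE F E p A) := (Subgroup.closure_le _).2 fun b hb => by
    rcases hb with hb | hb
    · obtain ⟨a, ha, e⟩ := h b hb
      exact (mem_resImg _).2 ⟨a, ha.mem_GE, e⟩
    · exact (mem_resImg _).2 (h' b hb.2)
  refine ⟨fun M₁ k1 k2 b₁ hb₁ hc b hb e => ?_, fun b hb hc => ?_, fun b ⟨hb, hb'⟩ => ?_⟩
  · rcases k1.eq_or_lt with rfl | hlt
    · rwa [aut_ext e]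
    obtain ⟨a, ha, ea⟩ := h b hb
    obtain ⟨d, d1, d2, d3, ⟨d₁, k3, k4⟩, d₂, k5, k6⟩ := ext2 hS hE.2.1 hM hb.coprime h1.le h2 k1 k2
      (ha.mem_YE hE.2.2).1.1 hb₁ ea e
    have g1 := good_of_eq hS hE hM h1.le i2 ha k3 (coprime_res le_sup_left k4 d2)
      fun x hx => by rw [ea x hx, ← k4 x (h1.le hx), d3 x hx]
    have g2 := (i1 _ le_sup_left (sup_le hA (k2.trans normalizerIn_le)) d d1 d2 d₁ g1 k4).res
      le_sup_right k6
    exact good_of_eq hS hE hM k1 (ih M₁ (k2.trans normalizerIn_le) hlt).2.1 g2 hb₁ hc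
      fun x hx => by rw [e x hx, ← k6 x (k1 hx), d3 x hx]
  · obtain ⟨a, a1, a2, a3⟩ := exists_coprime_lift h1.le (hle hb) hc
    exact (i2 a a1 a2).res h1.le a3
  · obtain ⟨a, a1, a2⟩ := (mem_resImg _).1 (hle hb)
    obtain ⟨s, hs, es⟩ := mem_autInducedBy.1 hb'
    obtain ⟨σ, eσ⟩ := exists_cAut (h3 ⟨hs, mem_normalizer_of_afun es⟩)
    have hσ := mem_autInducedBy.2 ⟨s, hs, eσ⟩
    obtain ⟨ρ, hρ, e⟩ := eq_mul_inn hS hE.2.1 hM h1.le hA (autInducedBy_le_autGroup F hA hσ)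
      (GE_le hE.2.2 a1).1.1 fun x hx => by rw [eσ x (h1.le hx), a2 x hx, es x hx]
    obtain ⟨t, ht, et⟩ := mem_autInducedBy.1 (i3 ⟨a1, e ▸ mul_mem hσ (autInducedBy_mono hA hρ)⟩)
    exact mem_autInducedBy.2 ⟨t, ht, fun x hx => by rw [← a2 x hx, et x (h1.le hx)]⟩

theorem telt_lift (hS : IsPGroup p S) (hE : E.IsWeaklyNormalIn F p) (hM : F.IsCentric M)
    (hA : F.IsFullyAutomized p M) (h1 : M ≤ A) (h2 : A ≤ S)
    (h3 : normalizerIn S M ≤ Subgroup.normalizer (A : Set Ω))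
    (h : ∀ α ∈ modKer F M T, ∃ β ∈ F.autGroup A, ∀ x ∈ M, afun β x = afun α x) :
    ∀ b : MulAut M, TElt F T b → ∃ a ∈ GE F E p A, ∀ x ∈ M, afun a x = afun b x := by
  intro b hb
  have hT := hE.2.2.2.1
  have := finite_of_le hM.1
  have := finite_mulAut M
  obtain ⟨k, hk⟩ := hb.pelt hS hT.1
  obtain ⟨c, hc, hc'⟩ := (modKer_sylow hT hA).conj ((Subgroup.zpowers_le).2 (hb.mem_YE hE.2.2).1)
    (pgroup_zpowers hk)
  obtain ⟨t, ht, et⟩ := mem_autInducedBy.1 ((hb.transport ((mem_autGroup hM.1).1 hc.1) (img_afun c)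
    (afun_conj_eq c b)).mem hT (IsSaturated.receptive_of_centric hS hE.2.1 hM)
      (hc' b (Subgroup.mem_zpowers b)).1)
  obtain ⟨β, hβ, eβ⟩ := h _ (inv_mem hc)
  obtain ⟨σ, eσ⟩ := exists_cAut (h3 ⟨hT.1 ht, mem_normalizer_of_afun et⟩)
  refine ⟨β * σ * β⁻¹, GE_conj h2 β hβ σ (autT_le_GE hT.1 h2 (mem_autInducedBy.2 ⟨t, ht, eσ⟩)),
    fun x hx => ?_⟩
  have m := afun_mem c hx
  conv_lhs => rw [← afun_inv_afun c hx, ← eβ _ m, afun_conj_eq β σ _ (h1 m), eσ _ (h1 m), ← et _ m,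
    afun_conj_eq c b x hx, eβ _ (afun_mem _ (afun_mem _ hx)), afun_inv_afun _ (afun_mem _ hx)]

end Cfsg.Agent.Fusion
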