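import Cfsg.Agent.Lib.Fusion.Good

/-! The main induction on good automorphisms. -/

set_option autoImplicit false
set_option linter.unusedSectionVars false

namespace Cfsg.Agent.Fusion

open Cfsg Cfsg.FusionSystem
open scoped commutatorElement

variable {Ω : Type*} [Group Ω] {S : Subgroup Ω} {F : FusionSystem S} {p : ℕ}
  {P Q T U K M M' M₁ A B N W : Subgroup Ω} {E : FusionSystem T} {f g θ : Ω → Ω}
  [hp : Fact p.Prime] [Finite S]

theorem norm_le_norm_inf (hT : F.StronglyClosed T) : normalizerIn S M ≤ normalizerIn S (M ⊓ T) :=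
  le_inf normalizerIn_le (le_normalizer_of_conj_mem fun _ hs _ hx =>
    ⟨conj_mem_of_mem_normalizerIn hs hx.1, StronglyClosed.conj_mem hT hs.1 hx.2⟩)

theorem YE_foc' (hS : IsPGroup p S) (hE : E.IsWeaklyNormalIn F p) (hK : F.IsFullyCentralized K)
    (h : K ≤ T) (hM : Vc S K ≤ M) (hMS : M ≤ S) {s : Ω} (hs : s ∈ S) {r l : MulAut M}
    (hr : r ∈ YE F E M) (hl : l ∈ YE F E M) (es : ∀ x ∈ M, afun r x = s * x * s⁻¹) (hg : Mor F N g)
    (h1 : M ≤ N) (h2 : s ∈ N) (e : ∀ x ∈ M, g x = afun l x) : g s * s⁻¹ ∈ T := by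
  have hT := hE.2.2.2.1
  obtain ⟨c, hc, h3⟩ := mem_T_mul hS hE hK (le_inf (le_sup_left.trans hM) h) inf_le_right
    (hM.trans ((le_normalizerIn hMS).trans (norm_le_norm_inf hT)))
    (norm_le_norm_inf hT ⟨hs, mem_normalizer_of_afun es⟩) (hr.2.congr fun x hx => es x hx.1)
  have hcV : c ∈ M := hM (Subgroup.mem_sup_right hc)
  have h4 := mul_mem h2 (inv_mem (h1 hcV))
  have h5 := StronglyClosed.mem hT hg h4 h3
  rw [hg.map_mul h2 (inv_mem (h1 hcV)), hg.map_inv (h1 hcV), e c hcV] at h5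
  have h6 := mul_mem (mul_mem h5 (StronglyClosed.conj_mem hT hc.1 (hl.1.2 c hcV))) (inv_mem h3)
  rwa [show g s * (afun l c)⁻¹ * (c * (c⁻¹ * afun l c) * c⁻¹) * (s * c⁻¹)⁻¹ = g s * s⁻¹ by group]
    at h6

theorem gs_terminal_fn (hS : IsPGroup p S) (hE : E.IsWeaklyNormalIn F p)
    (hK : F.IsFullyCentralized K) (h : K ≤ T) (hM : Vc S K ≤ M) (hn : F.IsFullyNormalized M) :
    GS F E p M := by
  have := finite_of_le hn.1
  have := finite_mulAut M
  have hR := (IsFullyAutomized.sylowIn (IsSaturated.fullyAutomized hS hE.2.1 hn)).inf_normal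
    (N := YE F E M) (fun _ h => h.1.1) (YE_conj hE.2.2 hn.1)
  have h1 := Transfer.IsSyl.inf_commutator_sup_res_le (p := p) (Q₁ := autInducedBy T M)
    ⟨hR.le, hR.pgroup, hR.not_dvd_relIndex⟩ fun r hr l hl hl' => by
      obtain ⟨s, hs, es⟩ := mem_autInducedBy.1 hr.1
      have hm := (mem_autGroup hn.1).1 hl.1.1
      obtain ⟨g, hg, eg⟩ := IsReceptive.ext (IsSaturated.receptive' hS hE.2.1 hn) hm (img_afun _)
      have h2 := (mem_Next_afun_iff hs es).2 hl'.1
      refine mem_autInducedBy.2 ⟨g s * s⁻¹, YE_foc' hS hE hK h hM hn.1 hs hr.2 hl es hg hm.le_Next h2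
        eg, fun x hx => ?_⟩
      have h3 := afun_mem r⁻¹ hx
      have h4 := afun_mem l⁻¹ h3
      rw [afun_mul _ _ hx, afun_mul _ _ h3, afun_mul _ _ h4, ← eg _ (afun_mem _ h4), es _ h4,
        hg.map_conj h2 (hm.le_Next h4), eg _ h4, afun_afun_inv _ h3, afun_inv_conj es hx]
      group
  have hT := hE.2.2.2.1
  have h2 : GE F E p M ≤ (⁅YE F E M, YE F E M⁆ ⊔ Transfer.res p (YE F E M)) ⊔ autInducedBy T M := by
    refine (Subgroup.closure_le _).2 ?_
    rintro a (hc | ⟨-, ht⟩)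
    · exact Subgroup.mem_sup_left (Subgroup.mem_sup_right
        (Transfer.mem_res (hc.mem_YE hE.2.2) hc.coprime))
    have ha := ht.mem_YE hE.2.2
    obtain ⟨k, hk⟩ := ht.pelt hS hT.1
    obtain ⟨c, hc, hc'⟩ := hR.conj ((Subgroup.zpowers_le).2 ha) (pgroup_zpowers hk)
    have h3 := hc' a (Subgroup.mem_zpowers a)
    have h4 := (ht.transport ((mem_autGroup hn.1).1 hc.1.1) (img_afun c)
      (afun_conj_eq c a)).mem hT (IsSaturated.receptive' hS hE.2.1 hn) h3.1
    have h5 : a = ⁅a, c⁆ * (c * a * c⁻¹) := by rw [commutatorElement_def]; group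
    rw [SetLike.mem_coe, h5]
    exact mul_mem (Subgroup.mem_sup_left (Subgroup.mem_sup_left
      (Subgroup.commutator_mem_commutator ha hc))) (Subgroup.mem_sup_right h4)
  rintro a ⟨ha, ha'⟩
  have hin : autInducedBy T M ≤ YE F E M := (autT_le_GE (p := p) hT.1 hn.1).trans (GE_le hE.2.2)
  have hN : autInducedBy T M ≤ Subgroup.normalizer
      ((⁅YE F E M, YE F E M⁆ ⊔ Transfer.res p (YE F E M) : Subgroup _) : Set (MulAut M)) :=
    hin.trans (le_normalizer_of_conj_mem fun s hs x hx => by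
      have h3 : ⁅YE F E M, YE F E M⁆ ⊔ Transfer.res p (YE F E M) ≤ YE F E M :=
        sup_le (Subgroup.commutator_le.2 fun a ha b hb => by
          rw [commutatorElement_def]
          exact mul_mem (mul_mem (mul_mem ha hb) (inv_mem ha)) (inv_mem hb)) (Transfer.res_le _)
      have h4 : s * x * s⁻¹ = ⁅s, x⁆ * x := by rw [commutatorElement_def]; group
      rw [h4]
      exact mul_mem (Subgroup.mem_sup_left (Subgroup.commutator_mem_commutator hs (h3 hx))) hx)
  have h3 := h2 ha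
  rw [sup_comm] at h3
  obtain ⟨r, hr, n, hn', rfl⟩ := (mem_sup_of_le_normalizer hN).1 h3
  have h4 : n ∈ autInducedBy S M ⊓ YE F E M := by
    have := Subgroup.mul_mem (autInducedBy S M ⊓ YE F E M) (Subgroup.inv_mem _
      ⟨autInducedBy_mono hT.1 hr, hin hr⟩) ⟨ha', GE_le hE.2.2 ha⟩
    rwa [inv_mul_cancel_left] at this
  exact mul_mem hr (h1 ⟨h4, hn'⟩)

theorem good_terminal (hS : IsPGroup p S) (hE : E.IsWeaklyNormalIn F p) (hc : F.IsCentric M)
    (hK : F.IsFullyCentralized K) (h : K ≤ T) (hM : Vc S K ≤ M) :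
    GrN F E p M ∧ GG F E p M ∧ GS F E p M := by
  have hT := hE.2.2.2.1
  have htc := tc_inf' hS hE.2.1 hT hK h hM
  refine ⟨fun M₁ h1 h2 b₁ hb₁ hc b hb e => EGood.of_YE (h2.trans normalizerIn_le)
    (htc.mono (inf_le_inf_right _ h1) inf_le_right)
    (YE_grow hS hE hK h hM h1 h2 hb₁ hc (hb.mem_YE hE.2.2) e) hc,
    fun b hb hc' => EGood.of_YE hc.1 htc (GE_le hE.2.2 hb) hc', ?_⟩
  obtain ⟨θ, hθ, hn⟩ := IsSaturated.exists_normalizer_mor' hS hE.2.1 hc.1
  have hθM := hθ.mono (le_normalizerIn hc.1)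
  exact GS.back hT hθ hc (gs_terminal_fn hS hE (fullyCentralized_img hθM hM hK)
    (StronglyClosed.img_le hT (hθM.mono (le_sup_left.trans hM)) h)
    (by rw [← hθM.img_Vc hM hK]; exact img_mono hM) hn)

theorem norm_le_norm_hat (hS : IsPGroup p S) (hM : M ≤ S) :
    normalizerIn S M ≤ Subgroup.normalizer (hat F p M : Set Ω) :=
  le_normalizer_of_conj_mem fun s hs x hx => by
    have h1 := (mor_conj F le_rfl hs.1).hat_mem (p := p) hM (hat_le hx).1 hx
    have := finite_of_le hM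
    rwa [((mor_conj F le_rfl hs.1).mono hM).img_eq_self
      fun y hy => conj_mem_of_mem_normalizerIn hs hy] at h1

theorem ext_hat (hS : IsPGroup p S) (hF : F.IsSaturated p) (hn : F.IsFullyNormalized M)
    {a : MulAut M} (ha : a ∈ F.autGroup M) :
    ∃ c ∈ F.autGroup (hat F p M), ∀ x ∈ M, afun c x = afun a x := by
  have hm := (mem_autGroup hn.1).1 ha
  obtain ⟨g, hg, eg⟩ := IsReceptive.ext (IsSaturated.receptive' hS hF hn) hm (img_afun _)
  have hg' := hg.mono (hat_le_Next hS hF hn ha)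
  obtain ⟨c, hc, ec⟩ := hg'.exists_aut (hg'.img_hat hS hn.1 (img_eq_of_afun eg))
  exact ⟨c, hc, fun x hx => by rw [ec x (le_hat hS hn.1 hx), eg x hx]⟩

theorem tc_inf_img (hT : F.StronglyClosed T) (hθ : Mor F M θ) :
    TC F T (img θ M ⊓ T) ↔ TC F T (M ⊓ T) := by
  rw [← StronglyClosed.img_inf hT hθ]
  exact ⟨fun h => h.conj hT (isConj_symm (hθ.mono inf_le_left).isConj),
    fun h => h.image hT (hθ.mono inf_le_left)⟩

theorem good_caseA (hS : IsPGroup p S) (hE : E.IsWeaklyNormalIn F p) (hM : F.IsCentric M)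
    (hn : F.IsFullyNormalized M) (h : ¬ TC F T (M ⊓ T))
    (ih : ∀ M', M' ≤ S → M < M' → Gr F E p M' ∧ GG F E p M' ∧ GS F E p M') {b : MulAut M}
    (hb : EGood F E p b) :
    ∃ a : MulAut (hat F p M), EGood F E p a ∧ ∀ x ∈ M, afun a x = afun b x := by
  have hF := hE.2.1
  have hT := hE.2.2.2.1
  obtain ⟨θ, W, b', h1, h2, h3, h4, h5, h6, h7⟩ := id hb
  have := finite_of_le h3
  have h8 : img θ M ≤ W := img_le_iff.2 h2
  have h9 : img θ M < W := lt_of_le_of_ne h8 fun e => h ((tc_inf_img hT h1).1 (e ▸ h4))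
  obtain ⟨φ, hφ, eφ⟩ := IsSaturated.exists_normalizer_mor hS hF hn (isConj_symm h1.isConj)
  have e1 : img (afun b') (img θ M) = img θ M := by
    have := finite_of_le h8
    refine (((mem_autGroup h3).1 h5.1.1).mono h8).img_eq_self fun y hy => ?_
    obtain ⟨x, hx, rfl⟩ := h1.mem_img.1 hy
    rw [h7 x hx]; exact subset_img (afun_mem _ hx)
  obtain ⟨c, c1, c2⟩ := stab_normalizerIn h3 h8 h5.1.1 e1
  have g1 : EGood F E p c := (EGood.of_YE h3 h4 h5 h6).res normalizerIn_le fun x hx => (c2 x hx).symm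
  have hφ' := hφ.mono (normalizerIn_mono h3)
  have hl := le_normalizerIn h8
  obtain ⟨τ, hτ, -⟩ := hφ'.exists_transport rfl
  have g2 := g1.transport hφ' rfl (hτ c)
  have l1 : M < img φ (normalizerIn W (img θ M)) :=
    eφ.ge.trans_lt (hφ'.img_lt (lt_normalizerIn (pgroup_of_le hS h3) h9))
  have l2 : img φ (normalizerIn W (img θ M)) ≤ normalizerIn S M := by
    have := hφ'.img_le_normalizerIn hl (normalizerIn_mono h3)
    rwa [eφ] at this
  have hα := h1.comp hφ' fun x hx => hl (subset_img hx)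
  obtain ⟨α, α1, α2⟩ := hα.exists_aut (by rw [h1.img_comp', eφ])
  have e2 : ∀ x ∈ M, afun (τ c) x = afun (α * b * α⁻¹) x := fun x hx => by
    have m := afun_mem α⁻¹ hx
    rw [← afun_afun_inv α hx, afun_conj_eq α b _ m, α2 _ m, hτ c _ (hl (subset_img m)),
      c2 _ (hl (subset_img m)), h7 _ m, α2 _ (afun_mem _ m)]
  have hb' := (hb.mem_YE hE.2.2).1.1
  obtain ⟨k, k1, k2⟩ := ext_hat hS hF hn (mul_mem (mul_mem α1 hb') (inv_mem α1))
  obtain ⟨d, d1, d2, d3, ⟨d₁, k3, k4⟩, d₂, k5, k6⟩ := ext2 hS hF hM (b := α * b * α⁻¹)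
    (coprime_res l1.le e2 g2.coprime) l1.le l2 (le_hat hS hn.1) hat_le (g2.mem_YE hE.2.2).1.1 k1 e2 k2
  obtain ⟨i1, i2, -⟩ := ih _ (l2.trans normalizerIn_le) l1
  have g3 := good_of_eq hS hE hM l1.le i2 g2 k3 (coprime_res le_sup_left k4 d2)
    fun x hx => by rw [e2 x hx, ← k4 x (l1.le hx), d3 x hx]
  have g4 := (i1 _ le_sup_left (sup_le (l2.trans normalizerIn_le) (hat_le.trans normalizerIn_le))
    d d1 d2 d₁ g3 k4).res le_sup_right k6
  obtain ⟨j, j1, j2⟩ := ext_hat hS hF hn (inv_mem α1)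
  refine ⟨j * d₂ * j⁻¹, g4.transport ((mem_autGroup (hat_le.trans normalizerIn_le)).1 j1)
    (img_afun j) (afun_conj_eq j d₂), fun x hx => ?_⟩
  have m := afun_mem α hx
  conv_lhs => rw [← afun_inv_afun α hx, ← j2 _ m, afun_conj_eq j d₂ _ (le_hat hS hn.1 m),
    ← k6 _ (le_hat hS hn.1 m), d3 _ m, afun_conj_eq α b x hx, j2 _ (afun_mem _ (afun_mem _ hx)),
    afun_inv_afun _ (afun_mem _ hx)]

theorem good_caseB (hS : IsPGroup p S) (hE : E.IsNormalIn F p) (hM : F.IsCentric M)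
    (hU : TC F T (M ⊓ T)) (hn : F.IsFullyNormalized (M ⊓ T))
    (hn' : (normSys F hn.1).IsFullyNormalized M) {b : MulAut M} (hb : EGood F E p b) :
    ∃ a : MulAut (M ⊔ normalizerIn (centralizerIn S (M ⊓ T)) M : Subgroup Ω), EGood F E p a ∧
      ∀ x ∈ M, afun a x = afun b x := by
  have hF := hE.1.2.1
  have hT := IsNormalIn.sc hE
  have hb' := hb.mem_YE hE.1.2.2
  have hbc := hb.coprime
  generalize hUe : M ⊓ T = U at hU hn hn' ⊢
  have hUM : U ≤ M := hUe ▸ inf_le_left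
  have hmem : ∀ x ∈ M, x ∈ T → x ∈ U := fun x hx hx' => hUe ▸ ⟨hx, hx'⟩
  have hMN : M ≤ normalizerIn S U := hn'.1
  have := finite_of_le hn.1
  have := finite_of_le hM.1
  have hc' := IsSaturated.fullyCentralized hS hF hn
  have hV := hU.fn_Vc hT hn
  have := finite_of_le hV.1
  have hbU : Mor E U (afun b) := hUe ▸ hb'.2
  have hbm := (mem_autGroup hM.1).1 hb'.1.1
  obtain ⟨a, ha, ea⟩ := hbU.exists_aut (hbU.img_eq_self fun x hx =>
    hmem _ (afun_mem _ (hUM hx)) (hbU.mem hx))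
  obtain ⟨β, b1, b2, b3⟩ := XA_coprime hn.1 (core_ext hS hE hU hc' ha)
    (coprime_res hUM (fun x hx => (ea x hx).symm) hbc)
  have b4 : β ∈ YE F E (Vc S U) := ⟨b1, (hbU.mono (R := Vc S U ⊓ T)
    fun x hx => hU.mem_of_Vc hT.1 hx.1 hx.2).congr
    fun x hx => by rw [b3 x (hU.mem_of_Vc hT.1 hx.1 hx.2), ea x (hU.mem_of_Vc hT.1 hx.1 hx.2)]⟩
  have hm := (mem_autGroup hV.1).1 b1.1
  obtain ⟨g, hg, eg⟩ := IsReceptive.ext (IsSaturated.receptive' hS hF hV) hm (img_afun _)
  have key : ∀ s ∈ M, ∀ x ∈ U, afun a (s * x * s⁻¹) = afun b s * afun a x * (afun b s)⁻¹ :=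
    fun s hs x hx => by
      rw [ea _ (conj_mem_of_mem_normalizerIn (hMN hs) hx), ea x hx, hbm.map_conj hs (hUM hx)]
  have hN : M ≤ Next S _ (afun β) := fun s hs => by
    obtain ⟨σ, eσ⟩ := exists_cAut (norm_le_norm_Vc (hMN hs))
    have hσ := mem_autInducedBy.2 ⟨s, (hMN hs).1, eσ⟩
    have ht := mul_mem (hMN (afun_mem b hs)) (inv_mem (hMN hs))
    obtain ⟨σ', eσ'⟩ := exists_cAut ht.2
    have h1 := mul_mem b1 (modKer_conj hT hV.1 σ (autInducedBy_le_autGroup F hV.1 hσ) _ (inv_mem b1))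
    have h2 := mem_autS_of_ker hS hF hT hU hn h1 (mem_autInducedBy.2 ⟨_, ht.1, eσ'⟩) fun x hx => by
      have m1 := conj_mem_of_mem_normalizerIn (inv_mem (hMN hs)) hx
      rw [inv_inv] at m1
      have m2 := afun_mem a⁻¹ m1
      have e1 : afun β⁻¹ (s⁻¹ * x * s) = afun a⁻¹ (s⁻¹ * x * s) := by
        conv_lhs => rw [← afun_afun_inv a m1, ← b3 _ m2, afun_inv_afun _ (Subgroup.mem_sup_left m2)]
      rw [afun_mul _ _ (Subgroup.mem_sup_left hx), afun_mul _ _ (Subgroup.mem_sup_left hx),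
        afun_inv_conj eσ (Subgroup.mem_sup_left hx), afun_mul _ _ (Subgroup.mem_sup_left m1), e1,
        eσ _ (Subgroup.mem_sup_left m2), b3 _ (conj_mem_of_mem_normalizerIn (hMN hs) m2),
        key s hs _ m2, afun_afun_inv _ m1, eσ' x hx]
      group
    refine (mem_Next_afun_iff (hMN hs).1 eσ).2 ?_
    have := mul_mem h2 hσ
    rwa [show β * (σ * β⁻¹ * σ⁻¹) * σ = β * σ * β⁻¹ by group] at this
  have hcent : ∀ {D : Subgroup Ω} {k : Ω → Ω}, Mor F D k → M ≤ D → (∀ x ∈ U, k x = afun a x) →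
      ∀ s ∈ M, (afun b s)⁻¹ * k s ∈ centralizerIn S U := by
    intro D k hk hD ek s hs
    refine mem_centralizerIn.2 ⟨mul_mem (inv_mem (hM.1 (afun_mem _ hs))) (hk.mem (hD hs)),
      fun y hy => ?_⟩
    have m := afun_mem a⁻¹ hy
    have h1 := hk.map_conj (hD hs) (hD (hUM m))
    rw [ek _ (conj_mem_of_mem_normalizerIn (hMN hs) m), key s hs _ m, ek _ m,
      afun_afun_inv _ hy] at h1
    calc _ = (afun b s)⁻¹ * (k s * y * (k s)⁻¹) * afun b s := by group
      _ = y := by rw [← h1]; group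
  have hW : Vc S U ⊔ M ≤ _ := sup_le hm.le_Next hN
  have hg' := hg.mono hW
  have := finite_of_le hg'.le
  obtain ⟨γ, c1, -, c2, c3⟩ := exists_coprime_ext le_sup_left hg'
    (hg'.img_eq_self (hg'.mem_of_sup (fun x hx => Subgroup.mem_sup_left (eg x hx ▸ afun_mem _ hx))
      fun x hx => by
        have := mul_mem (Subgroup.mem_sup_right (afun_mem b hx) : _ ∈ Vc S U ⊔ M)
          (Subgroup.mem_sup_left (Subgroup.mem_sup_right (hcent hg hN
            (fun y hy => by rw [eg y (Subgroup.mem_sup_left hy), b3 y hy]) x hx)))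
        rwa [mul_inv_cancel_left] at this)) eg b2
  have c4 := YE_grow hS hE.1 hc' hU.1 le_rfl le_sup_left
    (sup_le (le_normalizerIn hV.1) (le_inf hM.1 (hMN.trans norm_le_norm_Vc))) c1 c2 b4 c3
  have hγ := (mem_autGroup hg'.le).1 c1
  have c5 : ∀ x ∈ U, afun γ x = afun a x := fun y hy => by
    rw [c3 y (Subgroup.mem_sup_left hy), b3 y hy]
  have c6 : ∀ s ∈ M, (afun b s)⁻¹ * afun γ s ∈ U := fun s hs => by
    refine hU.cent hT.1 ⟨?_, (hcent hγ le_sup_right c5 s hs).2⟩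
    have := mul_mem (inv_mem (hb'.1.2 s hs)) (c4.1.2 s (Subgroup.mem_sup_right hs))
    rwa [show (s⁻¹ * afun b s)⁻¹ * (s⁻¹ * afun γ s) = (afun b s)⁻¹ * afun γ s by group] at this
  have c7 : img (afun γ) M = M := (hγ.mono le_sup_right).img_eq_self fun s hs => by
    have := mul_mem (afun_mem b hs) (hUM (c6 s hs))
    rwa [mul_inv_cancel_left] at this
  obtain ⟨γ₀, c8, c9⟩ := (hγ.mono le_sup_right).exists_aut c7
  have hS' := pgroup_of_le hS (normalizerIn_le : normalizerIn S U ≤ S)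
  have := finite_of_le (normalizerIn_le : normalizerIn S U ≤ S)
  have hNs := normSys_spec F hn.1
  have hκ : ∀ x ∈ U, afun (γ₀ * b⁻¹) x = x := fun x hx => by
    have m := afun_mem a⁻¹ hx
    rw [afun_mul _ _ (hUM hx), ← afun_afun_inv a hx, ea _ m, afun_inv_afun _ (hUM m), c9 _ (hUM m),
      c5 _ m, ea _ m]
  obtain ⟨s, hs, es⟩ := mem_autInducedBy.1 (autCore_le_of_fn hS' (normalizer_saturated hS hF hn hNs)
    hn' (chain_mem_autCore hS' (IsNormal.stronglyClosed (normSys_normal hNs hn.1)) hMN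
      (a := γ₀ * b⁻¹) ((mem_autGroup hMN).2 (normSys_mor_of hNs hMN ((mem_autGroup hM.1).1
        (mul_mem c8 (inv_mem hb'.1.1))) le_rfl hUM (img_of_eq_id hκ))) (fun x _ hx => hκ x hx)
      fun x hx => by
        have := c6 _ (afun_mem b⁻¹ hx)
        rwa [afun_afun_inv _ hx, ← c9 _ (afun_mem _ hx), ← afun_mul _ _ hx] at this))
  have hs' : s ∈ normalizerIn (centralizerIn S U) M := ⟨mem_centralizerIn.2 ⟨hs.1, fun x hx => by
    rw [← es x (hUM hx), hκ x hx]⟩, mem_normalizer_of_afun es⟩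
  have hA : M ⊔ normalizerIn (centralizerIn S U) M ≤ Vc S U ⊔ M :=
    sup_le le_sup_right (normalizerIn_le.trans (le_sup_right.trans le_sup_left))
  have hγ' := hγ.mono hA
  have := finite_of_le hγ'.le
  have eU : img (afun γ) U = U := img_eq_of_afun c5
  obtain ⟨γ₁, c10, c11⟩ := hγ'.exists_aut (hγ'.img_eq_self (hγ'.mem_of_sup
    (fun x hx => Subgroup.mem_sup_left (c7.le (subset_img hx))) fun x hx => by
      have h1 := hγ'.mem_centralizer_img (hUM.trans le_sup_left) (Subgroup.mem_sup_right hx)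
        (mem_centralizerIn.1 hx.1).2
      have h2 := hγ'.mem_normalizer_img le_sup_left (Subgroup.mem_sup_right hx) hx.2
      rw [eU] at h1
      rw [c7] at h2
      exact Subgroup.mem_sup_right ⟨h1, h2.2⟩))
  have c12 := YE_res hg'.le hA c4 fun x hx => (c11 x hx).symm
  obtain ⟨σ, eσ⟩ := exists_cAut (P := M ⊔ normalizerIn (centralizerIn S U) M)
    (Subgroup.le_normalizer (Subgroup.mem_sup_right hs'))
  have hσ := mem_autInducedBy.2 ⟨s, Subgroup.mem_sup_right (S := M) hs', eσ⟩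
  obtain ⟨d, d1, d2, d3⟩ := exists_coprime_lift (Y := YE F E _ ⊔ autInducedBy _ _) le_sup_left
    ((mem_resImg _).2 ⟨σ⁻¹ * γ₁, mul_mem (Subgroup.mem_sup_right (inv_mem hσ))
      (Subgroup.mem_sup_left c12), fun x hx => by
        have h1 := es _ (afun_mem b hx)
        rw [afun_mul _ _ (afun_mem _ hx), afun_inv_afun _ hx] at h1
        rw [afun_mul _ _ (Subgroup.mem_sup_left hx), afun_inv_conj eσ (afun_mem _
          (Subgroup.mem_sup_left hx)), c11 x (Subgroup.mem_sup_left hx), ← c9 x hx, h1]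
        group⟩) hbc
  refine ⟨d, EGood.of_YE hγ'.le (hU.mono (le_inf (hUM.trans le_sup_left) hU.1) inf_le_right)
    (mem_of_sup_pgroup (autInducedBy_pgroup (pgroup_of_le hS hγ'.le) _) (fun s hs =>
      YE_conj hE.1.2.2 hγ'.le s (autInducedBy_le_autGroup F hγ'.le (autInducedBy_mono hγ'.le hs)))
      d1 d2) d2, d3⟩

theorem ext_caseB (hS : IsPGroup p S) (hF : F.IsSaturated p) (hT : F.StronglyClosed T)
    (hM : F.IsCentric M) (hn : F.IsFullyNormalized (M ⊓ T))
    (hn' : (normSys F hn.1).IsFullyNormalized M) : F.IsFullyAutomized p M ∧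
      ∀ α ∈ modKer F M T, ∃ β ∈ F.autGroup (M ⊔ normalizerIn (centralizerIn S (M ⊓ T)) M),
        ∀ x ∈ M, afun β x = afun α x := by
  have hS' := pgroup_of_le hS (normalizerIn_le : normalizerIn S (M ⊓ T) ≤ S)
  have := finite_of_le (normalizerIn_le : normalizerIn S (M ⊓ T) ≤ S)
  have := finite_of_le hM.1
  have := finite_of_le hn.1
  have hNs := normSys_spec F hn.1
  have hsat := normalizer_saturated hS hF hn hNs
  have eU : ∀ α ∈ F.autGroup M, img (afun α) (M ⊓ T) = M ⊓ T := fun α hα => by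
    rw [StronglyClosed.img_inf hT ((mem_autGroup hM.1).1 hα), img_afun]
  have h1 : F.autGroup M ≤ (normSys F hn.1).autGroup M := fun α hα => (mem_autGroup hn'.1).2
    (normSys_mor_of hNs hn'.1 ((mem_autGroup hM.1).1 hα) le_rfl inf_le_left (eU α hα))
  have h2 := IsFullyAutomized.sylowIn (IsSaturated.fullyAutomized hS' hsat hn')
  have hA : F.IsFullyAutomized p M := isFullyAutomized_iff.2 ⟨hM.1,
    autInducedBy_le_autGroup F hM.1, autInducedBy_pgroup hS M, fun D d1 d2 d3 =>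
      (h2.max D (d1.trans h1) d2 ((autInducedBy_mono normalizerIn_le).trans d3)).trans
        (autInducedBy_mono normalizerIn_le)⟩
  refine ⟨hA, fun α hα => ?_⟩
  have hm := (mem_autGroup hM.1).1 hα.1
  obtain ⟨g, hg, eg⟩ := IsReceptive.ext (IsSaturated.receptive_of_centric hS hF hM) hm (img_afun _)
  have hle : normalizerIn (centralizerIn S (M ⊓ T)) M ≤ Next S M (afun α) := fun w hw => by
    obtain ⟨σ, eσ⟩ := exists_cAut hw.2
    have hσ := mem_autInducedBy.2 ⟨w, hw.1.1, eσ⟩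
    have h3 := mul_mem hα (modKer_conj hT hM.1 σ (autInducedBy_le_autGroup F hM.1 hσ) _ (inv_mem hα))
    have h4 := chain_mem_autCore hS hT hM.1 h3.1 (fun x hx hx' => by
      have h7 := (mem_centralizerIn.1 (inv_mem hw.1)).2 x ⟨hx, hx'⟩
      rw [inv_inv] at h7
      rw [afun_mul _ _ hx, afun_mul _ _ hx, afun_inv_conj eσ hx, h7, afun_mul _ _ hx,
        eσ _ (afun_mem _ hx), (mem_centralizerIn.1 hw.1).2 _ (modKer_mem (inv_mem hα) ⟨hx, hx'⟩),
        afun_afun_inv _ hx]) h3.2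
    have := finite_mulAut M
    have h5 := (IsFullyAutomized.sylowIn hA).le_of_normal autCore_le autCore_pgroup autCore_conj h4
    refine (mem_Next_afun_iff hw.1.1 eσ).2 ?_
    have := mul_mem h5 hσ
    rwa [show α * (σ * α⁻¹ * σ⁻¹) * σ = α * σ * α⁻¹ by group] at this
  have hg' := hg.mono (sup_le hm.le_Next hle)
  have := finite_of_le hg'.le
  have eM : img g M = M := img_eq_of_afun eg
  have eU' : img g (M ⊓ T) = M ⊓ T :=
    (img_congr fun x (hx : x ∈ M ⊓ T) => eg x hx.1).trans (eU α hα.1)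
  obtain ⟨β, hβ, eβ⟩ := hg'.exists_aut (hg'.img_eq_self (hg'.mem_of_sup
    (fun x hx => Subgroup.mem_sup_left (eM.le (subset_img hx))) fun x hx => by
      have h1 := hg'.mem_centralizer_img (inf_le_left.trans le_sup_left : M ⊓ T ≤ _)
        (Subgroup.mem_sup_right hx) (mem_centralizerIn.1 hx.1).2
      have h2 := hg'.mem_normalizer_img le_sup_left (Subgroup.mem_sup_right hx) hx.2
      rw [eU'] at h1
      rw [eM] at h2
      exact Subgroup.mem_sup_right ⟨h1, h2.2⟩))
  exact ⟨β, hβ, fun x hx => by rw [eβ x (Subgroup.mem_sup_left hx), eg x hx]⟩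

theorem good_back (hT : F.StronglyClosed T) (hM : F.IsCentric M)
    (hθ : Mor F (normalizerIn S M) θ)
    (h : GrN F E p (img θ M) ∧ GG F E p (img θ M) ∧ GS F E p (img θ M)) :
    GrN F E p M ∧ GG F E p M ∧ GS F E p M :=
  ⟨h.1.back hθ hM.1, h.2.1.back (hθ.mono (le_normalizerIn hM.1)), h.2.2.back hT hθ hM⟩

theorem good_main (hS : IsPGroup p S) (hE : E.IsNormalIn F p) :
    ∀ M, M ≤ S → F.IsCentric M → Gr F E p M ∧ GG F E p M ∧ GS F E p M := by
  have hF := hE.1.2.1
  have hT := IsNormalIn.sc hE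
  refine downward_induction fun M hMS ih hM => ?_
  have ih' : ∀ {A : Subgroup Ω}, F.IsConj M A → ∀ M', M' ≤ S → A < M' →
      Gr F E p M' ∧ GG F E p M' ∧ GS F E p M' := fun hA M' h1 h2 =>
    have := finite_of_le h1
    ih M' h1 (isConj_card hA ▸ card_lt_of_lt h2) (isCentric_of_le (isCentric_of_conj hM hA) h2.le h1)
  suffices h : GrN F E p M ∧ GG F E p M ∧ GS F E p M from
    ⟨h.1.gr hS fun M' h1 h2 => (ih' (isConj_refl F hMS) M' h1 h2).1, h.2⟩
  by_cases htc : TC F T (M ⊓ T)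
  · obtain ⟨θ, hθ, hn⟩ := IsSaturated.exists_normalizer_mor' hS hF (htc.1.trans hT.1)
    have hθ' := hθ.mono (norm_le_norm_inf hT)
    have hθM := hθ'.mono (le_normalizerIn hMS)
    refine good_back hT hM hθ' ?_
    have h1 := (tc_inf_img hT hθM).2 htc
    rw [StronglyClosed.img_inf hT hθM] at hn
    have h2 := hθM.isConj
    generalize img θ M = A at h1 h2 hn
    have hA := isCentric_of_conj hM h2
    have hS' := pgroup_of_le hS (normalizerIn_le : normalizerIn S (A ⊓ T) ≤ S)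
    have := finite_of_le (normalizerIn_le : normalizerIn S (A ⊓ T) ≤ S)
    have hNs := normSys_spec F hn.1
    have hAN := (le_normalizerIn hA.1).trans (norm_le_norm_inf hT)
    obtain ⟨φ, hφ, hn'⟩ := IsSaturated.exists_normalizer_mor' hS'
      (normalizer_saturated hS hF hn hNs) hAN
    have hφ' : Mor F (normalizerIn S A) φ := (hφ.sub (normSys_sub hNs)).mono
      (le_inf (norm_le_norm_inf hT) inf_le_right)
    have hφA := hφ'.mono (le_normalizerIn hA.1)
    refine good_back hT hA hφ' ?_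
    have e : img φ A ⊓ T = A ⊓ T := by
      rw [← StronglyClosed.img_inf hT hφA]
      exact StronglyClosed.img_eq (IsNormal.stronglyClosed (normSys_normal hNs hn.1)) hφ
        (inf_le_left.trans (le_normalizerIn hAN))
    have h3 := isConj_trans h2 hφA.isConj
    generalize img φ A = B at e hn' h3
    have hB := isCentric_of_conj hM h3
    have key : ∀ (U : Subgroup Ω) (hn : F.IsFullyNormalized U), TC F T U →
        (normSys F hn.1).IsFullyNormalized B → B ⊓ T = U →
        GrN F E p B ∧ GG F E p B ∧ GS F E p B := by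
      rintro _ hn h1 hn' rfl
      by_cases hC : centralizerIn S (B ⊓ T) ≤ B
      · exact good_terminal hS hE.1 hB (IsSaturated.fullyCentralized hS hF hn) inf_le_right
          (sup_le inf_le_left hC)
      have hnorm : normalizerIn S B ≤ Subgroup.normalizer
          ((B ⊔ normalizerIn (centralizerIn S (B ⊓ T)) B : Subgroup Ω) : Set Ω) :=
        (le_normalizer_of_conj_mem fun s hs x hx => (mor_conj F (sup_le hB.1
          (normalizerIn_le.trans centralizerIn_le)) hs.1).mem_of_sup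
          (fun y hy => Subgroup.mem_sup_left (conj_mem_of_mem_normalizerIn hs hy))
          (fun y hy => Subgroup.mem_sup_right (Subgroup.mem_inf.2
            ⟨cent_conj_mem (norm_le_norm_inf hT hs) hy.1,
            mul_mem (mul_mem hs.2 hy.2) (inv_mem hs.2)⟩)) x hx)
      have hx := ext_caseB hS hF hT hB hn hn'
      refine good_step hS hE.1 hB (ih' h3) (lt_of_le_of_ne le_sup_left fun e => hC
        (le_of_normalizer_inf_le hS hB.1 centralizerIn_le
          (le_normalizer_of_conj_mem fun s hs x hx => cent_conj_mem (hn'.1 hs) hx)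
          fun s hs hs' => e.ge (Subgroup.mem_sup_right (Subgroup.mem_inf.2 ⟨hs, hs'⟩))))
        (sup_le (le_normalizerIn hB.1) (normalizerIn_mono centralizerIn_le))
        hnorm (fun b hb => good_caseB hS hE hB h1 hn hn' hb) (telt_lift hS hE.1 hB hx.1 le_sup_left
          (sup_le hB.1 (normalizerIn_le.trans centralizerIn_le)) hnorm hx.2)
    exact key _ hn h1 hn' e
  · obtain ⟨g, hg, h1⟩ := star_of_not_tc hS hF hT hMS htc
    obtain ⟨g', hg', hn⟩ := IsSaturated.exists_normalizer_mor' hS hF hg.img_le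
    have h2 := hg'.not_hat_le (le_normalizerIn hg.img_le) le_rfl h1
    have h3 := isConj_trans hg.isConj (hg'.mono (le_normalizerIn hg.img_le)).isConj
    generalize img g' (img g M) = A at hn h2 h3
    obtain ⟨θ, hθ, rfl⟩ := IsSaturated.exists_normalizer_mor hS hF hn h3
    refine good_back hT hM hθ ?_
    have hA := isCentric_of_conj hM h3
    exact good_step hS hE.1 hA (ih' h3) (lt_of_le_of_ne (le_hat hS hn.1) fun e => h2 e.ge) hat_le
      (norm_le_norm_hat hS hn.1) (fun b hb => good_caseA hS hE.1 hA hn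
        (fun h => htc ((tc_inf_img hT (hθ.mono (le_normalizerIn hMS))).1 h)) (ih' h3) hb)
      (telt_lift hS hE.1 hA (IsSaturated.fullyAutomized hS hF hn) (le_hat hS hn.1)
        (hat_le.trans normalizerIn_le) (norm_le_norm_hat hS hn.1) fun α hα => ext_hat hS hF hn hα.1)

end Cfsg.Agent.Fusion
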