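import Cfsg.Agent.Lib.Fusion.Sh9

/-!
Representation theoretic lemmas for Gross's theorem.
-/

set_option autoImplicit false
set_option linter.unusedSectionVars false
set_option linter.unusedVariables false
set_option linter.style.haveILetI false

namespace Cfsg.Agent.Sh

open Module Representation LinearMap Cfsg.Agent.BG Cfsg.Agent.HH
open scoped commutatorElement

universe u v w

variable {Q : Type u} [Group Q] [Finite Q] {F : Type w} [Field F] [IsAlgClosed F] {U : Type v}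
  [AddCommGroup U] [Module F U] [FiniteDimensional F U] {σ : Representation F Q U}

/-- the elements fixed modulo scalars -/
def Fx (σ : Representation F Q U) (γ : MulAut Q) : Subgroup Q :=
  MonoidHom.eqLocus ((QuotientGroup.mk' (Sc σ)).comp (γ : Q →* Q)) (QuotientGroup.mk' (Sc σ))

theorem mem_Fx {γ : MulAut Q} {t : Q} : t ∈ Fx σ γ ↔ γ t * t⁻¹ ∈ Sc σ := by
  rw [← div_eq_mul_inv, ← QuotientGroup.eq_iff_div_mem]; rfl

theorem orb_bound2 [σ.IsIrreducible] (hc : (Nat.card Q : F) ≠ 0) {α : MulAut Q} {B : End F U} {m : ℕ}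
    (hm : 0 < m) (hB : B ^ m = 1) (hα : α ^ m = 1) (hσ : ∀ t, B * σ t = σ (α t) * B) :
    ∃ o, o * m = ∑ i ∈ Finset.range m, (Sc σ).relIndex (Fx σ (α ^ i)) ∧
      finrank F (LinearMap.ker (mulLeft F B - mulRight F B)) ≤ o := by
  classical
  haveI := Char.nontrivial_of_isIrreducible σ
  haveI : NeZero m := ⟨hm.ne'⟩
  have hT : α ∈ Tw σ := mem_Tw σ (fun e => by rw [e, zero_pow hm.ne'] at hB; exact zero_ne_one hB) hσ
  let qa : ℕ → Q ⧸ Sc σ →* Q ⧸ Sc σ := fun i =>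
    QuotientGroup.map _ _ (α ^ i : MulAut Q) fun t ht => tw_mem (pow_mem hT i) ht
  letI : MulAction (Multiplicative (ZMod m)) (Q ⧸ Sc σ) :=
    { smul := fun i e => qa i.toAdd.val e
      one_smul := fun e => by
        obtain ⟨e, rfl⟩ := QuotientGroup.mk_surjective e
        show QuotientGroup.mk ((α ^ (0 : ZMod m).val) e) = _
        rw [ZMod.val_zero, pow_zero]; rfl
      mul_smul := fun i j e => by
        obtain ⟨e, rfl⟩ := QuotientGroup.mk_surjective e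
        show QuotientGroup.mk ((α ^ (i.toAdd + j.toAdd).val) e) =
          QuotientGroup.mk ((α ^ i.toAdd.val) ((α ^ j.toAdd.val) e))
        rw [ZMod.val_add, ← pow_eq_pow_mod _ hα, pow_add]; rfl }
  have hsm : ∀ (i : Multiplicative (ZMod m)) (t : Q), i • (t : Q ⧸ Sc σ) = ((α ^ i.toAdd.val) t : Q) :=
    fun _ _ => rfl
  haveI := Fintype.ofFinite (Q ⧸ Sc σ)
  haveI := Fintype.ofFinite (MulAction.orbitRel.Quotient (Multiplicative (ZMod m)) (Q ⧸ Sc σ))
  refine ⟨Fintype.card (MulAction.orbitRel.Quotient (Multiplicative (ZMod m)) (Q ⧸ Sc σ)), ?_, ?_⟩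
  · have h1 := MulAction.sum_card_fixedBy_eq_card_orbits_mul_card_group (Multiplicative (ZMod m)) (Q ⧸ Sc σ)
    have h2 : ∀ a : Multiplicative (ZMod m),
        Fintype.card (MulAction.fixedBy (Q ⧸ Sc σ) a) = (Sc σ).relIndex (Fx σ (α ^ a.toAdd.val)) := by
      intro a
      have hcm : Nat.card ((Fx σ (α ^ a.toAdd.val)).map (QuotientGroup.mk' (Sc σ))) =
          (Sc σ).relIndex (Fx σ (α ^ a.toAdd.val)) := by
        rw [← Subgroup.relIndex_ker, QuotientGroup.ker_mk']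
      rw [← Nat.card_eq_fintype_card, ← hcm]
      refine Nat.card_congr (Equiv.setCongr (Set.ext fun e => ?_))
      obtain ⟨t, rfl⟩ := QuotientGroup.mk_surjective e
      refine ⟨fun h => ⟨t, h, rfl⟩, fun ⟨s, h4, h5⟩ => ?_⟩
      have h6 : (s : Q ⧸ Sc σ) = t := h5
      rw [← h6]; exact h4
    rw [Finset.sum_congr rfl fun a _ => h2 a, Fintype.card_multiplicative, ZMod.card] at h1
    rw [← h1]
    exact Finset.sum_nbij (fun a => a.toAdd.val) (fun a _ => Finset.mem_range.2 (ZMod.val_lt _))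
      (fun a _ b _ e => ZMod.val_injective m e) (fun i hi => ⟨Multiplicative.ofAdd (i : ZMod m), by simp,
        ZMod.val_cast_of_lt (Finset.mem_range.1 hi)⟩) fun _ _ => rfl
  · let Φ : LinearMap.ker (mulLeft F B - mulRight F B) →ₗ[F]
        (MulAction.orbitRel.Quotient (Multiplicative (ZMod m)) (Q ⧸ Sc σ) → F) :=
      LinearMap.pi fun o => trace F U ∘ₗ mulRight F (σ o.out.out) ∘ₗ Submodule.subtype _
    have h2 : Function.Injective Φ := (injective_iff_map_eq_zero Φ).2 fun f hf =>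
      Subtype.ext (eq_zero_of_trace_mul σ hc fun g => by
        let o : MulAction.orbitRel.Quotient (Multiplicative (ZMod m)) (Q ⧸ Sc σ) := Quotient.mk'' (g : Q ⧸ Sc σ)
        obtain ⟨a, ha⟩ : (g : Q ⧸ Sc σ) ∈ MulAction.orbit (Multiplicative (ZMod m)) o.out :=
          MulAction.orbitRel_apply.1 (Quotient.exact' (Quotient.out_eq' o).symm)
        have h3 : trace F U (f.1 * σ o.out.out) = 0 := congrFun hf o
        set k := a.toAdd.val
        have h4 : ((α ^ k) o.out.out)⁻¹ * g ∈ Sc σ := by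
          rw [← QuotientGroup.eq, ← hsm, QuotientGroup.out_eq']; exact ha
        obtain ⟨c, hc⟩ := Sc_scalar h4
        have h6 : B ^ k * B ^ ((m - 1) * k) = 1 := by
          rw [← pow_add, show k + (m - 1) * k = (m - 1 + 1) * k by ring, Nat.sub_add_cancel hm, pow_mul, hB,
            one_pow]
        have h7 : Commute B f.1 := sub_eq_zero.1 (LinearMap.mem_ker.1 f.2)
        have h5 : σ g = B ^ k * σ o.out.out * B ^ ((m - 1) * k) * σ (((α ^ k) o.out.out)⁻¹ * g) := by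
          rw [pow_comm_aut σ hσ, mul_assoc (σ _), h6, mul_one, ← map_mul, mul_inv_cancel_left]
        rw [h5, hc, mul_smul_comm, mul_one, mul_smul_comm, map_smul, ← mul_assoc, trace_mul_comm,
          ← mul_assoc f.1, ← (h7.pow_left k).eq, mul_assoc (B ^ k), ← mul_assoc, ← pow_add, add_comm, pow_add,
          h6, one_mul, h3, smul_zero])
    have h3 := LinearMap.finrank_le_finrank_of_injective h2
    rwa [finrank_fintype_fun_eq_card] at h3

theorem dim_le2 [σ.IsIrreducible] (hc : (Nat.card Q : F) ≠ 0) (h2 : ∀ a b : Q, ⁅a, b⁆ ∈ Sc σ)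
    {α : MulAut Q} {B : End F U} {m : ℕ} (hm : (m : F) ≠ 0) (hB : B ^ m = 1) (hα : α ^ m = 1)
    (hσ : ∀ t, B * σ t = σ (α t) * B) (h0 : ∀ u, B u = u → u = 0) :
    (Sc σ).index * m ≤ (m - 1) * ∑ i ∈ Finset.range m, (Sc σ).relIndex (Fx σ (α ^ i)) := by
  classical
  have hm0 : 0 < m := Nat.pos_of_ne_zero fun e => hm (by simp [e])
  obtain ⟨o, h3, h4⟩ := orb_bound2 hc hm0 hB hα hσ
  obtain ⟨S, n, h5, h6, h7, h8, h9⟩ := exists_mult hm hB
  have h10 := sq_sum_le_card_mul_sum_sq (s := S.erase 1) (f := n)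
  rw [Finset.sum_erase _ (h9 h0), Finset.sum_erase _ (by simp [h9 h0]), Finset.card_erase_of_mem h6, h5, h7,
    sq_dim hc h2] at h10
  rw [← h3, ← mul_assoc]
  exact Nat.mul_le_mul_right m (h10.trans (Nat.mul_le_mul_left _ (h8.trans h4)))

theorem mersenne {q b a : ℕ} (hq : Odd q) (h : q ^ b + 1 = 2 ^ (a + 2)) : q ^ b = q := by
  obtain ⟨k, rfl⟩ := hq
  have h1 : ∀ c, ((2 * k + 1) ^ 2) ^ c ≡ 1 [MOD 2 * (2 * k + 1 + 1)] := fun c => by
    have : (2 * k + 1) ^ 2 ≡ 1 [MOD 2 * (2 * k + 1 + 1)] :=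
      ((Nat.modEq_iff_dvd' (Nat.one_le_pow _ _ (by omega))).2 ⟨k, by
        rw [Nat.sub_eq_iff_eq_add (Nat.one_le_pow _ _ (by omega))]; ring⟩).symm
    simpa using this.pow c
  rcases Nat.even_or_odd' b with ⟨c, rfl | rfl⟩
  · have h2 := (h1 c).of_dvd (⟨k + 1, by ring⟩ : 4 ∣ 2 * (2 * k + 1 + 1))
    rw [← pow_mul] at h2
    have h3 := h2.add_right 1
    rw [h, pow_add] at h3
    simp [Nat.ModEq] at h3
  · have h2 := ((h1 c).mul_right (2 * k + 1)).add_right 1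
    rw [← pow_mul, ← pow_succ, h, one_mul] at h2
    obtain ⟨e, he, h3⟩ := (Nat.dvd_prime_pow Nat.prime_two).1
      ((h2.of_dvd (dvd_mul_left _ 2)).dvd_iff dvd_rfl |>.2 dvd_rfl)
    rcases he.lt_or_eq with h4 | rfl
    · have h5 := (h2.dvd_iff dvd_rfl).1 (by rw [h3, ← pow_succ']; exact pow_dvd_pow 2 h4)
      have := Nat.le_of_dvd (by omega) h5
      omega
    · omega

/-- an irreducible constituent of the restriction to a central factor is stable -/
theorem tw_res [hσ : σ.IsIrreducible] {R D : Subgroup Q} [D.Normal] (hc : (Nat.card R : F) ≠ 0) (h1 : D ⊔ R = ⊤)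
    (h2 : ∀ g ∈ D, ∀ t ∈ R, σ g * σ t = σ t * σ g) {U' : Type v} [AddCommGroup U'] [Module F U']
    [FiniteDimensional F U'] (τ : Representation F R U') [τ.IsIrreducible] {ι : U' →ₗ[F] U}
    (i1 : Function.Injective ι) (i2 : ∀ t u, ι (τ t u) = σ t (ι u)) {α : MulAut R} {B : End F U}
    (hB : Function.Injective B) (h3 : ∀ t : R, B * σ t = σ (α t) * B) : α ∈ Tw τ := by
  obtain ⟨π, p1, p2⟩ := exists_proj (σ.comp R.subtype) τ hc i1 i2
  replace p2 : ∀ (t : R) w, π (σ t w) = τ t (π w) := p2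
  by_contra e
  haveI := Char.nontrivial_of_isIrreducible τ
  obtain ⟨u, hu⟩ := exists_ne (0 : U')
  let S : Submodule F U := ⨅ g : D, LinearMap.ker (π ∘ₗ σ g)
  have mS : ∀ w, w ∈ S ↔ ∀ g ∈ D, π (σ g w) = 0 := fun w => by
    simp only [S, Submodule.mem_iInf, mem_ker, comp_apply, Subtype.forall]
  have h4 : B (ι u) ∈ S := (mS _).2 fun g hg => by
    by_contra e'
    refine e (mem_Tw τ (A := π ∘ₗ σ g ∘ₗ B ∘ₗ ι) (fun e => e' (LinearMap.congr_fun e u)) fun t =>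
      LinearMap.ext fun u => ?_)
    simp only [End.mul_apply, comp_apply]
    rw [i2, ← End.mul_apply B, h3, End.mul_apply, ← End.mul_apply (σ g), h2 g hg _ (α t).2, End.mul_apply, p2]
  rcases ((Char.isIrreducible_iff σ).1 hσ).2 S (fun x w hw => (mS _).2 fun g hg => by
    obtain ⟨d, hd, t, ht, rfl⟩ := Subgroup.mem_sup_of_normal_left.1 (h1.ge (Subgroup.mem_top x))
    rw [map_mul, End.mul_apply, ← End.mul_apply (σ g), ← map_mul, ← End.mul_apply (σ _),
      h2 _ (mul_mem hg hd) t ht, End.mul_apply, p2 ⟨t, ht⟩, (mS w).1 hw _ (mul_mem hg hd), map_zero]) with e1 | e1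
  · rw [e1, Submodule.mem_bot] at h4
    exact hu (i1 (hB (by rw [h4, map_zero, map_zero])))
  · have := (mS (ι u)).1 (e1 ▸ Submodule.mem_top) 1 (one_mem _)
    rw [map_one, End.one_apply, p1] at this
    exact hu this

theorem comm_pow [σ.IsIrreducible] (h2 : ∀ a b : Q, ⁅a, b⁆ ∈ Sc σ) (g t u : Q) :
    σ ⁅g, t * u⁆ = σ ⁅g, t⁆ * σ ⁅g, u⁆ := by
  rw [commutatorElement_mul_right_eq_mul_conj, map_mul, map_mul, map_mul, mul_assoc, mul_assoc,
    ← mul_assoc (σ t), ← h2 g u t, mul_assoc, ← map_mul σ t, mul_inv_cancel, map_one, mul_one]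

theorem lemA [σ.IsIrreducible] {q a : ℕ} [hq : Fact q.Prime] (hq2 : q ≠ 2) (hQ : IsPGroup q Q)
    (hc : (Nat.card Q : F) ≠ 0) (h20 : (2 : F) ≠ 0) (h2 : ∀ a b : Q, ⁅a, b⁆ ∈ Sc σ) {α : MulAut Q}
    {B : End F U} (hB : B ^ 2 ^ (a + 1) = 1) (hα : α ^ 2 ^ (a + 1) = 1) (hσ : ∀ t, B * σ t = σ (α t) * B)
    (h0 : ∀ u, B u = u → u = 0) (hτ : Fx σ (α ^ 2 ^ a) ≠ ⊤) :
    ∃ b, a = b + 1 ∧ Fx σ (α ^ 2 ^ a) ≤ Fx σ (α ^ 2 ^ b) ∧
      (Sc σ).index = q ^ 2 * (Sc σ).relIndex (Fx σ (α ^ 2 ^ a)) := by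
  classical
  haveI := Char.nontrivial_of_isIrreducible σ
  haveI : Fact (Nat.Prime 2) := ⟨Nat.prime_two⟩
  obtain ⟨k, hk⟩ := hQ.exists_card_eq
  have hT : α ∈ Tw σ := mem_Tw σ (fun e => by
    rw [e, zero_pow (pow_pos two_pos _).ne'] at hB; exact zero_ne_one hB) hσ
  have hm : ((2 ^ (a + 1) : ℕ) : F) ≠ 0 := by rw [Nat.cast_pow]; exact pow_ne_zero _ h20
  set τ := α ^ 2 ^ a with hτd
  have hτT : τ ∈ Tw σ := pow_mem hT _
  have hτ2 : ∀ t, τ (τ t) = t := fun t => by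
    rw [← MulAut.mul_apply, hτd, ← pow_add, ← mul_two, ← pow_succ, hα]; rfl
  have odd : ∀ {H : Subgroup Q} {t : Q}, t ^ 2 ∈ H → t ∈ H := fun h => mem_of_cop two_pos
    (hk ▸ ((Nat.coprime_primes Nat.prime_two hq.out).2 hq2.symm).pow_right k) h (by rw [pow_card_eq_one']; exact one_mem _)
  let R : Subgroup Q :=
    { carrier := {t | τ t * t ∈ Sc σ}
      one_mem' := by simp
      mul_mem' := fun {a b} ha hb => by
        convert mul_mem (mul_mem ha (h2 a⁻¹ (τ b))) hb using 1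
        simp [commutatorElement_def, mul_assoc]
      inv_mem' := fun {a} ha => by
        convert mul_mem (h2 (τ a)⁻¹ a⁻¹) (inv_mem ha) using 1
        simp [commutatorElement_def, mul_assoc] }
  have mR : ∀ t, t ∈ R ↔ τ t * t ∈ Sc σ := fun t => Iff.rfl
  set D := Fx σ τ with hD
  have p1 : ∀ {γ : MulAut Q}, γ ∈ Tw σ → Sc σ ≤ Fx σ γ := fun h t ht =>
    mem_Fx.2 (mul_mem (tw_mem h ht) (inv_mem ht))
  haveI : D.Normal := ⟨fun t ht g => by
    convert mul_mem (p1 hτT (h2 g t)) ht using 1; simp [commutatorElement_def]⟩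
  have p2 : ∀ g ∈ D, ∀ t ∈ R, σ ⁅g, t⁆ = 1 := fun g hg t ht => by
    have e1 : σ ⁅t, g⁆ = σ ⁅τ t, g⁆ := by
      rw [← tw_Sc hτT (h2 t g), map_commutatorElement, ← comm_mul_Sc (t := g) (mem_Fx.1 hg), inv_mul_cancel_right]
    have e2 : σ ⁅g, t⁆ = σ ⁅g, τ t⁆ := by
      rw [← commutatorElement_inv t, ← commutatorElement_inv (τ t)]
      exact congrArg Units.val (show σ.toHomUnits _ = σ.toHomUnits _ by
        rw [map_inv, map_inv]; exact congrArg _ (Units.ext e1))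
    refine odd (H := σ.ker) ?_
    rw [MonoidHom.mem_ker, sq, map_mul]
    nth_rewrite 1 [e2]
    rw [← comm_pow h2]; exact mem_Sc.1 ht g
  have p3 : D ⊔ R = ⊤ := eq_top_iff.2 fun t _ => odd (by
    rw [show t ^ 2 = t * τ t * ((τ t)⁻¹ * t) by rw [sq]; group]
    refine mul_mem (Subgroup.mem_sup_left (mem_Fx.2 ?_)) (Subgroup.mem_sup_right ((mR _).2 ?_))
    · convert h2 (τ t) t using 1; simp [commutatorElement_def, mul_assoc, hτ2]
    · simp [hτ2])
  have p4 : D ⊓ R = Sc σ := le_antisymm (fun t ht => odd (by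
    convert mul_mem (inv_mem (mem_Fx.1 ht.1)) ht.2 using 1; rw [sq]; group))
    (le_inf (p1 hτT) fun t ht => mul_mem (tw_mem hτT ht) ht)
  have p5 : (Sc σ).index = (Sc σ).relIndex R * (Sc σ).relIndex D := by
    rw [← Subgroup.relIndex_mul_index (p1 hτT), mul_comm, ← Subgroup.relIndex_top_right, ← p3,
      Subgroup.relIndex_sup_left, ← Subgroup.inf_relIndex_right D, p4]
  have p6 : ¬ R ≤ Sc σ := fun e => hτ (top_unique (p3.ge.trans (sup_le le_rfl (e.trans (p1 hτT)))))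
  have hαR : ∀ t, α t ∈ R ↔ t ∈ R := fun t => by
    rw [mR, mR, ← MulAut.mul_apply, hτd, ← pow_succ, pow_succ', MulAut.mul_apply, ← map_mul]
    exact ⟨tw_mem' hT, tw_mem hT⟩
  let α₁ : MulAut R := (α.subgroupMap R).trans (MulEquiv.subgroupCongr (le_antisymm
    (by rintro _ ⟨t, ht, rfl⟩; exact (hαR t).2 ht)
    fun t ht => ⟨α.symm t, (hαR _).1 (by rwa [α.apply_symm_apply]), α.apply_symm_apply t⟩))
  have hα₁ : ∀ i t, ((α₁ ^ i) t : Q) = (α ^ i) t := fun i t => by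
    induction i with
    | zero => rfl
    | succ i ih => rw [pow_succ', pow_succ', MulAut.mul_apply, MulAut.mul_apply, ← ih]; rfl
  have hc1 : (Nat.card R : F) ≠ 0 := fun e => hc (by
    obtain ⟨k, hk⟩ := R.card_subgroup_dvd_card
    rw [hk, Nat.cast_mul, e, zero_mul])
  obtain ⟨U₁, _, _, _, σ₁, ι, hσ₁, a1, a2, -⟩ := exists_irr_ne_one (σ.comp R.subtype) hc1 ⊤ fun e =>
    p6 fun t ht => mem_Sc_of (c := 1) (by rw [one_smul]; exact e (Subgroup.mem_top ⟨t, ht⟩))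
  haveI := Char.nontrivial_of_isIrreducible σ₁
  have hBi : Function.Injective B := (End.isUnit_iff B).1 (IsUnit.of_pow_eq_one hB (pow_pos two_pos _).ne') |>.1
  obtain ⟨ι, B₁, i1, i2, i3⟩ := exists_stable (σ.comp R.subtype) σ₁ a1 a2 (tw_res hc1 p3 (fun g hg t ht => by
    rw [← map_mul, ← map_mul, show g * t = ⁅g, t⁆ * (t * g) by rw [commutatorElement_def]; group, map_mul,
      p2 g hg t ht, one_mul]) σ₁ a1 a2 hBi (α := α₁) fun t => hσ t) (Y := B) fun t => hσ t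
  replace i2 : ∀ (t : R) u, ι (σ₁ t u) = σ t (ι u) := i2
  have s1 : ∀ (t : R) (c : F), σ t = c • 1 → σ₁ t = c • 1 := fun t c h => LinearMap.ext fun u => i1 (by
    rw [i2, h]; simp)
  have s2 : Sc σ₁ = (Sc σ).subgroupOf R := le_antisymm (fun (t : R) ht => show (t : Q) ∈ Sc σ from mem_Sc.2 fun g =>
      (p3.ge.trans (sup_le (fun g hg => p2 g hg t t.2) fun g hg => by
        obtain ⟨c, hc⟩ := Sc_scalar (h2 g t)
        have e := (s1 ⁅⟨g, hg⟩, t⁆ c hc).symm.trans (mem_Sc.1 ht _)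
        rw [smul_left_injective F (one_ne_zero (α := End F U₁)) (e.trans (one_smul F _).symm), one_smul] at hc
        exact hc) : ⊤ ≤ perp h2 (t : Q)) (Subgroup.mem_top g))
    fun t ht => by
      obtain ⟨c, hc⟩ := Sc_scalar (Subgroup.mem_subgroupOf.1 ht)
      exact mem_Sc_of (s1 t c hc)
  have h2' : ∀ a b : R, ⁅a, b⁆ ∈ Sc σ₁ := fun a b => s2 ▸ h2 a b
  have c1 : ∀ k u, (B ^ k) (ι u) = ι ((B₁ ^ k) u) := fun k u => by
    induction k with
    | zero => rfl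
    | succ k ih => rw [pow_succ', pow_succ', End.mul_apply, ih, i3]; rfl
  have d6 := sq_dim hc1 h2'
  rw [s2, ← Subgroup.relIndex] at d6
  have d4 : finrank F U₁ ≠ 1 := fun e => p6 (by rwa [e, one_pow, eq_comm, Subgroup.relIndex_eq_one] at d6)
  have d5 := (dim_semireg hc1 h2' hm (B := B₁) (α := α₁)
    (LinearMap.ext fun u => i1 (by rw [← c1, hB]; rfl))
    (MulEquiv.ext fun t => Subtype.ext (by rw [hα₁, hα]; rfl))
    (fun t => LinearMap.ext fun u => i1 (by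
      rw [End.mul_apply, End.mul_apply, ← i3, i2, i2, ← i3, ← End.mul_apply, hσ]; rfl))
    (fun i i1 i2 t ht => by
      rw [s2, Subgroup.mem_subgroupOf] at ht ⊢
      rw [Subgroup.coe_mul, hα₁] at ht
      exact p4.le ⟨mem_Fx.2 (pow_mem_of_pow (S := fixm σ (t : Q)) hα i1 i2 ⟨pow_mem hT i, ht⟩).2, t.2⟩)
    fun u hu => i1 ((h0 _ (by rw [i3, hu])).trans (map_zero _).symm)).resolve_left d4
  obtain ⟨e, -, he⟩ := (Nat.dvd_prime_pow hq.out).1 (((dvd_pow_self _ two_ne_zero).trans (d6.dvd.trans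
    ((Dvd.intro _ p5.symm).trans (Subgroup.index_dvd_card _)))).trans hk.dvd)
  obtain rfl | ⟨b, rfl⟩ := a.eq_zero_or_eq_succ_pred.imp_right fun e => (⟨_, e⟩ : ∃ b, a = b + 1)
  · exact absurd (by simpa using d5) d4
  rw [he] at d5 d6
  have d7 := mersenne (a := b) (hq.out.odd_of_ne_two hq2) d5
  rw [d7] at d5 d6
  rw [← d6] at p5
  refine ⟨b, rfl, ?_, p5⟩
  have hP : 2 ^ (b + 1) < 2 ^ (b + 1 + 1) := Nat.pow_lt_pow_right one_lt_two (Nat.lt_succ_self _)
  have f1 : Fx σ (α ^ 2 ^ b) ≤ D := fun t ht => mem_Fx.2 (by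
    have := ((fixm σ t).pow_mem (x := α ^ 2 ^ b) ⟨pow_mem hT _, mem_Fx.1 ht⟩ 2).2
    rwa [← pow_mul, ← pow_succ] at this)
  have f2 : ∀ i ∈ ((Finset.range (2 ^ (b + 1 + 1))).erase 0).erase (2 ^ (b + 1)),
      (Sc σ).relIndex (Fx σ (α ^ i)) ≤ (Sc σ).relIndex (Fx σ (α ^ 2 ^ b)) := fun i hi => by
    simp only [Finset.mem_erase, Finset.mem_range] at hi
    refine Subgroup.relIndex_le_of_le_right (fun t ht => mem_Fx.2 ?_) (Comp.relIndex_ne_zero' _ _)
    obtain ⟨m, -, hm⟩ := exists_period (fixm σ t) α (pow_pos two_pos _) (hα ▸ one_mem _)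
    obtain ⟨c, hc, rfl⟩ := (Nat.dvd_prime_pow Nat.prime_two).1 ((hm _).1 (hα ▸ one_mem _))
    have h5 := (hm i).1 ⟨pow_mem hT i, mem_Fx.1 ht⟩
    refine ((hm _).2 (pow_dvd_pow 2 (not_lt.1 fun h6 => ?_))).2
    obtain ⟨l, rfl⟩ := (pow_dvd_pow 2 (Nat.succ_le_of_lt h6)).trans h5
    have h7 := hi.2.2
    rw [pow_succ 2 (b + 1)] at h7
    have h8 := Nat.lt_of_mul_lt_mul_left h7
    interval_cases l
    · exact hi.2.1 rfl
    · exact hi.1 (mul_one _)
  have f3 := dim_le2 hc h2 hm hB hα hσ h0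
  have f4 := Finset.sum_le_card_nsmul _ _ _ f2
  have m0 : 0 ∈ Finset.range (2 ^ (b + 1 + 1)) := Finset.mem_range.2 (pow_pos two_pos _)
  have m1 : 2 ^ (b + 1) ∈ (Finset.range (2 ^ (b + 1 + 1))).erase 0 :=
    Finset.mem_erase.2 ⟨(pow_pos two_pos _).ne', Finset.mem_range.2 hP⟩
  rw [← Finset.add_sum_erase _ _ m0, ← Finset.add_sum_erase _ _ m1, pow_zero,
    show Fx σ 1 = ⊤ from eq_top_iff.2 fun t _ => mem_Fx.2 (by simp), Subgroup.relIndex_top_right, ← hτd, ← hD,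
    p5, ← d5] at f3
  rw [Finset.card_erase_of_mem m1, Finset.card_erase_of_mem m0, Finset.card_range, smul_eq_mul, ← d5] at f4
  obtain ⟨r, rfl⟩ : ∃ r, q = r + 2 := ⟨q - 2, by have := hq.out.two_le; omega⟩
  simp only [Nat.add_sub_cancel, show r + 2 - 1 = r + 1 from rfl] at f3 f4
  have f5 : (Sc σ).relIndex D ≤ (Sc σ).relIndex (Fx σ (α ^ 2 ^ b)) := by
    have := f3.trans (Nat.mul_le_mul_left _ (Nat.add_le_add_left (Nat.add_le_add_left f4 _) _))
    refine Nat.le_of_mul_le_mul_left (c := (r + 2) * (r + 1)) ?_ (by positivity)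
    nlinarith
  have f6 := Subgroup.relIndex_mul_relIndex _ _ _ (p1 (pow_mem hT (2 ^ b))) f1
  have f7 := Nat.pos_of_ne_zero (Comp.relIndex_ne_zero' (Sc σ) (Fx σ (α ^ 2 ^ b)))
  have f8 := Nat.pos_of_ne_zero (Comp.relIndex_ne_zero' (Fx σ (α ^ 2 ^ b)) D)
  exact Subgroup.relIndex_eq_one.1 (by nlinarith)

end Cfsg.Agent.Sh
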