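import Cfsg.Agent.Lib.Fusion.Gr1

/-!
The group theoretic end of the argument for Gross's theorem.
-/

set_option autoImplicit false
set_option linter.unusedSectionVars false
set_option linter.unusedVariables false
set_option linter.style.haveILetI false

namespace Cfsg.Agent.Sh

open Subgroup Cfsg.Agent.Comp Cfsg.Agent.BG Cfsg.Agent.HH
open scoped commutatorElement

universe u v w

variable {G : Type u} [Group G] [Finite G] {q s : ℕ} {E Q V B : Subgroup G}

theorem card_split (hV : IsMulCommutative V) (hB : B ≤ Nm(V)) (hc : (Nat.card B).Coprime (Nat.card V))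
    (hs : Group.IsSolvable V) : Nat.card V = Nat.card (⁅V, B⁆ : Subgroup G) * Nat.card (V ⊓ Ct(B) : Subgroup G) := by
  have := Comp.card_sup_mul_card_inf (H := ⁅V, B⁆) (N := V ⊓ Ct(B)) (le_normalizer_of_le_centralizer
    ((commutator_le_left_of_le_normalizer hB).trans ((comm_iff_le.1 hV).trans (Comp.centralizer_mono inf_le_left))))
  rwa [commutator_sup_Ct hB hc (Or.inr hs), eq_bot_iff.2 ((inf_le_inf_left _ inf_le_right).trans
    (commutator_inf_Ct_of_comm hV hB hc).le), card_bot, mul_one] at this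

theorem lemV [hq : Fact q.Prime] [hs : Fact s.Prime] (hq2 : q ≠ 2) (hs2 : s ≠ 2) (hsq : s ≠ q)
    (hE : IsMulCommutative E) (hEq : IsPGroup q E) (hQ : IsPGroup s Q) {β : G} (hβ : β ^ 2 ^ (1 + 1) = 1)
    (hQE : Q ≤ Nm(E)) (hβE : β ∈ Nm(E)) (hβQ : β ∈ Nm(Q)) (hf : Q ⊓ Ct(E) = ⊥)
    (H1 : E ⊓ Ct(zpowers (β ^ 2)) ≤ Ct(zpowers β))
    (H2 : Nat.card E = q ^ 2 * Nat.card (E ⊓ Ct(zpowers (β ^ 2)) : Subgroup G))
    (H3 : ∀ x ∈ Q, ∀ u ∈ ⁅E, zpowers x⁆, u ∈ ⁅E, zpowers (β ^ 2)⁆ →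
      E ≤ E ⊓ Ct(zpowers x) ⊔ E ⊓ Ct(zpowers (β ^ 2)) ⊔ zpowers u → u = 1) : zpowers (β ^ 2) ≤ Ct(Q) := by
  haveI : Fact (Nat.Prime 2) := ⟨Nat.prime_two⟩
  by_contra e
  set τ := β ^ 2 with hτ
  have hτ2 : τ ^ 2 = 1 := by rw [hτ, ← pow_mul]; exact hβ
  have t1 : zpowers τ ≤ zpowers β := zpowers_le.2 (pow_mem (mem_zpowers β) 2)
  have pβ : IsPGroup 2 (zpowers β) := isPGroup_zpowers hβ
  have cE : ∀ {A H : Subgroup G}, A ≤ zpowers β → H ≤ E → (Nat.card A).Coprime (Nat.card H) := fun h h' =>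
    coprime_of_isPGroup (pβ.to_le h) (coprime_of_isPGroup_of_ne hq2 (hEq.to_le h'))
  have cQ : ∀ {A H : Subgroup G}, A ≤ zpowers β → H ≤ Q → (Nat.card A).Coprime (Nat.card H) := fun h h' =>
    coprime_of_isPGroup (pβ.to_le h) (coprime_of_isPGroup_of_ne hs2 (hQ.to_le h'))
  have cQE : ∀ {A H : Subgroup G}, A ≤ Q → H ≤ E → (Nat.card A).Coprime (Nat.card H) := fun h h' =>
    coprime_of_isPGroup (hQ.to_le h) (coprime_of_isPGroup_of_ne hsq.symm (hEq.to_le h'))
  have nτ : zpowers β ≤ Nm(zpowers τ) := le_normalizer_of_le_centralizer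
    ((comm_iff_le.1 inferInstance).trans (Comp.centralizer_mono t1))
  obtain ⟨L, l1, l2, l3, l4⟩ := exists_min_not_le_Ct (zpowers_le.2 hβQ) e
  obtain ⟨l5, l6, l7⟩ := min_not_le_Ct (isSolvable_of_isPGroup (hQ.to_le l1)) l2 t1 nτ (cQ t1 l1) l3 l4
  have hτ1 : τ ≠ 1 := fun e => l3 (by rw [e, zpowers_one_eq_bot]; exact bot_le)
  have oτ : orderOf τ = 2 := orderOf_eq_prime hτ2 hτ1
  have iv : ∀ g ∈ Q, τ * g * τ⁻¹ = g⁻¹ → g ∈ C1(τ) → g = 1 := fun g hg h1 h2 => by
    rw [← mem_centralizer_singleton_iff.1 h2, mul_inv_cancel_right, eq_inv_iff_mul_eq_one, ← sq] at h1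
    exact mem_bot.1 (mem_of_cop (S := ⊥) two_pos (coprime_of_isPGroup_of_ne hs2 hQ).symm h1
      (congrArg Subtype.val (pow_card_eq_one' (x := (⟨g, hg⟩ : Q)))))
  have ivz : ∀ {x : G}, τ * x * τ⁻¹ = x⁻¹ → ∀ g ∈ zpowers x, τ * g * τ⁻¹ = g⁻¹ := by
    rintro x h _ ⟨k, rfl⟩
    rw [← conj_zpow, h, inv_zpow]
  obtain ⟨x₀, hx₀, hx₀'⟩ := SetLike.not_le_iff_exists.1 fun h => l3 (le_Ct_comm.1 h)
  obtain ⟨x, hx₁, ox⟩ := exists_prime_order_mem (H := zpowers ⁅x₀, τ⁆) (zpowers_ne_bot.2 fun e => hx₀' (by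
    rw [centralizer_zpowers]
    exact mem_centralizer_singleton_iff.2 (commutatorElement_eq_one_iff_mul_comm.1 e)))
  have hx : x ∈ L := zpowers_le.2 (l5.le (commutator_mem_commutator hx₀ (mem_zpowers τ))) hx₁
  have ix : τ * x * τ⁻¹ = x⁻¹ := ivz (by
    rw [commutatorElement_inv, commutatorElement_def, commutatorElement_def,
      show τ * (x₀ * τ * x₀⁻¹ * τ⁻¹) * τ⁻¹ = τ * x₀ * τ * x₀⁻¹ * (τ ^ 2)⁻¹ by group, hτ2,
      inv_eq_of_mul_eq_one_left (sq τ ▸ hτ2 : τ * τ = 1), inv_one, mul_one]) x hx₁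
  have hx1 : x ≠ 1 := fun e => ox.ne_one (by rw [e, orderOf_one])
  have zx : zpowers x ≤ Q := zpowers_le.2 (l1 hx)
  have nx : zpowers τ ≤ Nm(zpowers x) := zpowers_le.2 (mem_normalizer_of_conj_mem fun g hg => by
    rw [ivz ix g hg]; exact inv_mem hg)
  have nE : zpowers β ≤ Nm(E) := zpowers_le.2 hβE
  set W := ⁅E, zpowers x⁆ with hW
  have hWE : W ≤ E := commutator_le_left_of_le_normalizer (zx.trans hQE)
  have sE := isSolvable_of_isPGroup hEq
  have sW := isSolvable_of_isPGroup (hEq.to_le hWE)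
  have cW : IsMulCommutative W := comm_iff_le.2 (hWE.trans ((comm_iff_le.1 hE).trans (Comp.centralizer_mono hWE)))
  have nW : zpowers τ ≤ Nm(W) := le_normalizer_commutator (t1.trans nE) nx
  have w0 : W ⊓ Ct(zpowers x) = ⊥ := commutator_inf_Ct_of_comm hE (zx.trans hQE) (cQE zx le_rfl)
  have w1 := card_eq_pow_of_fpf nx (Solv.fpf_zpowers_of_prime (oτ ▸ Nat.prime_two) ((eq_bot_iff_forall _).2
    fun g hg => iv g (zx hg.1) (ivz ix g hg.1) hg.2)) inferInstance (normalizer_commutator_ge_right _ _) nW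
    (coprime_card_sup nx (cQE zx hWE) (cE t1 hWE)) w0
  have w2 := card_split cW nW (cE t1 hWE) sW
  have w3 := card_split hE (t1.trans nE) (cE t1 le_rfl) sE
  rw [Nat.card_zpowers, oτ] at w1
  rw [w1, sq] at w2
  replace w2 := Nat.eq_of_mul_eq_mul_right Nat.card_pos w2
  replace w3 := Nat.eq_of_mul_eq_mul_right Nat.card_pos (H2.symm.trans w3)
  have w4 : ⁅W, zpowers τ⁆ ≤ ⁅E, zpowers τ⁆ := commutator_mono hWE le_rfl
  obtain ⟨j, hj, w5⟩ := (Nat.dvd_prime_pow hq.out).1 (w3 ▸ card_dvd_of_le w4)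
  obtain rfl : j = 2 := by
    interval_cases j
    · rw [w2, w5, pow_zero, one_pow, card_eq_one] at w1
      exact absurd (mem_bot.1 (hf ▸ ⟨l1 hx, commutator_eq_bot_iff'.1 w1 (mem_zpowers x)⟩)) hx1
    · rw [pow_one] at w5
      obtain ⟨u, hu, hu1⟩ := Solv.exists_ne_one_of_ne_bot (H := ⁅W, zpowers τ⁆) fun e =>
        hq.out.ne_one (by rw [← w5, e, card_bot])
      refine absurd (H3 x (l1 hx) u (commutator_le_left_of_le_normalizer nW hu) (w4 hu) ?_) hu1
      rw [← Solv.eq_of_card_prime_of_mem hq.out w5 hu hu1]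
      refine (commutator_sup_Ct (zx.trans hQE) (cQE zx le_rfl) (Or.inr inferInstance)).ge.trans
        (sup_le ((commutator_sup_Ct nW (cE t1 hWE) (Or.inr inferInstance)).ge.trans (sup_le le_sup_right
          (le_sup_of_le_left (le_sup_of_le_right (inf_le_inf_right _ hWE))))) (le_sup_of_le_left le_sup_left))
    · rfl
  have w6 : ⁅E, zpowers τ⁆ ≤ W := (eq_of_le_of_card_ge w4 (w3.symm.trans w5.symm).le).ge.trans
    (commutator_le_left_of_le_normalizer nW)
  have w7 : zpowers β ≤ Nm(W) := le_normalizer_iff_commutator_le_left.2 ((commutator_mono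
    (hWE.trans (commutator_sup_Ct (t1.trans nE) (cE t1 le_rfl) (Or.inr inferInstance)).ge) le_rfl).trans
    ((commutator_sup_left_le le_normalizer (inf_le_left.trans (normalizer_commutator_ge_left _ _))
      (commutator_le_left_of_le_normalizer (le_normalizer_commutator nE nτ))
      ((commutator_eq_bot_iff_le_centralizer.2 H1).le.trans bot_le)).trans w6))
  set y := β * x * β⁻¹ with hy
  have hyL : y ∈ L := Comp.conj_mem_of_mem_normalizer (l2 (mem_zpowers β)) hx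
  have iy : τ * y * τ⁻¹ = y⁻¹ := by
    rw [hy, show τ * (β * x * β⁻¹) * τ⁻¹ = β * (τ * x * τ⁻¹) * β⁻¹ by rw [hτ]; group, ix]; group
  have w8 : ⁅E, zpowers y⁆ = W := by
    rw [← cj_zpowers, ← cj_eq_self_iff.2 hβE, ← cj_commutator, cj_eq_self_iff.2 (w7 (mem_zpowers β))]
  have zy : zpowers y ≤ Nm(W) := w8 ▸ normalizer_commutator_ge_right _ _
  have zx' : zpowers x ≤ Nm(W) := normalizer_commutator_ge_right _ _
  have hL : zpowers x ⊔ zpowers y ≤ Q := sup_le zx (zpowers_le.2 (l1 hyL))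
  by_cases hz : ⁅y, x⁆ = 1
  · have c1 : zpowers x ≤ Ct(zpowers y) := by
      rw [centralizer_zpowers]
      exact zpowers_le.2 (mem_centralizer_singleton_iff.2 (commutatorElement_eq_one_iff_mul_comm.1 hz).symm)
    have n1 : zpowers β ≤ Nm(zpowers x ⊔ zpowers y) := zpowers_le.2 (cj_eq_self_iff.1 (by
      rw [Subgroup.map_sup, cj_zpowers, cj_zpowers, show β * y * β⁻¹ = x⁻¹ by rw [← ix, hτ, hy, sq]; group,
        zpowers_inv, sup_comm]))
    have := card_eq_pow_of_fpf n1 (fun b hb h1 => (eq_bot_iff_forall _).2 fun g hg => iv g (hL hg.1) ?_ ?_)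
      inferInstance (sup_le zx' zy) w7 (coprime_card_sup n1 (cQE hL hWE) (cE le_rfl hWE))
      (eq_bot_iff.2 (w0 ▸ inf_le_inf_left _ (Comp.centralizer_mono le_sup_left)))
    · rw [Nat.card_zpowers, orderOf_eq_prime_pow (p := 2) (n := 1) (by rwa [pow_one]) hβ,
        show W ⊓ Ct(zpowers β) = W ⊓ Ct(zpowers τ) from le_antisymm (inf_le_inf_left _ (Comp.centralizer_mono t1))
          (le_inf inf_le_left ((inf_le_inf_right _ hWE).trans H1)), w1, w2, w5] at this
      exact absurd (Nat.pow_right_injective (Nat.one_lt_pow two_ne_zero hq.out.one_lt) this) (by norm_num)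
    · obtain ⟨a, ha, b, hb, rfl⟩ := (Comp.mem_sup_of_le_normalizer (le_normalizer_of_le_centralizer c1)).1 hg.1
      rw [← conj_mul, ivz ix a ha, ivz iy b hb, ← mul_inv_rev, c1 ha b hb]
    · obtain ⟨k, rfl⟩ := mem_powers_iff_mem_zpowers.2 hb
      have h2 : β ^ (k % 2 ^ (1 + 1)) ∈ C1(g) := by
        rw [← pow_eq_pow_mod k hβ]
        exact mem_centralizer_singleton_iff.2 (mem_centralizer_singleton_iff.1 hg.2).symm
      have := pow_mem_of_pow hβ (Nat.pos_of_ne_zero fun e => h1 (by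
        rw [show (fun n => β ^ n) k = β ^ k from rfl, pow_eq_pow_mod k hβ, e, pow_zero])) (Nat.mod_lt _ (by norm_num)) h2
      exact mem_centralizer_singleton_iff.2 (mem_centralizer_singleton_iff.1 this).symm
  set z := ⁅y, x⁆ with hzd
  have z1 : z ∈ ⁅L, L⁆ := commutator_mem_commutator hyL hx
  have z2 : z ∈ L := Comp.commutator_le_left_of_le_normalizer le_normalizer z1
  have z3 : z ∈ Ct(L) := l7 ⟨z2, l6 z1⟩
  have z4 : Commute z x := (z3 x hx).symm
  have z5 : ∀ k i : ℕ, y ^ k * x ^ i * (y ^ k)⁻¹ = (z ^ i) ^ k * x ^ i := fun k i => by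
    induction k with
    | zero => simp
    | succ k ih =>
      have e1 : y * x ^ i * y⁻¹ = z ^ i * x ^ i := by
        rw [← conj_pow, ← z4.mul_pow, hzd, commutatorElement_def, inv_mul_cancel_right]
      rw [show y ^ (k + 1) * x ^ i * (y ^ (k + 1))⁻¹ = y * (y ^ k * x ^ i * (y ^ k)⁻¹) * y⁻¹ by group, ih,
        ← mul_assoc, pow_mem (pow_mem z3 i) k y hyL, mul_assoc, mul_assoc, ← mul_assoc y, e1, ← mul_assoc,
        ← pow_succ]
  have oz : orderOf z = orderOf x := by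
    haveI := Fact.mk ox
    refine orderOf_eq_prime ?_ hz
    simpa [pow_orderOf_eq_one] using (z5 1 (orderOf x)).symm
  have hxz : zpowers x ≤ Ct(zpowers z) := by
    rw [centralizer_zpowers]; exact zpowers_le.2 (mem_centralizer_singleton_iff.2 z4.symm)
  have zz : zpowers z ≤ zpowers x ⊔ zpowers y := zpowers_le.2 (by
    have a := mem_sup_left (T := zpowers y) (mem_zpowers x)
    have b := mem_sup_right (S := zpowers x) (mem_zpowers y)
    exact mul_mem (mul_mem (mul_mem b a) (inv_mem b)) (inv_mem a))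
  have hA : zpowers x ⊔ zpowers z ≤ zpowers x ⊔ zpowers y := sup_le le_sup_left zz
  have k1 : W ≤ Ct(zpowers z) := by
    refine le_of_forall_C1 (A := zpowers x ⊔ zpowers z) (comm_iff_le.2 (by
      rw [centralizer_sup]
      exact sup_le (le_inf (comm_iff_le.1 inferInstance) hxz)
        (le_inf (le_Ct_comm.1 hxz) (comm_iff_le.1 inferInstance)))) (fun hc => hz (iv z (l1 z2) (ivz ix z
          (Solv.le_of_isCyclic_of_card_dvd hc le_sup_right le_sup_left (by simp [oz]) (mem_zpowers z)))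
          (by rw [← centralizer_zpowers]; exact l6 z1))) (hA.trans (sup_le zx' zy)) (cQE (hA.trans hL) hWE)
      fun a ha h1 => ?_
    obtain ⟨u, hu, w, hw, rfl⟩ := (Comp.mem_sup_of_le_normalizer (le_normalizer_of_le_centralizer hxz)).1 ha
    by_cases hu1 : u = 1
    · rw [hu1, one_mul] at h1 ⊢
      rw [Solv.eq_of_card_prime_of_mem (oz ▸ ox) (Nat.card_zpowers z) hw h1, centralizer_zpowers]
      exact inf_le_right
    obtain ⟨i, rfl⟩ : ∃ i : ℕ, x ^ i = u := mem_powers_iff_mem_zpowers.2 hu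
    rw [Solv.eq_of_card_prime_of_mem (oz ▸ ox) (Nat.card_zpowers z) (pow_mem (mem_zpowers z) i) fun e =>
      hu1 (by rwa [← orderOf_dvd_iff_pow_eq_one, oz, orderOf_dvd_iff_pow_eq_one] at e)] at hw
    obtain ⟨k, rfl⟩ : ∃ k : ℕ, (z ^ i) ^ k = w := mem_powers_iff_mem_zpowers.2 hw
    rw [← (((z4.pow_left i).pow_left k).pow_right i).eq, ← z5, ← cj_centralizer_singleton,
      ← cj_eq_self_iff.2 (pow_mem (zy (mem_zpowers y)) k), ← cj_inf, ← centralizer_zpowers,
      ← Solv.eq_of_card_prime_of_mem ox (Nat.card_zpowers x) hu hu1, w0, cj_bot]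
    exact bot_le
  have k2 := Solv.coprime_le_centralizer_of_quadratic (zz.trans (hL.trans hQE)) (cQE (zz.trans hL) le_rfl)
    (eq_bot_iff.2 ((commutator_mono ((commutator_mono le_rfl zz).trans (commutator_sup_right_le zx' zy le_rfl w8.le))
      le_rfl).trans (commutator_eq_bot_iff_le_centralizer.2 k1).le))
  exact hz (mem_bot.1 (hf ▸ ⟨l1 z2, k2 (mem_zpowers z)⟩))

end Cfsg.Agent.Sh
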