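import Cfsg.Agent.Lib.Fusion.Gr2

/-!
The core of Gross's theorem.
-/

set_option autoImplicit false
set_option linter.unusedSectionVars false
set_option linter.unusedVariables false
set_option linter.style.haveILetI false

namespace Cfsg.Agent.Sh

open Subgroup Cfsg.Agent.Comp Cfsg.Agent.BG Cfsg.Agent.HH
open scoped commutatorElement

universe u v w

variable {F : Type w} [Field F] [IsAlgClosed F] {U : Type v} [AddCommGroup U] [Module F U]
  [FiniteDimensional F U] {W : Type v} [AddCommGroup W] [Module F W] [FiniteDimensional F W] {q s : ℕ}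

section
variable {Q : Type u} [Group Q] [Finite Q] {σ : Representation F Q U}

theorem perp_fix [σ.IsIrreducible] (h2 : ∀ a b : Q, ⁅a, b⁆ ∈ Sc σ) {β : MulAut Q} (hβ : β ∈ Tw σ) {t : Q}
    (ht : β t * t⁻¹ ∈ Sc σ) (g : Q) : β g * g⁻¹ ∈ perp h2 t := by
  show σ ⁅β g * g⁻¹, t⁆ = 1
  have h3 : σ ⁅β g, t⁆ = σ ⁅g, t⁆ := by
    rw [← comm_mul_Sc ht, inv_mul_cancel_right, ← map_commutatorElement, tw_Sc hβ (h2 _ _)]
  rw [commutatorElement_mul_left_eq_conj_mul, map_mul, map_mul, map_mul, h3, ← h2 g⁻¹ t, mul_assoc (σ _),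
    ← map_mul σ (β g), mul_inv_cancel, map_one, mul_one, commutatorElement_inv_left, map_mul, map_mul,
    ← h2 t g, mul_assoc (σ _), ← map_mul σ g⁻¹, inv_mul_cancel, map_one, mul_one, ← map_mul,
    ← commutatorElement_inv g, inv_mul_cancel, map_one]

/-- the action of the stabilizer on the quotient by the scalars -/
def qact (σ : Representation F Q U) [σ.IsIrreducible] : MulDistribMulAction (Tw σ) (Q ⧸ Sc σ) where
  smul a e := QuotientGroup.map (Sc σ) (Sc σ) (a.1 : Q →* Q) (fun _ ht => tw_mem a.2 ht) e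
  one_smul e := by obtain ⟨e, rfl⟩ := QuotientGroup.mk_surjective e; rfl
  mul_smul a b e := by obtain ⟨e, rfl⟩ := QuotientGroup.mk_surjective e; rfl
  smul_one a := map_one _
  smul_mul a := map_mul _

theorem lemB [σ.IsIrreducible] [hq : Fact q.Prime] [hs : Fact s.Prime] (hq2 : q ≠ 2) (hs2 : s ≠ 2)
    (hsq : s ≠ q) (hQ : IsPGroup q Q) (h2 : ∀ a b : Q, ⁅a, b⁆ ∈ Sc σ) {S : Subgroup (Tw σ)}
    (hS : IsPGroup s S) {β : Tw σ} (hβ : β ^ 2 ^ (1 + 1) = 1) (hn : β ∈ Nm(S))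
    (H1 : Fx σ (β ^ 2).1 ≤ Fx σ β.1) (H2 : (Sc σ).index = q ^ 2 * (Sc σ).relIndex (Fx σ (β ^ 2).1))
    {x : Tw σ} (hx : x ∈ S) (t : Q) : t ∈ Fx σ ⁅x, β ^ 2⁆.1 := by
  letI := qact σ
  obtain ⟨X, _, _, i, j, hX⟩ := exists_act (MonoidHom.id (MulAut (Q ⧸ Sc σ)))
  haveI := hX.normal
  let Θ := MulDistribMulAction.toMulAut (Tw σ) (Q ⧸ Sc σ)
  let ψ := j.comp Θ
  let f := i.comp (QuotientGroup.mk' (Sc σ))
  have kf : f.ker = Sc σ := by
    rw [← QuotientGroup.ker_mk' (Sc σ), ← MonoidHom.comap_ker, (MonoidHom.ker_eq_bot_iff i).2 hX.inj]; rfl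
  have rf : ∀ {u}, u ∈ i.range → ∃ t, f t = u := by
    rintro _ ⟨e, rfl⟩; obtain ⟨t, rfl⟩ := QuotientGroup.mk_surjective e; exact ⟨t, rfl⟩
  have mC : ∀ (a : Tw σ), i.range ⊓ Ct(zpowers (ψ a)) = (Fx σ a.1).map f := fun a => by
    rw [centralizer_zpowers]
    refine le_antisymm (fun u hu => ?_) ?_
    · obtain ⟨t, rfl⟩ := rf hu.1
      exact ⟨t, hX.mem_C1_iff.1 hu.2, rfl⟩
    · rintro _ ⟨t, ht, rfl⟩
      exact ⟨⟨_, rfl⟩, hX.mem_C1_iff.2 ht⟩
  have mP : ∀ {g t : Q}, f t ∈ (perp h2 g).map f → t ∈ perp h2 g := fun {g t} h => by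
    have := mem_comap.2 h
    rwa [comap_map_eq, kf, sup_eq_left.2 fun n hn => comm_symm (mem_Sc.1 hn g)] at this
  have hP : ∀ (a : Tw σ), ∀ g ∈ Fx σ a.1, ⁅i.range, zpowers (ψ a)⁆ ≤ (perp h2 g).map f := fun a g hg => by
    rw [Subgroup.commutator_comm]
    refine commutator_le.2 fun b hb u hu => ?_
    obtain ⟨k, rfl⟩ : ∃ k : ℕ, ψ a ^ k = b := mem_powers_iff_mem_zpowers.2 hb
    obtain ⟨t, rfl⟩ := rf hu
    refine ⟨_, perp_fix h2 (a ^ k).2 ((fixm σ g).pow_mem (x := a.1) ⟨a.2, mem_Fx.1 hg⟩ k).2 t, ?_⟩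
    rw [← map_pow, commutatorElement_def, map_mul, map_inv]
    exact congrArg (· * _) (hX.conj (Θ (a ^ k)) t).symm
  have := lemV (E := i.range) (Q := S.map ψ) (β := ψ β) hq2 hs2 hsq
    ⟨⟨fun a b => Subtype.ext (by
      obtain ⟨a, ha⟩ := a
      obtain ⟨b, hb⟩ := b
      obtain ⟨a, rfl⟩ := rf ha
      obtain ⟨b, rfl⟩ := rf hb
      exact commutatorElement_eq_one_iff_mul_comm.1 ((map_commutatorElement f a b).symm.trans
        (kf.ge (h2 a b))))⟩⟩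
    ((hQ.to_quotient _).of_surjective _ i.rangeRestrict_surjective) (hS.map ψ)
    (by rw [← map_pow, hβ, map_one]) le_normalizer_of_normal (le_normalizer_of_normal (mem_top _))
    (le_normalizer_map ψ ⟨β, hn, rfl⟩) ((eq_bot_iff_forall _).2 (by
      rintro _ ⟨⟨a, -, rfl⟩, h⟩
      exact (congrArg j (MulEquiv.ext fun e => hX.comm_iff.1 (h _ ⟨e, rfl⟩).symm)).trans (map_one j)))
    (by rw [← map_pow, mC]; exact (map_mono H1).trans ((mC β).ge.trans inf_le_right))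
    (by rw [← map_pow, mC, hX.card_range, ← relIndex_ker, kf, ← H2]; rfl) ?_
  · have h3 : ψ ⁅x, β ^ 2⁆ = 1 := by
      rw [map_commutatorElement, map_pow]
      exact commutatorElement_eq_one_iff_mul_comm.2 (this (mem_zpowers _) _ ⟨x, hx, rfl⟩)
    exact congrArg (fun φ : MulAut (Q ⧸ Sc σ) => φ t) (hX.jnj (h3.trans (map_one j).symm))
  · rintro _ ⟨a, ha, rfl⟩ u h1 h3 h4
    obtain ⟨t, rfl⟩ := rf (commutator_le_left _ _ h1)
    rw [← map_pow] at h3 h4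
    rw [mC, mC, ← MonoidHom.map_zpowers, ← Subgroup.map_sup, ← Subgroup.map_sup] at h4
    exact kf.ge (mem_Sc.2 fun g => mP (map_mono (sup_le (sup_le (fun g hg => comm_symm (mP (hP a g hg h1)))
      fun g hg => comm_symm (mP (hP _ g hg h3))) (zpowers_le.2 (show σ ⁅t, t⁆ = 1 by simp))) (h4 ⟨_, rfl⟩)))

theorem cliff2 [σ.IsIrreducible] {p n : ℕ} [hp : Fact p.Prime] (hc : (Nat.card Q : F) ≠ 0)
    (ρ : Representation F Q W) {ι : U →ₗ[F] W} (a1 : Function.Injective ι) (a2 : ∀ t u, ι (σ t u) = ρ t (ι u))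
    {α : MulAut Q} {Y : Module.End F W} (hY : Y ^ p ^ n = 1) (hα : α ^ p ^ n = 1)
    (hρ : ∀ t, Y * ρ t = ρ (α t) * Y) (h5 : ∀ w, Y w = w → w = 0) :
    ∃ (j r : ℕ) (B : Module.End F U), n = j + r + 1 ∧ B ^ p ^ (r + 1) = 1 ∧
      (∀ t, B * σ t = σ ((α ^ p ^ j) t) * B) ∧ ∀ u, B u = u → u = 0 := by
  obtain ⟨m, ι, π, B, b1, b2, b3, b4, b5, b6, b7⟩ := cliff ρ σ hc a1 a2 hρ (pow_pos hp.out.pos n)
    (hα ▸ one_mem _)
  obtain ⟨j, hj, rfl⟩ := (Nat.dvd_prime_pow hp.out).1 b2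
  obtain ⟨n₀, hn⟩ := Nat.exists_eq_add_of_le hj
  have hι := Function.LeftInverse.injective b3
  have c1 : ∀ k u, ((Y ^ p ^ j) ^ k) (ι u) = ι ((B ^ k) u) := fun k u => by
    induction k with
    | zero => rfl
    | succ k ih => rw [pow_succ', pow_succ', Module.End.mul_apply, ih, b6]; rfl
  have c2 : ∀ u, B u = u → u = 0 := fun u hu => by
    have := h5 ((∑ i ∈ Finset.range (p ^ j), Y ^ i) (ι u)) (by
      rw [← sub_eq_zero, ← Module.End.one_apply (R := F) ((∑ i ∈ Finset.range (p ^ j), Y ^ i) (ι u)),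
        Module.End.one_apply, ← Module.End.mul_apply]
      have := LinearMap.congr_fun (mul_geom_sum Y (p ^ j)) (ι u)
      rw [sub_mul, one_mul, LinearMap.sub_apply, LinearMap.sub_apply, b6, hu, Module.End.one_apply, sub_self] at this
      exact this)
    have := congrArg π this
    rwa [LinearMap.sum_apply, map_sum, Finset.sum_eq_single 0 (fun i hi h0 => b7 i (fun h => h0
      (Nat.eq_zero_of_dvd_of_lt h (Finset.mem_range.1 hi))) _) (fun h => (h (Finset.mem_range.2 b1)).elim),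
      pow_zero, Module.End.one_apply, b3, map_zero] at this
  haveI := Char.nontrivial_of_isIrreducible σ
  have d1 : B ^ p ^ n₀ = 1 := LinearMap.ext fun u => hι (by rw [← c1, ← pow_mul, ← pow_add, ← hn, hY]; rfl)
  obtain rfl | ⟨r, rfl⟩ := n₀.eq_zero_or_eq_succ_pred.imp_right fun e => (⟨_, e⟩ : ∃ r, n₀ = r + 1)
  · obtain ⟨u, hu⟩ := exists_ne (0 : U)
    exact absurd (c2 u (by rw [pow_zero, pow_one] at d1; rw [d1]; rfl)) hu
  exact ⟨j, r, B, hn, d1, fun t => LinearMap.ext fun u => hι (by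
    rw [Module.End.mul_apply, Module.End.mul_apply, ← b6, b4, b4, ← b6, ← Module.End.mul_apply,
      pow_comm_aut ρ hρ]; rfl), c2⟩

end

variable {G : Type u} [Group G] [Finite G] {R Q : Subgroup G} {g : G} {n : ℕ}

theorem gr_core [hq : Fact q.Prime] [hs : Fact s.Prime] (hq2 : q ≠ 2) (hs2 : s ≠ 2) (hsq : s ≠ q)
    (h20 : (2 : F) ≠ 0) (hq0 : (q : F) ≠ 0) (ρ : Representation F G W) (h : g ^ 2 ^ (n + 1) = 1)
    (hR : IsPGroup q R) (hQ : IsPGroup s Q) (hQR : Q ≤ Nm(R)) (hgR : g ∈ Nm(R)) (hgQ : g ∈ Nm(Q))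
    (hW : ∀ w, ρ g w = w → w = 0) (hker : R ⊓ ρ.ker = ⊥) : ⁅Q, zpowers (g ^ 2 ^ n)⁆ ≤ Ct(R) := by
  haveI : Fact (Nat.Prime 2) := ⟨Nat.prime_two⟩
  by_contra e
  have t1 : zpowers (g ^ 2 ^ n) ≤ zpowers g := zpowers_le.2 (pow_mem (mem_zpowers g) _)
  have l0 := commutator_commutator_eq (t1.trans (zpowers_le.2 hgQ)) (cop h _ (coprime_of_isPGroup_of_ne hs2 hQ))
    (Or.inl (Solv.isSolvable_zpowers _))
  have l1 : ⁅Q, zpowers (g ^ 2 ^ n)⁆ ≤ Q := commutator_le_left_of_le_normalizer (t1.trans (zpowers_le.2 hgQ))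
  have l2 : zpowers g ≤ Nm(⁅Q, zpowers (g ^ 2 ^ n)⁆) := le_normalizer_commutator (zpowers_le.2 hgQ)
    (le_normalizer_of_le_centralizer ((comm_iff_le.1 inferInstance).trans (Comp.centralizer_mono t1)))
  replace hQ := hQ.to_le l1
  replace hQR := l1.trans hQR
  generalize ⁅Q, zpowers (g ^ 2 ^ n)⁆ = Q at e l0 l2 hQ hQR
  obtain ⟨R, b1, hX, m0, m2⟩ := exists_min_not_le_Ct (sup_le hQR (zpowers_le.2 hgR)) e
  replace hR := hR.to_le b1
  obtain ⟨l5, l6, l7⟩ := min_not_le_Ct (isSolvable_of_isPGroup hR) hX le_sup_left (sup_le le_normalizer l2)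
    (coprime_of_isPGroup hQ (coprime_of_isPGroup_of_ne hsq.symm hR)) m0 m2
  replace hQR : Q ≤ Nm(R) := le_sup_left.trans hX
  replace hgR : g ∈ Nm(R) := hX (mem_sup_right (mem_zpowers g))
  have hR0 : R ≠ ⊥ := fun e => m0 (by rw [e]; exact le_Ct_comm.1 bot_le)
  have hc : (Nat.card R : F) ≠ 0 := by
    obtain ⟨k, hk⟩ := hR.exists_card_eq
    rw [hk, Nat.cast_pow]; exact pow_ne_zero _ hq0
  obtain ⟨U, _, _, _, σ, ι, hσ, a1, a2, a3⟩ := exists_irr_ne_one (ρ.comp R.subtype) hc ⊤ fun e =>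
    hR0 (eq_bot_iff.2 (hker ▸ le_inf b1 fun x hx => e (mem_top ⟨x, hx⟩)))
  haveI := Char.nontrivial_of_isIrreducible σ
  have h3 : ∀ a b : R, ⁅a, b⁆ ∈ Sc σ := fun a b => center_le_Sc (mem_center_iff.2 fun g => Subtype.ext
    (l7 ⟨(⁅a, b⁆ : R).2, l6 (commutator_mem_commutator a.2 b.2)⟩ g g.2))
  have cl : ∀ y (hy : y ∈ Nm(R)), y ^ 2 ^ (n + 1) = 1 → (∀ w, ρ y w = w → w = 0) →
      ∃ (j r : ℕ) (B : Module.End F U), n = j + r ∧ B ^ 2 ^ (r + 1) = 1 ∧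
      (∀ t, B * σ t = σ ((R.normalizerMonoidHom ⟨y, hy⟩ ^ 2 ^ j) t) * B) ∧ (∀ u, B u = u → u = 0) ∧
      y ^ 2 ^ j ∈ In σ := fun y hy h1 h2 => by
    obtain ⟨j, r, B, c1, c2, c3, c4⟩ := cliff2 (α := R.normalizerMonoidHom ⟨y, hy⟩) (Y := ρ y) hc _ a1 a2
      (by rw [← map_pow, h1, map_one])
      (by rw [← map_pow]; exact (congrArg _ (Subtype.ext h1)).trans (map_one _)) (fun t => by
        rw [MonoidHom.comp_apply, MonoidHom.comp_apply, ← map_mul, ← map_mul]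
        exact congrArg _ (inv_mul_cancel_right (y * t) y).symm) h2
    refine ⟨j, r, B, Nat.succ_injective c1, c2, c3, c4, (mem_In (pow_mem hy _)).2 ?_⟩
    have := mem_Tw σ (fun e => by
      rw [e, zero_pow (pow_pos two_pos _).ne'] at c2; exact zero_ne_one c2) c3
    rwa [← map_pow] at this
  have t2 : ∀ x ∈ Nm(R), x * g ^ 2 ^ n * x⁻¹ ∈ In σ := fun x hx => by
    obtain ⟨j, r, B, rfl, -, -, -, c5⟩ := cl (x * g * x⁻¹) (mul_mem (mul_mem hx hgR) (inv_mem hx))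
      (by rw [conj_pow, h, mul_one, mul_inv_cancel]) fun w hw => by
        have := congrArg (ρ x) (hW (ρ x⁻¹ w) (by
          conv_rhs => rw [← hw]
          show _ = (ρ x⁻¹ * ρ (x * g * x⁻¹)) w
          rw [← map_mul, ← mul_assoc, inv_mul_cancel_left, map_mul]; rfl))
        rwa [map_zero, ← Module.End.mul_apply, ← map_mul, mul_inv_cancel, map_one] at this
    rw [← conj_pow, pow_add, pow_mul]
    exact pow_mem c5 _
  have t3 : g ^ 2 ^ n ∈ In σ := by simpa using t2 1 (one_mem _)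
  have t4 : Q ≤ In σ := l0.ge.trans (commutator_le.2 fun x hx y hy => mul_mem
    ((zpowers_le.2 (t2 x (hQR hx)) : zpowers _ ≤ (In σ).comap (MulAut.conj x).toMonoidHom) hy)
    (inv_mem (zpowers_le.2 t3 hy)))
  set N := actKer ((Sc σ).map R.subtype) R
  have mN : ∀ x (hx : x ∈ In σ), (∀ t, t ∈ Fx σ (R.normalizerMonoidHom ⟨x, In_le σ hx⟩)) → x ∈ N :=
    fun x hx h => ⟨In_le_Nm σ hx, fun t ht => ⟨_, mem_Fx.1 (h ⟨t, ht⟩), rfl⟩⟩
  have nN : In σ ≤ Nm(N) := Comp.le_normalizer_actKer (In_le_Nm σ) (In_le σ)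
  have t5 : ¬ Q ≤ N := fun e => by
    have h1 := (le_actKer_iff.1 e).2
    rw [Subgroup.commutator_comm, l5] at h1
    have h2 := comm_In σ t4
    rw [le_antisymm (map_subtype_le _) h1, l5] at h2
    exact a3 (ker_top σ h2)
  obtain ⟨j, r, B, rfl, c2, c3, c4, c5⟩ := cl g hgR h hW
  have hk : ∀ k (h : g ^ k ∈ Nm(R)), R.normalizerMonoidHom ⟨g ^ k, h⟩ = R.normalizerMonoidHom ⟨g, hgR⟩ ^ k :=
    fun k h => map_pow _ (⟨g, hgR⟩ : Nm(R)) k
  obtain ⟨b, rfl, d1, d2⟩ := lemA hq2 hR hc h20 h3 c2 (by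
    rw [← pow_mul, ← pow_add, ← add_assoc, ← hk _ (pow_mem hgR _)]
    exact (congrArg _ (Subtype.ext h)).trans (map_one _)) c3 c4 fun e => t5 (l0.ge.trans
      ((commutator_mono le_rfl (zpowers_le.2 (mN _ t3 fun t => by
        rw [hk, pow_add, pow_mul, e]; trivial))).trans (commutator_le_right_of_le_normalizer (t4.trans nN))))
  rw [← pow_mul, ← pow_mul, ← pow_add, ← pow_add] at d1
  rw [← pow_mul, ← pow_add] at d2
  let φ : In σ →* Tw σ := (R.normalizerMonoidHom.comp (inclusion (In_le σ))).codRestrict _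
    fun x => (mem_In _).1 x.2
  have t6 : g ^ 2 ^ (j + b) ∈ In σ := by rw [pow_add, pow_mul]; exact pow_mem c5 _
  have e1 : (⟨_, t6⟩ : In σ) ^ 2 = ⟨_, t3⟩ := Subtype.ext (by
    show (g ^ 2 ^ (j + b)) ^ 2 = _
    rw [← pow_mul, ← pow_succ, add_assoc])
  refine t5 (l0.ge.trans ?_)
  rw [Subgroup.commutator_comm]
  refine (le_actKer_iff.1 (zpowers_le.2 ⟨nN t3, fun x hx => ?_⟩)).2
  rw [← commutatorElement_inv]
  refine inv_mem (mN _ (⁅(⟨x, t4 hx⟩ : In σ), (⟨_, t3⟩ : In σ)⁆).2 fun t => ?_)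
  have := lemB hq2 hs2 hsq hR h3 ((Solv.isPGroup_subgroupOf hQ (In σ)).map φ) (β := φ ⟨_, t6⟩)
    (by
      rw [← map_pow, pow_succ' 2 1, pow_mul, e1]
      exact (congrArg _ (Subtype.ext (by
        show (g ^ 2 ^ (j + (b + 1))) ^ 2 ^ 1 = 1
        rw [← pow_mul, ← pow_add, h]))).trans (map_one _))
    (le_normalizer_map φ ⟨_, subgroupOf_le_normalizer (zpowers_le.2 (pow_mem (l2 (mem_zpowers g)) _)) (In σ)
      (mem_zpowers _), rfl⟩)
    (by rw [← map_pow, e1]; rwa [← hk _ (pow_mem hgR _), ← hk _ (pow_mem hgR _)] at d1)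
    (by rw [← map_pow, e1]; rwa [← hk _ (pow_mem hgR _)] at d2) (x := φ ⟨x, t4 hx⟩) ⟨_, hx, rfl⟩ t
  rwa [← map_pow, e1, ← map_commutatorElement] at this

end Cfsg.Agent.Sh
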