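import Cfsg.Agent.Lib.Fusion.Gr3

/-!
Gross's theorem.
-/

set_option autoImplicit false
set_option linter.unusedSectionVars false
set_option linter.unusedVariables false
set_option linter.style.haveILetI false

namespace Cfsg.Agent.Sh

open Subgroup Cfsg.Agent.Comp Cfsg.Agent.BG Cfsg.Agent.HH
open scoped commutatorElement

universe u v w

variable {G : Type u} [Group G] [Finite G] {q r s n : ℕ} {R Q A K U H : Subgroup G} {g : G}

theorem chief_hall [hr : Fact r.Prime] (c : Chief ⊤ U ⊥) (hU : IsPGroup r U) [hK : K.Normal]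
    (hs : Group.IsSolvable K) (hc : (Nat.card A).Coprime (Nat.card K)) (hH : HallIn {r}ᶜ H K)
    (a : ⁅A, H⁆ ≤ Ct(U)) : ⁅A, K⁆ ≤ Ct(U) := by
  have hKn : ⊤ ≤ Nm(K) := Comp.normal_iff_top_le_normalizer.1 hK
  have hq : ⊤ ≤ Nm(Ct(U)) := Comp.le_normalizer_centralizer c.nU
  rw [← img_le_centralizer_iff (h := hq) le_top le_top] at a ⊢
  refine le_Ct_of_le_Ct_Fit (isSolvable_img hs) (img_le_normalizer (le_top.trans hKn))
    (coprime_img hc) (a.trans (Comp.centralizer_mono ?_))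
  refine (Fit_le_Op_sup_Opp (p := r) _).trans ?_
  rw [Op_img_Ct c hU hq, bot_sup_eq, ← Opi_compl_singleton]
  exact (hH.img le_top).Opi_le

theorem nm_comm [K.Normal] (k : ℕ) : K ⊔ zpowers g ≤ Nm(⁅zpowers (g ^ k), K⁆) := sup_le
    (le_sup_right.trans (sup_le_normalizer_commutator _ _)) (Comp.le_normalizer_commutator
      (le_normalizer_of_le_centralizer ((comm_iff_le.1 inferInstance).trans (Comp.centralizer_mono
        (zpowers_le.2 (pow_mem (mem_zpowers g) _))))) le_normalizer_of_normal)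

theorem fit_of_hall [K.Normal] (hs : Group.IsSolvable K) (hc : (Nat.card (zpowers g)).Coprime (Nat.card K))
    (k : ℕ) (h : ∀ q : ℕ, q.Prime → ∀ H, HallIn {q}ᶜ H K → zpowers g ≤ Nm(H) →
      ⁅zpowers (g ^ k), H⁆ ≤ Ct(Op q K)) : ⁅zpowers (g ^ k), K⁆ ≤ Fit K := by
  refine le_Fit_of_chief hs le_sup_left le_normalizer_of_normal (commutator_le_right _ _) (nm_comm k)
    fun U V c d => ?_
  have hUK := d.trans (Fit_le K)
  have hU : U ≤ K ⊔ zpowers g := hUK.trans le_sup_left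
  have t1 : zpowers (g ^ k) ≤ zpowers g := zpowers_le.2 (pow_mem (mem_zpowers g) _)
  have a2 := t1.trans (le_sup_right : _ ≤ K ⊔ zpowers g)
  obtain ⟨q, hq, hi⟩ := c.exists_piN (hU.trans c.nV) (Comp.isSolvable_of_le hUK hs)
  haveI := Fact.mk hq
  haveI := img_normal (h := c.nV) (H := K) le_normalizer_of_normal
  obtain ⟨H, hH, hn⟩ := exists_invariant_hallIn le_normalizer_of_normal hc hs {q}ᶜ
  have a3 : ⁅zpowers (g ^ k), H⁆ ≤ K ⊔ zpowers g :=
    (commutator_le_sup _ _).trans (sup_le a2 (hH.le.trans le_sup_left))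
  rw [← img_le_centralizer_iff (h := c.nV) hU ((commutator_le_right _ _).trans le_sup_left), le_Ct_comm,
    img_commutator a2 le_sup_left]
  refine chief_hall (c.img_bot hU) (c.isPGroup_img hU hi) (isSolvable_img hs)
    (coprime_img (hc.of_dvd_left (card_dvd_of_le t1))) (hH.img le_sup_left) ?_
  rw [← img_commutator a2 (hH.le.trans le_sup_left), img_le_centralizer_iff a3 hU]
  obtain ⟨P, hP⟩ := exists_sylIn q U
  have h1 : P ≤ Op q K := ((subnIn_of_isNilpotent (Comp.isNilpotent_of_le d (isNilpotent_Fit K)) hP.le).le_Op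
    hP.isP).trans (Op_le_Op_of_normal hUK (le_sup_left.trans c.nU))
  rw [← sup_eq_of_piN hP c.lt.le (hU.trans c.nV) hi]
  exact commutator_sup_right_le le_normalizer (hP.le.trans (hU.trans c.nV))
    (commutator_le_right_of_le_normalizer (a3.trans c.nV))
    ((commutator_eq_bot_iff_le_centralizer.2 ((h q hq H hH hn).trans (Comp.centralizer_mono h1))).le.trans bot_le)

theorem inv_of_sq (hn : g ∈ Nm(K)) (h0 : K ⊓ Ct(zpowers g) = ⊥) (h : g ^ 2 ∈ Ct(K)) {k : G} (hk : k ∈ K) :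
    g * k * g⁻¹ = k⁻¹ := by
  rw [centralizer_zpowers] at h0
  exact congrArg Subtype.val (congrFun (MonoidHom.FixedPointFree.coe_eq_inv_of_involutive
    (φ := K.normalizerMonoidHom ⟨g, hn⟩) (fun t ht => Subtype.ext (mem_bot.1 (h0 ▸ ⟨t.2,
      mem_centralizer_singleton_iff.2 (mul_inv_eq_iff_eq_mul.1 (congrArg Subtype.val ht)).symm⟩)))
    fun t => Subtype.ext (show g * (g * t * g⁻¹) * g⁻¹ = t by
      rw [show g * (g * t * g⁻¹) * g⁻¹ = g ^ 2 * t * (g ^ 2)⁻¹ by rw [sq]; group, ← h t t.2,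
        mul_inv_cancel_right])) ⟨k, hk⟩)

section
variable {F : Type w} [Field F] [IsAlgClosed F] {W : Type v} [AddCommGroup W] [Module F W]
  [FiniteDimensional F W]

theorem gr_fit [K.Normal] (h20 : (2 : F) ≠ 0) (ρ : Representation F G W) (h : g ^ 2 ^ (n + 1) = 1)
    (hs : Group.IsSolvable K) (ho : (Nat.card K).Coprime 2) (hW : ∀ w, ρ g w = w → w = 0)
    (hker : K ⊓ ρ.ker = ⊥) (hO : ∀ q : ℕ, q.Prime → (q : F) = 0 → Op q K = ⊥) :
    ⁅zpowers (g ^ 2 ^ n), K⁆ ≤ Fit K := by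
  haveI : Fact (Nat.Prime 2) := ⟨Nat.prime_two⟩
  refine fit_of_hall hs (cop1 h ho) _ fun q hq H hH hn => ?_
  haveI := Fact.mk hq
  by_cases e : Op q K = ⊥
  · rw [e]; exact le_Ct_comm.1 bot_le
  have ne : ∀ {t : ℕ}, t.Prime → t ∣ Nat.card K → t ≠ 2 := fun h1 h2 e =>
    h1.ne_one ((Nat.coprime_self _).1 (by simpa only [← e] using ho.of_dvd_left h2))
  rw [Subgroup.commutator_comm]
  refine (le_actKer_iff.1 (inf_eq_left.1 (eq_of_forall_sylIn inf_le_left fun t ht hd => ?_))).2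
  haveI := Fact.mk ht
  obtain ⟨T, b1, b2⟩ := exists_invariant_sylIn t hn (cop1 h (ho.of_dvd_left (card_dvd_of_le hH.le)))
    (Or.inl (Solv.isSolvable_zpowers g))
  exact ⟨T, b1, le_inf b1.le (le_actKer_iff.2 ⟨le_normalizer_centralizer (le_normalizer_Op le_normalizer_of_normal),
    gr_core (ne hq ((Solv.dvd_card_of_isPGroup (isPGroup_Op q K) e).trans (card_dvd_of_le (Op_le q K))))
      (ne ht (hd.trans (card_dvd_of_le hH.le))) (fun e => ht.ne_one ((Nat.coprime_self t).1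
        (by simpa only [← e] using (isPi_compl_singleton.1 hH.isPi).of_dvd_left hd))) h20
      (fun h => e (hO q hq h)) ρ h (isPGroup_Op q K) b1.isP (le_normalizer_Op le_normalizer_of_normal)
      (le_normalizer_Op le_normalizer_of_normal (mem_top g)) (b2 (mem_zpowers g)) hW
      (eq_bot_iff.2 (hker ▸ inf_le_inf_right _ (Op_le q K)))⟩)⟩

theorem c4_core [hq : Fact q.Prime] [hs : Fact s.Prime] (h : g ^ 2 ^ 2 = 1) (hq2 : q ≠ 2) (hs2 : s ≠ 2)
    (hsq : s ≠ q) (h20 : (2 : F) ≠ 0) (hq0 : (q : F) ≠ 0) (ρ : Representation F G W) (hR : IsPGroup q R)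
    (hQ : IsPGroup s Q) (hQR : Q ≤ Nm(R)) (hAR : zpowers g ≤ Nm(R)) (hAQ : zpowers g ≤ Nm(Q))
    (hRA : R ⊓ Ct(zpowers g) = ⊥) (hQA : Q ⊓ Ct(zpowers g) = ⊥) (hW : ∀ w, ρ g w = w → w = 0)
    (hker : R ⊓ ρ.ker = ⊥) : Q ≤ Ct(R) := by
  haveI : Fact (Nat.Prime 2) := ⟨Nat.prime_two⟩
  by_contra e
  obtain ⟨Q, a1, hAQ, a3, a4⟩ := exists_min_not_le_Ct hAQ fun h => e (le_Ct_comm.1 h)
  obtain ⟨R, b1, hX, m0, m2⟩ := exists_min_not_le_Ct (sup_le (a1.trans hQR) hAR) fun h => a3 (le_Ct_comm.1 h)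
  replace hR := hR.to_le b1
  replace hQ := hQ.to_le a1
  replace hRA : R ⊓ Ct(zpowers g) = ⊥ := eq_bot_iff.2 (hRA ▸ inf_le_inf_right _ b1)
  replace hQA : Q ⊓ Ct(zpowers g) = ⊥ := eq_bot_iff.2 (hQA ▸ inf_le_inf_right _ a1)
  have m1 : ∀ Y, Y < Q → zpowers g ≤ Nm(Y) → Y ≤ Ct(R) := fun Y h1 h2 =>
    (le_Ct_comm.1 (a4 Y h1 h2)).trans (Comp.centralizer_mono b1)
  have hd : Nat.card (zpowers g) ∣ 2 ^ 2 := Nat.card_zpowers g ▸ orderOf_dvd_of_pow_eq_one h
  have c2 := coprime_of_isPGroup_of_ne hs2 hQ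
  have cQR := coprime_of_isPGroup hQ (coprime_of_isPGroup_of_ne hsq.symm hR)
  obtain ⟨l5, l6, l7⟩ := min_not_le_Ct (isSolvable_of_isPGroup hR) hX le_sup_left (sup_le le_normalizer hAQ)
    cQR m0 m2
  refine gen_min hsq (fun e => ?_) hq0 ρ (fun B h1 h2 h3 => ?_)
    (cop1 h ((Nat.coprime_primes hq.out Nat.prime_two).2 hq2))
    (cop1 h ((Nat.coprime_primes hs.out Nat.prime_two).2 hs2)) hR hQ (le_sup_left.trans hX) (le_sup_right.trans hX)
    hAQ hRA (fun w hw => hW w (hw g (mem_zpowers g))) (eq_bot_iff.2 (hker ▸ inf_le_inf_right _ b1)) m0 m1 m2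
    fun c hc hc' => ?_
  · obtain ⟨k, hk⟩ := hd
    have := congrArg (Nat.cast (R := F)) hk
    rw [Nat.cast_mul, e, zero_mul, Nat.cast_pow, Nat.cast_ofNat] at this
    exact pow_ne_zero 2 h20 this
  · obtain ⟨k, hk, e⟩ := (Nat.dvd_prime_pow Nat.prime_two).1 ((card_dvd_of_le h1).trans hd)
    interval_cases k
    · exact absurd (card_eq_one.1 e) h2
    · rw [e]; exact Nat.prime_two
    · exact absurd (eq_of_le_of_card_ge h1 ((Nat.le_of_dvd (by norm_num) hd).trans e.ge)) h3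
  refine le_trans ?_ (inf_Ct_le_commutator (le_sup_left.trans hX) cQR l5)
  by_cases e1 : ⁅Q, zpowers c⁆ = Q
  · rw [e1]; exact inf_le_inf_left _ (Comp.centralizer_mono le_sup_left)
  have hP : zpowers c ≤ zpowers g := zpowers_le.2 hc
  have hAP : zpowers g ≤ Nm(zpowers c) := le_normalizer_of_le_centralizer
    ((comm_iff_le.1 inferInstance).trans (Comp.centralizer_mono hP))
  have e2 : Q ≤ Ct(zpowers c) := by
    by_contra e2
    exact m0 ((commutator_sup_Ct (hP.trans hAQ) ((cop1 h c2).of_dvd_left (card_dvd_of_le hP))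
      (Or.inl (Solv.isSolvable_zpowers c))).ge.trans
      (sup_le (m1 _ (lt_of_le_of_ne (commutator_le_left_of_le_normalizer (hP.trans hAQ)) e1)
        (le_normalizer_commutator hAQ hAP)) (m1 _ (inf_lt_left.2 e2)
          (le_normalizer_inf hAQ (le_normalizer_centralizer hAP)))))
  have e3 : g ^ 2 ∈ zpowers c := Solv.le_of_isCyclic_of_card_dvd (C := zpowers g) inferInstance
    (zpowers_le.2 (pow_mem (mem_zpowers g) 2)) hP (by
      rw [Nat.card_zpowers, Nat.card_zpowers, (Nat.prime_dvd_prime_iff_eq hc' Nat.prime_two).1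
        (hc'.dvd_of_dvd_pow (((zpowers g).orderOf_dvd_natCard hc).trans hd))]
      exact orderOf_dvd_of_pow_eq_one (by rw [← pow_mul]; exact h)) (mem_zpowers _)
  have hV : Q ⊔ zpowers g ≤ Nm(R ⊓ Ct(zpowers c)) := le_normalizer_inf hX (le_normalizer_centralizer
    (sup_le (le_normalizer_of_le_centralizer e2) hAP))
  have i1 := fun v => inv_of_sq (k := v) (hV (mem_sup_right (mem_zpowers g)))
    (eq_bot_iff.2 (hRA ▸ inf_le_inf_right _ inf_le_left)) (le_Ct_comm.1 inf_le_right e3)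
  refine le_inf inf_le_left ((inf_le_inf_left _ (Comp.centralizer_mono le_sup_right)).trans fun v hv x hx => ?_)
  have i2 := inv_of_sq (hAQ (mem_zpowers g)) hQA (le_Ct_comm.1 e2 e3) hx
  have i3 := i1 _ (Comp.conj_mem_of_mem_normalizer (hV (mem_sup_left hx)) hv)
  rw [show g * (x * v * x⁻¹) * g⁻¹ = (g * x * g⁻¹) * (g * v * g⁻¹) * (g * x * g⁻¹)⁻¹ by group, i2, i1 v hv] at i3
  refine mem_centralizer_singleton_iff.1 (mem_of_cop two_pos c2.symm (mem_centralizer_singleton_iff.2 ?_)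
    (by rw [show x ^ Nat.card Q = 1 from congrArg Subtype.val (pow_card_eq_one' (x := (⟨x, hx⟩ : Q)))]
        exact one_mem _))
  calc x ^ 2 * v = x * (x * v * x⁻¹)⁻¹⁻¹ * x := by rw [sq]; group
    _ = v * x ^ 2 := by rw [← i3, sq]; group

theorem c4_nilp [K.Normal] (h : g ^ 2 ^ 2 = 1) (h20 : (2 : F) ≠ 0) (ρ : Representation F G W)
    (hs : Group.IsSolvable K) (ho : (Nat.card K).Coprime 2) (h0 : K ⊓ Ct(zpowers g) = ⊥)
    (hW : ∀ w, ρ g w = w → w = 0) (hker : K ⊓ ρ.ker = ⊥)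
    (hO : ∀ q : ℕ, q.Prime → (q : F) = 0 → Op q K = ⊥) : Group.IsNilpotent K := by
  haveI : Fact (Nat.Prime 2) := ⟨Nat.prime_two⟩
  refine nilp_of_res hs fun q hq => ?_
  haveI := Fact.mk hq
  by_cases e : Op q K = ⊥
  · rw [e]; exact le_Ct_comm.1 bot_le
  have ne : ∀ {t : ℕ}, t.Prime → t ∣ Nat.card K → t ≠ 2 := fun h1 h2 e =>
    h1.ne_one ((Nat.coprime_self _).1 (by simpa only [← e] using ho.of_dvd_left h2))
  obtain ⟨P, hP⟩ := exists_sylIn q K
  have hn : K ≤ Nm(K ⊓ Ct(Op q K)) := le_normalizer_inf le_normalizer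
    (le_normalizer_centralizer (le_normalizer_Op le_normalizer))
  refine (Res_le_of_le_sup (eq_of_forall_sylIn (sup_le inf_le_left hP.le) fun t ht hd => ?_).ge
    (hP.le.trans hn) hP.isP).trans inf_le_right
  by_cases e' : t = q
  · exact ⟨P, e' ▸ hP, le_sup_right⟩
  haveI := Fact.mk ht
  obtain ⟨T, b1, b2⟩ := exists_invariant_sylIn t le_normalizer_of_normal (cop1 h ho) (Or.inr hs)
  exact ⟨T, b1, le_sup_of_le_left (le_inf b1.le (c4_core h (ne hq ((Solv.dvd_card_of_isPGroup (isPGroup_Op q K)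
    e).trans (card_dvd_of_le (Op_le q K)))) (ne ht hd) e' h20 (fun h => e (hO q hq h)) ρ (isPGroup_Op q K)
    b1.isP (le_normalizer_Op (b1.le.trans le_normalizer)) (le_normalizer_Op le_normalizer_of_normal) b2
    (eq_bot_iff.2 (h0 ▸ inf_le_inf_right _ (Op_le q K))) (eq_bot_iff.2 (h0 ▸ inf_le_inf_right _ b1.le)) hW
    (eq_bot_iff.2 (hker ▸ inf_le_inf_right _ (Op_le q K)))))⟩

end

theorem exists_rep [hr : Fact r.Prime] (c : Chief ⊤ U ⊥) (hU : IsPGroup r U) [hK : K.Normal]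
    (hq : ⊤ ≤ Nm(K ⊓ Ct(U))) (hc : (Nat.card (zpowers g)).Coprime (Nat.card U)) (h0 : U ⊓ C1(g) = ⊥) :
    ∃ ρ : Representation (AlgebraicClosure (ZMod r)) (Quo hq) (Transfer.dualMod (AlgebraicClosure (ZMod r)) U),
      (∀ w, ρ (qmap hq ⟨g, mem_top g⟩) w = w → w = 0) ∧ img hq K ⊓ ρ.ker = ⊥ ∧
        ∀ q : ℕ, q.Prime → (q : AlgebraicClosure (ZMod r)) = 0 → Op q (img hq K) = ⊥ := by
  have hKn : ⊤ ≤ Nm(K) := Comp.normal_iff_top_le_normalizer.1 hK
  haveI := normal_subgroupOf_of_le_normalizer hq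
  let ρ : Representation (AlgebraicClosure (ZMod r)) (Quo hq) (Transfer.dualMod _ U) :=
    QuotientGroup.lift ((K ⊓ Ct(U)).subgroupOf ⊤) ((Transfer.dualRep _ U).comp (inclusion c.nU))
      fun x hx => Transfer.dualRep_eq_one _ hx.2
  have hρ : ∀ x : (⊤ : Subgroup G), ρ (qmap hq x) = Transfer.dualRep _ U ⟨x, c.nU x.2⟩ := fun x => rfl
  refine ⟨ρ, fun f hf => eq_zero_of_le_dker (le_trans (le_of_eq (commutator_eq_of_inf_Ct_eq_bot
      (le_top.trans c.nU) hc (Or.inl (Solv.isSolvable_zpowers g))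
      (by rwa [centralizer_zpowers])).symm) (commutator_zpowers_le_dker (c.nU (mem_top g)) hf)),
    eq_bot_iff.2 ?_, fun q hq' e => ?_⟩
  · rintro _ ⟨⟨x, hx, rfl⟩, h⟩
    have := Transfer.commutator_mem_of_dualRep_eq_one hU _ ((hρ x).symm.trans h)
    replace this := this.trans ((c.min _ (le_normalizer_Phi c.nU) bot_le (Phi_le U)).resolve_right
      (Solv.map_frattini_lt c.lt.ne').ne).le
    exact (qmap_eq_one hq).2 ⟨hx, commutator_eq_bot_iff'.1 (le_bot_iff.1 this) (mem_zpowers _)⟩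
  · obtain rfl := ((Nat.prime_dvd_prime_iff_eq hr.out hq').1 ((CharP.cast_eq_zero_iff _ r q).1 e))
    haveI : (Op r (img hq K)).Normal := Comp.normal_iff_top_le_normalizer.2 (le_normalizer_Op
      (Comp.normal_iff_top_le_normalizer.1 (img_normal hKn)))
    rw [← img_pre (Op r (img hq K)), img_eq_bot_iff le_top]
    refine le_inf ((pre_mono (Op_le r _)).trans (pre_img_of_le le_top inf_le_left).le)
      (c.le_Ct_of_res hU le_top (top_le_normalizer_pre _) (le_trans ?_ (inf_le_right (a := K))))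
    rw [← img_eq_bot_iff (h := hq) le_top, img_Res le_top, img_pre, Res_eq_bot_iff]
    exact isPGroup_Op r _

theorem gi_le_of_img {M N D : Subgroup G} (hq : M ≤ Nm(N)) (hD : D ≤ M) (h : Group.IsNilpotent (img hq D)) :
    Sg.gi D ≤ N := by
  rwa [← Sg.gi_eq_bot, show Sg.gi (img hq D) = Sg.LL 1 (img hq D) from rfl, ← img_LL hq hD,
    img_eq_bot_iff ((Sg.LL_le _ _).trans hD)] at h

theorem gr_chief [hr : Fact r.Prime] (c : Chief ⊤ U ⊥) (hU : IsPGroup r U) [hK : K.Normal]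
    (h : g ^ 2 ^ (n + 1) = 1) (hs : Group.IsSolvable K) (ho : (Nat.card K).Coprime 2)
    (hUp : (Nat.card U).Coprime 2) (h0 : U ⊓ C1(g) = ⊥) (h1 : K ⊓ C1(g) = ⊥) :
    Sg.gi ⁅zpowers (g ^ 2 ^ n), K⁆ ≤ Ct(U) ∧ (n = 1 → Sg.gi K ≤ Ct(U)) := by
  haveI : Fact (Nat.Prime 2) := ⟨Nat.prime_two⟩
  have hKn : ⊤ ≤ Nm(K) := Comp.normal_iff_top_le_normalizer.1 hK
  have hq : ⊤ ≤ Nm(K ⊓ Ct(U)) := le_normalizer_inf hKn (Comp.le_normalizer_centralizer c.nU)
  obtain ⟨ρ, a1, a2, a3⟩ := exists_rep c hU hq (cop1 h hUp) h0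
  haveI := img_normal (h := hq) hKn
  have h20 : (2 : AlgebraicClosure (ZMod r)) ≠ 0 := by
    simpa using cast_ne_zero_of_coprime (hUp.symm.of_dvd_right (Solv.dvd_card_of_isPGroup hU c.lt.ne'))
  refine ⟨(gi_le_of_img hq le_top (Comp.isNilpotent_of_le ?_ (isNilpotent_Fit (img hq K)))).trans inf_le_right,
    fun e => (gi_le_of_img hq le_top (c4_nilp (by subst e; exact qmap_pow hq h _) h20 ρ (isSolvable_img hs)
      (coprime_img_left ho) (by rw [centralizer_zpowers]; exact img_fpf hq h _ le_top (hKn trivial) ho h1)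
      a1 a2 a3)).trans inf_le_right⟩
  have := gr_fit h20 ρ (qmap_pow hq h _) (isSolvable_img hs) (coprime_img_left ho) a1 a2 a3
  rwa [← map_pow, ← img_zpowers, ← img_commutator le_top le_top] at this

theorem gr_step [K.Normal] (h : g ^ 2 ^ (n + 1) = 1) (hs : Group.IsSolvable K) (ho : (Nat.card K).Coprime 2)
    (h0 : K ⊓ C1(g) = ⊥) {D : Subgroup G} (hD : D = ⁅zpowers (g ^ 2 ^ n), K⁆ ∨ D = K ∧ n = 1) :
    Sg.LL 2 D = ⊥ := by
  haveI : Fact (Nat.Prime 2) := ⟨Nat.prime_two⟩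
  have d1 : D ≤ K := by
    rcases hD with rfl | ⟨rfl, -⟩
    exacts [commutator_le_right _ _, le_rfl]
  have d2 : K ⊔ zpowers g ≤ Nm(D) := by
    rcases hD with rfl | ⟨rfl, -⟩
    exacts [nm_comm _, le_normalizer_of_normal]
  refine eq_bot_iff.2 ((Sg.gi_mono (le_Fit_of_chief (X := K ⊔ zpowers g) hs le_sup_left le_normalizer_of_normal
    ((Sg.gi_le D).trans d1) (Sg.nn_LL 1 d2) fun U V c d => ?_)).trans (Sg.gi_eq_bot.2 (isNilpotent_Fit K)).le)
  have hUK := d.trans (Fit_le K)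
  have hU : U ≤ K ⊔ zpowers g := hUK.trans le_sup_left
  have a2 : g ∈ K ⊔ zpowers g := mem_sup_right (mem_zpowers g)
  have hUp := ho.of_dvd_left (card_dvd_of_le hUK)
  obtain ⟨q, hq, hi⟩ := c.exists_piN (hU.trans c.nV) (Comp.isSolvable_of_le hUK hs)
  haveI := Fact.mk hq
  haveI := img_normal (h := c.nV) (H := K) le_normalizer_of_normal
  rw [← img_le_centralizer_iff (h := c.nV) hU ((Sg.gi_le D).trans (d1.trans le_sup_left)), le_Ct_comm,
    show Sg.gi D = Sg.LL 1 D from rfl, img_LL _ (d1.trans le_sup_left)]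
  have := gr_chief (g := qmap c.nV ⟨g, a2⟩) (c.img_bot hU) (c.isPGroup_img hU hi) (qmap_pow _ h a2)
    (isSolvable_img hs) (coprime_img_left ho) (coprime_img_left hUp)
    (img_fpf _ h a2 hU (c.nU a2) hUp (le_bot_iff.1 (h0 ▸ inf_le_inf_right _ hUK)))
    (img_fpf _ h a2 le_sup_left (le_normalizer_of_normal a2) ho h0)
  rcases hD with rfl | ⟨rfl, e⟩
  · rw [img_commutator (zpowers_le.2 (pow_mem a2 _)) le_sup_left]
    have := this.1
    rwa [← map_pow, ← img_zpowers] at this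
  · exact this.2 e

theorem gross (n : ℕ) : ∀ {G : Type u} [Group G] [Finite G] {K : Subgroup G} [K.Normal] {g : G},
    g ^ 2 ^ (n + 2) = 1 → Group.IsSolvable K → (Nat.card K).Coprime 2 → K ⊓ C1(g) = ⊥ →
      Sg.LL (2 * n + 2) K = ⊥ := by
  haveI : Fact (Nat.Prime 2) := ⟨Nat.prime_two⟩
  induction n with
  | zero => exact fun h hs ho h0 => gr_step (n := 1) h hs ho h0 (Or.inr ⟨rfl, rfl⟩)
  | succ n ih =>
    intro G _ _ K _ g h hs ho h0
    have a := gr_step (n := n + 2) h hs ho h0 (Or.inl rfl)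
    have a2 : g ∈ K ⊔ zpowers g := mem_sup_right (mem_zpowers g)
    have a3 : zpowers (g ^ 2 ^ (n + 2)) ≤ Nm(⁅zpowers (g ^ 2 ^ (n + 2)), K⁆) := normalizer_commutator_ge_left _ _
    have hq : K ⊔ zpowers g ≤ Nm(⁅zpowers (g ^ 2 ^ (n + 2)), K⁆ ⊔ zpowers (g ^ 2 ^ (n + 2))) :=
      sup_le (le_normalizer_iff_commutator_le_left.2 (commutator_sup_left_le (le_sup_left.trans le_normalizer)
        (le_sup_right.trans le_normalizer) ((commutator_le_left_of_le_normalizer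
          (normalizer_commutator_ge_right _ _)).trans le_sup_left) le_sup_left))
        (Comp.le_normalizer_sup (le_sup_right.trans (nm_comm _)) (le_normalizer_of_le_centralizer
          ((comm_iff_le.1 inferInstance).trans (Comp.centralizer_mono (zpowers_le.2 (pow_mem (mem_zpowers g) _))))))
    haveI := img_normal (h := hq) (H := K) le_normalizer_of_normal
    have b := ih (g := qmap hq ⟨g, a2⟩) (by
        rw [← map_pow]; exact (qmap_eq_one hq).2 (mem_sup_right (mem_zpowers _)))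
      (isSolvable_img (h := hq) hs) (coprime_img_left ho)
      (img_fpf _ h a2 le_sup_left (le_normalizer_of_normal a2) ho h0)
    rw [← img_LL hq le_sup_left, img_eq_bot_iff ((Sg.LL_le _ _).trans le_sup_left)] at b
    have c : Sg.LL (2 * n + 2) K ≤ ⁅zpowers (g ^ 2 ^ (n + 2)), K⁆ := fun x hx => by
      obtain ⟨f, hf, y, hy, e⟩ := (Comp.mem_sup_of_le_normalizer' a3).1 (b hx)
      have h1 : y ∈ zpowers (g ^ 2 ^ (n + 2)) ⊓ K := ⟨hy, by
        rw [← inv_mul_cancel_left f y, e]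
        exact K.mul_mem (K.inv_mem (commutator_le_right _ _ hf)) (Sg.LL_le _ _ hx)⟩
      rw [inf_eq_bot_of_coprime (cop h _ ho), mem_bot] at h1
      rw [← e, h1, mul_one]; exact hf
    exact eq_bot_iff.2 ((Sg.gi_mono (Sg.gi_mono c)).trans a.le)

end Cfsg.Agent.Sh
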