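/-
Amalgams of index (3,3): trivalent graphs, lines and balls.
-/
import Cfsg.Agent.Lib.NG.Am5

set_option autoImplicit false
set_option linter.unusedSectionVars false
set_option linter.unusedVariables false

namespace Cfsg.Agent.Gs

open Subgroup Cfsg.Agent.Transfer Cfsg.Agent.MS Cfsg.Agent.NG MulAction
open scoped commutatorElement

universe u v
variable {G : Type u} [Group G] [Finite G]

section loc
variable {A D K L N R X Y Y' : Subgroup G} {e g t x : G}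

structure S6 (A Y : Subgroup G) : Prop where
  syl : IsSyl 2 Y A
  idx : (Q2 A).relIndex A = 6

namespace S6
variable (h : S6 A Y)
include h
theorem ix2 : Ix2 Y (Q2 A) := (idx_of_six h.syl h.idx).1
theorem idx3 : Y.relIndex A = 3 := (idx_of_six h.syl h.idx).2
theorem sup_eq (h1 : X ≤ A) (h2 : ¬ X ≤ Y) : X ⊔ Y = A :=
  sup_eq_of_prime h.syl.le (h.idx3 ▸ Nat.prime_three) h1 h2
theorem not_nn : ¬ A ≤ NN Y := fun e => h.ix2.ne (le_antisymm h.ix2.le (le_Q2 h.syl.le e h.syl.pgroup))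
theorem nn_le : A ⊓ NN Y ≤ Y := by_contra fun e =>
  h.not_nn ((h.sup_eq inf_le_left e).ge.trans (sup_le inf_le_right (le_nn Y)))
theorem inf_eq (h' : S6 A Y') (e : Y ≠ Y') : Y ⊓ Y' = Q2 A :=
  h.ix2.eq_inf h'.ix2.le fun a => e (h.syl.eq_of_le h'.syl.pgroup h'.syl.le a).symm
theorem cj (g : G) : S6 (cj g A) (cj g Y) := ⟨h.syl.cj g, by rw [← cj_O, relIndex_cj, h.idx]⟩
theorem not_le (h1 : N ≤ A) (h2 : A ≤ NN N) (h3 : ¬ N ≤ Q2 A) : ¬ N ≤ Y := fun e =>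
  h3 (le_Q2 h1 h2 (h.syl.pgroup.to_le e))
theorem exists_three : ∃ D, IsSyl 3 D A ∧ #D = 3 ∧ ¬ D ≤ Y := by
  haveI : Fact (Nat.Prime 3) := ⟨Nat.prime_three⟩
  obtain ⟨D, hD⟩ := exists_isSyl 3 A
  have h1 := card_mul_relIndex h.syl.le
  obtain ⟨k, hk⟩ := h.syl.pgroup.exists_card_eq
  obtain ⟨m, hm⟩ := hD.pgroup.exists_card_eq
  rw [h.idx3, hk] at h1
  have h2 : 3 ^ m ∣ 3 ^ 1 := (Nat.Coprime.dvd_mul_left (Nat.Coprime.pow m k (by norm_num : Nat.Coprime 3 2))).1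
    (by rw [pow_one, h1, ← hm]; exact card_dvd hD.le)
  have h3 : D ≠ ⊥ := syl_ne_bot hD (h1 ▸ Dvd.intro_left _ rfl)
  have h4 : m ≠ 0 := fun e => h3 (card_eq_one.1 (by rw [hm, e, pow_zero]))
  rw [Nat.pow_dvd_pow_iff_le_right (by norm_num)] at h2
  refine ⟨D, hD, by rw [hm, show m = 1 by omega, pow_one], fun e => h3 ?_⟩
  simpa [inf_eq_left.2 e] using inf_of_coprime (pg_coprime_pg hD.pgroup h.syl.pgroup (by norm_num))
theorem three_le (hD : IsSyl 3 D A) (h1 : N ≤ A) (h2 : A ≤ NN N) (h3 : ¬ N ≤ Q2 A) : D ≤ N := by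
  haveI : Fact (Nat.Prime 3) := ⟨Nat.prime_three⟩
  refine Comp.le_of_coprime_relIndex h1 hD.le (hD.le.trans h2) ?_
  rw [← h.sup_eq h1 (h.not_le h1 h2 h3), relIndex_sup_l (h.syl.le.trans h2)]
  exact (pg_coprime_pg hD.pgroup h.syl.pgroup (by norm_num)).coprime_dvd_right (relIndex_dvd _ _)
/-- an elementary abelian subgroup centralised by `O₂` is acted on quadratically -/
theorem quad (h1 : X ≤ Y) (h2 : X ≤ CC (Q2 A)) (h3 : Y ≤ NN X) (h4 : IsElementaryAbelian 2 X) :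
    ⁅X, Y⁆ ≤ OZ Y := by
  refine commutator_le.2 fun x hx t ht => ?_
  have a1 : ∀ x ∈ X, x * x = 1 := fun x hx => by rw [← sq, h4.2 x hx]
  have a2 : t * x⁻¹ * t⁻¹ ∈ X := conj_mem_of_mem_normalizer (h3 ht) (inv_mem hx)
  have a3 : ⁅x, t⁆ = x * (t * x⁻¹ * t⁻¹) := by simp only [commutatorElement_def, mul_assoc]
  have a4 : ⁅x, t⁆ ∈ X := a3 ▸ mul_mem hx a2
  refine mem_OZ (h1 a4) ?_ (a1 _ a4)
  by_cases e : t ∈ Q2 A
  · rw [commutatorElement_eq_one_iff_mul_comm.2 (mem_CC.1 (h2 hx) t e).symm]; exact one_mem _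
  rw [h.ix2.eq_sup ht e, cc_sup, cc_zpowers]
  refine ⟨h2 a4, mem_C1_comm.1 (mem_C1_of_conj ?_)⟩
  have a5 := conj_eq_of_cc (cc_symm h2 (h.ix2.sq_mem ht)) (inv_mem hx)
  rw [a3]
  calc t * (x * (t * x⁻¹ * t⁻¹)) * t⁻¹ = (t * x * t⁻¹) * (t * t * x⁻¹ * (t * t)⁻¹) := by group
    _ = (t * x⁻¹ * t⁻¹) * x := by rw [a5, inv_eq_of_mul_eq_one_right (a1 x hx)]
    _ = _ := (elem_commute h4 a2 hx).eq
end S6

/-- commutation with a fixed element, with values in a central subgroup -/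
def chom (K X : Subgroup G) (e : G) (h1 : X ≤ CC K) (h2 : ∀ k ∈ K, ⁅e, k⁆ ∈ X) : K →* G :=
  MonoidHom.mk' (fun k => ⁅e, (k : G)⁆) fun a b => by
    rw [show ⁅e, ((a * b : K) : G)⁆ = ⁅e, (a : G)⁆ * (a * ⁅e, (b : G)⁆ * (a : G)⁻¹) by
      simp only [commutatorElement_def, coe_mul]; group, mem_CC.1 (h1 (h2 b b.2)) a a.2, mul_inv_cancel_right]

theorem idx_hom (h1 : X ≤ CC K) (h2 : ∀ k ∈ K, ⁅e, k⁆ ∈ X) (h3 : ∀ k ∈ K, ⁅e, k⁆ ∈ R → k ∈ L) :
    L.relIndex K ≤ R.relIndex X := by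
  have a : R.comap (chom K X e h1 h2) ≤ L.subgroupOf K := fun k hk => h3 k k.2 hk
  refine (Nat.le_of_dvd (Nat.pos_of_ne_zero index_ne_zero_of_finite) (index_dvd_of_le a)).trans ?_
  rw [index_comap]
  exact relIndex_le_of_le_right (by rintro _ ⟨k, rfl⟩; exact h2 k k.2) (relIndex_pos _ _).ne'

theorem idx_C1 (h1 : X ≤ CC K) (h2 : ∀ k ∈ K, ⁅e, k⁆ ∈ X) (h3 : K ⊓ C1 e ≤ L) : L.relIndex K ≤ #X := by
  rw [← relIndex_bot_left X]
  exact idx_hom h1 h2 fun k hk l => h3 ⟨hk, mem_C1.2 (commutatorElement_eq_one_iff_mul_comm.1 l).symm⟩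

theorem card_le_of_idx {n : ℕ} (h : L.relIndex K ≤ n) : #K ≤ n * #L := by
  rw [← card_inf_mul_relIndex L K, mul_comm]
  exact Nat.mul_le_mul h (card_le_of_le inf_le_left)

theorem _root_.Cfsg.Agent.Transfer.Ix2.idx_le (h : Ix2 Y L) (h1 : K ≤ Y) : L.relIndex K ≤ 2 :=
  h.idx ▸ relIndex_le_of_le_right h1 (relIndex_pos _ _).ne'

theorem sq_cc (h1 : ⁅K, L⁆ ≤ X) (h2 : X ≤ CC K) (h3 : IsElementaryAbelian 2 X) : Sq K ≤ CC L :=
  Sq_le fun k hk => mem_CC.2 fun l hl => by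
    have a := h1 (commutator_mem_commutator hk hl)
    have b := mem_CC.1 (h2 a) k hk
    have c : k * l = ⁅k, l⁆ * l * k := by simp only [commutatorElement_def]; group
    have d : ⁅k, l⁆ * ⁅k, l⁆ = 1 := by rw [← sq, h3.2 _ a]
    calc l * (k * k) = ⁅k, l⁆ * ⁅k, l⁆ * l * k * k := by rw [d]; group
      _ = ⁅k, l⁆ * k * l * k := by rw [mul_assoc _ k l, c]; group
      _ = k * (⁅k, l⁆ * l * k) := by rw [← b]; group
      _ = _ := by rw [← c]; group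

theorem comm_iSup {ι : Sort*} {f : ι → Subgroup G} (h1 : ∀ i, f i ≤ NN X) (h2 : ∀ i, ⁅K, f i⁆ ≤ X) :
    ⁅K, ⨆ i, f i⁆ ≤ X :=
  (commutator_mono le_rfl (iSup_le fun i => le_cm le_top (h1 i) (h2 i))).trans (comm_cm ⊤ K X)

theorem mem_cj_of_C1 (h1 : x ∈ K) (h2 : g ∈ C1 x) : x ∈ cj g K :=
  ⟨x, h1, conj_eq_of_C1 h2⟩

theorem conj_mem_cj' (h1 : x ∈ K) (g : G) : g * x * g⁻¹ ∈ cj g K := ⟨x, h1, rfl⟩

theorem comm_mem (h : ⁅K, L⁆ ≤ X) (h1 : x ∈ K) (h2 : g ∈ L) : ⁅x, g⁆ ∈ X :=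
  h (commutator_mem_commutator h1 h2)
theorem comm_mem' (h : ⁅K, L⁆ ≤ X) (h1 : x ∈ K) (h2 : g ∈ L) : ⁅g, x⁆ ∈ X :=
  commutatorElement_inv x g ▸ inv_mem (comm_mem h h1 h2)
theorem C1_of_comm (h : ⁅x, g⁆ = 1) : x ∈ C1 g := mem_C1.2 (commutatorElement_eq_one_iff_mul_comm.1 h)
theorem comm_of_C1 (h : x ∈ C1 g) : ⁅x, g⁆ = 1 := commutatorElement_eq_one_iff_mul_comm.2 (mem_C1.1 h)
theorem C1_of_cc (h : K ≤ CC L) (h1 : x ∈ K) (h2 : g ∈ L) : x ∈ C1 g := cc_le_C1 h2 (h h1)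

end loc

variable {V : Type v} [MulAction G V]
variable {X : Subgroup G} {g t x y z : G} {a b c d e : V} {k l : ℕ} {p : ℤ → V}

set_option hygiene false in
scoped notation:max "St " a:max => MulAction.stabilizer G a
set_option hygiene false in
scoped notation:max "Za " a:max => Zs (MulAction.stabilizer G a)
set_option hygiene false in
scoped notation:max "Qa " a:max => piCoreOf (Singleton.singleton 2) (MulAction.stabilizer G a)

inductive Dl (E : V → V → Prop) : ℕ → V → V → Prop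
  | refl (k : ℕ) (a : V) : Dl E k a a
  | step {k : ℕ} {a b c : V} : E a b → Dl E k b c → Dl E (k + 1) a c

variable {E : V → V → Prop}

theorem Dl.mono (h : Dl E k a c) (h1 : k ≤ l) : Dl E l a c := by
  induction h generalizing l with
  | refl => exact .refl _ _
  | step e _ ih =>
    obtain ⟨l, rfl⟩ : ∃ m, l = m + 1 := ⟨l - 1, by omega⟩
    exact .step e (ih (by omega))
theorem Dl.trans (h : Dl E k a b) (h' : Dl E l b c) : Dl E (l + k) a c := by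
  induction h with
  | refl => exact h'.mono (by omega)
  | step e _ ih => exact .step e (ih h')
theorem Dl.one (h : E a b) : Dl E 1 a b := .step h (.refl _ _)
theorem Dl.zero (h : Dl E 0 a b) : a = b := by cases h; rfl
theorem Dl.succ (h : Dl E (k + 1) a c) : a = c ∨ ∃ b, E a b ∧ Dl E k b c := by
  cases h with
  | refl => exact .inl rfl
  | step e h => exact .inr ⟨_, e, h⟩

structure Ln (E : V → V → Prop) (p : ℤ → V) : Prop where
  adj' : ∀ i, E (p i) (p (i + 1))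
  ne' : ∀ i, p (i + 2) ≠ p i

theorem Ln.ne (h : Ln E p) (i j : ℤ) (h1 : j = i + 2 ∨ i = j + 2 := by omega) : p i ≠ p j := by
  rcases h1 with rfl | rfl
  exacts [(h.ne' _).symm, h.ne' _]

variable (G) in
/-- a trivalent graph with an edge-transitive action -/
structure G0 (E : V → V → Prop) : Prop where
  symm : ∀ {a b}, E a b → E b a
  smul : ∀ {a b} (g : G), E a b → E (g • a) (g • b)
  tr : ∀ {a b c}, E a b → E a c → ∃ g ∈ St a, g • b = c
  edge : ∀ {a b c d}, E a b → E c d → ∃ g : G, (g • a = c ∧ g • b = d) ∨ (g • a = d ∧ g • b = c)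
  loc : ∀ {a b}, E a b → S6 (St a) (St a ⊓ St b)
  core : ∀ {a b}, E a b → ∀ N ≤ St a ⊓ St b, St a ≤ NN N → St b ≤ NN N → N = ⊥
  nb : ∀ a, ∃ b, E a b

namespace G0
variable (h : G0 G E)
include h

theorem dl_symm (h1 : Dl E k a b) : Dl E k b a := by
  induction h1 with
  | refl => exact .refl _ _
  | step e _ ih => exact (ih.trans (.one (h.symm e))).mono (by omega)
theorem dl_smul (h1 : Dl E k a b) (g : G) : Dl E k (g • a) (g • b) := by
  induction h1 with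
  | refl => exact .refl _ _
  | step e _ ih => exact .step (h.smul g e) ih
theorem smul' (h1 : E a b) (hg : g ∈ St a) : E a (g • b) := by
  simpa only [mem_stabilizer_iff.1 hg] using h.smul g h1
theorem loc' (h1 : E a b) : S6 (St b) (St a ⊓ St b) := inf_comm (St b) (St a) ▸ h.loc (h.symm h1)
theorem Q_le (h1 : E a b) : Qa a ≤ St b := (h.loc h1).ix2.le.trans inf_le_right
theorem ne_Y (h1 : E a b) (h2 : E a c) (e : b ≠ c) : St a ⊓ St b ≠ St a ⊓ St c := fun e' => by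
  obtain ⟨g, hg, rfl⟩ := h.tr h1 h2
  refine e (mem_stabilizer_iff.1 ((h.loc h1).nn_le ⟨hg, mem_normalizer_iff_cj.2 ?_⟩).2).symm
  rw [cj_inf, cj_eq_of_mem hg, ← St_smul, ← e']
theorem mem_Q (h1 : E a b) (h2 : E a c) (e : b ≠ c) (t1 : t ∈ St a) (t2 : t ∈ St b) (t3 : t ∈ St c) :
    t ∈ Qa a := ((h.loc h1).inf_eq (h.loc h2) (h.ne_Y h1 h2 e)).le ⟨⟨t1, t2⟩, t1, t3⟩
theorem gen (h1 : E a b) (h2 : E a c) (e : b ≠ c) (h3 : X ≤ St a ⊓ St b) (h4 : ¬ X ≤ Qa a) :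
    X ⊔ (St a ⊓ St c) = St a :=
  (h.loc h2).sup_eq (h3.trans inf_le_left) fun l => h4 fun t ht => h.mem_Q h1 h2 e (h3 ht).1 (h3 ht).2 (l ht).2
theorem gen2 (h1 : E a b) (h2 : E a c) (e : b ≠ c) : (St a ⊓ St b) ⊔ (St a ⊓ St c) = St a :=
  h.gen h1 h2 e le_rfl fun l => (h.loc h1).ix2.ne (le_antisymm (h.loc h1).ix2.le l)
theorem exists_ne (h1 : E a b) : ∃ c, E a c ∧ c ≠ b := by
  obtain ⟨g, hg, h2⟩ := SetLike.not_le_iff_exists.1
    (mt (fun e : St a ≤ St a ⊓ St b => e.trans (le_nn _)) (h.loc h1).not_nn)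
  exact ⟨_, h.smul' h1 hg, fun e => h2 ⟨hg, e⟩⟩
theorem move (h1 : E a b) (h2 : E a c) (e : c ≠ b) (t1 : t ∈ St a ⊓ St b) (t2 : t ∉ Qa a) :
    E a (t • c) ∧ t • c ≠ c ∧ t • c ≠ b :=
  ⟨h.smul' h2 t1.1, fun e' => t2 (h.mem_Q h1 h2 e.symm t1.1 t1.2 e'), fun e' => e (by
    rw [← inv_smul_smul t c, e']; exact (St b).inv_mem t1.2)⟩
theorem three (h1 : E a b) (h2 : E a c) (h3 : E a d) (h4 : E a e) (e1 : b ≠ c) (e2 : b ≠ d)
    (e3 : c ≠ d) : e = b ∨ e = c ∨ e = d := by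
  by_contra! hn
  have h5 : (orbit (St a) b).ncard = 3 := by
    rw [← index_stabilizer, ← (h.loc h1).idx3, inf_relIndex_left]; rfl
  have h6 : ∀ x, E a x → x ∈ orbit (St a) b := fun x hx =>
    let ⟨g, hg, e⟩ := h.tr h1 hx
    ⟨⟨g, hg⟩, e⟩
  have h7 : ({e, b, c, d} : Set V) ⊆ orbit (St a) b := by
    rintro x (rfl | rfl | rfl | rfl) <;> apply h6 <;> assumption
  have := Set.ncard_le_ncard h7 (Set.finite_of_ncard_ne_zero (by omega))
  rw [Set.ncard_insert_of_notMem (by simp [hn]), Set.ncard_insert_of_notMem (by simp [e1, e2]),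
    Set.ncard_pair e3] at this
  omega
theorem third (h1 : E a b) (h2 : E a c) (e : b ≠ c) : ∃ d, E a d ∧ b ≠ d ∧ c ≠ d := by
  obtain ⟨t, t1, t2⟩ := (h.loc h1).ix2.exists_out
  obtain ⟨a1, a2, a3⟩ := h.move h1 h2 e.symm t1 t2
  exact ⟨_, a1, a3.symm, a2.symm⟩
/-- two-transitivity on the neighbours -/
theorem tr2 (h1 : E a b) (h2 : E a c) (h3 : E a d) (e1 : c ≠ b) (e2 : d ≠ b) (x1 : X ≤ St a ⊓ St b)
    (x2 : ¬ X ≤ Qa a) : ∃ g ∈ X, g • c = d := by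
  obtain ⟨t, t1, t2⟩ := SetLike.not_le_iff_exists.1 x2
  obtain ⟨a1, a2, a3⟩ := h.move h1 h2 e1 (x1 t1) t2
  rcases h.three h1 h2 a1 h3 e1.symm a3.symm a2.symm with l | l | l
  exacts [absurd l e2, ⟨1, one_mem _, by rw [one_smul, l]⟩, ⟨t, t1, l.symm⟩]
theorem swap (h1 : E a b) (h2 : E a c) (h3 : E a d) (e1 : c ≠ b) (e2 : d ≠ b) (e3 : c ≠ d)
    (t1 : t ∈ St a ⊓ St b) (t2 : t ∉ Qa a) : t • c = d := by
  obtain ⟨a1, a2, a3⟩ := h.move h1 h2 e1 t1 t2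
  rcases h.three h1 h2 h3 a1 e1.symm e2.symm e3 with l | l | l
  exacts [absurd l a3, absurd l a2, l]
/-- a subgroup normalised by an edge stabilizer, a vertex stabilizer and a moving subgroup is trivial -/
theorem bot_of (h1 : E a b) (h2 : E a c) (e : b ≠ c) {U : Subgroup G} (u1 : U ≤ St a ⊓ St b)
    (u2 : St b ≤ NN U) (x1 : X ≤ St a ⊓ St c) (x2 : ¬ X ≤ Qa a) (x3 : X ≤ NN U) : U = ⊥ :=
  h.core h1 U u1 ((h.gen h2 h1 e.symm x1 x2).ge.trans (sup_le x3 (inf_le_right.trans u2))) u2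
theorem Q_not_le (h1 : E a b) (h0 : Qa a ≠ ⊥) : ¬ Qa a ≤ Qa b := fun l => by
  have e : Qa a = Qa b := eq_of_card_le l (by
    have := (h.loc h1).ix2.card; have := (h.loc' h1).ix2.card; omega)
  exact h0 (h.core h1 _ (h.loc h1).ix2.le (by nrm) (by rw [e]; nrm))

variable (G E) in
/-- the kernel on the ball of radius two -/
def K2 (a : V) : Subgroup G := Qa a ⊓ ⨅ c : {c // E a c}, Qa (c : V)
omit h in
theorem K2_le (h1 : E a b) : K2 G E a ≤ Qa a ⊓ Qa b :=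
  inf_le_inf_left _ (iInf_le (fun c : {c // E a c} => Qa (c : V)) ⟨b, h1⟩)
theorem nn_K2 (a : V) : St a ≤ NN (K2 G E a) := nn_inf (by nrm) fun g hg => mem_normalizer_of_cj_le
  (le_iInf fun c => by
    have := iInf_le (fun c : {c // E a c} => Qa (c : V)) ⟨_, h.smul' c.2 (inv_mem hg)⟩
    exact (cj_mono g this).trans (by rw [← Qa_smul, smul_inv_smul]))
theorem card_K2 (a : V) : #(Qa a) ≤ 8 * #(K2 G E a) := by
  obtain ⟨b, h1⟩ := h.nb a
  obtain ⟨c, h2, e1⟩ := h.exists_ne h1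
  obtain ⟨d, h3, e2, e3⟩ := h.third h1 h2 e1.symm
  have a1 : ∀ {b}, E a b → (Qa b).relIndex (Qa a) ≤ 2 := fun l => (h.loc' l).ix2.idx_le (h.loc l).ix2.le
  have a2 : Qa a ⊓ (Qa b ⊓ Qa c ⊓ Qa d) ≤ K2 G E a := inf_le_inf_left _ (le_iInf fun e => by
    rcases h.three h1 h2 h3 e.2 e1.symm e2 e3 with l | l | l <;> rw [l]
    exacts [inf_le_left.trans inf_le_left, inf_le_left.trans inf_le_right, inf_le_right])
  refine card_le_of_idx ((relIndex_le_of_le_left a2 (relIndex_pos _ _).ne').trans ?_)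
  rw [inf_relIndex_left]
  exact relIndex_inf_le.trans (Nat.mul_le_mul (relIndex_inf_le.trans (Nat.mul_le_mul (a1 h1) (a1 h2))) (a1 h3))

theorem ray (h1 : E a b) : ∃ r : ℕ → V, r 0 = a ∧ r 1 = b ∧ ∀ n, E (r n) (r (n + 1)) ∧ r (n + 2) ≠ r n := by
  have : ∀ x : {x : V × V // E x.1 x.2}, ∃ y : {x : V × V // E x.1 x.2}, y.1.1 = x.1.2 ∧ y.1.2 ≠ x.1.1 :=
    fun x => let ⟨c, h2, e⟩ := h.exists_ne (h.symm x.2); ⟨⟨(x.1.2, c), h2⟩, rfl, e⟩
  choose f f1 f2 using this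
  refine ⟨fun n => (f^[n] ⟨(a, b), h1⟩).1.1, rfl, f1 _, fun n => ?_⟩
  simp only [Function.iterate_succ_apply', f1]
  exact ⟨(f^[n] _).2, f2 _⟩

theorem glue {r s : ℕ → V} (hr : ∀ n, E (r n) (r (n + 1)) ∧ r (n + 2) ≠ r n)
    (hs : ∀ n, E (s n) (s (n + 1)) ∧ s (n + 2) ≠ s n) (e0 : r 0 = s 0) (e1 : r 1 ≠ s 1) (i : ℤ) :
    ∃ q, Ln E q ∧ (∀ n : ℕ, q (i + n) = r n) ∧ ∀ n : ℕ, q (i - n) = s n := by
  have a1 : ∀ n : ℕ, (if i ≤ i + n then r (i + n - i).toNat else s (i - (i + n)).toNat) = r n := fun n => by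
    rw [if_pos (by omega)]; simp
  have a2 : ∀ n : ℕ, (if i ≤ i - n then r (i - n - i).toNat else s (i - (i - n)).toNat) = s n := fun n => by
    split_ifs with l
    · rw [show n = 0 by omega]; simpa using e0
    · simp
  generalize hq : (fun j : ℤ => if i ≤ j then r (j - i).toNat else s (i - j).toNat) = q
  replace a1 : ∀ (n : ℕ) (j), j = i + n → q j = r n := fun n j l => by rw [← hq, l]; exact a1 n
  replace a2 : ∀ (n : ℕ) (j), j = i - n → q j = s n := fun n j l => by rw [← hq, l]; exact a2 n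
  refine ⟨q, ⟨fun j => ?_, fun j => ?_⟩, fun n => a1 n _ rfl, fun n => a2 n _ rfl⟩
  · by_cases l : i ≤ j
    · rw [a1 (j - i).toNat j (by omega), a1 ((j - i).toNat + 1) _ (by omega)]; exact (hr _).1
    · rw [a2 ((i - j - 1).toNat + 1) j (by omega), a2 (i - j - 1).toNat _ (by omega)]; exact h.symm (hs _).1
  · by_cases l : i ≤ j
    · rw [a1 (j - i).toNat j (by omega), a1 ((j - i).toNat + 2) _ (by omega)]; exact (hr _).2
    by_cases l' : j + 1 = i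
    · rw [a2 1 j (by omega), a1 1 _ (by omega)]; exact e1
    · rw [a2 ((i - j - 2).toNat + 2) j (by omega), a2 (i - j - 2).toNat _ (by omega)]; exact (hs _).2.symm

theorem adj (hp : Ln E p) (i j : ℤ) (h1 : j = i + 1 ∨ i = j + 1 := by omega) : E (p i) (p j) := by
  rcases h1 with rfl | rfl
  exacts [hp.adj' _, h.symm (hp.adj' _)]
theorem dl (hp : Ln E p) (k : ℕ) (i j : ℤ) (h1 : j ≤ i + k ∧ i ≤ j + k := by omega) : Dl E k (p i) (p j) := by
  induction k generalizing i with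
  | zero => rw [show i = j by omega]; exact .refl _ _
  | succ k ih =>
    rcases lt_trichotomy i j with l | rfl | l
    exacts [.step (h.adj hp i (i + 1)) (ih _ (by omega)), .refl _ _, .step (h.adj hp i (i - 1)) (ih _ (by omega))]
theorem rev (hp : Ln E p) : Ln E fun i => p (-i) :=
  ⟨fun i => h.adj hp _ _, fun i => hp.ne _ _⟩
theorem ext (hp : Ln E p) (i : ℤ) (h1 : E (p i) a) (h2 : a ≠ p (i + 1)) :
    ∃ q, Ln E q ∧ (∀ j, i ≤ j → q j = p j) ∧ q (i - 1) = a := by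
  obtain ⟨s, s0, s1, hs⟩ := h.ray h1
  obtain ⟨q, q1, q2, q3⟩ := h.glue (r := fun n => p (i + n)) (fun n => ⟨h.adj hp _ _ (by omega), hp.ne _ _ (by omega)⟩)
    hs (by simp [s0]) (by simpa [s1] using h2.symm) i
  exact ⟨q, q1, fun j l => by simpa only [show i + ((j - i).toNat : ℤ) = j by omega] using q2 (j - i).toNat,
    s1 ▸ q3 1⟩
theorem line (h1 : E a b) (i : ℤ) : ∃ q, Ln E q ∧ q i = a ∧ q (i + 1) = b := by
  obtain ⟨c, h2, e⟩ := h.exists_ne h1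
  obtain ⟨r, r0, r1, hr⟩ := h.ray h1
  obtain ⟨s, s0, s1, hs⟩ := h.ray h2
  obtain ⟨q, q1, q2, -⟩ := h.glue hr hs (r0.trans s0.symm) (by rw [r1, s1]; exact e.symm) i
  exact ⟨q, q1, by simpa [r0] using q2 0, r1 ▸ q2 1⟩
theorem cases_ball (k : ℕ) (hp : Ln E p) (i : ℤ) (h1 : Dl E k (p i) a) :
    (∃ q, Ln E q ∧ (∀ j, i ≤ j → q j = p j) ∧ q (i - k) = a) ∨ Dl E k (p (i + 1)) a := by
  induction k generalizing p i with
  | zero => exact .inl ⟨p, hp, fun _ _ => rfl, by simpa using h1.zero⟩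
  | succ k ih =>
    rcases h1.succ with rfl | ⟨v, h2, h3⟩
    · exact .inr (.step (h.adj hp _ i) (.refl _ _))
    by_cases e : v = p (i + 1)
    · exact .inr (e ▸ h3.mono (by omega))
    obtain ⟨q, q1, q2, rfl⟩ := h.ext hp i h2 e
    rcases ih q1 _ h3 with ⟨r, r1, r2, r3⟩ | l
    · exact .inl ⟨r, r1, fun j l => (r2 j (by omega)).trans (q2 j l), by rw [← r3]; congr 1; omega⟩
    · rw [sub_add_cancel, q2 i le_rfl] at l
      exact .inr (.step (h.adj hp _ i) l)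
theorem cases_ball' (k : ℕ) (hp : Ln E p) (i : ℤ) (h1 : Dl E k (p i) a) :
    (∃ q, Ln E q ∧ (∀ j, j ≤ i → q j = p j) ∧ q (i + k) = a) ∨ Dl E k (p (i - 1)) a := by
  rcases h.cases_ball k (h.rev hp) (-i) (a := a) (by simpa using h1) with ⟨q, q1, q2, q3⟩ | l
  · exact .inl ⟨_, h.rev q1, fun j l => by simpa using q2 (-j) (by omega), by rw [← q3]; congr 1; omega⟩
  · exact .inr (by simpa only [show -(-i + 1) = i - 1 by omega] using l)

end G0

end Cfsg.Agent.Gs
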