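/-
Amalgams of index (3,3) in characteristic 2 with a central `Ω₁(Z(T))` on one side: local facts.
-/
import Cfsg.Agent.Lib.Fusion.Gs1

set_option autoImplicit false
set_option linter.unusedSectionVars false
set_option linter.unusedVariables false

namespace Cfsg.Agent.Gs

open Subgroup Cfsg.Agent.Transfer Cfsg.Agent.MS Cfsg.Agent.NG MulAction
open scoped commutatorElement

universe u v
variable {G : Type u} [Group G] [Finite G] {V : Type v} [MulAction G V]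
variable {K L X : Subgroup G} {g s t w x y z : G} {a a' a'' c n n' n'' v : V} {b j k l : ℕ} {p : ℤ → V}
variable {E : V → V → Prop} {α : V → Prop}

theorem le_cm' (h1 : L ≤ NN X) (h2 : ⁅L, K⁆ ≤ X) : L ≤ cm ⊤ K X := le_cm le_top h1 (commutator_comm L K ▸ h2)
theorem comm_via (h : L ≤ cm ⊤ K X) : ⁅L, K⁆ ≤ X :=
  commutator_comm K L ▸ (commutator_mono le_rfl h).trans (comm_cm ⊤ K X)

variable (G) in
structure GB (E : V → V → Prop) (α : V → Prop) : Prop extends G0 G E where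
  bip : ∀ {a b}, E a b → (α a ↔ ¬ α b)
  inv : ∀ {a} (g : G), α a → α (g • a)
  ch : ∀ a : V, St a ⊓ CC (Qa a) ≤ Qa a
  nz : ∀ {a b}, E a b → α a → ¬ St a ≤ CC (OZ (St a ⊓ St b))
  cz : ∀ {a b}, E a b → α a → St b ≤ CC (OZ (St a ⊓ St b))

variable (G E α) in
def ball (k : ℕ) (v : V) : Subgroup G := ⨆ a : {a // α a ∧ Dl E k v a}, Za (a : V)

set_option hygiene false in
scoped notation:max "Bl " k:max v:max => ball G E α k v

theorem le_B (ha : α a) (h1 : Dl E k v a) : Za a ≤ Bl k v :=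
  le_iSup (fun a : {a // α a ∧ Dl E k v a} => Za (a : V)) ⟨a, ha, h1⟩
theorem B_le (h : ∀ a, α a → Dl E k v a → Za a ≤ K) : Bl k v ≤ K := iSup_le fun a => h a a.2.1 a.2.2
theorem B_mono (h1 : Dl E j v c) (h2 : j + l ≤ k := by omega) : Bl l c ≤ Bl k v :=
  B_le fun a ha h => le_B ha ((h1.trans h).mono (by omega))
theorem nn_Z (a : V) : St a ≤ NN (Za a) := nn_Zs _
theorem nn_Q (a : V) : St a ≤ NN (Qa a) := by nrm
theorem Q_le_S (a : V) : Qa a ≤ St a := O_le _ _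

namespace GB
variable (h : GB G E α)
include h

theorem s3 (h1 : E a n) (ha : α a) : S3 (St a) (St a ⊓ St n) :=
  ⟨(h.loc h1).syl, (h.loc h1).idx, h.ch a, h.nz h1 ha⟩
theorem nα (h1 : E a n) (ha : α a) : ¬ α n := (h.bip h1).1 ha
theorem α_of (h1 : E a n) (hn : ¬ α n) : α a := (h.bip h1).2 hn
theorem α2 (h1 : E a n) (ha : α a) (h2 : E a' n) : α a' := h.α_of h2 (h.nα h1 ha)
theorem edgeA (h1 : E a n) (ha : α a) (h2 : E a' n') (ha' : α a') : ∃ g : G, g • a = a' ∧ g • n = n' := by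
  obtain ⟨g, l | ⟨rfl, -⟩⟩ := h.edge h1 h2
  exacts [⟨g, l⟩, absurd (h.inv g ha) (h.nα h2 ha')]
theorem al (hp : Ln E p) {i : ℤ} (h0 : α (p i)) (j : ℤ) (e : (j - i) % 2 = 0 := by omega) : α (p j) := by
  have a1 : ∀ i, α (p (i + 2)) ↔ α (p i) := fun i => by
    rw [h.bip (h.adj hp (i + 2) (i + 1)), h.bip (h.adj hp i (i + 1))]
  obtain ⟨m, rfl⟩ : ∃ m, j = i + 2 * m := ⟨(j - i) / 2, by omega⟩
  clear e
  induction m using Int.induction_on with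
  | zero => simpa using h0
  | succ m ih => rw [mul_add, mul_one, ← add_assoc, a1]; exact ih
  | pred m ih => rw [← a1]; convert ih using 2; ring
theorem be (hp : Ln E p) {i : ℤ} (h0 : α (p i)) (j : ℤ) (e : (j - i) % 2 = 1 := by omega) : ¬ α (p j) :=
  h.nα (h.adj hp (j - 1) j) (h.al hp h0 _)

theorem ZB (h1 : E a n) (ha : α a) : Za n = OZ (St a ⊓ St n) :=
  le_antisymm (Zs_le (h.loc' h1).syl le_rfl (nn_of_cc (h.cz h1 ha))) (OZ_le_Zs (h.loc' h1).syl)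
theorem ZB_cc (h1 : E a n) (ha : α a) : St n ≤ CC (Za n) := h.ZB h1 ha ▸ h.cz h1 ha
theorem ZB_cc' (hn : ¬ α n) : St n ≤ CC (Za n) :=
  let ⟨_, l⟩ := h.nb n; h.ZB_cc (h.symm l) (h.α_of (h.symm l) hn)
theorem ZB_le (h1 : E a n) (ha : α a) : Za n ≤ Za a := h.ZB h1 ha ▸ OZ_le_Zs (h.loc h1).syl
theorem Z_elem (a : V) : IsElementaryAbelian 2 (Za a) := elem_mono (OZ_elem _) (Zs_le_OZ (h.ch a))
theorem Z_sq (hx : x ∈ Za a) : x * x = 1 := by rw [← sq, (h.Z_elem a).2 x hx]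
theorem Z_le_Q (a : V) : Za a ≤ Qa a := (Zs_le_OZ (h.ch a)).trans (NG.OZ_le _)
theorem Z_le_S (a : V) : Za a ≤ St a := (h.Z_le_Q a).trans (Q_le_S a)
theorem Q_cc (a : V) : Qa a ≤ CC (Za a) := cc_symm ((Zs_le_OZ (h.ch a)).trans (OZ_cc _))
theorem cc_Z (ha : α a) : St a ⊓ CC (Za a) ≤ Qa a := let ⟨_, l⟩ := h.nb a; (h.s3 l ha).cc_Z
theorem Q_le_T (h1 : E a n) : Qa a ≤ St a ⊓ St n := (h.loc h1).ix2.le
theorem Q_le_T' (h1 : E a n) : Qa n ≤ St a ⊓ St n := (h.loc' h1).ix2.le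
theorem pgT (h1 : E a n) : IsPGroup 2 (St a ⊓ St n : Subgroup G) := (h.loc h1).syl.pgroup
theorem fix (h1 : E a n) (ha : α a) (t1 : t ∈ St a ⊓ St n) (t2 : t ∉ Qa a) (x1 : x ∈ Za a) (x2 : x ∈ C1 t) :
    x ∈ Za n := by
  rw [h.ZB h1 ha, ← (h.s3 h1 ha).OZ_eq, (h.loc h1).ix2.eq_sup t1 t2, cc_sup, cc_zpowers]
  exact ⟨x1, cc_symm (h.Q_cc a) x1, x2⟩
theorem commZ (h1 : E a n) (ha : α a) : ⁅Za a, St a ⊓ St n⁆ ≤ Za n :=
  h.ZB h1 ha ▸ (h.loc h1).quad ((h.Z_le_Q a).trans (h.Q_le_T h1)) (cc_symm (h.Q_cc a))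
    (inf_le_left.trans (nn_Z a)) (h.Z_elem a)
theorem Z_ne (h1 : E a n) (ha : α a) : Za n ≠ ⊥ := h.ZB h1 ha ▸ OZ_ne_bot (h.pgT h1) fun e =>
  (h.s3 h1 ha).Q_ne_bot (le_bot_iff.1 ((h.Q_le_T h1).trans e.le))
theorem ZA_ne (ha : α a) : Za a ≠ ⊥ := let ⟨_, l⟩ := h.nb a; (h.s3 l ha).Z_ne_bot
theorem Z_inf (h1 : E a n) (ha : α a) (h2 : E a n') (e : n ≠ n') : Za n ⊓ Za n' = ⊥ := by
  have a1 := (h.ZB_cc h1 ha).trans (cc_anti (inf_le_left : Za n ⊓ Za n' ≤ _))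
  have a2 := (h.ZB_cc h2 ha).trans (cc_anti (inf_le_right : Za n ⊓ Za n' ≤ _))
  exact h.core h1 _ (inf_le_left.trans ((h.Z_le_Q n).trans (h.Q_le_T' h1))) ((h.gen2 h1 h2 e).ge.trans
    (nn_of_cc (sup_le (inf_le_right.trans a1) (inf_le_right.trans a2)))) (nn_of_cc a1)
theorem one_of (h1 : E a n) (ha : α a) (h2 : E a n') (e : n ≠ n') (x1 : x ∈ Za n) (x2 : x ∈ Za n') : x = 1 :=
  eq_one_of_inf (h.Z_inf h1 ha h2 e) x1 x2
theorem cardA (ha : α a) (ha' : α a') : #(Za a) = #(Za a') := by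
  obtain ⟨n, h1⟩ := h.nb a
  obtain ⟨n', h2⟩ := h.nb a'
  obtain ⟨g, rfl, -⟩ := h.edgeA h1 ha h2 ha'
  rw [Za_smul, card_cj]
theorem cardB (hn : ¬ α n) (hn' : ¬ α n') : #(Za n) = #(Za n') := by
  obtain ⟨a, h1⟩ := h.nb n
  obtain ⟨a', h2⟩ := h.nb n'
  obtain ⟨g, -, rfl⟩ := h.edgeA (h.symm h1) (h.α_of (h.symm h1) hn) (h.symm h2) (h.α_of (h.symm h2) hn')
  rw [Za_smul, card_cj]
theorem Z_nle (h1 : E a n) (ha : α a) (h2 : E a' n) (e : a ≠ a') : ¬ Za a ≤ Za a' := fun l => by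
  have e' := eq_of_card_le l (h.cardA (h.α2 h1 ha h2) ha).le
  exact h.ZA_ne ha (h.core h1 _ ((h.Z_le_Q a).trans (h.Q_le_T h1)) (nn_Z a)
    ((h.gen2 (h.symm h1) (h.symm h2) e).ge.trans
      (sup_le (inf_le_right.trans (nn_Z a)) (inf_le_right.trans (e' ▸ nn_Z a')))))
theorem bnd (h1 : E a n) (ha : α a) (x1 : X ≤ St a ⊓ St n) (x2 : X ≤ CC (Qa a)) (x3 : St a ⊓ St n ≤ NN X)
    (x4 : IsElementaryAbelian 2 X) : #X ≤ #(Za n) * #(Za n) := by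
  obtain ⟨t, t1, t2⟩ := (h.loc h1).ix2.exists_out
  rw [← card_commutator_zpowers x4.1 (x3 t1), h.ZB h1 ha]
  refine Nat.mul_le_mul (card_le_of_le ((commutator_mono le_rfl (zpowers_le.2 t1)).trans
    ((h.loc h1).quad x1 x2 x3 x4))) (card_le_of_le (le_OZ (inf_le_left.trans x1) ?_ (elem_mono x4 inf_le_left)))
  rw [(h.loc h1).ix2.eq_sup t1 t2]
  exact le_cc_sup (inf_le_left.trans x2) inf_le_right
theorem card_sup (h1 : E a n) (ha : α a) (h2 : E a n') (e : n ≠ n') :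
    #(Za n ⊔ Za n' : Subgroup G) = #(Za n) * #(Za n) := by
  rw [card_sup_l (ab_nn (h.Z_elem a).1 (h.ZB_le h2 ha) (h.ZB_le h1 ha)) (h.Z_inf h1 ha h2 e),
    h.cardB (h.nα h2 ha) (h.nα h1 ha)]
theorem OZQ (ha : α a) : OZ (Qa a) ≤ Za a := by
  obtain ⟨n, h1⟩ := h.nb a
  obtain ⟨n', h2, e⟩ := h.exists_ne h1
  have a1 := sup_le (h.ZB_le h1 ha) (h.ZB_le h2 ha)
  exact (eq_of_card_le (a1.trans (Zs_le_OZ (h.ch a))) (h.card_sup h1 ha h2 e.symm ▸ h.bnd h1 ha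
    ((NG.OZ_le _).trans (h.Q_le_T h1)) (OZ_cc _) (nn_OZ (inf_le_left.trans (nn_Q a))) (OZ_elem _))).ge.trans a1
theorem Z_sup (h1 : E a n) (ha : α a) (h2 : E a n') (e : n ≠ n') : Za n ⊔ Za n' = Za a :=
  eq_of_card_le (sup_le (h.ZB_le h1 ha) (h.ZB_le h2 ha)) (h.card_sup h1 ha h2 e ▸ h.bnd h1 ha
    ((h.Z_le_Q a).trans (h.Q_le_T h1)) (cc_symm (h.Q_cc a)) (inf_le_left.trans (nn_Z a)) (h.Z_elem a))
theorem cardZ (ha : α a) (hn : ¬ α n) : #(Za a) = #(Za n) * #(Za n) := by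
  obtain ⟨c, h1⟩ := h.nb a
  obtain ⟨n', h2, e⟩ := h.exists_ne h1
  rw [← h.Z_sup h1 ha h2 e.symm, h.card_sup h1 ha h2 e.symm, h.cardB hn (h.nα h1 ha)]

theorem B_smul (g : G) (k : ℕ) (v : V) : Bl k (g • v) = cj g (Bl k v) := by
  have : ∀ (g : G) v, cj g (Bl k v) ≤ Bl k (g • v) := fun g v => by
    rw [ball, cj_iSup]
    exact iSup_le fun a => Za_smul g (a : V) ▸ le_B (h.inv g a.2.1) (h.dl_smul a.2.2 g)
  exact le_antisymm (le_cj_iff_cj_inv_le.2 (by simpa using this g⁻¹ (g • v))) (this g v)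
theorem nn_B (k : ℕ) (v : V) : St v ≤ NN (Bl k v) := fun g hg =>
  mem_normalizer_iff_cj.2 (by rw [← h.B_smul, mem_stabilizer_iff.1 hg])
theorem le_V (h1 : E a n) (ha : α a) : Za a ≤ Bl 1 n := le_B ha (.one (h.symm h1))
theorem ZB_le_V (hn : ¬ α n) : Za n ≤ Bl 1 n :=
  let ⟨_, l⟩ := h.nb n
  (h.ZB_le (h.symm l) (h.α_of (h.symm l) hn)).trans (h.le_V (h.symm l) (h.α_of (h.symm l) hn))
theorem V_le_W (h1 : E a n) : Bl 1 n ≤ Bl 2 a := B_mono (.one h1)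
theorem B1_le (hn : ¬ α n) (h1 : ∀ a, E a n → Za a ≤ K) : Bl 1 n ≤ K := B_le fun a ha l => by
  rcases l.succ with rfl | ⟨c, l1, l2⟩
  exacts [absurd ha hn, l2.zero ▸ h1 c (h.symm l1)]
theorem B1_three (h1 : E a n) (ha : α a) (h2 : E a' n) (h3 : E a'' n) (e1 : a ≠ a') (e2 : a ≠ a'')
    (e3 : a' ≠ a'') (k1 : Za a ≤ K) (k2 : Za a' ≤ K) (k3 : Za a'' ≤ K) : Bl 1 n ≤ K :=
  h.B1_le (h.nα h1 ha) fun c l => by
    rcases h.three (h.symm h1) (h.symm h2) (h.symm h3) (h.symm l) e1 e2 e3 with rfl | rfl | rfl <;> assumption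
theorem B2_le (ha : α a) (h1 : ∀ n, E a n → Bl 1 n ≤ K) : Bl 2 a ≤ K := B_le fun c hc l => by
  rcases l.succ with rfl | ⟨n, l1, l2⟩
  · obtain ⟨n, l⟩ := h.nb a; exact (h.le_V l ha).trans (h1 n l)
  · exact (le_B hc l2).trans (h1 n l1)
theorem B2_three (h1 : E a n) (ha : α a) (h2 : E a n') (h3 : E a n'') (e1 : n ≠ n') (e2 : n ≠ n'')
    (e3 : n' ≠ n'') (k1 : Bl 1 n ≤ K) (k2 : Bl 1 n' ≤ K) (k3 : Bl 1 n'' ≤ K) : Bl 2 a ≤ K :=
  h.B2_le ha fun c l => by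
    rcases h.three h1 h2 h3 l e1 e2 e3 with rfl | rfl | rfl <;> assumption
theorem commV (hn : ¬ α n) : ⁅Bl 1 n, Qa n⁆ ≤ Za n := comm_via (h.B1_le hn fun a l =>
  le_cm' (((h.Z_le_Q a).trans (h.Q_le l)).trans (nn_Z n))
    ((commutator_mono le_rfl (h.Q_le_T' l)).trans (h.commZ l (h.α_of l hn))))
theorem V_le_Q (hn : ¬ α n) : Bl 1 n ≤ Qa n := by
  haveI : Fact (Nat.Prime 3) := ⟨Nat.prime_three⟩
  by_contra e
  obtain ⟨a, l⟩ := h.nb n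
  obtain ⟨R, r1, r2, r3⟩ := (h.loc l).exists_three
  have a1 := (h.loc l).three_le r1 (h.B1_le hn fun a l => (h.Z_le_Q a).trans (h.Q_le l)) (h.nn_B 1 n) e
  refine r3 (((le_inf r1.le (cop_stable (pg_coprime_pg r1.pgroup (elem_isPGroup (h.Z_elem n)) (by norm_num))
    ?_ (r1.le.trans (h.ZB_cc' hn)))).trans (h.ch n)).trans (h.Q_le_T l))
  rw [commutator_comm]
  exact (commutator_mono a1 le_rfl).trans (h.commV hn)
theorem W_le_S (ha : α a) : Bl 2 a ≤ St a := h.B2_le ha fun n l => (h.V_le_Q (h.nα l ha)).trans (h.Q_le (h.symm l))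
theorem botA (ha : α a) (k1 : K ≤ Qa a) (k2 : St a ≤ NN K) (l1 : L ≤ St a) (l2 : St a ≤ NN L)
    (l3 : ¬ L ≤ Qa a) (k3 : K ≤ CC L) : K = ⊥ := by
  by_contra e
  obtain ⟨n, h1⟩ := h.nb a
  have a1 := nil_meet (nil_of_pg (h.pgT h1)) (k1.trans (h.Q_le_T h1)) (inf_le_left.trans k2) e
  have a2 : K ⊓ CC (St a ⊓ St n : Subgroup G) ≤ St a ⊓ St n := inf_le_left.trans (k1.trans (h.Q_le_T h1))
  obtain ⟨X, x1, x2⟩ := pg_exists_card ((h.pgT h1).to_le a2) a1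
  have x3 : X ≤ Za n := h.ZB h1 ha ▸ le_OZ (x1.trans a2) (x1.trans inf_le_right) (elem_of_sq fun x hx => by
    rw [← sq, ← x2]; exact congrArg Subtype.val (pow_card_eq_one' (x := (⟨x, hx⟩ : X))))
  have := h.core h1 X (x1.trans a2) (nn_of_cc (cc_symm (by
    rw [← (h.loc h1).sup_eq l1 ((h.loc h1).not_le l1 l2 l3)]
    exact le_cc_sup ((x1.trans inf_le_left).trans k3) (x1.trans inf_le_right))))
    (nn_of_cc ((h.ZB_cc h1 ha).trans (cc_anti x3)))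
  rw [this, card_bot] at x2; omega
end GB

variable (G) in
/-- `b` is the critical distance -/
structure GC (E : V → V → Prop) (α : V → Prop) (b : ℕ) : Prop extends GB G E α where
  hb : ∀ {k a c}, α a → Dl E k a c → k < b → Za a ≤ Qa c
  crit : ∃ p, Ln E p ∧ α (p 0) ∧ ¬ Za (p 0) ≤ Qa (p b)

theorem GB.exists_GC (h : GB G E α) (ha : α a) : ∃ b, GC G E α b := by
  classical
  have ex : ∃ k, ∃ a c, α a ∧ Dl E k a c ∧ ¬ Za a ≤ Qa c := by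
    by_contra! hn
    obtain ⟨n, h1⟩ := h.nb a
    set U := ⨆ k, Bl k a
    have h2 : ∀ g : G, Dl E 2 a (g • a) → g ∈ NN U := fun g hg => mem_normalizer_of_cj_le (by
      rw [cj_iSup]
      exact iSup_le fun k => (h.B_smul g k a).ge.trans ((B_mono hg le_rfl).trans (le_iSup (Bl · a) _)))
    refine h.ZA_ne ha (le_bot_iff.1 (((le_B ha (.refl 0 a)).trans (le_iSup (Bl · a) 0)).trans (h.core h1 U
      (iSup_le fun k => B_le fun c hc l => (hn k c a hc (h.dl_symm l)).trans (h.Q_le_T h1))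
      (fun g hg => h2 g (by rw [mem_stabilizer_iff.1 hg]; exact .refl _ _)) fun g hg => h2 g ?_).le))
    exact .step h1 (.one (h.smul' (h.symm h1) hg))
  have hb : ∀ {k a c}, α a → Dl E k a c → k < Nat.find ex → Za a ≤ Qa c := fun a1 a2 a3 =>
    by_contra fun e => Nat.find_min ex a3 ⟨_, _, a1, a2, e⟩
  refine ⟨Nat.find ex, h, hb, ?_⟩
  obtain ⟨a, c, h1, h2, h3⟩ := Nat.find_spec ex
  generalize Nat.find ex = b at *
  cases b with
  | zero => exact absurd (h2.zero ▸ h.Z_le_Q a) h3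
  | succ b =>
    rcases (h.dl_symm h2).succ with rfl | ⟨v, l1, l2⟩
    · exact absurd (h.Z_le_Q _) h3
    obtain ⟨q, q1, rfl, rfl⟩ := h.line (h.symm l1) b
    rcases h.cases_ball b q1 b l2 with ⟨r, r1, r2, r3⟩ | l
    · rw [sub_self] at r3
      exact ⟨r, r1, r3 ▸ h1, by rw [r3, r2 _ (by omega)]; exact h3⟩
    · exact absurd (hb h1 (h.dl_symm l) (by omega)) h3

namespace GC
variable (h : GC G E α b)
include h
theorem B_le_Q (h1 : Dl E j v c) (h2 : k + j < b := by omega) : Bl k v ≤ Qa c :=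
  B_le fun a ha l => h.hb ha ((h.dl_symm l).trans h1) (by omega)
theorem B_ccZ (h1 : Dl E j v c) (h2 : k + j < b := by omega) : Bl k v ≤ CC (Za c) :=
  (h.B_le_Q h1).trans (h.Q_cc c)
theorem B_cc (h1 : Dl E j v c) (h2 : k + j + l < b := by omega) : Bl k v ≤ CC (Bl l c) :=
  cc_symm (B_le fun a ha l => cc_symm (h.B_ccZ (h1.trans l)))
theorem two_le : 2 ≤ b := by
  obtain ⟨p, hp, h0, hc⟩ := h.crit
  by_contra e
  obtain rfl | rfl : b = 0 ∨ b = 1 := by omega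
  · exact hc (h.Z_le_Q _)
  · exact hc ((h.le_V (hp.adj' 0) h0).trans (h.V_le_Q (h.nα (hp.adj' 0) h0)))
end GC

end Cfsg.Agent.Gs
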