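/-
Amalgams of index (3,3): facts for critical distance at least three.
-/
import Cfsg.Agent.Lib.Fusion.Gs2

set_option autoImplicit false
set_option linter.unusedSectionVars false
set_option linter.unusedVariables false

namespace Cfsg.Agent.Gs

open Subgroup Cfsg.Agent.Transfer Cfsg.Agent.MS Cfsg.Agent.NG MulAction
open scoped commutatorElement

universe u v
variable {G : Type u} [Group G] [Finite G] {V : Type v} [MulAction G V]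
variable {K L X : Subgroup G} {f g s t w x y z : G} {a a' a'' c n n' n'' v : V} {b j k l : ℕ} {p : ℤ → V}
variable {E : V → V → Prop} {α : V → Prop}

theorem of_conj (hg : g ∈ NN K) (h : g * x * g⁻¹ ∈ K) : x ∈ K := (mem_normalizer_iff.1 hg x).2 h
theorem conj_Z (hx : x ∈ Za a) (g : G) : g * x * g⁻¹ ∈ Za (g • a) := Za_smul g a ▸ conj_mem_cj' hx g
theorem mem_zp2 (h : y * y = 1) (hx : x ∈ zpowers y) : x = 1 ∨ x = y := by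
  obtain ⟨k, rfl⟩ := hx
  have : y ^ (2 : ℤ) = 1 := by rw [zpow_two, h]
  obtain ⟨m, rfl | rfl⟩ := Int.even_or_odd' k <;> simp [zpow_add, zpow_mul, this]
theorem comm_conj (x g : G) : g * x * g⁻¹ = ⁅g, x⁆ * x := by simp only [commutatorElement_def]; group
theorem comm_mul_l (x y g : G) : ⁅x * y, g⁆ = x * ⁅y, g⁆ * x⁻¹ * ⁅x, g⁆ := by
  simp only [commutatorElement_def]; group

def cm1 (R : Subgroup G) (u : G) : Subgroup G where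
  carrier := {g | g ∈ NN R ∧ ⁅u, g⁆ ∈ R}
  one_mem' := ⟨one_mem _, by simp⟩
  mul_mem' := fun {a b} ha hb => ⟨mul_mem ha.1 hb.1, by
    rw [show ⁅u, a * b⁆ = ⁅u, a⁆ * (a * ⁅u, b⁆ * a⁻¹) by simp only [commutatorElement_def]; group]
    exact mul_mem ha.2 (conj_mem_of_mem_normalizer ha.1 hb.2)⟩
  inv_mem' := fun {a} ha => ⟨inv_mem ha.1, by
    rw [show ⁅u, a⁻¹⁆ = a⁻¹ * ⁅u, a⁆⁻¹ * a by simp only [commutatorElement_def]; group]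
    exact inv_conj_mem_of_mem_normalizer ha.1 (inv_mem ha.2)⟩

variable (G α) in
def M2 : Prop := ∀ n, ¬ α n → #(Za n) = 2
variable (G E α) in
def V4 : Prop := ∀ a n, E a n → α a → Ix2 (Bl 1 n) (Za a)
variable (E α) in
def Fe (n : V) (f : G) : Prop := f ∈ Bl 1 n ∧ ∀ g ∈ St n, ⁅f, g⁆ ∈ Za n

namespace GB
variable (h : GB G E α)
include h
theorem conj_B (hx : x ∈ Bl k v) (g : G) : g * x * g⁻¹ ∈ Bl k (g • v) := h.B_smul g k v ▸ conj_mem_cj' hx g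
theorem nle (h1 : E a n) (ha : α a) : ¬ Qa a ≤ Qa n := h.Q_not_le h1 (h.s3 h1 ha).Q_ne_bot
theorem nle' (h1 : E a n) (ha : α a) : ¬ Qa n ≤ Qa a := h.Q_not_le (h.symm h1) fun e =>
  h.Z_ne h1 ha (le_bot_iff.1 ((h.Z_le_Q n).trans e.le))
theorem T_eq (h1 : E a n) (ha : α a) : Qa a ⊔ Qa n = St a ⊓ St n :=
  (h.loc h1).ix2.sup_eq (h.Q_le_T' h1) (h.nle' h1 ha)
theorem ixD (h1 : E a n) (ha : α a) : Ix2 (Qa n) (Qa n ⊓ Qa a) :=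
  (h.loc h1).ix2.inf' (h.Q_le_T' h1) (h.nle' h1 ha)
theorem exZ (h1 : E a n) (ha : α a) : ∃ x ∈ Za a, x ∉ Za n := by
  obtain ⟨n', h2, e⟩ := h.exists_ne h1
  refine SetLike.not_le_iff_exists.1 fun l => h.Z_ne h2 ha ?_
  rw [← h.Z_inf h1 ha h2 e.symm, inf_eq_right.2 ((h.ZB_le h2 ha).trans l)]
theorem ixZ (hm : M2 G α) (h1 : E a n) (ha : α a) : Ix2 (Za a) (Za n) :=
  ix2_of_card (h.ZB_le h1 ha) (by rw [h.cardZ ha (h.nα h1 ha), hm n (h.nα h1 ha)])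
theorem m2_le (hm : M2 G α) (hn : ¬ α n) (x1 : x ∈ Za n) (x2 : x ≠ 1) (x3 : x ∈ K) : Za n ≤ K :=
  (prime_eq_zpowers (hm n hn ▸ Nat.prime_two) x1 x2).ge.trans (zpowers_le.2 x3)
theorem m2_of (hn : ¬ α n) (ha : α a) (h1 : #(Za a) ≤ 2 * #(Za n)) : M2 G α := fun c hc => by
  rw [h.cardZ ha hn] at h1
  obtain ⟨a', l⟩ := h.nb n
  have a1 := mt card_eq_one.1 (h.Z_ne (h.symm l) (h.α_of (h.symm l) hn))
  have a2 := Nat.le_of_mul_le_mul_right h1 (card_pos' _)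
  have a3 := card_pos' (Za n)
  rw [h.cardB hc hn]; omega
theorem V4_one (h1 : E a n) (ha : α a) (h2 : Ix2 (Bl 1 n) (Za a)) : V4 G E α := fun a' n' l l' => by
  obtain ⟨g, rfl, rfl⟩ := h.edgeA h1 ha l l'
  rw [h.B_smul, Za_smul]; exact h2.cj g
theorem commT (hV : V4 G E α) (h1 : E a n) (ha : α a) : ⁅Bl 1 n, St a ⊓ St n⁆ ≤ Za a :=
  (hV a n h1 ha).comm_le (inf_le_right.trans (h.nn_B 1 n)) (inf_le_left.trans (nn_Z a))
theorem commW (hV : V4 G E α) (ha : α a) : ⁅Bl 2 a, Qa a⁆ ≤ Za a := comm_via (h.B2_le ha fun n l =>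
  le_cm' (((h.V_le_W l).trans (h.W_le_S ha)).trans (nn_Z a))
    ((commutator_mono le_rfl (h.Q_le_T l)).trans (h.commT hV l ha)))
theorem Fe_conj (hf : Fe E α n f) (g : G) : Fe E α (g • n) (g * f * g⁻¹) := ⟨h.conj_B hf.1 g, fun x hx => by
  rw [St_smul] at hx
  obtain ⟨y, hy, rfl⟩ := hx
  change ⁅g * f * g⁻¹, g * y * g⁻¹⁆ ∈ _
  rw [show ⁅g * f * g⁻¹, g * y * g⁻¹⁆ = g * ⁅f, y⁆ * g⁻¹ by simp only [commutatorElement_def]; group]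
  exact conj_Z (hf.2 y hy) g⟩
theorem Fe_mul (hn : ¬ α n) (hf : Fe E α n f) (ht : t ∈ Za n) : Fe E α n (t * f) :=
  ⟨mul_mem (h.ZB_le_V hn ht) hf.1, fun g hg => by
    rw [comm_mul_l]
    exact mul_mem (mul_mem (mul_mem ht (hf.2 g hg)) (inv_mem ht))
      (comm_mem (comm_le_left (nn_Z n)) ht hg)⟩
theorem nnI (h1 : E a n) (ha : α a) (h2 : E a n') (e : n ≠ n') : St a ≤ NN (Bl 1 n ⊓ Bl 1 n' : Subgroup G) := by
  have a1 : Qa a ≤ NN (Bl 1 n ⊓ Bl 1 n' : Subgroup G) :=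
    nn_inf ((h.Q_le h1).trans (h.nn_B 1 n)) ((h.Q_le h2).trans (h.nn_B 1 n'))
  have a2 := le_inf (h.le_V h1 ha) (h.le_V h2 ha)
  rw [← h.gen2 h1 h2 e, ← h.T_eq h1 ha, ← h.T_eq h2 ha]
  exact sup_le (sup_le a1 (nn_of_comm_le (((h.commV (h.nα h1 ha)).trans (h.ZB_le h1 ha)).trans a2) inf_le_left))
    (sup_le a1 (nn_of_comm_le (((h.commV (h.nα h2 ha)).trans (h.ZB_le h2 ha)).trans a2) inf_le_right))
theorem V_nle (h1 : E a n) (ha : α a) (h2 : E a n') (e : n ≠ n') : ¬ Bl 1 n ≤ Bl 1 n' := fun l =>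
  h.ZA_ne ha (le_bot_iff.1 ((h.le_V h1 ha).trans (h.core h1 _ ((h.V_le_Q (h.nα h1 ha)).trans (h.Q_le_T' h1))
    (inf_eq_left.2 l ▸ h.nnI h1 ha h2 e) (h.nn_B 1 n)).le))
end GB

namespace GC
variable (h : GC G E α b) (h3 : 3 ≤ b)
include h h3

theorem V_cc (n : V) : Bl 1 n ≤ CC (Bl 1 n) := h.B_cc (.refl 0 n)
theorem V_elem (n : V) : IsElementaryAbelian 2 (Bl 1 n) :=
  elem_mono (omega_elem (ab_iff.2 (h.V_cc h3 n))) (B_le fun a ha l => le_omega (le_B ha l) (h.Z_elem a))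
theorem V_sq (hx : x ∈ Bl 1 n) : x * x = 1 := by rw [← sq, (h.V_elem h3 n).2 x hx]
theorem V_comm (hx : x ∈ Bl 1 n) (hy : y ∈ Bl 1 n) : x * y = y * x := (elem_commute (h.V_elem h3 n) hx hy).eq

theorem N1 (h1 : E a n) (ha : α a) (h2 : E a' n) (e : a ≠ a') : ¬ Qa n ⊓ Qa a ≤ Qa a' := fun l => by
  haveI : Fact (Nat.Prime 3) := ⟨Nat.prime_three⟩
  have hn := h.nα h1 ha
  have e1 : Qa n ⊓ Qa a = Qa n ⊓ Qa a' := eq_of_card_le (le_inf inf_le_left l) (by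
    have := (h.ixD h1 ha).card; have := (h.ixD h2 (h.α2 h1 ha h2)).card; omega)
  have g2 := h.gen2 (h.symm h1) (h.symm h2) e
  have a1 : St n ≤ NN (Qa n ⊓ Qa a : Subgroup G) := g2.ge.trans (sup_le (nn_inf (inf_le_left.trans (nn_Q n))
    (inf_le_right.trans (nn_Q a))) (e1 ▸ nn_inf (inf_le_left.trans (nn_Q n)) (inf_le_right.trans (nn_Q a'))))
  have a2 : Bl 1 n ≤ CC (Qa n ⊓ Qa a : Subgroup G) := h.B1_le hn fun c l => by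
    obtain ⟨g, hg, rfl⟩ := h.tr (h.symm h1) (h.symm l)
    refine cc_symm (le_trans ?_ (h.Q_cc _))
    rw [← cj_nn (a1 hg), Qa_smul]; exact cj_mono g inf_le_right
  obtain ⟨R, r1, r2, r3⟩ := (h.loc' h1).exists_three
  have c1 : ∀ {X : Subgroup G}, IsElementaryAbelian 2 X → (#R).Coprime #X := fun hX =>
    pg_coprime_pg r1.pgroup (elem_isPGroup hX) (by norm_num)
  have a3 : ∀ c, E c n → St n ⊓ St c ≤ cm ⊤ (OZ (Qa n)) (Za n) := fun c l => le_cm le_top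
    (inf_le_left.trans (nn_Z n)) (by
      rw [h.ZB l (h.α_of l hn), inf_comm (St c)]
      exact (h.loc (h.symm l)).quad ((NG.OZ_le _).trans (h.Q_le_T (h.symm l))) (OZ_cc _)
        (nn_OZ (inf_le_left.trans (nn_Q n))) (OZ_elem _))
  have a4 : R ≤ CC (OZ (Qa n)) := cop_stable (c1 (h.Z_elem n)) ((commutator_mono le_rfl (r1.le.trans
    (g2.ge.trans (sup_le (a3 a h1) (a3 a' h2))))).trans (comm_cm _ _ _)) (r1.le.trans (h.ZB_cc' hn))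
  have a5 : ⁅⁅R, Bl 1 n⁆, Qa n⁆ ≤ ⊥ := three_sub nn_bot nn_bot nn_bot
    ((commutator_mono (h.commV hn) le_rfl).trans (comm_eq_bot'.2 (r1.le.trans (h.ZB_cc' hn))).le)
    ((commutator_mono ((h.ixD h1 ha).comm_le (r1.le.trans (nn_Q n)) (r1.le.trans a1)) le_rfl).trans
      (comm_eq_bot'.2 a2).le)
  have a6 : ⁅R, Bl 1 n⁆ ≤ Bl 1 n := comm_le_right (r1.le.trans (h.nn_B 1 n))
  have a7 : R ≤ CC (Bl 1 n) := cop_stable (c1 (OZ_elem _)) (commutator_comm R _ ▸ le_OZ (a6.trans (h.V_le_Q hn))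
    (comm_eq_bot.1 (le_bot_iff.1 a5)) (elem_mono (h.V_elem h3 n) a6)) a4
  obtain ⟨g, g1, g4⟩ := SetLike.not_le_iff_exists.1 r3
  exact h.Z_nle h1 ha (h.symm (h.smul' (h.symm h1) (r1.le g1))) (fun l => g4 ⟨l.symm, r1.le g1⟩) (by
    rw [Za_smul, cj_cc (cc_anti (h.le_V h1 ha) (a7 g1))])
theorem N2 (h1 : E a n) (ha : α a) (h2 : E a' n) (e : a ≠ a') (x1 : x ∈ Za a) (x2 : x ∈ Za a') : x ∈ Za n := by
  obtain ⟨t, t1, t2⟩ := SetLike.not_le_iff_exists.1 (h.N1 h3 h2 (h.α2 h1 ha h2) h1 e.symm)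
  exact h.fix h1 ha (h.Q_le_T' h1 t1.1) t2 x1 (C1_of_cc (cc_symm (h.Q_cc a')) x2 t1.2)
theorem back3 (h1 : E a n) (ha : α a) (x1 : x ∈ Za a) (x2 : x ∉ Za n) (g1 : g ∈ St n) (g2 : g ∈ C1 x) :
    g ∈ Qa a := by
  by_cases e : a = g • a
  · exact by_contra fun l => x2 (h.fix h1 ha ⟨e.symm, g1⟩ l x1 (mem_C1_comm.1 g2))
  · exact absurd (h.N2 h3 h1 ha (h.symm (h.smul' (h.symm h1) g1)) e x1 (Za_smul g a ▸ mem_cj_of_C1 x1 g2)) x2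
theorem back1 (h1 : E a n) (ha : α a) (x1 : X ≤ St n) (x2 : X ≤ CC (Za a)) : X ≤ Qa a := fun g hg =>
  let ⟨x, y1, y2⟩ := h.exZ h1 ha
  h.back3 h3 h1 ha y1 y2 (x1 hg) (C1_of_cc x2 hg y1)
theorem Nz (h1 : E a n) (ha : α a) (h2 : E a' n) (e : a ≠ a') (z1 : z ∈ St n ⊓ St a') (z2 : z ∉ Qa n)
    (y1 : y ∈ Za a) (y2 : z * y * z⁻¹ ∈ Za a) : y ∈ Za n :=
  let ⟨m1, m2, _⟩ := h.move (h.symm h2) (h.symm h1) e z1 z2
  of_conj (nn_Z n z1.1) (h.N2 h3 h1 ha (h.symm m1) m2.symm y2 (conj_Z y1 z))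
theorem ccV (hn : ¬ α n) : St n ⊓ CC (Bl 1 n) ≤ Qa n := fun g hg => by
  obtain ⟨a, h1⟩ := h.nb n
  obtain ⟨a', h2, e⟩ := h.exists_ne h1
  have : ∀ c, E n c → g ∈ St c := fun c l => Q_le_S c (h.back1 h3 (h.symm l) (h.α_of (h.symm l) hn) inf_le_left
    (inf_le_right.trans (cc_anti (h.le_V (h.symm l) (h.α_of (h.symm l) hn)))) hg)
  exact h.mem_Q h1 h2 e.symm hg.1 (this a h1) (this a' h2)

theorem lemB (h1 : E a n) (ha : α a) (h2 : E a n') (e : n ≠ n') (h4 : E a' n) (e' : a ≠ a')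
    (x1 : x ∈ Bl 1 n') (x2 : x ∈ Za a') : x ∈ Za n := by
  by_contra x3
  have hn := h.nα h1 ha
  have ha' := h.α2 h1 ha h4
  have n1 : St a ≤ NN (Qa a ⊓ CC (Bl 1 n ⊓ Bl 1 n' : Subgroup G) : Subgroup G) :=
    nn_inf (nn_Q a) (nn_cc (h.nnI h1 ha h2 e))
  have a1 : Qa a ⊓ CC (Bl 1 n ⊓ Bl 1 n' : Subgroup G) ≤ Qa a' := fun g hg =>
    h.back3 h3 h4 ha' x2 x3 (h.Q_le h1 hg.1) (cc_le_C1 (mem_inf.2 ⟨h.le_V h4 ha' x2, x1⟩) hg.2)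
  obtain ⟨s, s1, s2⟩ := SetLike.not_le_iff_exists.1 (h.nle h1 ha)
  obtain ⟨m1, m2, m3⟩ := h.move (h.symm h1) (h.symm h4) e'.symm ⟨h.Q_le h1 s1, Q_le_S a s1⟩ s2
  have a2 : Qa a ⊓ CC (Bl 1 n ⊓ Bl 1 n' : Subgroup G) ≤ Qa (s • a') := by
    rw [← cj_nn (n1 (Q_le_S a s1)), Qa_smul]; exact cj_mono s a1
  have a3 : Qa a ⊓ CC (Bl 1 n ⊓ Bl 1 n' : Subgroup G) = St n ⊓ CC (Bl 1 n) := le_antisymm
    (le_inf (inf_le_left.trans (h.Q_le h1)) (cc_symm (h.B1_three h1 ha h4 (h.symm m1) e' m3.symm m2.symm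
      (cc_symm (inf_le_left.trans (h.Q_cc _))) (cc_symm (a1.trans (h.Q_cc _))) (cc_symm (a2.trans (h.Q_cc _))))))
    (le_inf (h.back1 h3 h1 ha inf_le_left (inf_le_right.trans (cc_anti (h.le_V h1 ha))))
      (inf_le_right.trans (cc_anti inf_le_left)))
  exact h.Z_ne h1 ha (le_bot_iff.1 ((le_inf (h.Z_le_S n) ((h.ZB_le_V hn).trans (h.V_cc h3 n))).trans
    (a3 ▸ h.core h1 _ (inf_le_left.trans (h.Q_le_T h1)) n1 (a3 ▸ nn_inf (le_nn _) (nn_cc (h.nn_B 1 n)))).le))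

theorem lemE (h1 : E a n) (ha : α a) (h2 : E a n') (e : n ≠ n') (h4 : E a' n) (e' : a ≠ a') :
    ¬ Bl 1 n' ≤ Bl 2 a' := fun l => by
  obtain ⟨s, s1, s2⟩ := SetLike.not_le_iff_exists.1 (h.nle' h1 ha)
  obtain ⟨m1, m2, m3⟩ := h.move h1 h2 e.symm (h.Q_le_T' h1 s1) s2
  have a1 : Bl 2 a ≤ Bl 2 a' := h.B2_three h1 ha h2 m1 e m3.symm m2.symm (h.V_le_W h4) l (by
    rw [h.B_smul, ← cj_nn (h.nn_B 2 a' (h.Q_le (h.symm h4) s1))]; exact cj_mono s l)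
  obtain ⟨g, hg, rfl⟩ := h.tr (h.symm h1) (h.symm h4)
  have a2 := eq_of_card_le a1 (by rw [h.B_smul, card_cj])
  exact h.ZA_ne ha (le_bot_iff.1 ((le_B ha (.refl 2 a)).trans (h.core h1 _ ((h.B_le_Q (.refl 0 a)).trans
    (h.Q_le_T h1)) (h.nn_B 2 a) ((h.gen2 (h.symm h1) (h.symm h4) e').ge.trans
      (sup_le (inf_le_right.trans (h.nn_B 2 a)) (inf_le_right.trans (a2 ▸ h.nn_B 2 _))))).le))

variable (hm : M2 G α)
include hm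

theorem V4_of (h1 : E a n) (ha : α a) (h2 : E a' n) (h4 : E a'' n) (e1 : a ≠ a') (e2 : a ≠ a'') (e3 : a' ≠ a'')
    (y1 : y ∈ Za a') (y2 : y ∉ Za n) (z1 : z ∈ Za a'') (z2 : z ∉ Za n) (h5 : y * z ∈ Za a) : V4 G E α := by
  have ha' := h.α2 h1 ha h2
  have a1 := (h.ZB_le h1 ha).trans (le_sup_left : _ ≤ Za a ⊔ zpowers y)
  have a2 : y ∈ Za a ⊔ zpowers y := mem_sup_right (mem_zpowers y)
  have e : Bl 1 n = Za a ⊔ zpowers y := le_antisymm (h.B1_three h1 ha h2 h4 e1 e2 e3 le_sup_left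
    ((h.ixZ hm h2 ha').le_of y1 y2 a1 a2) ((h.ixZ hm h4 (h.α2 h1 ha h4)).le_of z1 z2 a1
      ((mul_mem_cancel_left a2).1 (mem_sup_left h5)))) (sup_le (h.le_V h1 ha) (zpowers_le.2 (h.le_V h2 ha' y1)))
  refine h.V4_one h1 ha (e ▸ ix2_sup (nn_Z a (h.Q_le (h.symm h1) (h.V_le_Q (h.nα h1 ha) (h.le_V h2 ha' y1))))
    (h.Z_sq y1 ▸ one_mem _) fun l => y2 (h.N2 h3 h1 ha h2 e1 l y1))

theorem F1a (h1 : E a n) (ha : α a) (h2 : E a' n) (h4 : E a'' n) (e1 : a ≠ a') (e2 : a ≠ a'') (e3 : a' ≠ a'')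
    (x1 : x ∈ Za a) (x2 : x ∉ Za n) (y1 : y ∈ Za a') (y2 : y ∉ Za n) (z1 : z ∈ Za a'') (z2 : z ∉ Za n) :
    St n ⊓ St a ≤ cm1 (Za n) (x * y * z) := fun s hs => ⟨nn_Z n hs.1, by
  have ha' := h.α2 h1 ha h2
  have ha'' := h.α2 h1 ha h4
  by_cases e : s ∈ Qa n
  · exact comm_mem (h.commV (h.nα h1 ha))
      (mul_mem (mul_mem (h.le_V h1 ha x1) (h.le_V h2 ha' y1)) (h.le_V h4 ha'' z1)) e
  have c1 := conj_Z x1 s
  have c2 := conj_Z y1 s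
  have c3 := conj_Z z1 s
  rw [mem_stabilizer_iff.1 hs.2] at c1
  rw [h.swap (h.symm h1) (h.symm h2) (h.symm h4) e1.symm e2.symm e3 hs e] at c2
  rw [h.swap (h.symm h1) (h.symm h4) (h.symm h2) e2.symm e1.symm e3.symm hs e] at c3
  have d1 := (h.ixZ hm h1 ha).div_mem x1 x2 c1 (mt (of_conj (nn_Z n hs.1)) x2)
  have d2 := (h.ixZ hm h2 ha').div_mem y1 y2 c3 (mt (of_conj (nn_Z n hs.1)) z2)
  have d3 := (h.ixZ hm h4 ha'').div_mem z1 z2 c2 (mt (of_conj (nn_Z n hs.1)) y2)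
  have d4 := h.V_comm h3 (h.le_V h4 ha'' z1) (inv_mem (h.le_V h2 ha' c3))
  rw [show ⁅x * y * z, s⁆ = x * (y * (z * (s * z * s⁻¹)⁻¹) * (s * y * s⁻¹)⁻¹) * x⁻¹ * (x * (s * x * s⁻¹)⁻¹) by
    simp only [commutatorElement_def]; group, d4, ← mul_assoc y, mul_assoc _ z]
  exact mul_mem (conj_mem_of_mem_normalizer (nn_Z n (h.Q_le h1 (h.Z_le_Q a x1))) (mul_mem d2 d3)) d1⟩
theorem F1 (h1 : E a n) (ha : α a) (h2 : E a' n) (h4 : E a'' n) (e1 : a ≠ a') (e2 : a ≠ a'') (e3 : a' ≠ a'')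
    (x1 : x ∈ Za a) (x2 : x ∉ Za n) (y1 : y ∈ Za a') (y2 : y ∉ Za n) (z1 : z ∈ Za a'') (z2 : z ∉ Za n) :
    Fe E α n (x * y * z) := by
  have ha' := h.α2 h1 ha h2
  refine ⟨mul_mem (mul_mem (h.le_V h1 ha x1) (h.le_V h2 ha' y1)) (h.le_V h4 (h.α2 h1 ha h4) z1), fun g hg =>
    ((h.gen2 (h.symm h1) (h.symm h2) e1).ge.trans (sup_le (h.F1a h3 hm h1 ha h2 h4 e1 e2 e3 x1 x2 y1 y2 z1 z2) ?_) hg).2⟩
  rw [h.V_comm h3 (h.le_V h1 ha x1) (h.le_V h2 ha' y1)]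
  exact h.F1a h3 hm h2 ha' h1 h4 e1.symm e3 e2 y1 y2 x1 x2 z1 z2

theorem lemF (h1 : E a n) (ha : α a) (h2 : E a n') (e : n ≠ n') : Bl 1 n ⊓ Bl 1 n' ≤ Za a := by
  have hn := h.nα h1 ha
  obtain ⟨a', h4, e1⟩ := h.exists_ne (h.symm h1)
  replace h4 := h.symm h4
  have ha' := h.α2 h1 ha h4
  obtain ⟨s, s1, s2⟩ := SetLike.not_le_iff_exists.1 (h.nle h1 ha)
  obtain ⟨m1, m2, m3⟩ := h.move (h.symm h1) (h.symm h4) e1 ⟨h.Q_le h1 s1, Q_le_S a s1⟩ s2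
  replace m1 := h.symm m1
  have ha'' := h.α2 h1 ha m1
  obtain ⟨x, x1, x2⟩ := h.exZ h1 ha
  obtain ⟨y, y1, y2⟩ := h.exZ h4 ha'
  have z1 := conj_Z y1 s
  have z2 := mt (of_conj (nn_Z n (h.Q_le h1 s1))) y2
  have u := h.F1 h3 hm h1 ha h4 m1 e1.symm m3.symm m2.symm x1 x2 y1 y2 z1 z2
  have n1 := h.nnI h1 ha h2 e
  have i1 := le_inf (h.le_V h1 ha) (h.le_V h2 ha)
  have i2 := (h.ZB_le h1 ha).trans i1
  have y3 : y ∉ Bl 1 n ⊓ Bl 1 n' := fun l => h.V_nle h1 ha h2 e ((h.B1_three h1 ha h4 m1 e1.symm m3.symm m2.symm i1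
    ((h.ixZ hm h4 ha').le_of y1 y2 i2 l) ((h.ixZ hm m1 ha'').le_of z1 z2 i2
      (conj_mem_of_mem_normalizer (n1 (Q_le_S a s1)) l))).trans inf_le_right)
  have z3 := mt (of_conj (n1 (Q_le_S a s1))) y3
  generalize s * y * s⁻¹ = z at *
  have v1 := zpowers_le.2 (h.le_V h4 ha' y1)
  have v2 := zpowers_le.2 (h.le_V m1 ha'' z1)
  have ab := (h.V_elem h3 n).1
  have a1 : Bl 1 n ≤ Za a ⊔ zpowers y ⊔ zpowers z := h.B1_three h1 ha h4 m1 e1.symm m3.symm m2.symm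
    (le_sup_left.trans le_sup_left) ((h.ixZ hm h4 ha').le_of y1 y2 ((h.ZB_le h1 ha).trans
      (le_sup_left.trans le_sup_left)) (mem_sup_left (mem_sup_right (mem_zpowers y))))
    ((h.ixZ hm m1 ha'').le_of z1 z2 ((h.ZB_le h1 ha).trans (le_sup_left.trans le_sup_left))
      (mem_sup_right (mem_zpowers z)))
  have a2 : ⁅Bl 1 n ⊓ Bl 1 n', Qa a⁆ ≤ Za n := commutator_le.2 fun v hv q hq => by
    have c : ∀ w ∈ Za a, ⁅w, q⁆ = 1 := fun w hw => comm_of_C1 (C1_of_cc (cc_symm (h.Q_cc a)) hw hq)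
    obtain ⟨_, l1, z', l2, rfl⟩ := (mem_sup_l (ab_nn ab v2 (sup_le (h.le_V h1 ha) v1))).1 (a1 hv.1)
    obtain ⟨w, l3, y', l4, rfl⟩ := (mem_sup_l (ab_nn ab v1 (h.le_V h1 ha))).1 l1
    rcases mem_zp2 (h.Z_sq y1) l4 with rfl | rfl <;> rcases mem_zp2 (h.Z_sq z1) l2 with rfl | rfl
    · rw [mul_one, mul_one, c w l3]; exact one_mem _
    · rw [mul_one, mul_mem_cancel_left (i1 l3)] at hv; exact absurd hv z3
    · rw [mul_one, mul_mem_cancel_left (i1 l3)] at hv; exact absurd hv y3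
    · have l5 := mul_mem l3 (inv_mem x1)
      rw [show w * y' * z' = w * x⁻¹ * (x * y' * z') by group, comm_mul_l, c _ l5, mul_one]
      exact conj_mem_of_mem_normalizer (nn_Z n (h.Q_le h1 (h.Z_le_Q a l5))) (u.2 q (h.Q_le h1 hq))
  have a3 := h.core h1 _ (a2.trans ((h.Z_le_Q n).trans (h.Q_le_T' h1))) (nn_comm n1 (nn_Q a))
    (nn_of_cc ((h.ZB_cc h1 ha).trans (cc_anti a2)))
  exact (le_OZ (inf_le_left.trans (h.B_le_Q (.one (h.symm h1)))) (comm_eq_bot.1 a3)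
    (elem_mono (h.V_elem h3 n) inf_le_left)).trans (h.OZQ ha)
theorem Fv (h1 : E a n) (ha : α a) (h2 : E a n') (e : n ≠ n') (y1 : y ∈ St a ⊓ St n') (y2 : y ∉ Qa a)
    (x1 : x ∈ Bl 1 n) (x2 : y * x * y⁻¹ ∈ Bl 1 n) : x ∈ Za a :=
  let ⟨m1, m2, _⟩ := h.move h2 h1 e y1 y2
  of_conj (nn_Z a y1.1) (h.lemF h3 hm h1 ha m1 m2.symm ⟨x2, h.conj_B x1 y⟩)
theorem back2 (h1 : E a n) (ha : α a) (h2 : E a' n) (e : a ≠ a') (x1 : X ≤ St a') (x2 : X ≤ CC (Za a)) :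
    X ≤ Qa a := h.back1 h3 h1 ha (fun g hg => by_contra fun l => h.Z_nle h1 ha h2 e
      ((le_inf (h.le_V h1 ha) (by
        rw [h.B_smul, ← cj_cc (x2 hg)]; exact cj_mono g (h.le_V h1 ha))).trans
        (h.lemF h3 hm h2 (h.α2 h1 ha h2) (h.smul' h2 (x1 hg)) (Ne.symm l)))) x2

theorem lemG (h1 : E a n') (ha : α a) (h2 : E a n) (e : n' ≠ n) (g1 : g ∈ St n) (g2 : g • a ≠ a)
    (hf : Fe E α n' f) (f1 : f ∉ Za a) (g3 : g ∈ C1 f) : V4 G E α := by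
  have b1 := h.symm (h.smul' (h.symm h2) g1)
  have b2 := h.smul g h1
  have b3 := h.inv g ha
  have f2 := conj_eq_of_C1 g3 ▸ h.Fe_conj hf g
  obtain ⟨q, q1, q2⟩ := SetLike.not_le_iff_exists.1 (h.N1 h3 b1 b3 h2 g2)
  have q3 := h.Q_le_T' h2 q1.1
  obtain ⟨m1, -, -⟩ := h.move h2 h1 e q3 q2
  have t1 := f2.2 q (h.Q_le b2 q1.2)
  have t2 : ⁅f, q⁆ ∉ Za n := fun l => f1 (h.Fv h3 hm h1 ha h2 e q3 q2 hf.1 (by
    rw [conj_eq_of_C1 (mem_C1_comm.1 (C1_of_comm (h.one_of b2 b3 b1 (fun l' => e (MulAction.injective g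
      (l'.trans (mem_stabilizer_iff.1 g1).symm))) t1 l)))]; exact hf.1))
  obtain ⟨s, s1, s2⟩ := SetLike.not_le_iff_exists.1 (h.nle h2 ha)
  obtain ⟨k1, k2, k3⟩ := h.move (h.symm h2) (h.symm b1) g2 ⟨h.Q_le h2 s1, Q_le_S a s1⟩ s2
  have t3 := h.ZB_le b2 b3 t1
  refine h.V4_of h3 hm h2 ha b1 (h.symm k1) g2.symm k3.symm k2.symm t3 t2 (conj_Z (inv_mem t3) s)
    (fun l => t2 (inv_mem_iff.1 (of_conj (nn_Z n (h.Q_le h2 s1)) l))) ?_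
  have e1 : ⁅f, q⁆ = f * (q * f * q⁻¹) := by
    rw [commutatorElement_def, inv_eq_of_mul_eq_one_right (h.V_sq h3 hf.1)]; group
  rw [← mul_assoc, ← mul_assoc, show ⁅f, q⁆ * s * ⁅f, q⁆⁻¹ * s⁻¹ = ⁅⁅f, q⁆, s⁆ from rfl, e1, comm_mul_l]
  exact mul_mem (conj_mem_of_mem_normalizer (nn_Z a (h.W_le_S ha (h.V_le_W h1 hf.1)))
    (h.ZB_le m1 ha ((h.Fe_conj hf q).2 s (h.Q_le m1 s1)))) (h.ZB_le h1 ha (hf.2 s (h.Q_le h1 s1)))

theorem V4c (hV : V4 G E α) (h1 : E a n) (ha : α a) (g1 : g ∈ St a ⊓ St n) (g2 : g ∉ Qa n) (w1 : w ∈ Bl 1 n)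
    (w2 : ⁅g, w⁆ ∈ Za n) : w ∈ Za a := by
  by_contra w3
  obtain ⟨a', h2, e⟩ := h.exists_ne (h.symm h1)
  replace h2 := h.symm h2
  have ha' := h.α2 h1 ha h2
  obtain ⟨y, y1, y2⟩ := h.exZ h2 ha'
  have c := (hV a n h1 ha).div_mem (h.le_V h2 ha' y1) (fun l => y2 (h.N2 h3 h1 ha h2 e.symm l y1)) w1 w3
  refine y2 (h.Nz h3 h2 ha' h1 e ⟨g1.2, g1.1⟩ g2 y1 ?_)
  rw [comm_conj, show ⁅g, y⁆ = ⁅g, y * w⁻¹⁆ * (y * w⁻¹ * ⁅g, w⁆ * (y * w⁻¹)⁻¹) by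
    simp only [commutatorElement_def]; group]
  exact mul_mem (h.ZB_le h2 ha' (mul_mem (comm_mem' (h.commZ h1 ha) c g1)
    (conj_mem_of_mem_normalizer (nn_Z n (h.Q_le h1 (h.Z_le_Q a c))) w2))) y1

end GC

end Cfsg.Agent.Gs
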