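/-
Amalgams of index (3,3): even critical distance.
-/
import Cfsg.Agent.Lib.Fusion.Gs3

set_option autoImplicit false
set_option linter.unusedSectionVars false
set_option linter.unusedVariables false

namespace Cfsg.Agent.Gs

open Subgroup Cfsg.Agent.Transfer Cfsg.Agent.MS Cfsg.Agent.NG MulAction
open scoped commutatorElement

universe u v
variable {G : Type u} [Group G] [Finite G] {V : Type v} [MulAction G V]
variable {K L X : Subgroup G} {f g s t w x y z : G} {a a' a'' c n n' n'' v : V} {b k l : ℕ} {p : ℤ → V}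
variable {E : V → V → Prop} {α : V → Prop} {i j : ℤ}

namespace GC
variable (h : GC G E α b)
include h

theorem ZQ (hp : Ln E p) (hi : α (p i)) (j : ℤ) (e : j < i + b ∧ i < j + b := by omega) : Za (p i) ≤ Qa (p j) :=
  h.hb hi (h.dl hp (b - 1) i j) (by omega)
theorem BQ (hp : Ln E p) (k : ℕ) (i j : ℤ) (e : j + k < i + b ∧ i + k < j + b := by omega) :
    Bl k (p i) ≤ Qa (p j) := h.B_le_Q (h.dl hp (b - 1 - k) i j)
theorem BC (hp : Ln E p) (k l : ℕ) (i j : ℤ) (e : j + k + l < i + b ∧ i + k + l < j + b := by omega) :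
    Bl k (p i) ≤ CC (Bl l (p j)) := h.B_cc (h.dl hp (b - 1 - k - l) i j)
theorem BB (hp : Ln E p) (l k : ℕ) (j i : ℤ) (e : j + l ≤ i + k ∧ i + l ≤ j + k := by omega) :
    Bl l (p j) ≤ Bl k (p i) := B_mono (h.dl hp (k - l) i j)
theorem ZB' (hp : Ln E p) (hj : α (p j)) (k : ℕ) (i : ℤ) (e : j ≤ i + k ∧ i ≤ j + k := by omega) :
    Za (p j) ≤ Bl k (p i) := le_B hj (h.dl hp k i j)
theorem ZZ (hp : Ln E p) (hi : α (p i)) (j : ℤ) (e : j = i + 1 ∨ i = j + 1 := by omega) : Za (p j) ≤ Za (p i) :=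
  h.ZB_le (h.adj hp i j) hi

section even
variable (be : b % 2 = 0) (hp : Ln E p) (hi : α (p i)) (hc : ¬ Za (p i) ≤ Qa (p j)) (e : j = i + b)
include be hp hi hc e

theorem ev0 : M2 G α ∧ ¬ Za (p j) ≤ Qa (p i) ∧ ∀ i1 j1, i1 = i + 1 → j1 = j - 1 → Za (p i1) = Za (p j1) := by
  have := h.two_le
  have hj := h.al hp hi j
  have a1 := (h.ZQ hp hi (j - 1)).trans (h.Q_le_T' (h.adj hp j (j - 1)))
  have a2 := (h.ZQ hp hj (i + 1)).trans (h.Q_le_T' (h.adj hp i (i + 1)))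
  have c : ¬ Za (p j) ≤ Qa (p i) := fun l =>
    hc ((le_inf (a1.trans inf_le_left) (cc_symm (l.trans (h.Q_cc _)))).trans (h.cc_Z hj))
  obtain ⟨y, y1, y2⟩ := SetLike.not_le_iff_exists.1 c
  have m : M2 G α := h.m2_of (h.be hp hi (i + 1)) hi (by
    rw [((h.loc (h.adj hp j (j - 1))).ix2.inf' a1 hc).card]
    exact Nat.mul_le_mul_left 2 (card_le_of_le fun x hx =>
      h.fix (h.adj hp i (i + 1)) hi (a2 y1) y2 hx.1 (C1_of_cc (h.Q_cc _) hx.2 y1)))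
  refine ⟨m, c, ?_⟩
  rintro _ _ rfl rfl
  have r0 : ⁅Za (p i), Za (p j)⁆ ≠ ⊥ := fun l =>
    hc ((le_inf (a1.trans inf_le_left) (comm_eq_bot.1 l)).trans (h.cc_Z hj))
  rw [← prime_eq_of_le (m _ (h.be hp hi (i + 1)) ▸ Nat.prime_two)
    ((commutator_mono le_rfl a2).trans (h.commZ (h.adj hp i (i + 1)) hi)) r0, commutator_comm]
  exact prime_eq_of_le (m _ (h.be hp hi (j - 1)) ▸ Nat.prime_two)
    ((commutator_mono le_rfl a1).trans (h.commZ (h.adj hp j (j - 1)) hj)) (commutator_comm (Za (p i)) _ ▸ r0)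

theorem ev1 (h3 : 3 ≤ b) (k : ℤ) (ek : k = i - 2) : Za (p k) ≤ Qa (p (j - 2)) := by
  by_contra c
  obtain ⟨-, c1, c2⟩ := h.ev0 be hp (h.al hp hi k) c (by omega)
  refine c1 (le_trans ?_ (h.ZQ hp hi k))
  rw [← h.Z_sup (h.adj hp (j - 2) (j - 3)) (h.al hp hi _) (h.adj hp (j - 2) (j - 1)) (hp.ne _ _),
    ← c2 (i - 1) _ (by omega) (by omega), ← (h.ev0 be hp hi hc e).2.2 (i + 1) _ rfl rfl]
  exact sup_le (h.ZZ hp hi _) (h.ZZ hp hi _)

theorem ev3 (h3 : 3 ≤ b) : V4 G E α ∧ (∀ k, k = j - 2 → Za (p k) ≤ Bl 2 (p i)) ∧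
    ¬ Za (p (i - 2)) ≤ Qa (p (j - 1)) := by
  obtain ⟨m, c, e0⟩ := h.ev0 be hp hi hc e
  replace e0 := e0 _ _ rfl rfl
  have hj := h.al hp hi j
  have hj2 := h.al hp hi (j - 2)
  obtain ⟨y, y1, y2⟩ := SetLike.not_le_iff_exists.1 c
  have yT := h.Q_le_T' (h.adj hp i (i + 1)) (h.ZQ hp hj (i + 1) (by omega) y1)
  have yV := h.ZB' hp hj 1 (j - 1) (by omega) y1
  have b1 : Bl 1 (p (i - 1)) ≤ Qa (p (j - 2)) := B_le fun a ha l => by
    rcases h.cases_ball 1 hp (i - 1) l with ⟨q, q1, q2, rfl⟩ | l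
    · rw [← q2 (j - 2) (by omega)]
      exact h.ev1 be q1 (i := i) (by rwa [q2 i (by omega)]) (by rwa [q2 i (by omega), q2 j (by omega)]) e h3 _
        (by omega)
    · exact h.hb ha ((h.dl_symm l).trans (h.dl hp (b - 2) (i - 1 + 1) (j - 2))) (by omega)
  have b2 := b1.trans (h.Q_le_T (h.adj hp (j - 2) (j - 1)))
  have v0 := h.ZB' hp hi 1 (i - 1)
  have c1 : Bl 1 (p (i - 1)) ⊓ Qa (p (j - 1)) ≤ Za (p i) := fun v hv =>
    h.Fv h3 m (h.adj hp i (i - 1)) hi (h.adj hp i (i + 1)) (hp.ne _ _) yT y2 hv.1 (by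
      rw [comm_conj]
      exact mul_mem (v0 (h.ZZ hp hi (i + 1) (by omega) (e0 ▸ comm_mem (h.commV (h.be hp hi _)) yV hv.2))) hv.1)
  have v2 := h.ZB' hp (h.al hp hi (i - 2)) 1 (i - 1)
  have d : ¬ Za (p (i - 2)) ≤ Qa (p (j - 1)) := fun l => h.Z_nle (h.adj hp (i - 2) (i - 1)) (h.al hp hi _)
    (h.adj hp i (i - 1)) (hp.ne _ _) ((le_inf v2 l).trans c1)
  have v4 : V4 G E α := h.V4_one (h.adj hp i (i - 1)) hi (by
    have := (h.loc' (h.adj hp (j - 2) (j - 1))).ix2.inf' b2 fun l => d (v2.trans l)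
    rwa [le_antisymm c1 (le_inf v0 (h.ZQ hp hi _))] at this)
  refine ⟨v4, ?_, d⟩
  rintro _ rfl
  obtain ⟨z, z1, z2⟩ := SetLike.not_le_iff_exists.1 d
  have zT := b2 (v2 z1)
  refine (h.ixZ m (h.adj hp (j - 2) (j - 1)) hj2).le_of (comm_mem' (h.commT v4 (h.adj hp _ (j - 1)) hj2) yV zT)
    (fun l => y2 (h.Z_le_Q _ (h.ZZ hp hi (i + 1) (by omega) (e0 ▸ h.Nz h3 (h.adj hp j (j - 1)) hj
      (h.adj hp (j - 2) _) (hp.ne _ _) ⟨zT.2, zT.1⟩ z2 y1 ?_))))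
    (e0 ▸ (h.ZZ hp hi (i + 1)).trans (h.ZB' hp hi 2 i))
    (comm_mem (comm_le_left (h.nn_B 2 _)) (h.BB hp 1 2 (i - 1) i (by omega) (v2 z1)) yT.1)
  rw [comm_conj]; exact mul_mem (h.ZZ hp hj _ (by omega) l) y1
end even

theorem ev4 (be : b % 2 = 0) (h3 : 3 ≤ b) : False := by
  obtain ⟨p, hp, h0, hc⟩ := h.crit
  obtain ⟨m, c, e0⟩ := h.ev0 be hp h0 hc (by omega)
  have n1 := h.Z_ne (h.adj hp 0 1) h0
  have n2 := h.Z_inf (h.adj hp 2 1) (h.al hp h0 2) (h.adj hp 2 3) (hp.ne _ _)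
  by_cases b4 : b = 4
  · rw [← e0 1 3 rfl (by omega), inf_idem] at n2; exact n1 n2
  by_cases b6 : b = 6
  · refine n1 (n2 ▸ (inf_eq_left.2 fun x hx => h.N2 h3 (h.adj hp 2 3) (h.al hp h0 2) (h.adj hp 4 3) (hp.ne _ _)
      (h.ZZ hp (h.al hp h0 2) 1 (by omega) hx) ?_).symm)
    exact h.ZZ hp (h.al hp h0 4) 5 (by omega) (e0 1 5 rfl (by omega) ▸ hx)
  obtain ⟨v4, d1, -⟩ := h.ev3 be hp h0 hc (by omega) h3
  replace d1 := d1 _ rfl
  have hb := h.al hp h0 b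
  have u1 : Bl 3 (p (-1)) ≤ Qa (p (b - 4)) := B_le fun a ha l => by
    rcases h.cases_ball 3 hp (-1) l with ⟨q, q1, q2, rfl⟩ | l
    · rw [← q2 _ (by omega)]
      by_contra c
      have c1 := (h.ev0 be q1 ha c (by omega)).2.1
      have c2 := (h.ev3 be (h.rev q1) (i := -(b - 4)) (j := -(-1 - (3 : ℕ))) (by
        simpa only [neg_neg] using h.al q1 ha _) (by simpa only [neg_neg] using c1) (by omega) h3).2.1
        (-(0 - 2)) (by omega)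
      simp only [neg_neg] at c2
      exact (h.ev3 be q1 (i := 0) (j := b) (by rwa [q2 _ (by omega)])
        (by rwa [q2 _ (by omega), q2 _ (by omega)]) (by omega) h3).2.2 (c2.trans (h.BQ q1 2 _ _))
    · exact h.hb ha ((h.dl_symm l).trans (h.dl hp (b - 4) (-1 + 1) (b - 4))) (by omega)
  have u2 := (h.back1 h3 (h.adj hp (b - 2) (b - 3)) (h.al hp h0 _) (u1.trans (h.Q_le (h.adj hp _ _)))
    ((h.BC hp 3 2 (-1) 0).trans (cc_anti d1))).trans (h.Q_le_T (h.adj hp (b - 2) (b - 1)))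
  refine h.ZA_ne h0 (le_bot_iff.1 ((h.ZB' hp h0 3 (-1)).trans (h.bot_of (h.adj hp 0 (-1)) (h.adj hp 0 1) (hp.ne _ _)
    ((h.BQ hp 3 (-1) 0).trans (h.Q_le_T (h.adj hp 0 (-1)))) (h.nn_B 3 _)
    ((h.ZQ hp hb 1).trans (h.Q_le_T' (h.adj hp 0 1))) c (nn_of_comm_le' ?_)).le))
  rw [commutator_comm]
  exact (commutator_mono (h.ZB' hp hb 1 (b - 1)) u2).trans (((h.commT v4 (h.adj hp _ _) (h.al hp h0 _)).trans
    d1).trans (h.BB hp 2 3 0 (-1)))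

omit h in
theorem card_sup_le2 {H N : Subgroup G} (h1 : H ≤ NN N) (h2 : #N = 4) (h3 : X ≤ H ⊓ N) (h4 : #X = 2) :
    #(H ⊔ N : Subgroup G) ≤ 2 * #H := by
  have a1 := card_sup_mul_card_inf h1
  have a2 := card_le_of_le h3
  rw [h2] at a1; rw [h4] at a2
  nlinarith

theorem two (b2 : b = 2) : ∃ a, α a ∧ #(Qa a) ≤ 64 := by
  haveI : Fact (Nat.Prime 3) := ⟨Nat.prime_three⟩
  obtain ⟨p, hp, ha, hc⟩ := h.crit
  obtain ⟨m, c, -⟩ := h.ev0 (by omega) hp ha hc (by omega)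
  have h1 := h.adj hp 0 1
  have h2 := h.adj hp b 1
  have e1 := hp.ne 0 b
  generalize p 0 = a at *
  generalize p 1 = n at *
  generalize p b = a' at *
  refine ⟨a, ha, ?_⟩
  have hn := h.nα h1 ha
  have ha' := h.α2 h1 ha h2
  have v1 : ¬ Bl 1 n ≤ Qa a := fun l => c ((h.le_V h2 ha').trans l)
  have l1 := h.W_le_S ha
  have l2 := h.nn_B 2 a
  have l3 : ¬ Bl 2 a ≤ Qa a := fun l => v1 ((h.V_le_W h1).trans l)
  have k0 : G0.K2 G E a ≤ Qa a := (G0.K2_le h1).trans inf_le_left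
  have k1 : ⁅Bl 2 a, G0.K2 G E a⁆ ≤ Za a := comm_via (h.B2_le ha fun n l =>
    le_cm' (((h.V_le_W l).trans l1).trans (nn_Z a)) ((commutator_mono le_rfl ((G0.K2_le l).trans
      inf_le_right)).trans ((h.commV (h.nα l ha)).trans (h.ZB_le l ha))))
  have k4 := h.nn_K2 a
  have k5 : Za a ≤ G0.K2 G E a :=
    le_inf (h.Z_le_Q a) (le_iInf fun c => (h.le_V c.2 ha).trans (h.V_le_Q (h.nα c.2 ha)))
  have k6 := h.card_K2 a
  have k7 := (G0.K2_le (G := G) h1).trans inf_le_right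
  generalize G0.K2 G E a = K at *
  set Y := ⨆ c : {c // E a c}, Bl 1 (c : V) ⊓ Qa a with hY
  have y0 : ∀ c, E a c → Bl 1 c ⊓ Qa a ≤ Y := fun c l =>
    le_iSup (fun c : {c // E a c} => Bl 1 (c : V) ⊓ Qa a) ⟨c, l⟩
  have y2 : St a ≤ NN Y := fun g hg => mem_normalizer_of_cj_le (by
    rw [cj_iSup]
    exact iSup_le fun c => by rw [cj_inf, ← h.B_smul, cj_nn (nn_Q a hg)]; exact y0 _ (h.smul' c.2 hg))
  have y1 : ⁅Bl 2 a, Qa a⁆ ≤ Y := comm_via (h.B2_le ha fun n l => le_cm' (((h.V_le_W l).trans l1).trans y2)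
    ((le_inf (comm_le_left ((h.Q_le l).trans (h.nn_B 1 n)))
      (comm_le_right (((h.V_le_W l).trans l1).trans (nn_Q a)))).trans (y0 n l)))
  have j0 := nn_inf k4 (nn_cc y2)
  have j4 : K ⊓ CC Y ≤ Qa a := inf_le_left.trans k0
  have j5 : ⁅K ⊓ CC Y, Bl 2 a⁆ ≤ Za a := commutator_comm (Bl 2 a) _ ▸ (commutator_mono le_rfl inf_le_left).trans k1
  have j1 : ⁅Qa a, K ⊓ CC Y⁆ = ⊥ := h.botA ha (comm_le_left (j4.trans (le_nn _))) (nn_comm (nn_Q a) j0) l1 l2 l3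
    (comm_eq_bot.1 (le_bot_iff.1 (three_sub nn_bot nn_bot nn_bot
      ((commutator_mono j5 le_rfl).trans (comm_eq_bot'.2 (h.Q_cc a)).le)
      ((commutator_mono y1 le_rfl).trans (comm_eq_bot'.2 inf_le_right).le))))
  have j2 : Sq (K ⊓ CC Y) = ⊥ := h.botA ha (Sq_le fun x hx => j4 (mul_mem hx hx)) (nn_Sq j0) l1 l2 l3
    (sq_cc j5 (cc_symm (j4.trans (h.Q_cc a))) (h.Z_elem a))
  have j3 : K ⊓ CC Y ≤ Za a := (le_OZ j4 (comm_eq_bot'.1 j1)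
    (elem_of_sq fun x hx => mem_bot.1 (j2 ▸ sq_mem_Sq hx))).trans (h.OZQ ha)
  obtain ⟨R, r1, r2, r3⟩ := (h.loc h1).exists_three
  have k2 : Za a ⊔ K ⊓ CC R = K := cop_sup_cc k5 ((k0.trans (Q_le_S a)).trans (nn_Z a)) (r1.le.trans (nn_Z a))
    (pg_coprime_pg r1.pgroup (elem_isPGroup (h.Z_elem a)) (by norm_num)) (sol_of_pg (elem_isPGroup (h.Z_elem a)))
    (commutator_comm R K ▸ (commutator_mono ((h.loc h1).three_le r1 l1 l2 l3) le_rfl).trans k1)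
  have r4 : ∀ c, E a c → ∃ r ∈ R, r • n = c := fun c l => by
    obtain ⟨r, r5, r6⟩ := SetLike.not_le_iff_exists.1 r3
    have r7 : r ∉ St n := fun l => r6 ⟨r1.le r5, l⟩
    have r8 : r * r * r = 1 := by
      rw [← pow_three', ← r2]; exact congrArg Subtype.val (pow_card_eq_one' (x := (⟨r, r5⟩ : R)))
    rcases h.three h1 (h.smul' h1 (r1.le r5)) (h.smul' h1 (r1.le (inv_mem r5))) l (fun l => r7 l.symm)
      (fun l => r7 (inv_mem_iff.1 (show r⁻¹ ∈ St n from l.symm))) (fun l => r7 (by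
        rw [eq_inv_of_mul_eq_one_right r8, inv_mem_iff, mem_stabilizer_iff, mul_smul, l, smul_inv_smul]))
      with rfl | rfl | rfl
    exacts [⟨1, one_mem _, one_smul _ _⟩, ⟨r, r5, rfl⟩, ⟨r⁻¹, inv_mem r5, rfl⟩]
  have z4 : ∀ c, α c → #(Za c) = 4 := fun c l => by rw [h.cardZ l hn, m n hn]
  obtain ⟨e, e2, e3⟩ : ∃ e ∈ Bl 1 n ⊓ Qa a, Bl 1 n ⊓ Qa a ≤ Za a ⊔ zpowers e := by
    by_cases l : Bl 1 n ⊓ Qa a ≤ Za a
    · exact ⟨1, one_mem _, l.trans le_sup_left⟩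
    obtain ⟨a'', h4, e2, e3⟩ := h.third (h.symm h1) (h.symm h2) e1
    have ha'' := h.α2 h1 ha (h.symm h4)
    have q1 := (h.le_V h1 ha).trans (h.V_le_Q hn)
    have q2 := (h.le_V h2 ha').trans (h.V_le_Q hn)
    have c1 := card_sup_le2 (q1.trans ((h.Q_le (h.symm h2)).trans (nn_Z a'))) (z4 _ ha')
      (le_inf (h.ZB_le h1 ha) (h.ZB_le h2 ha')) (m n hn)
    have c2 := card_sup_le2 ((sup_le q1 q2).trans ((h.Q_le h4).trans (nn_Z a''))) (z4 _ ha'')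
      (le_inf ((h.ZB_le h1 ha).trans le_sup_left) (h.ZB_le (h.symm h4) ha'')) (m n hn)
    have c3 := card_le_of_le (h.B1_three h1 ha h2 (h.symm h4) e1 e2 e3 (K := Za a ⊔ Za a' ⊔ Za a'')
      (le_sup_left.trans le_sup_left) (le_sup_right.trans le_sup_left) le_sup_right)
    have c4 := ((h.loc h1).ix2.inf' ((h.V_le_Q hn).trans (h.Q_le_T' h1)) v1).card
    have c5 := le_inf (h.le_V h1 ha) (h.Z_le_Q a)
    have c6 := card_dvd c5
    have c7 := card_lt_of_lt (lt_of_le_not_ge c5 l)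
    have c8 := ix2_of_card c5 (by rw [z4 a ha] at *; omega)
    obtain ⟨e, e2, e3⟩ := c8.exists_out
    exact ⟨e, e2, (c8.eq_sup e2 e3).le⟩
  have k3 : K ⊓ C1 e ≤ Za a := fun k hk => by
    obtain ⟨z, z1, k', z2, rfl⟩ := (mem_sup_l (((inf_le_left.trans k0).trans (Q_le_S a)).trans (nn_Z a))).1
      (k2.ge hk.1)
    refine mul_mem z1 (j3 ⟨z2.1, le_C1_iff.1 (iSup_le fun c => ?_)⟩)
    obtain ⟨r, r5, r6⟩ := r4 c c.2
    rw [← r6, h.B_smul, ← cj_nn (nn_Q a (r1.le r5)), ← cj_inf, le_C1_iff, ← cj_centralizer]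
    refine mem_cj_of_C1 (cc_anti e3 ?_) (mem_C1_comm.1 (cc_le_C1 r5 z2.2))
    rw [cc_sup, cc_zpowers]
    exact ⟨h.Q_cc a (k0 z2.1), (mul_mem_cancel_left (C1_of_cc (cc_symm (h.Q_cc a)) z1 e2.2)).1 hk.2⟩
  have := card_le_of_idx (idx_C1 (cc_symm ((k7.trans (Q_le_S n)).trans (h.ZB_cc' hn)))
    (fun k hk => comm_mem (h.commV hn) e2.1 (k7 hk)) k3)
  rw [m n hn, z4 a ha] at this
  omega

end GC

end Cfsg.Agent.Gs
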