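/-
Amalgams of index (3,3): odd critical distance, first part.
-/
import Cfsg.Agent.Lib.Fusion.Gs4

set_option autoImplicit false
set_option linter.unusedSectionVars false
set_option linter.unusedVariables false

namespace Cfsg.Agent.Gs

open Subgroup Cfsg.Agent.Transfer Cfsg.Agent.MS Cfsg.Agent.NG MulAction
open scoped commutatorElement

universe u v
variable {G : Type u} [Group G] [Finite G] {V : Type v} [MulAction G V]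
variable {K L X Y : Subgroup G} {f g s t w x y z : G} {a a' a'' c n n' n'' v : V} {b k l : ℕ} {p : ℤ → V}
variable {E : V → V → Prop} {α : V → Prop} {i j : ℤ}

theorem card_le2 (h : Ix2 Y L) (h1 : K ≤ Y) : #K ≤ 2 * #(K ⊓ L : Subgroup G) :=
  card_le_of_idx (by rw [inf_relIndex_left]; exact h.idx_le h1)

namespace GC
variable (h : GC G E α b) (h3 : 3 ≤ b) (bo : b % 2 = 1)
include h h3 bo

section
variable (hp : Ln E p) (hi : α (p i)) (e : j = i + b)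
include hp hi e

theorem zT : Za (p i) ≤ St (p j) ⊓ St (p (j - 1)) := (h.ZQ hp hi (j - 1)).trans (h.Q_le_T' (h.adj hp j (j - 1)))
theorem yT : Za (p (j + 1)) ≤ St (p (i + 2)) ⊓ St (p (i + 1)) :=
  (h.ZQ hp (h.al hp hi _) (i + 2)).trans (h.Q_le_T (h.adj hp _ _))
theorem oz (z1 : z ∈ Za (p i)) (z2 : z ∉ Qa (p j)) (y1 : y ∈ Za (p (j + 1))) (y2 : ⁅z, y⁆ ∈ Za (p j)) :
    y ∈ Za (p j) := h.Nz h3 (h.adj hp (j + 1) j) (h.al hp hi _) (h.adj hp (j - 1) j) (hp.ne _ _)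
      (h.zT h3 bo hp hi e z1) z2 y1 (by
        rw [comm_conj]; exact mul_mem (h.ZZ hp (h.al hp hi _) j (by omega) y2) y1)
theorem oz' (z1 : z ∈ Za (p i)) (z2 : z ∉ Qa (p j)) (y1 : y ∈ Za (p (j + 1))) (y2 : z ∈ C1 y) :
    y ∈ Za (p j) := h.oz h3 bo hp hi e z1 z2 y1 (comm_of_C1 y2 ▸ one_mem _)
theorem ox (z1 : z ∈ Za (p i)) (y1 : y ∈ Za (p (j + 1))) : ⁅z, y⁆ ∈ Bl 1 (p (i + 1)) ∧ ⁅z, y⁆ ∈ Bl 1 (p j) :=
  ⟨comm_mem (comm_le_left (h.nn_B 1 _)) (h.ZB' hp hi 1 _ (by omega) z1) (h.yT h3 bo hp hi e y1).2,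
    comm_mem' (comm_le_left (h.nn_B 1 _)) (h.ZB' hp (h.al hp hi _) 1 _ (by omega) y1) (h.zT h3 bo hp hi e z1).1⟩

variable (hc : ¬ Za (p i) ≤ Qa (p j))
include hc

theorem od1 (hM : ¬ M2 G α) : (∃ w ∈ Za (p (j + 1)), w ∈ Qa (p (i + 1)) ∧ w ∉ Qa (p i)) ∧
    (∀ k, k = i + 1 → Za (p k) ≤ Bl 1 (p j)) ∧ Za (p (i + 1)) ⊓ Za (p j) ≠ ⊥ := by
  obtain ⟨z, z1, z2⟩ := SetLike.not_le_iff_exists.1 hc
  have hj := h.be hp hi j
  have hn := h.be hp hi (i + 1)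
  have h1 := h.adj hp i (i + 1)
  obtain ⟨w, ⟨w1, w2⟩, w3⟩ : ∃ w ∈ Za (p (j + 1)) ⊓ Qa (p (i + 1)), w ∉ Qa (p i) :=
    SetLike.not_le_iff_exists.1 fun l => hM (h.m2_of hj (h.al hp hi (j + 1)) ((card_le2 (h.loc' (h.adj hp _ _)).ix2
      (h.yT h3 bo hp hi e)).trans (Nat.mul_le_mul_left 2 (card_le_of_le fun x hx =>
        h.oz' h3 bo hp hi e z1 z2 hx.1 (C1_of_cc (cc_symm (h.Q_cc _)) z1 (l hx))))))
  have wT := h.Q_le_T' h1 w2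
  have wV := h.ZB' hp (h.al hp hi (j + 1)) 1 j (by omega) w1
  refine ⟨⟨w, w1, w2, w3⟩, ?_, fun l => hM (h.m2_of hn hi ?_)⟩
  · rintro _ rfl
    have c1 := card_commutator_zpowers (h.Z_elem _).1 (nn_Z _ wT.1)
    have c2 : #(Za (p i) ⊓ CC (zpowers w) : Subgroup G) ≤ #(Za (p (i + 1))) :=
      card_le_of_le fun x hx => h.fix h1 hi wT w3 hx.1 (cc_zpowers w ▸ hx.2)
    rw [h.cardZ hi hn] at c1
    rw [← eq_of_card_le ((commutator_mono le_rfl (zpowers_le.2 wT)).trans (h.commZ h1 hi))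
      (Nat.le_of_mul_le_mul_right (c1.ge.trans (Nat.mul_le_mul_left _ c2)) (card_pos' _))]
    exact (commutator_mono le_rfl (zpowers_le.2 wV)).trans
      (comm_le_right (((h.zT h3 bo hp hi e).trans inf_le_left).trans (h.nn_B 1 _)))
  · refine (card_le2 (h.loc (h.adj hp _ _)).ix2 (h.zT h3 bo hp hi e)).trans (Nat.mul_le_mul_left 2
      (card_le_of_le fun x hx => h.fix h1 hi wT w3 hx.1 (C1_of_comm (eq_one_of_inf l ?_ ?_))))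
    exacts [comm_mem (h.commZ h1 hi) hx.1 wT, comm_mem' (h.commV hj) wV hx.2]
end

theorem odm : M2 G α := by
  by_contra hM
  obtain ⟨p, hp, h0, hc⟩ := h.crit
  obtain ⟨⟨w, w1, w2, w3⟩, -, r0⟩ := h.od1 h3 bo hp h0 (by omega) hc hM
  rw [zero_add] at w2 r0
  by_cases b3 : b = 3
  · exact r0 (h.Z_inf (h.adj hp 2 1) (h.al hp h0 2) (h.adj hp 2 b) (hp.ne _ _))
  have hb := h.be hp h0 b
  have v1 : Bl 1 (p (-1)) ≤ Qa (p (b - 2)) := B_le fun a ha l => by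
    rcases h.cases_ball 1 hp (-1) l with ⟨q, q1, q2, rfl⟩ | l
    · rw [← q2 _ (by omega)]
      by_contra c
      have c1 := ((h.od1 h3 bo q1 ha (by omega) c hM).2.1 (-1) (by omega)).trans (h.BQ q1 1 _ b)
      rw [q2 _ le_rfl, q2 _ (by omega)] at c1
      exact hc ((h.Z_sup (h.adj hp 0 (-1)) h0 (h.adj hp 0 1) (hp.ne _ _)).ge.trans
        (sup_le c1 ((h.ZZ hp (h.al hp h0 2) 1).trans (h.ZQ hp (h.al hp h0 2) b))))
    · exact h.hb ha ((h.dl_symm l).trans (h.dl hp (b - 2) (-1 + 1) (b - 2))) (by omega)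
  obtain ⟨r, r1, r2⟩ := exists_ne_one r0
  have hb1 := h.al hp h0 (b - 1)
  have v2 : Bl 1 (p (-1)) ≤ Qa (p (b - 1)) := fun g hg => h.back3 h3 (h.adj hp _ (b - 2)) hb1
    (h.ZZ hp hb1 b (by omega) r1.2) (fun l => r2 (h.one_of (h.adj hp _ b) hb1 (h.adj hp _ (b - 2)) (hp.ne _ _) r1.2 l))
    (Q_le_S _ (v1 hg)) (C1_of_cc (h.ZB_cc' (h.be hp h0 1)) (h.Q_le (h.adj hp 0 1) (h.BQ hp 1 _ 0 (by omega) hg)) r1.1)
  have v3 := v2.trans (h.Q_le_T (h.adj hp _ b))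
  have v0 := h.ZB' hp h0 1 (-1)
  have wT := inv_mem (h.Q_le_T' (h.adj hp 0 1) w2)
  obtain ⟨m1, m2, m3⟩ := h.move (h.adj hp 0 1) (h.adj hp 0 (-1)) (hp.ne _ _) wT (mt inv_mem_iff.1 w3)
  have i1 := idx_hom (K := Bl 1 (p (-1)) ⊓ Qa (p b)) (R := Za (p 1) ⊓ Za (p b))
    (L := Bl 1 (p (-1)) ⊓ Bl 1 (w⁻¹ • p (-1))) (cc_symm (inf_le_right.trans (h.Q_cc _)))
    (fun k hk => comm_mem (h.commV hb) (h.ZB' hp (h.al hp h0 _) 1 b (by omega) w1) hk.2) fun k hk l => ⟨hk.1, by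
      have : w * k * w⁻¹ ∈ Bl 1 (p (-1)) := by
        rw [comm_conj]; exact mul_mem (v0 (h.ZZ hp h0 1 (by omega) l.1)) hk.1
      simpa [mul_assoc] using h.conj_B this w⁻¹⟩
  have i2 := ((h.loc' (h.adj hp (b - 1) b)).ix2.inf' v3 fun l => hc (v0.trans l)).sup_eq v0 fun l =>
    hc (l.trans inf_le_right)
  have i3 := relIndex_sup_l (ab_nn (h.V_elem h3 (p (-1))).1 (inf_le_left (b := Qa (p b)))
    (inf_le_left (b := Bl 1 (w⁻¹ • p (-1)))))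
  have h2 := h.al hp h0 (-2)
  have i4 := relIndex_le_of_le_right (H := Bl 1 (p (-1)) ⊓ Bl 1 (w⁻¹ • p (-1))) (((h.ZB' hp h2 1 (-1)).trans
    i2.ge).trans (sup_le le_sup_right ((le_inf v0 (h.le_V m1 h0)).trans le_sup_left))) (relIndex_pos _ _).ne'
  have i5 := relIndex_le_of_le_left (L := Za (p (-2))) (show Za (p (-2)) ⊓ (Bl 1 (p (-1)) ⊓ Bl 1 (w⁻¹ • p (-1))) ≤
    Za (p (-1)) from fun x hx => h.lemB h3 (h.adj hp 0 (-1)) h0 m1 m2.symm (h.adj hp (-2) _) (hp.ne _ _) hx.2.2 hx.1)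
    (relIndex_pos _ _).ne'
  rw [inf_relIndex_left] at i5
  have c1 := card_mul_relIndex (h.ZZ hp h2 (-1))
  have c2 := card_mul_relIndex (inf_le_right : Za (p 1) ⊓ Za (p b) ≤ _)
  have c3 := (one_lt_card_iff_ne_bot _).2 r0
  have c4 := card_pos' (Za (p b))
  rw [h.cardZ h2 hb, h.cardB (h.be hp h0 (-1)) hb] at c1
  have c5 := Nat.eq_of_mul_eq_mul_left c4 c1
  nlinarith

omit bo in
theorem exF (hm : M2 G α) (hV : ¬ V4 G E α) (h1 : E a n) (ha : α a) : ∃ u, Fe E α n u ∧ u ∉ Za a := by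
  obtain ⟨a', h2, e1⟩ := h.exists_ne (h.symm h1)
  obtain ⟨a'', h4, e2, e3⟩ := h.third (h.symm h1) h2 e1.symm
  obtain ⟨x, x1, x2⟩ := h.exZ h1 ha
  obtain ⟨y, y1, y2⟩ := h.exZ (h.symm h2) (h.α2 h1 ha (h.symm h2))
  obtain ⟨z, z1, z2⟩ := h.exZ (h.symm h4) (h.α2 h1 ha (h.symm h4))
  exact ⟨_, h.F1 h3 hm h1 ha (h.symm h2) (h.symm h4) e1.symm e2 e3 x1 x2 y1 y2 z1 z2, fun l => hV
    (h.V4_of h3 hm h1 ha (h.symm h2) (h.symm h4) e1.symm e2 e3 y1 y2 z1 z2 (by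
      rwa [mul_assoc, mul_mem_cancel_left x1] at l))⟩

theorem odV0 (hp : Ln E p) (hi : α (p i)) (e : j = i + b) (z1 : z ∈ Za (p i)) (z2 : z ∉ Qa (p j))
    (y1 : y ∈ Za (p (j + 1))) (y2 : y ∉ Za (p j)) (hV : ¬ V4 G E α) : ⁅z, y⁆ ∉ Za (p (j - 1)) ∧
      ∀ t ∈ Za (p (j - 1)), t ∉ Za (p j) → Fe E α (p j) (t * ⁅z, y⁆) := by
  have zT := h.zT h3 bo hp hi e z1
  obtain ⟨m1, m2, m3⟩ := h.move (h.adj hp j (j - 1)) (h.adj hp j (j + 1)) (hp.ne _ _) zT z2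
  have y3 := mt (of_conj (nn_Z _ zT.1)) y2
  refine ⟨fun l => hV (h.V4_of h3 (h.odm h3 bo) (h.adj hp (j - 1) j) (h.al hp hi _) (h.symm m1) (h.adj hp (j + 1) j)
    m3.symm (hp.ne _ _) m2 (conj_Z y1 z) y3 (inv_mem y1) (mt inv_mem_iff.1 y2) l), fun t t1 t2 => ?_⟩
  rw [commutatorElement_def, ← mul_assoc]
  exact h.F1 h3 (h.odm h3 bo) (h.adj hp (j - 1) j) (h.al hp hi _) (h.symm m1) (h.adj hp (j + 1) j)
    m3.symm (hp.ne _ _) m2 t1 t2 (conj_Z y1 z) y3 (inv_mem y1) (mt inv_mem_iff.1 y2)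

theorem odV1 (hp : Ln E p) (hi : α (p i)) (e : j = i + b) (hc : ¬ Za (p i) ≤ Qa (p j)) (hV : ¬ V4 G E α)
    (b3 : b ≠ 3) (k k' : ℤ) (ek : k = i - 1) (ek' : k' = j - 1) : Bl 1 (p k) ≤ St (p j) ⊓ St (p k') := by
  subst ek ek'
  intro v hv
  have hm := h.odm h3 bo
  have hj := h.al hp hi (j - 1)
  obtain ⟨z, z1, z2⟩ := SetLike.not_le_iff_exists.1 hc
  obtain ⟨y, y1, y2⟩ := h.exZ (h.adj hp (j + 1) j) (h.al hp hi _)
  obtain ⟨t, t1, t2⟩ := exists_ne_one (h.Z_ne (h.adj hp (j - 1) (j - 2)) hj)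
  have t3 := h.ZZ hp hj (j - 2) (by omega) t1
  obtain ⟨f1, f2⟩ := h.odV0 h3 bo hp hi e z1 z2 y1 y2 hV
  replace f2 := f2 t t3 fun l => t2 (h.one_of (h.adj hp _ j) hj (h.adj hp _ (j - 2)) (hp.ne _ _) l t1)
  replace f1 := mt (mul_mem_cancel_left t3).1 f1
  have v1 := h.Q_le (h.adj hp _ (j - 2)) (h.BQ hp 1 _ (j - 3) (by omega) hv)
  have v2 : v ∈ C1 (t * ⁅z, y⁆) := mem_C1_comm.1 (mul_mem
    (mem_C1_comm.1 (C1_of_cc (h.ZB_cc' (h.be hp hi _)) v1 t1))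
    (mem_C1_comm.1 (C1_of_cc (h.BC hp 1 1 _ (i + 1)) hv (h.ox h3 bo hp hi e z1 y1).1)))
  have v3 : v ∈ St (p (j - 1)) := by_contra fun l =>
    hV (h.lemG h3 hm (h.adj hp _ j) hj (h.adj hp _ (j - 2)) (hp.ne _ _) v1 l f2 f1 v2)
  refine ⟨by_contra fun l => f1 (h.lemF h3 hm (h.adj hp _ j) hj (h.smul' (h.adj hp _ j) v3) (Ne.symm l)
    ⟨f2.1, ?_⟩), v3⟩
  rw [h.B_smul]; exact mem_cj_of_C1 f2.1 v2

theorem odV4 : V4 G E α := by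
  by_contra hV
  have hm := h.odm h3 bo
  obtain ⟨p, hp, h0, hc⟩ := h.crit
  obtain ⟨z, z1, z2⟩ := SetLike.not_le_iff_exists.1 hc
  have hb := h.al hp h0 (b + 1)
  obtain ⟨y, y1, y2⟩ := h.exZ (h.adj hp (b + 1) b) hb
  have e : (b : ℤ) = 0 + b := by omega
  by_cases b3 : b = 3
  · exact (h.odV0 h3 bo hp h0 e z1 z2 y1 y2 hV).1 (h.lemF h3 hm (h.adj hp _ (0 + 1)) (h.al hp h0 _)
      (h.adj hp _ b) (hp.ne _ _) (h.ox h3 bo hp h0 e z1 y1))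
  have v1 := h.odV1 h3 bo hp h0 e hc hV b3 (-1) _ (by omega) rfl
  have v0 := h.ZB' hp h0 1 (-1)
  obtain ⟨a, ⟨⟨a1, a2⟩, a3⟩, a4⟩ : ∃ a ∈ Bl 1 (p (-1)) ⊓ Qa (p b) ⊓ Qa (p (b + 1)), a ∉ Za (p 0) :=
    SetLike.not_le_iff_exists.1 fun l => hV (h.V4_one (h.adj hp 0 (-1)) h0 (by
      have c1 := card_le2 (h.loc (h.adj hp _ _)).ix2 v1
      have c2 := card_le2 (K := Bl 1 (p (-1)) ⊓ Qa (p b)) (h.loc (h.adj hp (b + 1) b)).ix2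
        (inf_le_right.trans (h.Q_le_T' (h.adj hp _ _)))
      have c3 := card_le_of_le (le_inf l (inf_le_left.trans inf_le_right))
      have c4 := ((h.loc (h.adj hp _ _)).ix2.inf' (h.zT h3 bo hp h0 e) hc).card
      have c5 := card_dvd v0
      have c6 := card_lt_of_lt (lt_of_le_not_ge v0 fun l => h.Z_nle (h.adj hp (-2) (-1)) (h.al hp h0 _)
        (h.adj hp 0 _) (hp.ne _ _) ((h.ZB' hp (h.al hp h0 _) 1 (-1)).trans l))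
      refine ix2_of_card v0 ?_
      rw [h.cardZ h0 (h.be hp h0 1), hm _ (h.be hp h0 1)] at *
      omega))
  have key : ∀ w ∈ Qa (p 1), w ∉ Qa (p 0) → w ∉ C1 a := fun w w1 w2 w3 => a4 (h.Fv h3 hm (h.adj hp 0 (-1)) h0
    (h.adj hp 0 1) (hp.ne _ _) (h.Q_le_T' (h.adj hp 0 1) w1) w2 a1 (by rwa [conj_eq_of_C1 w3]))
  by_cases ty : Za (p (b + 1)) ≤ Qa (p 1)
  · exact key y (ty y1) (fun l => y2 (h.oz' h3 bo hp h0 e z1 z2 y1 (C1_of_cc (cc_symm (h.Q_cc _)) z1 l)))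
      (C1_of_cc (cc_symm (h.Q_cc _)) y1 a3)
  have v2 := h.odV1 h3 bo (h.rev hp) (i := -(b + 1)) (j := -1) (by simpa only [neg_neg] using hb) (by omega)
    (by simpa only [neg_neg] using ty) hV b3 (-(b + 2)) (-2) (by omega) (by omega)
  simp only [neg_neg] at v2
  have h1 := h.adj hp (b + 1) (b + 2)
  obtain ⟨t, t1, t2⟩ : ∃ t ∈ Za (p (b + 2)), t ∉ Qa (p 1) := SetLike.not_le_iff_exists.1 fun l =>
    ty ((h.Z_sup (h.adj hp _ b) hb h1 (hp.ne _ _)).ge.trans (sup_le ((h.ZZ hp (h.al hp h0 (b - 1)) b).trans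
      (h.ZQ hp (h.al hp h0 _) 1)) l))
  obtain ⟨f, f1, f2, f3⟩ : ∃ f, Fe E α (p (b + 2)) f ∧ f ∉ Za (p (b + 1)) ∧ f ∈ Qa (p 1) := by
    obtain ⟨u, u1, u2⟩ := h.exF h3 hm hV h1 hb
    by_cases l : u ∈ Qa (p 1)
    · exact ⟨u, u1, u2, l⟩
    · exact ⟨t * u, h.Fe_mul (h.nα h1 hb) u1 t1, mt (mul_mem_cancel_left (h.ZB_le h1 hb t1)).1 u2,
        (h.loc (h.adj hp 1 2)).ix2.mul_mem (v2 (h.ZB_le_V (h.nα h1 hb) t1)) t2 (v2 u1.1) l⟩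
  have zT := h.zT h3 bo hp h0 e z1
  refine key f f3 (fun l => hV (h.lemG h3 hm h1 hb (h.adj hp _ b) (hp.ne _ _) zT.1
    (h.move (h.adj hp b (b - 1)) (h.adj hp b (b + 1)) (hp.ne _ _) zT z2).2.1 f1 f2
    (C1_of_cc (cc_symm (h.Q_cc _)) z1 l))) (C1_of_comm ?_)
  have c1 := f1.2 a (h.Q_le h1 a3)
  refine h.one_of h1 hb (h.adj hp _ b) (hp.ne _ _) c1 (h.oz' h3 bo hp h0 e z1 z2 (h.ZB_le h1 hb c1) ?_)
  exact C1_of_cc (cc_symm (h.B_ccZ (k := 2) (.refl 0 _))) z1 (comm_mem' (comm_le_left (h.nn_B 2 _))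
    (h.BB hp 1 2 (-1) 0 (by omega) a1) (h.Q_le (h.adj hp 1 0) f3))

end GC

end Cfsg.Agent.Gs
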