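/-
Amalgams of index (3,3): odd critical distance, second part.
-/
import Cfsg.Agent.Lib.Fusion.Gs5

set_option autoImplicit false
set_option linter.unusedSectionVars false
set_option linter.unusedVariables false

namespace Cfsg.Agent.Gs

open Subgroup Cfsg.Agent.Transfer Cfsg.Agent.MS Cfsg.Agent.NG MulAction
open scoped commutatorElement

universe u v
variable {G : Type u} [Group G] [Finite G] {V : Type v} [MulAction G V]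
variable {K L X Y : Subgroup G} {f g s t w x y z : G} {a a' a'' c n n' n'' v : V} {b k l : ℕ} {p : ℤ → V}
variable {E : V → V → Prop} {α : V → Prop} {i j : ℤ}

theorem GB.crit_smul (h : GB G E α) (h1 : ¬ Bl 1 n ≤ Qa c) (g : G) : ¬ Bl 1 (g • n) ≤ Qa (g • c) := by
  rwa [h.B_smul, Qa_smul, cj_le_cj_iff]

namespace GC
variable (h : GC G E α b) (h3 : 3 ≤ b) (bo : b % 2 = 1)
include h h3 bo

section
variable (hp : Ln E p) (hi : α (p i)) (e : j = i + b) (hc : ¬ Za (p i) ≤ Qa (p j))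
include hp hi e hc

theorem odR (i1 i2 j0 j1 : ℤ) (e1 : i1 = i + 1 ∧ i2 = i + 2 ∧ j0 = j - 1 ∧ j1 = j + 1 := by omega) :
    ∃ x ∈ Za (p i2), x ∈ Za (p j0) ∧ x ∉ Za (p j) ∧ (Za (p j1) ≤ Qa (p i1) → x ∈ Za (p i1)) := by
  obtain ⟨rfl, rfl, rfl, rfl⟩ := e1
  obtain ⟨z, z1, z2⟩ := SetLike.not_le_iff_exists.1 hc
  obtain ⟨y, y1, y2⟩ := h.exZ (h.adj hp (j + 1) j) (h.al hp hi _)
  have zV := h.ZB' hp hi 1 (i + 1) (by omega) z1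
  have zT := h.zT h3 bo hp hi e z1
  exact ⟨⁅z, y⁆, comm_mem (h.commT (h.odV4 h3 bo) (h.adj hp _ _) (h.al hp hi _)) zV (h.yT h3 bo hp hi e y1),
    comm_mem' (h.commT (h.odV4 h3 bo) (h.adj hp _ j) (h.al hp hi _)) (h.ZB' hp (h.al hp hi _) 1 j (by omega) y1)
      ⟨zT.2, zT.1⟩, mt (h.oz h3 bo hp hi e z1 z2 y1) y2, fun l => comm_mem (h.commV (h.be hp hi _)) zV (l y1)⟩

theorem od9 (b9 : 9 ≤ b) (j1 i2 : ℤ) (e1 : j1 = j + 1 ∧ i2 = i + 2 := by omega) : ¬ Bl 2 (p j1) ≤ Qa (p i2) := by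
  obtain ⟨rfl, rfl⟩ := e1
  intro hW
  have hm := h.odm h3 bo
  have hV := h.odV4 h3 bo
  have h2 := h.al hp hi (i + 2)
  have hj := h.al hp hi (j + 1)
  have zT := h.zT h3 bo hp hi e
  have bot : ∀ k, Bl k (p (j + 1)) ≤ Qa (p (i + 2)) → k < b → ¬ Za (p (i + 2)) ⊓ ⁅Bl k (p (j + 1)), Za (p i)⁆ ≤
      Bl k (p (j + 1)) := fun k l1 l2 l3 => h.ZA_ne hj (le_bot_iff.1 ((h.ZB' hp hj k _).trans
    (h.bot_of (h.adj hp j (j + 1)) (h.adj hp j (j - 1)) (hp.ne _ _) ((h.BQ hp k _ (j + 1)).trans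
      (h.Q_le_T' (h.adj hp _ _))) (h.nn_B k _) zT hc (nn_of_comm_le' ((le_inf (commutator_comm (Za (p i)) _ ▸
        (commutator_mono (h.ZB' hp hi 1 (i + 1)) (l1.trans (h.Q_le_T (h.adj hp _ _)))).trans
          (h.commT hV (h.adj hp _ _) h2)) le_rfl).trans l3))).le))
  obtain ⟨x, x1, x2, x3, -⟩ := h.odR h3 bo hp hi e hc (i + 1) (i + 2) (j - 1) (j + 1)
  have x4 := zpowers_le.2 (h.ZB' hp (h.al hp hi _) 2 (j + 1) (by omega) x2)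
  have w1 := h.BB hp 2 3 (j + 1) j
  obtain ⟨r, r1, r2⟩ := SetLike.not_le_iff_exists.1 (bot 2 hW (by omega))
  have u1 : Za (p (i + 2)) ≤ Bl 3 (p j) := (ix2_of_card (zpowers_le.2 x1) (by
    rw [h.cardZ h2 (h.be hp hi j), hm _ (h.be hp hi j), Nat.card_zpowers, orderOf_eq_prime (x := x) (p := 2) (by rw [sq, h.Z_sq x1])
      fun l => x3 (l ▸ one_mem _)])).le_of r1.1 (fun l => r2 (x4 l)) (x4.trans w1)
    (((commutator_mono w1 le_rfl).trans (comm_le_left ((zT.trans inf_le_left).trans (h.nn_B 3 _)))) r1.2)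
  obtain ⟨z, z1, z2⟩ := SetLike.not_le_iff_exists.1 hc
  have u2 : Bl 4 (p (j + 1)) ≤ Qa (p (i + 5)) := B_le fun a ha l => by
    rcases h.cases_ball' 4 hp (j + 1) l with ⟨q, q1, q2, rfl⟩ | l
    · rw [← q2 _ (by omega)]
      by_contra c
      obtain ⟨y, y1, y2, y3, -⟩ := h.odR h3 bo (h.rev q1) (i := -(j + 1 + (4 : ℕ))) (j := -(i + 5))
        (by simpa only [neg_neg] using ha) (by omega) (by simpa only [neg_neg] using c)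
        (-(j + 4)) (-(j + 3)) (-(i + 6)) (-(i + 4))
      simp only [neg_neg] at y1 y2 y3
      rw [← q2 _ (by omega)] at hi z1 z2 hc
      replace hj := h.al q1 hi (j + 1)
      have y4 := C1_of_cc (cc_symm ((h.ZQ q1 (h.al q1 hi _) i).trans (h.Q_cc _))) z1 y2
      have y5 := h.ZB' q1 (h.al q1 hi _) 1 (j + 2) (by omega) y1
      have zT := h.zT h3 bo q1 hi e z1
      by_cases l : y ∈ Za (q (j + 1))
      · exact y3 (h.one_of (h.adj q1 _ j) hj (h.adj q1 _ (j + 2)) (q1.ne _ _) (h.oz' h3 bo q1 hi e z1 z2 l y4)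
          (h.N2 h3 (h.adj q1 _ (j + 2)) hj (h.adj q1 (j + 3) _) (q1.ne _ _) l y1) ▸ one_mem _)
      obtain ⟨m1, m2, -⟩ := h.move (h.adj q1 j (j - 1)) (h.adj q1 j (j + 1)) (q1.ne _ _) zT z2
      refine h.lemE h3 (h.adj q1 _ j) hj (h.adj q1 _ (j + 2)) (q1.ne _ _) (h.symm m1) m2.symm
        ((hV _ _ (h.adj q1 _ _) hj).le_of y5 l (le_B hj (.step (h.symm m1) (.one (h.adj q1 _ _)))) ?_)
      rw [h.B_smul]; exact mem_cj_of_C1 (h.BB q1 1 2 (j + 2) _ (by omega) y5) y4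
    · exact h.hb ha ((h.dl_symm l).trans (h.dl hp (b - 5) (j + 1 - 1) (i + 5))) (by omega)
  exact bot 4 (h.back2 h3 hm (h.adj hp _ (i + 3)) h2 (h.adj hp (i + 4) _) (hp.ne _ _)
    (u2.trans (h.Q_le (h.adj hp _ _))) ((h.BC hp 4 3 _ j).trans (cc_anti u1))) (by omega)
    (inf_le_left.trans (u1.trans (h.BB hp 3 4 _ _)))

theorem od4 (b9 : 9 ≤ b) (i1 i3 j0 j1 : ℤ) (e1 : i1 = i + 1 ∧ i3 = i + 3 ∧ j0 = j - 1 ∧ j1 = j + 1 := by omega) :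
    Za (p i3) ≤ Za (p j0) ∧ ¬ Za (p i3) ≤ Za (p j) ∧ ¬ Za (p j1) ≤ Qa (p i1) := by
  obtain ⟨rfl, rfl, rfl, rfl⟩ := e1
  have h2 := h.al hp hi (i + 2)
  obtain ⟨x, x1, x2, x3, x4⟩ := h.odR h3 bo hp hi e hc (i + 1) (i + 2) (j - 1) (j + 1)
  have x5 : x ∈ Za (p (i + 3)) := by_contra fun l => h.od9 h3 bo hp hi e hc b9 (j + 1) (i + 2) (by omega)
    fun g hg => h.back3 h3 (h.adj hp _ (i + 3)) h2 x1 l (h.Q_le (h.adj hp _ _) (h.BQ hp 2 _ (i + 4) (by omega) hg))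
      (C1_of_cc ((h.BQ hp 2 _ _).trans (h.Q_cc _)) hg x2)
  have x6 : x ≠ 1 := fun l => x3 (l ▸ one_mem _)
  exact ⟨h.m2_le (h.odm h3 bo) (h.be hp hi _) x5 x6 x2, fun l => x3 (l x5), fun l =>
    x6 (h.one_of (h.adj hp _ (i + 1)) h2 (h.adj hp _ (i + 3)) (hp.ne _ _) (x4 l) x5)⟩
end

theorem od97 (b7 : 7 ≤ b) : False := by
  have hm := h.odm h3 bo
  have hV := h.odV4 h3 bo
  obtain ⟨p, hp, h0, hc⟩ := h.crit
  have e : (b : ℤ) = 0 + b := by omega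
  have h2 := h.al hp h0 2
  have h4 := h.al hp h0 4
  by_cases b9 : b = 7
  · obtain ⟨x, x1, x2, x3, -⟩ := h.odR h3 bo hp h0 e hc 1 2 6 8
    have h6 := h.al hp h0 6
    have x4 := h.lemF h3 hm (h.adj hp 4 3) h4 (h.adj hp 4 5) (hp.ne _ _)
      ⟨h.ZB' hp h2 1 3 (by omega) x1, h.ZB' hp h6 1 5 (by omega) x2⟩
    exact x3 (h.one_of (h.adj hp 4 3) h4 (h.adj hp 4 5) (hp.ne _ _)
      (h.N2 h3 (h.adj hp 4 3) h4 (h.adj hp 2 3) (hp.ne _ _) x4 x1)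
      (h.N2 h3 (h.adj hp 4 5) h4 (h.adj hp 6 5) (hp.ne _ _) x4 x2) ▸ one_mem _)
  replace b9 : 9 ≤ b := by omega
  obtain ⟨c1, c2, c3⟩ := h.od4 h3 bo hp h0 e hc b9 1 3 (b - 1) (b + 1)
  have hb := h.al hp h0 (b + 1)
  have hb' := h.al hp h0 (b - 1)
  have c4 := h.od9 h3 bo (h.rev hp) (i := -(b + 1)) (j := -1) (by simpa only [neg_neg] using hb) (by omega)
    (by simpa only [neg_neg] using c3) b9 (-0) (-(b - 1))
  simp only [neg_neg] at c4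
  have c5 := h.od9 h3 bo hp h0 e hc b9 (b + 1) 2
  have u : Bl 2 (p (b + 1)) ≤ Qa (p 3) := B_le fun a ha l => by
    rcases h.cases_ball' 2 hp (b + 1) l with ⟨q, q1, q2, rfl⟩ | l
    · rw [← q2 _ (by omega)]
      by_contra c
      have c6 := (h.od4 h3 bo (h.rev q1) (i := -(b + 1 + (2 : ℕ))) (j := -3) (by simpa only [neg_neg] using ha)
        (by omega) (by simpa only [neg_neg] using c) b9 (-(b + 2)) (-b) (-4) (-2)).1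
      simp only [neg_neg] at c6
      rw [q2 _ (by omega), q2 _ (by omega)] at c6
      refine c4 (h.back1 h3 (h.adj hp _ (b - 2)) hb' ((h.BQ hp 2 0 (b - 3)).trans (h.Q_le (h.adj hp _ _)))
        (((h.BQ hp 2 0 4).trans (h.Q_cc _)).trans (cc_anti ?_)))
      rw [← (h.ixZ hm (h.adj hp _ b) hb').sup_eq c1 c2]
      exact sup_le c6 (h.ZZ hp h4 3)
    · exact h.hb ha ((h.dl_symm l).trans (h.dl hp (b - 3) (b + 1 - 1) 3)) (by omega)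
  obtain ⟨w, w1, w2⟩ := SetLike.not_le_iff_exists.1 c5
  obtain ⟨t, t1, t2⟩ := exists_ne_one (h.Z_ne (h.adj hp 2 1) h2)
  have t3 := h.ZZ hp h2 1 (by omega) t1
  have wT := h.Q_le_T' (h.adj hp 2 3) (u w1)
  have t4 := comm_mem (h.commZ (h.adj hp 2 3) h2) t3 wT
  refine c2 (h.m2_le hm (h.be hp h0 3) t4 (fun l => t2 (h.one_of (h.adj hp 2 1) h2 (h.adj hp 2 3) (hp.ne _ _) t1
    (h.fix (h.adj hp 2 3) h2 wT w2 t3 (C1_of_comm l)))) ?_)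
  exact h.N2 h3 (h.adj hp (b - 1) b) hb' (h.adj hp (b + 1) b) (hp.ne _ _) (c1 t4)
    (comm_mem' (h.commW hV hb) w1 (h.ZQ hp h2 _ (by omega) t3))

theorem T4 (b5 : b = 5) (h1 : E a n') (ha : α a) (h2 : E a n) (h4 : E a' n) (h5 : E a' n'') (e1 : n' ≠ n)
    (e2 : a ≠ a') (e3 : n'' ≠ n) : ¬ Bl 1 n' ≤ Qa n'' := by
  obtain ⟨p, hp, h0, hc⟩ := h.crit
  have c0 := mt (h.ZB' hp h0 1 1).trans hc
  have ha' := h.α2 h2 ha h4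
  obtain ⟨g, g1, g2⟩ := h.edgeA (h.adj hp 2 3) (h.al hp h0 2) h2 ha
  obtain ⟨g', g3, g4⟩ := h.tr2 (h.symm h2) (g2 ▸ h.smul g (h.adj hp 3 4)) (h.symm h4)
    (g1 ▸ mt (MulAction.injective g ·) (hp.ne 4 2)) e2.symm (h.Q_le_T' (h.symm h2)) (h.nle h2 ha)
  have k1 : (g' * g) • p 2 = a := by rw [mul_smul, g1]; exact Q_le_S a g3
  have k2 : (g' * g) • p 3 = n := by rw [mul_smul, g2]; exact h.Q_le h2 g3
  rw [← mul_smul] at g4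
  generalize g' * g = g at *
  have a1 := k1 ▸ h.smul g (h.adj hp 2 1)
  have a2 := g4 ▸ h.smul g (h.adj hp 4 b)
  obtain ⟨s, s1, s2⟩ := h.tr2 h2 a1 h1 (k2 ▸ mt (MulAction.injective g ·) (hp.ne 1 3)) e1
    (inf_le_left.trans (h.Q_le_T' h2)) (h.N1 h3 h4 ha' h2 e2.symm)
  obtain ⟨t, t1, t2⟩ := h.tr2 h4 a2 h5 (k2 ▸ mt (MulAction.injective g ·) (hp.ne b 3)) e3
    (inf_le_left.trans (h.Q_le_T' h4)) (h.N1 h3 h2 ha h4 e2)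
  have := h.crit_smul (h.crit_smul (h.crit_smul c0 g) s) t
  rwa [s2, mem_stabilizer_iff.1 (h.Q_le a2 s1.2), t2, mem_stabilizer_iff.1 (h.Q_le h1 t1.2)] at this

theorem H5 (b5 : b = 5) (h1 : E a n') (ha : α a) (h2 : E a n) (e1 : n' ≠ n) (h4 : E a' n) (e2 : a ≠ a')
    (y1 : y ∈ St n ⊓ St a') (y2 : y ∉ Qa n) (x1 : x ∈ Bl 1 n') (x2 : x ∉ Za a) :
    ⁅x, y * x * y⁻¹⁆ ∈ Za n ∧ ⁅x, y * x * y⁻¹⁆ ≠ 1 := by
  have hV := h.odV4 h3 bo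
  obtain ⟨m1, m2, -⟩ := h.move (h.symm h4) (h.symm h2) e2 y1 y2
  have b1 := h.smul y h1
  have b2 := h.inv y ha
  have x3 := h.conj_B x1 y
  have d1 : Dl E 3 n' (y • a) := .step (h.symm h1) (.step h2 (.one m1))
  have d2 : Dl E 3 (y • n') a := .step (h.symm b1) (.step (h.symm m1) (.one (h.symm h2)))
  refine ⟨h.N2 h3 h2 ha (h.symm m1) m2.symm (comm_mem (h.commW hV ha) (h.V_le_W h1 x1) (h.B_le_Q d2 (by omega) x3))
    (comm_mem' (h.commW hV b2) (h.V_le_W b1 x3) (h.B_le_Q d1 (by omega) x1)), fun l => ?_⟩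
  refine h.T4 h3 bo b5 h1 ha h2 (h.symm m1) b1 e1 m2.symm (fun l => e1 (MulAction.injective y
    (l.trans (mem_stabilizer_iff.1 y1.1).symm))) ((hV _ _ h1 ha).le_of x1 x2 (h.hb ha (h.dl_symm d2) (by omega))
    (h.ccV h3 (h.nα b1 b2) ⟨h.Q_le b1 (h.B_le_Q d1 (by omega) x1), le_C1_iff.1 ((hV _ _ b1 b2).le_of x3 ?_
      (le_C1_iff.2 (h.B_ccZ d1 (by omega) x1)) (mem_C1_comm.1 (C1_of_comm l)))⟩))
  rw [Za_smul]; exact fun ⟨u, u1, u2⟩ => x2 ((MulAut.conj y).injective u2 ▸ u1)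

theorem od5 (b5 : b = 5) : False := by
  obtain ⟨p, hp, h0, -⟩ := h.crit
  have h2 := h.al hp h0 2
  have h4 := h.al hp h0 4
  obtain ⟨x, x1, x2⟩ := SetLike.not_le_iff_exists.1 (h.T4 h3 bo b5 (h.adj hp 0 (-1)) h0 (h.adj hp 0 1)
    (h.adj hp 2 1) (h.adj hp 2 3) (hp.ne _ _) (hp.ne _ _) (hp.ne _ _))
  obtain ⟨y, y1, y2⟩ := SetLike.not_le_iff_exists.1 (h.T4 h3 bo b5 (h.adj hp 4 5) h4 (h.adj hp 4 3)
    (h.adj hp 2 3) (h.adj hp 2 1) (hp.ne _ _) (hp.ne _ _) (hp.ne _ _))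
  obtain ⟨a1, a2⟩ := h.H5 h3 bo b5 (h.adj hp 0 (-1)) h0 (h.adj hp 0 1) (hp.ne _ _) (h.adj hp 2 1) (hp.ne _ _)
    (h.Q_le_T' (h.adj hp 1 2) (h.BQ hp 1 5 2 (by omega) y1)) y2 x1 fun l => x2 (h.ZQ hp h0 3 (by omega) l)
  obtain ⟨a3, -⟩ := h.H5 h3 bo b5 (h.adj hp 4 5) h4 (h.adj hp 4 3) (hp.ne _ _) (h.adj hp 2 3) (hp.ne _ _)
    (h.Q_le_T' (h.adj hp 3 2) (h.BQ hp 1 (-1) 2 (by omega) x1)) x2 y1 fun l => y2 (h.ZQ hp h4 1 (by omega) l)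
  refine a2 (h.one_of (h.adj hp 2 1) h2 (h.adj hp 2 3) (hp.ne _ _) a1 (inv_mem_iff.1 ?_))
  convert a3 using 1
  simp only [commutatorElement_def, mul_inv_rev, inv_inv, inv_eq_of_mul_eq_one_right (h.V_sq h3 x1),
    inv_eq_of_mul_eq_one_right (h.V_sq h3 y1), mul_assoc]

section three
variable (b3 : b = 3) (ha : α a) (h1 : E a n) (h2 : E a n') (e1 : n ≠ n')
include b3 ha h1 h2 e1

theorem T2 : ¬ Bl 1 n ≤ Qa n' := by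
  obtain ⟨p, hp, h0, hc⟩ := h.crit
  obtain ⟨g, g1, g2⟩ := h.edgeA (h.adj hp 2 1) (h.al hp h0 2) h1 ha
  obtain ⟨s, s1, s2⟩ := h.tr2 h1 (g1 ▸ h.smul g (h.adj hp 2 b)) h2 (g2 ▸ mt (MulAction.injective g ·) (hp.ne b 1))
    e1.symm (h.Q_le_T' h1) (h.nle' h1 ha)
  have := h.crit_smul (h.crit_smul (mt (h.ZB' hp h0 1 1).trans hc) g) s
  rwa [s2, g2, mem_stabilizer_iff.1 (Q_le_S n s1)] at this
theorem VQ : Bl 1 n ≤ Qa a := h.B_le_Q (.one (h.symm h1))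
theorem R0 (x1 : x ∈ Bl 1 n) (x2 : x ∉ Za a) (w1 : w ∈ Bl 1 n') (w2 : w ∉ Za a) : ⁅x, w⁆ ∉ Za n' := fun l =>
  w2 (h.V4c h3 (h.odm h3 bo) (h.odV4 h3 bo) h2 ha (h.Q_le_T h2 (h.VQ h3 bo b3 ha h1 h2 e1 x1)) (fun l =>
    h.T2 h3 bo b3 ha h1 h2 e1 ((h.odV4 h3 bo _ _ h1 ha).le_of x1 x2 ((h.le_V h2 ha).trans
      (h.V_le_Q (h.nα h2 ha))) l)) w1 l)
theorem R1 (h4 : E a n'') (e2 : n ≠ n'') (e3 : n' ≠ n'') (x1 : x ∈ Bl 1 n) (w1 : w ∈ Bl 1 n') :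
    ⁅x, w⁆ ∈ Za n'' := by
  have hm := h.odm h3 bo
  have x3 := h.VQ h3 bo b3 ha h1 h2 e1 x1
  have w3 := h.VQ h3 bo b3 ha h2 h1 e1.symm w1
  by_cases x2 : x ∈ Za a
  · exact comm_of_C1 (C1_of_cc (cc_symm (h.Q_cc a)) x2 w3) ▸ one_mem _
  by_cases w2 : w ∈ Za a
  · exact comm_of_C1 (C1_of_cc (h.Q_cc a) x3 w2) ▸ one_mem _
  have c1 := comm_mem (h.commW (h.odV4 h3 bo) ha) (h.V_le_W h1 x1) w3
  have c2 := h.R0 h3 bo b3 ha h1 h2 e1 x1 x2 w1 w2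
  have c3 : ⁅x, w⁆ ∉ Za n := fun l => h.R0 h3 bo b3 ha h2 h1 e1.symm w1 w2 x1 x2
    (commutatorElement_inv x w ▸ inv_mem l)
  obtain ⟨t, t1, t2⟩ := exists_ne_one (h.Z_ne h4 ha)
  have t3 := h.ZB_le h4 ha t1
  rw [mul_inv_eq_one.1 (h.one_of h1 ha h2 e1
    ((h.ixZ hm h1 ha).div_mem c1 c3 t3 fun l => t2 (h.one_of h1 ha h4 e2 l t1))
    ((h.ixZ hm h2 ha).div_mem c1 c2 t3 fun l => t2 (h.one_of h2 ha h4 e3 l t1)))]
  exact t1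
theorem CQ : St n ⊓ CC (Bl 1 n) ≤ Qa a :=
  h.back1 h3 h1 ha inf_le_left (inf_le_right.trans (cc_anti (h.le_V h1 ha)))
theorem L2 : cm (St n) (St n ⊓ CC (Bl 1 n)) (Bl 1 n) ⊔ St a ⊓ St n = St n := by
  have a1 := (h.VQ h3 bo b3 ha h2 h1 e1.symm).trans (h.Q_le h1)
  refine (h.loc' h1).sup_eq (cm_le _ _ _) ((h.loc' h1).not_le (cm_le _ _ _)
    (nn_cm (le_nn _) (nn_inf (le_nn _) (nn_cc (h.nn_B 1 n))) (h.nn_B 1 n)) fun l =>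
      h.T2 h3 bo b3 ha h2 h1 e1.symm (le_trans (le_cm a1 (a1.trans (h.nn_B 1 n)) ?_) l))
  rw [commutator_comm]
  exact (commutator_mono (h.V_le_W h2) (h.CQ h3 bo b3 ha h1 h2 e1)).trans
    ((h.commW (h.odV4 h3 bo) ha).trans (h.le_V h1 ha))
theorem L3 : ¬ cm (St n) (St n ⊓ CC (Bl 1 n)) (Bl 1 n) ⊓ Qa n ≤ Qa a := fun l => by
  have a1 := nn_cm (le_nn _) (nn_inf (le_nn _) (nn_cc (h.nn_B 1 n))) (h.nn_B 1 n)
  have a2 : St n ≤ NN (Qa n ⊓ Qa a : Subgroup G) := (h.L2 h3 bo b3 ha h1 h2 e1).ge.trans (sup_le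
    (nn_of_comm_le (le_inf (comm_le_left ((cm_le _ _ _).trans (nn_Q n))) ((le_inf (comm_le_right
      ((Q_le_S n).trans a1)) (comm_le_left ((cm_le _ _ _).trans (nn_Q n)))).trans l)) inf_le_left)
    (nn_inf (inf_le_right.trans (nn_Q n)) (inf_le_left.trans (nn_Q a))))
  obtain ⟨a', h4, e⟩ := h.exists_ne (h.symm h1)
  obtain ⟨g, hg, rfl⟩ := h.tr (h.symm h1) h4
  refine h.N1 h3 h1 ha (h.symm h4) e.symm ?_
  rw [← cj_nn (a2 hg), Qa_smul]; exact cj_mono g inf_le_right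
theorem K2' (h4 : E a n'') (e2 : n ≠ n'') (e3 : n' ≠ n'') (x1 : x ∈ St n ⊓ CC (Bl 1 n)) (x2 : x ∈ CC (Bl 1 n'))
    (w1 : w ∈ Bl 1 n'') : ⁅x, w⁆ ∈ Za n' := by
  obtain ⟨s, s1, s2⟩ := SetLike.not_le_iff_exists.1 (h.L3 h3 bo b3 ha h1 h2 e1)
  have a1 : s * x * s⁻¹ ∈ CC (Bl 1 n'') := by
    rw [← h.swap h1 h2 h4 e1.symm e2.symm e3 (h.Q_le_T' h1 s1.2) s2, h.B_smul, ← cj_centralizer]
    exact conj_mem_cj' x2 s
  rw [show x = ⁅x, s⁆ * (s * x * s⁻¹) by simp only [commutatorElement_def]; group, comm_mul_l,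
    comm_of_C1 (cc_le_C1 w1 a1), mul_one, mul_inv_cancel, one_mul]
  exact h.R1 h3 bo b3 ha h1 h4 e2 h2 e1 e3.symm (s1.1.2 x x1) w1
theorem Cz (z1 : z ∈ Bl 1 n) (z2 : z ∉ Za a) : Qa a ⊓ C1 z ≤ St n ⊓ CC (Bl 1 n) := fun g hg =>
  ⟨h.Q_le h1 hg.1, le_C1_iff.1 ((h.odV4 h3 bo _ _ h1 ha).le_of z1 z2 (le_C1_iff.2 (h.Q_cc a hg.1))
    (mem_C1_comm.1 hg.2))⟩
theorem Cidx : (St n ⊓ CC (Bl 1 n)).relIndex (Qa a) ≤ 4 := by
  obtain ⟨z, z1, z2⟩ := (h.odV4 h3 bo _ _ h1 ha).exists_out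
  have := idx_C1 (cc_symm (h.Q_cc a)) (fun k hk => comm_mem (h.commW (h.odV4 h3 bo) ha) (h.V_le_W h1 z1) hk)
    (h.Cz h3 bo b3 ha h1 h2 e1 z1 z2)
  rwa [h.cardZ ha (h.nα h1 ha), h.odm h3 bo _ (h.nα h1 ha)] at this
theorem Q4 : Qa a ≤ St n ⊓ CC (Bl 1 n) ⊔ Bl 2 a := fun q hq => by
  obtain ⟨n'', h4, e2, e3⟩ := h.third h1 h2 e1
  obtain ⟨z, z1, z2⟩ := (h.odV4 h3 bo _ _ h1 ha).exists_out
  have c := fun k hk => comm_mem (h.commW (h.odV4 h3 bo) ha) (h.V_le_W h1 z1) (g := k) hk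
  have key : ∀ {n' n''}, E a n' → E a n'' → n ≠ n' → n ≠ n'' → n' ≠ n'' → Za n'' ≤
      ((Bl 2 a).subgroupOf (Qa a)).map (chom _ _ z (cc_symm (h.Q_cc a)) c) := fun h2 h4 e1 e2 e3 => by
    obtain ⟨y, y1, y2⟩ := (h.odV4 h3 bo _ _ h2 ha).exists_out
    exact h.m2_le (h.odm h3 bo) (h.nα h4 ha) (h.R1 h3 bo b3 ha h1 h2 e1 h4 e2 e3 z1 y1)
      (fun l => h.R0 h3 bo b3 ha h1 h2 e1 z1 z2 y1 y2 (l ▸ one_mem _))
      ⟨⟨y, h.VQ h3 bo b3 ha h2 h1 e1.symm y1⟩, h.V_le_W h2 y1, rfl⟩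
  obtain ⟨w, w1, w2⟩ := (h.Z_sup h2 ha h4 e3).ge.trans (sup_le (key h4 h2 e2 e1 e3.symm) (key h2 h4 e1 e2 e3))
    (c q hq)
  have : chom _ _ z (cc_symm (h.Q_cc a)) c (⟨q, hq⟩ * w⁻¹) = 1 := by
    rw [map_mul, map_inv, w2]; exact mul_inv_cancel _
  rw [← inv_mul_cancel_right q w]
  exact mul_mem (mem_sup_left (h.Cz h3 bo b3 ha h1 h2 e1 z1 z2 ⟨Subgroup.mul_mem _ hq (Subgroup.inv_mem _ w.2),
    mem_C1_comm.1 (C1_of_comm this)⟩)) (mem_sup_right w1)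
theorem three_bd : #(Qa a) ≤ 64 := by
  obtain ⟨n'', h4, e2, e3⟩ := h.third h1 h2 e1
  have c1 := h.CQ h3 bo b3 ha h1 h2 e1
  have f1 : St n ⊓ CC (Bl 1 n) ⊓ (St n' ⊓ CC (Bl 1 n')) ≤ Qa a ⊓ CC (Bl 2 a) := le_inf (inf_le_left.trans c1)
    (cc_symm (h.B2_three h1 ha h2 h4 e1 e2 e3 (cc_symm (inf_le_left.trans inf_le_right))
      (cc_symm (inf_le_right.trans inf_le_right)) fun w hw => mem_CC.2 fun x hx =>
        commutatorElement_eq_one_iff_mul_comm.1 (h.one_of h2 ha h1 e1.symm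
          (h.K2' h3 bo b3 ha h1 h2 e1 h4 e2 e3 hx.1 hx.2.2 hw)
          (h.K2' h3 bo b3 ha h2 h1 e1.symm h4 e3 e2 hx.2 hx.1.2 hw))))
  have k0 : Qa a ⊓ CC (Bl 2 a) ≤ St n ⊓ CC (Bl 1 n) := inf_le_inf (h.Q_le h1) (cc_anti (h.V_le_W h1))
  have k1 : St a ≤ NN (Qa a ⊓ CC (Bl 2 a) : Subgroup G) := nn_inf (nn_Q a) (nn_cc (h.nn_B 2 a))
  have l0 := comm_cm (St n) (St n ⊓ CC (Bl 1 n)) (Bl 1 n)
  have bot : ∀ X ≤ Qa a, St a ≤ NN X → X ≤ CC (cm (St n) (St n ⊓ CC (Bl 1 n)) (Bl 1 n)) → X = ⊥ :=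
    fun X x1 x2 x3 => h.core h1 X (x1.trans (h.Q_le_T h1)) x2 ((h.L2 h3 bo b3 ha h1 h2 e1).ge.trans
      (sup_le (nn_of_cc (cc_symm x3)) (inf_le_left.trans x2)))
  have n1 : St n ≤ NN (St n ⊓ CC (Bl 1 n) : Subgroup G) := nn_inf (le_nn _) (nn_cc (h.nn_B 1 n))
  have l1 := (commutator_mono l0 le_rfl).trans (comm_eq_bot'.2 (inf_le_right (a := St n))).le
  have l2 := l1
  rw [commutator_comm (St n ⊓ CC (Bl 1 n))] at l2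
  have k2 : ⁅Qa a ⊓ CC (Bl 2 a), Qa a⁆ = ⊥ := bot _ (comm_le_right (inf_le_left.trans (le_nn _)))
    (nn_comm k1 (nn_Q a)) (((commutator_mono le_rfl (h.Q4 h3 bo b3 ha h1 h2 e1)).trans (comm_sup_r
      (inf_le_left.trans (nn_comm n1 n1)) (((h.B_le_Q (.refl 0 a)).trans (h.Q_le h1)).trans (nn_comm n1 n1))
      (commutator_mono k0 le_rfl) ((comm_eq_bot.2 inf_le_right).le.trans bot_le))).trans
      (comm_eq_bot.1 (le_bot_iff.1 (three_sub nn_bot nn_bot nn_bot l1 l2))))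
  have k3 : Sq (Qa a ⊓ CC (Bl 2 a)) = ⊥ := bot _ (Sq_le fun x hx => mul_mem hx.1 hx.1) (nn_Sq k1)
    (sq_cc ((commutator_mono k0 le_rfl).trans l0) (cc_symm (k0.trans inf_le_right)) (h.V_elem h3 n))
  have k4 := card_le_of_le (f1.trans ((le_OZ inf_le_left (comm_eq_bot.1 k2)
    (elem_of_sq fun x hx => mem_bot.1 (k3 ▸ sq_mem_Sq hx))).trans (h.OZQ ha)))
  have k5 := card_le_of_idx (relIndex_inf_le.trans (Nat.mul_le_mul (h.Cidx h3 bo b3 ha h1 h2 e1)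
    (h.Cidx h3 bo b3 ha h2 h1 e1.symm)))
  rw [h.cardZ ha (h.nα h1 ha), h.odm h3 bo _ (h.nα h1 ha)] at k4
  omega
end three
end GC

theorem GB.bound (h : GB G E α) (h1 : E a n) (ha : α a) : #(St a ⊓ St n : Subgroup G) ≤ 128 := by
  obtain ⟨b, h⟩ := h.exists_GC ha
  suffices #(Qa a) ≤ 64 by rw [(h.loc h1).ix2.card]; omega
  by_cases b2 : b = 2
  · obtain ⟨c, c1, c2⟩ := h.two b2
    obtain ⟨d, c3⟩ := h.nb c
    obtain ⟨g, rfl, -⟩ := h.edgeA c3 c1 h1 ha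
    rwa [Qa_smul, card_cj]
  have h3 : 3 ≤ b := by have := h.two_le; omega
  have bo : b % 2 = 1 := by_contra fun e => h.ev4 (by omega) h3
  obtain ⟨n', h2, e⟩ := h.exists_ne h1
  refine h.three_bd h3 bo (by_contra fun b3 => ?_) ha h1 h2 e.symm
  by_cases b5 : b = 5
  exacts [h.od5 h3 bo b5, h.od97 h3 bo (by omega)]

end Cfsg.Agent.Gs
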