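/-
Goldschmidt's bound for amalgams of index (3,3).
-/
import Cfsg.Agent.Lib.Fusion.Gs6

set_option autoImplicit false
set_option linter.unusedSectionVars false
set_option linter.unusedVariables false

namespace Cfsg.Agent.Gs

open Subgroup Cfsg.Agent.Transfer Cfsg.Agent.MS Cfsg.Agent.NG MulAction
open scoped commutatorElement

universe u v
variable {G : Type u} [Group G] [Finite G] {A B T : Subgroup G}

theorem G0.noch {V : Type v} [MulAction G V] {E : V → V → Prop} (h : G0 G E) {a b : V} (h1 : E a b)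
    (hc : ¬ St a ⊓ CC (Qa a) ≤ Qa a) : #(St a ⊓ St b : Subgroup G) ≤ 16 := by
  have k1 := G0.K2_le (G := G) (h.symm h1)
  have := h.card_K2 b
  rw [h.core h1 _ ((k1.trans inf_le_right).trans (h.loc h1).ix2.le) (((h.loc h1).sup_eq inf_le_left
    ((h.loc h1).not_le inf_le_left (nn_inf (le_nn _) (nn_cc (nn_Q a))) hc)).ge.trans (sup_le
      (nn_of_cc (inf_le_right.trans (cc_anti (k1.trans inf_le_right)))) (inf_le_right.trans (h.nn_K2 b))))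
    (h.nn_K2 b), card_bot] at this
  rw [(h.loc' h1).ix2.card]; omega

structure AM6 (A B T : Subgroup G) : Prop where
  a : S6 A T
  b : S6 B T
  core : ∀ N ≤ T, A ≤ NN N → B ≤ NN N → N = ⊥

namespace AM6
theorem symm (h : AM6 A B T) : AM6 B A T := ⟨h.b, h.a, fun N h1 h2 h3 => h.core N h1 h3 h2⟩
theorem cj (h : AM6 A B T) (g : G) : AM6 (cj g A) (cj g B) (cj g T) := ⟨h.a.cj g, h.b.cj g, fun N h1 h2 h3 =>
  cj_eq_bot_iff.1 (h.core (Transfer.cj g⁻¹ N) (le_cj_iff_cj_inv_le.1 h1)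
    (cj_inv_cj g A ▸ nn_cj h2 g⁻¹) (cj_inv_cj g B ▸ nn_cj h3 g⁻¹))⟩

theorem g0 (h : AM6 A B (A ⊓ B)) : G0 G (cosetGraph A B).Adj := by
  have key : ∀ {a b : CosetVertex A B}, (cosetGraph A B).Adj a b →
      AM6 (stabilizer G a) (stabilizer G b) (stabilizer G a ⊓ stabilizer G b) := fun hab =>
    Comp.adj_induction (P := fun X Y => AM6 X Y (X ⊓ Y)) h
      (fun X Y e => inf_comm X Y ▸ e.symm) (fun X Y g e => cj_inf g X Y ▸ e.cj g) hab
  refine ⟨fun e => e.symm, fun g e => Comp.adj_smul e g, Comp.exists_smul_eq_of_adj, fun h1 h2 => ?_,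
    fun e => (key e).a, fun e => (key e).core, Comp.exists_adj⟩
  obtain ⟨x, h1⟩ := Comp.cosetGraph_adj.1 h1
  obtain ⟨y, h2⟩ := Comp.cosetGraph_adj.1 h2
  refine ⟨y * x⁻¹, ?_⟩
  have e1 : (y * x⁻¹) • (Sum.inl (x : G ⧸ A) : CosetVertex A B) = Sum.inl (y : G ⧸ A) := by
    simp [Sum.smul_inl]
  have e2 : (y * x⁻¹) • (Sum.inr (x : G ⧸ B) : CosetVertex A B) = Sum.inr (y : G ⧸ B) := by
    simp [Sum.smul_inr]
  rcases h1 with ⟨rfl, rfl⟩ | ⟨rfl, rfl⟩ <;> rcases h2 with ⟨rfl, rfl⟩ | ⟨rfl, rfl⟩ <;> simp [e1, e2]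

theorem st (A B : Subgroup G) : stabilizer G (Sum.inl ((1 : G) : G ⧸ A) : CosetVertex A B) ⊓
    stabilizer G (Sum.inr ((1 : G) : G ⧸ B) : CosetVertex A B) = A ⊓ B := by
  rw [(Comp.stabilizer_inl 1).trans (cj_eq_of_mem (one_mem A)),
    (Comp.stabilizer_inr 1).trans (cj_eq_of_mem (one_mem B))]

theorem noch (h : AM6 A B (A ⊓ B)) (hc : ¬ A ⊓ CC (Q2 A) ≤ Q2 A) : #(A ⊓ B : Subgroup G) ≤ 16 := by
  rw [← st]
  exact h.g0.noch (Comp.adj_inl_inr 1) (by rwa [(Comp.stabilizer_inl 1).trans (cj_eq_of_mem (one_mem A))])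

theorem mixed (h : AM6 A B (A ⊓ B)) (a1 : A ⊓ CC (Q2 A) ≤ Q2 A) (b1 : B ⊓ CC (Q2 B) ≤ Q2 B)
    (a2 : ¬ A ≤ CC (OZ (A ⊓ B))) (b2 : B ≤ CC (OZ (A ⊓ B))) : #(A ⊓ B : Subgroup G) ≤ 128 := by
  have c : ∀ (X : Subgroup G) g, X ⊓ CC (Q2 X) ≤ Q2 X →
      Transfer.cj g X ⊓ CC (Q2 (Transfer.cj g X)) ≤ Q2 (Transfer.cj g X) := fun X g l => by
    rw [← cj_O, ← cj_centralizer, ← cj_inf]; exact cj_mono g l
  have d : ∀ {a b : CosetVertex A B}, (cosetGraph A B).Adj a b → a.isLeft → ∃ x : G,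
      stabilizer G a = Transfer.cj x A ∧ stabilizer G b = Transfer.cj x B := fun l l' => by
    obtain ⟨x, ⟨rfl, rfl⟩ | ⟨rfl, rfl⟩⟩ := Comp.cosetGraph_adj.1 l
    exacts [⟨x, Comp.stabilizer_inl x, Comp.stabilizer_inr x⟩, by simp at l']
  rw [← st]
  refine GB.bound (α := fun v => v.isLeft) ⟨h.g0, fun l => ?_, fun {a} g l => ?_, fun a => ?_, fun l l' => ?_,
    fun l l' => ?_⟩ (Comp.adj_inl_inr 1) rfl
  · obtain ⟨x, ⟨rfl, rfl⟩ | ⟨rfl, rfl⟩⟩ := Comp.cosetGraph_adj.1 l <;> simp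
  · cases a
    exacts [rfl, l]
  · rcases a with (v | v) <;> induction v using QuotientGroup.induction_on
    · rw [Comp.stabilizer_inl]; exact c A _ a1
    · rw [Comp.stabilizer_inr]; exact c B _ b1
  · obtain ⟨x, e1, e2⟩ := d l l'
    rwa [e1, e2, ← cj_inf, ← NG.cj_OZ, ← cj_centralizer, cj_le_cj_iff]
  · obtain ⟨x, e1, e2⟩ := d l l'
    rwa [e1, e2, ← cj_inf, ← NG.cj_OZ, ← cj_centralizer, cj_le_cj_iff]

theorem bound (h : AM6 A B T) : #T ≤ 128 := by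
  by_cases l : A ≤ B
  · have e : A = B := eq_of_card_le l (by
      rw [← card_mul_relIndex h.a.syl.le, ← card_mul_relIndex h.b.syl.le, h.a.idx3, h.b.idx3])
    rw [h.a.ix2.card, h.core _ h.a.ix2.le (by nrm) (by rw [e]; nrm), card_bot]; omega
  obtain rfl : A ⊓ B = T := le_antisymm (by_contra fun e => l ((h.a.sup_eq inf_le_left e).ge.trans
    (sup_le inf_le_right h.b.syl.le))) (le_inf h.a.syl.le h.b.syl.le)
  have h' : AM6 B A (B ⊓ A) := inf_comm A B ▸ h.symm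
  by_cases a1 : A ⊓ CC (Q2 A) ≤ Q2 A
  swap; · exact (h.noch a1).trans (by norm_num)
  by_cases b1 : B ⊓ CC (Q2 B) ≤ Q2 B
  swap; · exact inf_comm A B ▸ (h'.noch b1).trans (by norm_num)
  by_cases a2 : A ≤ CC (OZ (A ⊓ B)) <;> by_cases b2 : B ≤ CC (OZ (A ⊓ B))
  · rw [show A ⊓ B = ⊥ from by_contra fun e => OZ_ne_bot h.a.syl.pgroup e
      (h.core _ (NG.OZ_le _) (nn_of_cc a2) (nn_of_cc b2)), card_bot]; omega
  · rw [inf_comm] at a2 b2 ⊢; exact h'.mixed b1 a1 b2 a2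
  · exact h.mixed a1 b1 a2 b2
  · rcases AM.iso ⟨⟨h.a.syl, h.a.idx, a1, a2⟩, ⟨h.b.syl, h.b.idx, b1, b2⟩, h.core⟩ with ⟨e, -⟩ | ⟨e, -⟩ <;> omega
end AM6

theorem S6.map {G' : Type u} [Group G'] [Finite G'] {f : G →* G'} (hf : Function.Injective f) {A Y : Subgroup G}
    (h : S6 A Y) : S6 (A.map f) (Y.map f) :=
  ⟨h.syl.map f, by
    rw [← map_O f (by rw [inf_ker_eq_bot_of_injective hf]; exact .bot), relIndex_map_map_of_injective _ _ hf, h.idx]⟩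

theorem S6_top {G : Type u} [Group G] {P T : Subgroup G} [Finite P]
    (h2 : ∃ S : Sylow 2 P, (S : Subgroup P) = T.subgroupOf P)
    (h3 : Nonempty (P ⧸ pCore 2 P ≃* Equiv.Perm (Fin 3))) : S6 ⊤ (T.subgroupOf P) := by
  obtain ⟨S, h2⟩ := h2
  refine ⟨h2 ▸ isSyl_top S, ?_⟩
  rw [O_top, ← Solv.pCore_eq_piCore, relIndex_top_right, index_eq_card, Nat.card_congr h3.some.toEquiv]
  simp [Nat.card_perm]; rfl

end Cfsg.Agent.Gs
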