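import Cfsg.Agent.Lib.Fusion.Ec1

set_option autoImplicit false
set_option linter.unusedSectionVars false

/-! Goldschmidt's non-simplicity criterion for a weakly closed central 2-subgroup. -/
namespace Cfsg.Agent.Ca
open Subgroup Cfsg.Agent.MS Cfsg.Agent.Transfer Cfsg.Agent.Char
open scoped Classical ComplexConjugate

universe u
variable {X : Type u} [Group X] [Fintype X]
variable {C T W R : Subgroup X} {a b c t u v w x y z g : X}

structure WC (T W : Subgroup X) : Prop where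
  syl : IsSyl 2 T ⊤
  le : W ≤ T
  cen : W ≤ CC T
  wc : ∀ g, cj g W ≤ T → cj g W = W

namespace WC
variable (h : WC T W)
include h

theorem pg : IsPGroup 2 W := h.syl.pgroup.to_le h.le
theorem ab : IsMulCommutative W := ab_iff.2 (h.cen.trans (cc_anti h.le))

theorem wc2 (hR : IsPGroup 2 R) (h1 : W ≤ R) (h2 : cj g W ≤ R) : cj g W = W := by
  obtain ⟨k, -, hk⟩ := h.syl.exists_cj_le hR le_top
  have e1 := h.wc k ((cj_mono k h1).trans hk)
  have e2 := h.wc (k * g) (by rw [← cj_cj]; exact (cj_mono k h2).trans hk)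
  rw [← cj_cj] at e2
  exact cj_inj.1 (e2.trans e1.symm)

theorem sc (hw : w ∈ W) (h1 : g * w * g⁻¹ ∈ T) : g * w * g⁻¹ ∈ W := by
  have h2 : IsSyl 2 (cj g T) (C1 (g * w * g⁻¹)) := by
    refine ((h.syl.cj g).mono ?_ (by simp [cj_eq_of_normal]))
    rw [← cj_centralizer_singleton]; exact cj_mono g (le_C1_iff.2 (h.cen hw))
  obtain ⟨c, hc, h3⟩ := h2.exists_cj_le h.pg (le_C1_iff.2 (cc_symm h.cen h1))
  have h4 := h.wc (g⁻¹ * c) (by rw [← cj_cj]; exact le_cj_iff_cj_inv_le.1 h3)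
  have h5 : c⁻¹ * (g * w * g⁻¹) * c ∈ W := by
    rw [← h4] at hw
    have := mem_cj.1 hw
    convert this using 1; group
  rwa [mul_assoc, ← mem_C1.1 hc, inv_mul_cancel_left] at h5

theorem sc2 (hR : IsPGroup 2 R) (h1 : W ≤ R) (hw : w ∈ W) (hu : Cj ⊤ w u) (h2 : u ∈ R) : u ∈ W := by
  obtain ⟨g, -, rfl⟩ := hu
  obtain ⟨k, -, hk⟩ := h.syl.exists_cj_le hR le_top
  have e1 := h.wc k ((cj_mono k h1).trans hk)
  have e2 := h.sc (g := k * g) hw (by
    have := hk (conj_mem_cj h2); convert this using 1; group)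
  rw [← e1, mem_cj] at e2
  convert e2 using 1; group

theorem nrm (h1 : W ≤ Comp.Oppp 2 C) : C ≤ NN (O {2}ᶜ C ⊔ W : Subgroup X) := by
  obtain ⟨R, hR, h2⟩ := exists_isSyl_ge h.pg h1
  have e := (syl_in hR).Opp_sup_eq_Oppp
  rw [← O1c_eq] at e
  intro d hd
  refine mem_normalizer_of_cj_le ?_
  rw [cj_sup, cj_nn (nn_O (le_nn C) hd)]
  refine sup_le le_sup_left ?_
  obtain ⟨m, hm, h3⟩ := hR.exists_cj_le (IsPGroup.cj h.pg d)
    (cj_le h1 (Comp.le_normalizer_Oppp_self C hd))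
  rw [cj_cj] at h3
  have h4 := h.wc2 hR.pgroup h2 h3
  rw [← e] at hm
  obtain ⟨o, ho, r, hr, h5⟩ := (mem_sup_l (nn_O (nn_of_le (hR.le.trans (Comp.Oppp_le C))))).1
    (inv_mem hm)
  rw [← cj_cj, cj_eq_iff_eq_cj_inv, h5, ← cj_cj, h.wc2 hR.pgroup h2 (cj_le' h2 hr)] at h4
  rw [h4]
  exact cj_le' le_sup_right (mem_sup_left ho)

end WC

theorem two_conj (c g : X) : two (c * g * c⁻¹) = c * two g * c⁻¹ := by
  obtain ⟨h1, h2, h3⟩ := two_dec g
  refine two_eq ⟨by rw [← cj_zpowers]; exact IsPGroup.cj h1 c, h2.conj c, ?_⟩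
  rw [← ord_conj c] at h3; convert h3 using 2; group

theorem ph_conj (hc : Commute c x) (u : X) : ph x (c * u * c⁻¹) = c * ph x u * c⁻¹ := by
  have e : c * u * c⁻¹ * x = c * (u * x) * c⁻¹ := by rw [mul_assoc, hc.inv_left.eq]; group
  rw [ph, ph, e, two_conj, mul_assoc, hc.inv_left.eq]; group

noncomputable def Kc (w : X) : Finset X := Finset.univ.filter (fun u => Cj ⊤ w u)
theorem mem_Kc : u ∈ Kc w ↔ Cj ⊤ w u := by simp [Kc]
noncomputable def bb (w z a : X) : ℕ := ((Kc w).filter (fun u => u * a ∈ O {2}ᶜ (C1 z))).card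

/-- the good involutions -/
structure Gd (T W : Subgroup X) (x : X) : Prop where
  mem : x ∈ T
  sq : x * x = 1
  nn : C1 x ≤ NN (O {2}ᶜ (C1 x) ⊔ W : Subgroup X)

theorem sq_cj (ww : w * w = 1) (hu : Cj ⊤ w u) : u * u = 1 := by
  obtain ⟨g, -, rfl⟩ := hu; exact conj_mul_self ww g

theorem gw_sum (h : WC T W) (hw : w ∈ W) (ww : w * w = 1) (hx : Gd T W x)
    (hx' : ∀ a ∈ W, a * a = 1 → Gd T W (a * x)) (θ : X → ℂ) (h1 : ∀ g c, θ (c * g * c⁻¹) = θ g)
    (h2 : ∀ a ∈ W, a * a = 1 → ∀ y ∈ O {2}ᶜ (C1 (a * x)), θ (a * x * y) = θ (a * x)) :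
    ∑ u ∈ Kc w, θ (u * x) =
      ∑ a ∈ (Kc w).filter (fun a => a ∈ W), (bb w x a * bb w (a * x) a : ℕ) * θ (a * x) := by
  have WC1 : ∀ z ∈ T, W ≤ C1 z := fun z hz => le_C1_iff.2 (cc_symm h.cen hz)
  have n2 : ∀ z ∈ T, W ≤ NN (O {2}ᶜ (C1 z)) := fun z hz => nn_O (nn_of_le (WC1 z hz))
  have p1 : ∀ u ∈ Kc w, ph x u ∈ (Kc w).filter (fun u => Commute u x) := by
    intro u hu
    have hu' := mem_Kc.1 hu
    obtain ⟨-, -, -, -, c, -, k⟩ := ph_spec (sq_cj ww hu') hx.sq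
    have k1 : Cj ⊤ w (ph x u) := hu'.trans (Cj.symm ⟨c, mem_top _, k⟩)
    refine Finset.mem_filter.2 ⟨mem_Kc.2 k1, ?_⟩
    obtain ⟨g, -, hg⟩ := h.syl.exists_cj_le (isPGroup_closure_invol (sq_cj ww k1) hx.sq
      (by rw [ph_mul hx.sq]; exact (two_dec _).1)) le_top
    have k2 := hg (conj_mem_cj (subset_closure (Set.mem_insert _ _)))
    have k3 := hg (conj_mem_cj (subset_closure (Set.mem_insert_of_mem _ rfl)))
    have k4 := h.sc2 h.syl.pgroup h.le hw (k1.conj (mem_top g)) k2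
    exact (Commute.conj_iff g).1 (mem_C1'.1 (WC1 _ k3 k4))
  have p2 : ∀ u, ∃ a, u ∈ (Kc w).filter (fun u => Commute u x) →
      a ∈ (Kc w).filter (fun a => a ∈ W) ∧ u * a ∈ O {2}ᶜ (C1 x) := by
    intro u
    by_cases hu : u ∈ (Kc w).filter (fun u => Commute u x)
    swap
    · exact ⟨1, fun k => absurd k hu⟩
    obtain ⟨k1, k2⟩ := Finset.mem_filter.1 hu
    have uu := sq_cj ww (mem_Kc.1 k1)
    obtain ⟨R, hR, k3⟩ := exists_isSyl_ge h.pg (WC1 x hx.mem)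
    obtain ⟨d, hd, k4⟩ := hR.exists_cj_le (pg_of_sq uu) (zle (mem_C1'.2 k2))
    have k5 := h.sc2 hR.pgroup k3 hw ((mem_Kc.1 k1).conj (mem_top d)) (k4 (conj_mem_cj (mem_zpowers u)))
    have k6 := inv_conj_mem_of_mem_normalizer (hx.nn hd) (mem_sup_right k5)
    rw [show d⁻¹ * (d * u * d⁻¹) * d = u by group] at k6
    obtain ⟨a, ha, aa, k7⟩ := proj2 (odd_O _) h.pg (n2 x hx.mem) k6 uu
    obtain ⟨c, -, e⟩ := conj_of_inv (odd_orderOf_of_mem (odd_O _) k7) (inv_r uu aa)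
    rw [mul_assoc, aa, mul_one] at e
    exact ⟨a, fun _ => ⟨Finset.mem_filter.2
      ⟨mem_Kc.2 ((mem_Kc.1 k1).trans (Cj.symm ⟨c, mem_top _, e⟩)), ha⟩, k7⟩⟩
  choose pr hpr using p2
  rw [← Finset.sum_fiberwise_of_maps_to p1, ← Finset.sum_fiberwise_of_maps_to (fun u hu => (hpr u hu).1)]
  refine Finset.sum_congr rfl fun a ha => ?_
  obtain ⟨ha1, ha2⟩ := Finset.mem_filter.1 ha
  have aa := sq_cj ww (mem_Kc.1 ha1)
  have hz := hx' a ha2 aa
  have f1 : ((Kc w).filter (fun u => Commute u x)).filter (fun u => pr u = a) =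
      (Kc w).filter (fun u => u * a ∈ O {2}ᶜ (C1 x)) := by
    ext u
    simp only [Finset.mem_filter]
    refine ⟨fun k => ⟨k.1.1, k.2 ▸ (hpr u (Finset.mem_filter.2 k.1)).2⟩, fun k => ?_⟩
    have k1 : Commute u x := by
      have := mul_mem (O_le _ _ k.2) (WC1 x hx.mem ha2)
      rw [mul_assoc, aa, mul_one] at this
      exact mem_C1'.1 this
    refine ⟨⟨k.1, k1⟩, ?_⟩
    obtain ⟨k2, k3⟩ := hpr u (Finset.mem_filter.2 ⟨k.1, k1⟩)
    have k4 := eq_one_of_odd_of_mem h.pg (mul_mem (inv_mem ha2) (Finset.mem_filter.1 k2).2)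
      (odd_orderOf_of_mem (odd_O (C1 x)) (by
        have := mul_mem (inv_mem k.2) k3; convert this using 1; group))
    exact (inv_mul_eq_one.1 k4).symm
  have f2 : (Kc w).filter (fun u => ph x u = a) =
      (Kc w).filter (fun u => u * a ∈ O {2}ᶜ (C1 (a * x))) := by
    refine Finset.filter_congr fun u hu => ⟨fun k => ?_, fun k => ?_⟩
    · have uu := sq_cj ww (mem_Kc.1 hu)
      obtain ⟨y, hy, k1, k2, -⟩ := ph_spec uu hx.sq
      have k3 : Commute (a * x) (u * x) := by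
        have := (two_dec (u * x)).2.1
        rwa [← ph_mul hx.sq, k] at this
      have k4 : u * a = y := by rw [k2, k, mul_assoc, aa, mul_one]
      have k5 := inv_r uu aa
      rw [k4] at k5 ⊢
      have yC : y ∈ C1 (a * x) := mem_C1'.2 (cm_of_mem k3 hy).symm
      refine odd_mem (odd_O _) h.pg (n2 _ hz.mem) (mem_of_pow_mem_coprime (n := 2)
        (odd_iff_coprime_two.1 k1) ?_) k1
      have := mul_mem (conj_mem_of_mem_normalizer (hz.nn yC) (mem_sup_right ha2))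
        (inv_mem (mem_sup_right (S := O {2}ᶜ (C1 (a * x))) ha2))
      convert this using 1
      calc y ^ 2 = y * (a * y * a⁻¹)⁻¹ := by rw [k5, inv_inv, sq]
        _ = _ := by group
    · have k1 : Commute (u * a) (a * x) := mem_C1'.1 (O_le _ _ k)
      have e : u * x = a * x * (u * a) := by
        rw [← k1.eq, mul_assoc, ← mul_assoc a, aa, one_mul]
      rw [ph, two_eq (x := a * x) ⟨pg_of_sq hz.sq, ?_, ?_⟩, mul_assoc, hx.sq, mul_one]
      · rw [e]; exact (Commute.refl _).mul_right k1.symm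
      · rw [e, inv_mul_cancel_left]; exact odd_orderOf_of_mem (odd_O _) k
  have f3 : ∑ u ∈ (Kc w).filter (fun u => ph x u = a), θ (u * x) = bb w (a * x) a * θ (a * x) := by
    rw [f2, bb, ← nsmul_eq_mul, ← Finset.sum_const]
    refine Finset.sum_congr rfl fun u hu => ?_
    have k := (Finset.mem_filter.1 hu).2
    have k1 : Commute (u * a) (a * x) := mem_C1'.1 (O_le _ _ k)
    rw [← h2 a ha2 aa _ k, ← k1.eq, mul_assoc, ← mul_assoc a, aa, one_mul]
  rw [f1, Nat.cast_mul, mul_assoc, ← f3, bb, ← nsmul_eq_mul, ← Finset.sum_const]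
  refine Finset.sum_congr rfl fun u hu => ?_
  obtain ⟨k1, k2⟩ := Finset.mem_filter.1 hu
  obtain ⟨c, hc, e⟩ := conj_of_inv (odd_orderOf_of_mem (odd_O _) k2) (inv_r (sq_cj ww (mem_Kc.1 k1)) aa)
  rw [mul_assoc, aa, mul_one] at e
  have cx : Commute c x := mem_C1'.1 (O_le _ _ (zle k2 hc))
  symm
  refine Finset.sum_bij (fun s _ => c * s * c⁻¹) ?_ ?_ ?_ ?_
  · intro s hs
    obtain ⟨l1, l2⟩ := Finset.mem_filter.1 hs
    exact Finset.mem_filter.2 ⟨mem_Kc.2 ((mem_Kc.1 l1).conj (mem_top c)), by rw [ph_conj cx, l2, e]⟩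
  · intro s _ s' _ k; simpa using k
  · intro s hs
    obtain ⟨l1, l2⟩ := Finset.mem_filter.1 hs
    refine ⟨c⁻¹ * s * c⁻¹⁻¹, Finset.mem_filter.2 ⟨mem_Kc.2 ((mem_Kc.1 l1).conj (mem_top _)), ?_⟩, by group⟩
    rw [ph_conj cx.inv_left, l2, e]; group
  · intro s _
    rw [← h1 (s * x) c]; congr 1
    rw [mul_assoc _ c⁻¹, cx.inv_left.eq]; group

theorem sum_cl (w : X) (f : X → ℂ) : ∑ c, f (c * w * c⁻¹) =
    (Finset.univ.filter (fun c => c * w * c⁻¹ = w)).card * ∑ u ∈ Kc w, f u := by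
  rw [← Finset.sum_fiberwise_of_maps_to (s := Finset.univ) (t := Kc w) (g := fun c => c * w * c⁻¹)
    (fun c _ => mem_Kc.2 ⟨c, mem_top _, rfl⟩), Finset.mul_sum]
  refine Finset.sum_congr rfl fun u hu => ?_
  obtain ⟨g, -, rfl⟩ := mem_Kc.1 hu
  rw [Finset.sum_congr rfl (fun c hc => by rw [(Finset.mem_filter.1 hc).2]), Finset.sum_const,
    nsmul_eq_mul]
  congr 2
  symm
  refine Finset.card_bij (fun c _ => g * c) ?_ ?_ ?_
  · intro c hc
    refine Finset.mem_filter.2 ⟨Finset.mem_univ _, ?_⟩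
    calc _ = g * (c * w * c⁻¹) * g⁻¹ := by group
      _ = _ := by rw [(Finset.mem_filter.1 hc).2]
  · intro _ _ _ _ k; simpa using k
  · intro c hc
    refine ⟨g⁻¹ * c, Finset.mem_filter.2 ⟨Finset.mem_univ _, ?_⟩, by group⟩
    calc _ = g⁻¹ * (c * w * c⁻¹) * g := by group
      _ = _ := by rw [(Finset.mem_filter.1 hc).2]; group

theorem gw_tot (h : WC T W) (hw : w ∈ W) (ww : w * w = 1) (S : Finset X)
    (hS : ∀ x ∈ S, Gd T W x) (hS' : ∀ x ∈ S, ∀ a ∈ W, a * a = 1 → a * x ∈ S)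
    (θ : X → ℂ) (h1 : ∀ g c, θ (c * g * c⁻¹) = θ g)
    (h2 : ∀ x ∈ S, ∀ y ∈ O {2}ᶜ (C1 x), θ (x * y) = θ x) :
    ∑ x ∈ S, ∑ c, θ (c * w * c⁻¹ * x) = Nat.card X * ∑ x ∈ S, θ x := by
  have e1 := sum_cl w (fun _ => 1)
  simp only [Finset.sum_const, Finset.card_univ, nsmul_eq_mul, mul_one] at e1
  have e2 : ∀ x ∈ S, ((Kc w).card : ℂ) =
      ∑ a ∈ (Kc w).filter (fun a => a ∈ W), ((bb w x a * bb w (a * x) a : ℕ) : ℂ) := by
    intro x hx
    simpa using gw_sum h hw ww (hS x hx) (fun a ha aa => hS _ (hS' x hx a ha aa)) (fun _ => 1)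
      (fun _ _ => rfl) (fun _ _ _ _ _ => rfl)
  rw [Finset.sum_congr rfl fun x _ => sum_cl w (fun u => θ (u * x)), ← Finset.mul_sum,
    Nat.card_eq_fintype_card, e1, mul_assoc]
  congr 1
  have e3 : ∀ x ∈ S, ((Kc w).card : ℂ) * θ x =
      ∑ a ∈ (Kc w).filter (fun a => a ∈ W), ((bb w x a * bb w (a * x) a : ℕ) : ℂ) * θ x :=
    fun x hx => by rw [e2 x hx, Finset.sum_mul]
  rw [Finset.sum_congr rfl fun x hx => gw_sum h hw ww (hS x hx)
    (fun a ha aa => hS _ (hS' x hx a ha aa)) θ h1 (fun a ha aa => h2 _ (hS' x hx a ha aa)),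
    Finset.mul_sum, Finset.sum_congr rfl e3, Finset.sum_comm, Finset.sum_comm (s := S)]
  refine Finset.sum_congr rfl fun a ha => ?_
  obtain ⟨ha1, ha2⟩ := Finset.mem_filter.1 ha
  have aa := sq_cj ww (mem_Kc.1 ha1)
  refine Finset.sum_bij (fun x _ => a * x) (fun x hx => hS' x hx a ha2 aa)
    (fun _ _ _ _ k => by simpa using k)
    (fun x hx => ⟨a * x, hS' x hx a ha2 aa, by rw [← mul_assoc, aa, one_mul]⟩) fun x _ => ?_
  rw [← mul_assoc a a, aa, one_mul, mul_comm (bb w x a)]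

open Cfsg.Agent.Blk hiding IsSyl in
theorem gw_main (h : WC T W) (h0 : W ≠ ⊥) (tt : t * t = 1) (ht : t ∈ T) (htW : t ∉ W)
    (hc : ∀ a ∈ W, orderOf (a * t) = 2 → W ≤ Comp.Oppp 2 (C1 (a * t))) : ¬ IsSimpleGroup X := by
  intro hs
  obtain ⟨w, hw, ww, w1⟩ := exists_invol h.pg h0
  obtain ⟨M, hM⟩ := exists_isPModular Nat.prime_two
  haveI : PMod M 2 := ⟨hM⟩
  set S : Finset X := Finset.univ.filter (fun x => ∃ a ∈ W, a * a = 1 ∧ x = a * t) with hS
  have mS : ∀ x, x ∈ S ↔ ∃ a ∈ W, a * a = 1 ∧ x = a * t := fun x => by simp [hS]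
  have o2 : ∀ x ∈ S, orderOf x = 2 := by
    intro x hx
    obtain ⟨a, ha, aa, rfl⟩ := (mS x).1 hx
    refine ord2 (sq_mul (mem_CC.1 (h.cen ha) t ht).symm aa tt) fun e => htW ?_
    rw [eq_inv_of_mul_eq_one_right e]; exact inv_mem ha
  have g1 : ∀ x ∈ S, Gd T W x := by
    intro x hx
    have := o2 x hx
    obtain ⟨a, ha, aa, rfl⟩ := (mS x).1 hx
    exact ⟨mul_mem (h.le ha) ht, mul_self_of_orderOf this, h.nrm (hc a ha this)⟩
  have g2 : ∀ x ∈ S, ∀ a ∈ W, a * a = 1 → a * x ∈ S := by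
    intro x hx b hb bb
    obtain ⟨a, ha, aa, rfl⟩ := (mS x).1 hx
    exact (mS _).2 ⟨b * a, mul_mem hb ha, sq_mul (cm_of_ab h.ab hb ha) bb aa, (mul_assoc _ _ _).symm⟩
  have key : ∀ χ ∈ b0 M X, χ ≠ irrOne X →
      ∑ x ∈ S, (χ : X → ℂ) x * conj ((χ : X → ℂ) 1) = 0 := fun χ hχ h1 => by
    have e1 := gw_tot h hw ww S g1 g2 χ (fun g c => χ.2.isClassFunction.apply_conj g c)
      (fun x hx y hy => b0_apply_mul ⟨1, o2 x hx⟩ (v := ⟨y, O_le _ _ hy⟩) (by
        rw [← map_pPrimeCore] at hy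
        obtain ⟨y', k, rfl⟩ := hy
        exact k) hχ)
    simp only [χ.2.sum_conj_mul] at e1
    have e3 : (χ : X → ℂ) w - (χ : X → ℂ) 1 ≠ 0 := fun k => by
      rcases χ.2.isCharacter.normal_charKer.eq_bot_or_eq_top with e | e
      · exact w1 (mem_bot.1 (e ▸ χ.2.isCharacter.mem_charKer.2 (sub_eq_zero.1 k)))
      · exact χ.2.charKer_ne_top (irr_ne_one.1 h1) e
    rw [← Finset.sum_div, ← Finset.mul_sum] at e1
    have := χ.2.apply_one_ne_zero
    have := card_ne_zero' X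
    have e4 : ((χ : X → ℂ) w - (χ : X → ℂ) 1) * ∑ x ∈ S, (χ : X → ℂ) x = 0 := by
      field_simp at e1
      linear_combination e1
    rw [← Finset.sum_mul, (mul_eq_zero.1 e4).resolve_left e3, zero_mul]
  have o1 : ∑ x ∈ S, ∑ χ ∈ b0 M X, (χ : X → ℂ) x * conj ((χ : X → ℂ) 1) = 0 :=
    Finset.sum_eq_zero fun x hx => b0_orth (M := M) (isPPart_self ⟨1, o2 x hx⟩)
      (isPPart_self pelt_one) fun k => ne_one_of_orderOf (o2 x hx) (isConj_one_left.1 k)
  rw [Finset.sum_comm, Finset.sum_eq_single (irrOne X) key fun k => absurd one_mem_b0 k] at o1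
  have : S.card ≠ 0 := Finset.card_ne_zero.2 ⟨t, (mS t).2 ⟨1, one_mem _, mul_one _, (one_mul _).symm⟩⟩
  simp at o1
  exact this (by rw [o1]; rfl)

end Cfsg.Agent.Ca
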