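import Cfsg.Agent.Lib.Fusion.Invariant

/-! The saturation theorem for families of subgroups. -/

set_option autoImplicit false
set_option linter.unusedSectionVars false

namespace Cfsg.Agent.Fusion

open Cfsg Cfsg.FusionSystem

variable {Ω : Type*} [Group Ω] {S : Subgroup Ω} {F : FusionSystem S} {P Q R T U P' Q' : Subgroup Ω}
  {f g : Ω → Ω} {p : ℕ}

theorem Mor.img_lt (hf : Mor F Q f) (h : P < Q) : img f P < img f Q := by
  refine lt_of_le_of_ne (img_mono h.le) fun e => h.not_ge fun x hx => ?_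
  exact (hf.apply_mem_img_iff h.le hx).1 (e ▸ subset_img hx)

theorem Mor.img_le_normalizerIn (hf : Mor F Q f) (hP : P ≤ Q) (hn : Q ≤ normalizerIn S P) :
    img f Q ≤ normalizerIn S (img f P) :=
  img_le_iff.2 fun _ hx => hf.mem_normalizer_img hP hx (hn hx).2

theorem Mor.img_inv_img (hf : Mor F Q f) (hP : P ≤ Q) (e : ∀ x ∈ Q, g (f x) = x) :
    img g (img f P) = P := by
  rw [← (hf.mono hP).img_comp']
  exact img_of_eq_id fun x hx => e x (hP hx)

theorem transport_stabAut {U' : Subgroup Ω} {τ : MulAut U ≃* MulAut U'} (hf : Mor F U f)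
    (hU : img f U = U') (hτ : ∀ α, ∀ x ∈ U, afun (τ α) (f x) = f (afun α x)) (hP : P ≤ U)
    (β : MulAut U) : τ β ∈ stabAut U' (img f P) ↔ β ∈ stabAut U P := by
  constructor
  · intro h x hx
    have := h (f x) (hU ▸ subset_img hx)
    rwa [hτ β x hx, hf.apply_mem_img_iff hP (afun_mem β hx), hf.apply_mem_img_iff hP hx] at this
  · intro h y hy
    obtain ⟨x, hx, rfl⟩ := hf.mem_img.1 (hU ▸ hy)
    rw [hτ β x hx, hf.apply_mem_img_iff hP (afun_mem β hx), hf.apply_mem_img_iff hP hx]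
    exact h x hx

theorem img_afun_of_stab (hP : P ≤ U) {c : MulAut U} (hc : c ∈ stabAut U P) :
    img (afun c) P = P := by
  refine le_antisymm (img_le_iff.2 fun x hx => (hc x (hP hx)).2 hx) fun x hx => ?_
  rw [← afun_afun_inv c (hP hx)]
  exact subset_img (((stabAut U P).inv_mem hc x (hP hx)).2 hx)

theorem mem_normalizer_of_stab (hP : P ≤ U) {c : MulAut U} (hc : c ∈ stabAut U P) {s : Ω}
    (e : ∀ x ∈ U, afun c x = s * x * s⁻¹) : s ∈ Subgroup.normalizer (P : Set Ω) := by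
  obtain ⟨α, eα⟩ := exists_resAut hP hc
  exact mem_normalizer_of_afun (α := α) fun x hx => by rw [← eα x hx, e x (hP hx)]

/-- the elements of `N_S(P)` inducing automorphisms in `O_p(Aut_F(P))` -/
def hat (F : FusionSystem S) (p : ℕ) (P : Subgroup Ω) : Subgroup Ω := kNorm S P (autCore F p P)

theorem mem_hat {s : Ω} : s ∈ hat F p P ↔
    s ∈ S ∧ ∃ α ∈ autCore F p P, ∀ x ∈ P, afun α x = s * x * s⁻¹ := isKNorm_kNorm s

theorem hat_le : hat F p P ≤ normalizerIn S P :=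
  le_inf isKNorm_kNorm.le isKNorm_kNorm.le_normalizer

theorem centralizerIn_le_hat : centralizerIn S P ≤ hat F p P := isKNorm_kNorm.centralizerIn_le

theorem Inn_conj {a n : MulAut P} (hn : n ∈ Inn P) : a * n * a⁻¹ ∈ Inn P := by
  obtain ⟨g, hg, e⟩ := mem_Inn.1 hn
  refine mem_Inn.2 ⟨afun a g, afun_mem a hg, fun x hx => ?_⟩
  have h1 := afun_mem a⁻¹ hx
  rw [afun_mul _ _ hx, afun_mul _ _ h1, e _ h1, afun_map_mul a (P.mul_mem hg h1) (P.inv_mem hg),
    afun_map_mul a hg h1, afun_map_inv a hg, afun_afun_inv a hx]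

variable [Fact p.Prime]

theorem le_hat (hS : IsPGroup p S) (hP : P ≤ S) : P ≤ hat F p P := by
  intro s hs
  obtain ⟨α, e⟩ := exists_cAut (P := P) (Subgroup.le_normalizer hs)
  refine mem_hat.2 ⟨hP hs, α, le_autCore (Inn_le_autGroup F hP) ?_ (fun a _ n hn => Inn_conj hn)
    (mem_Inn.2 ⟨s, hs, e⟩), e⟩
  rw [Inn_eq_autInducedBy]; exact autInducedBy_pgroup (pgroup_of_le hS hP) _

theorem transport_autCore {τ : MulAut P ≃* MulAut P'}
    (h2 : ∀ α, τ α ∈ F.autGroup P' ↔ α ∈ F.autGroup P) {α : MulAut P} (hα : α ∈ autCore F p P) :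
    τ α ∈ autCore F p P' := by
  refine le_autCore (N := (autCore F p P).map τ.toMonoidHom) ?_ (autCore_pgroup.map _) ?_ ⟨α, hα, rfl⟩
  · rintro _ ⟨b, hb, rfl⟩; exact (h2 b).2 (autCore_le hb)
  · rintro a ha _ ⟨b, hb, rfl⟩
    refine ⟨τ.symm a * b * (τ.symm a)⁻¹, autCore_conj _ ((h2 _).1 (by simpa using ha)) _ hb, by simp⟩

theorem Mor.hat_mem (hg : Mor F U g) (hP : P ≤ U) {s : Ω} (hs : s ∈ U) (h : s ∈ hat F p P) :
    g s ∈ hat F p (img g P) := by
  obtain ⟨τ, hτ, h2, -⟩ := (hg.mono hP).exists_transport rfl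
  obtain ⟨-, α, hα, e⟩ := mem_hat.1 h
  refine mem_hat.2 ⟨hg.mem hs, τ α, transport_autCore h2 hα, fun y hy => ?_⟩
  obtain ⟨x, hx, rfl⟩ := (hg.mono hP).mem_img.1 hy
  rw [hτ α x hx, e x hx, hg.map_conj hs (hP hx)]

/-- good pairs -/
structure GP (F : FusionSystem S) (p : ℕ) (Q P : Subgroup Ω) : Prop where
  rcp : F.IsReceptive Q
  syl : SylowIn p (autInducedBy S Q ⊓ stabAut Q P) (F.autGroup Q ⊓ stabAut Q P)

variable [Finite S]

theorem sylow_stab_of (hS : IsPGroup p S) (hf : Mor F Q f) (hP : P ≤ Q) {B : Subgroup (MulAut Q)}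
    (hB : SylowIn p B (F.autGroup Q ⊓ stabAut Q P)) (h : B ≤ pullAut S Q f) :
    SylowIn p (autInducedBy S (img f Q) ⊓ stabAut (img f Q) (img f P))
      (F.autGroup (img f Q) ⊓ stabAut (img f Q) (img f P)) := by
  obtain ⟨τ, hτ, h2, -⟩ := hf.exists_transport rfl
  have := finite_autGroup F hf.le
  have : Finite (F.autGroup Q ⊓ stabAut Q P : Subgroup _) := finite_of_le inf_le_left
  have h3 := hB.map τ.toMonoidHom
  have h4 := transport_stabAut hf rfl hτ hP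
  rw [map_transport (A := F.autGroup _ ⊓ stabAut Q P)
    (B := F.autGroup _ ⊓ stabAut _ (img f P)) fun α => and_congr (h2 α) (h4 α)] at h3
  have hle : B.map τ.toMonoidHom ≤ autInducedBy S (img f Q) ⊓ stabAut _ (img f P) := by
    refine le_inf ?_ (h3.le.trans inf_le_right)
    rintro _ ⟨b, hb, rfl⟩
    exact (transport_mem_autInducedBy hf rfl hτ).2 (h hb)
  have hle' := inf_le_inf_right (stabAut (img f Q) (img f P)) (autInducedBy_le_autGroup F hf.img_le)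
  have hpg := pgroup_of_le (autInducedBy_pgroup hS _)
    (inf_le_left : autInducedBy S (img f Q) ⊓ stabAut _ (img f P) ≤ _)
  rwa [le_antisymm hle (h3.max _ hle' hpg hle)] at h3

theorem exists_gp (hS : IsPGroup p S) (h : SatClass F p Q) (hP : P ≤ Q) :
    ∃ φ, Mor F Q φ ∧ GP F p (img φ Q) (img φ P) := by
  obtain ⟨R, hR, hA, hr⟩ := h
  obtain ⟨B, hB, -⟩ := exists_sylowIn_ge (p := p)
    (bot_le : ⊥ ≤ F.autGroup Q ⊓ stabAut Q P) IsPGroup.of_bot
  obtain ⟨φ, hφ, eφ, hBφ⟩ := exists_pullAut_ge hS hA hR (hB.le.trans inf_le_left) hB.pgroup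
  exact ⟨φ, hφ, eφ ▸ hr, sylow_stab_of hS hφ hP hB hBφ⟩

theorem GP.move (hS : IsPGroup p S) (h : GP F p Q P) (hs : SatClass F p Q) (hP : P ≤ Q)
    (hQ : Q ≤ normalizerIn S P) (hg : Mor F (normalizerIn S P) g) : GP F p (img g Q) (img g P) := by
  have hgQ := hg.mono hQ
  constructor
  · have hc := fullyCentralized_of_receptive h.rcp
    have hCN : centralizerIn S Q ≤ normalizerIn S P :=
      (centralizerIn_anti hP).trans centralizerIn_le_normalizerIn
    refine (hs.of_conj hgQ.isConj).receptive hS ⟨hgQ.img_le, fun W hW => ?_⟩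
    rw [← hg.img_centralizerIn hQ hCN hc, (hg.mono hCN).card_img]
    exact hc.2 W (isConj_trans hgQ.isConj hW)
  · refine sylow_stab_of hS hgQ hP h.syl fun b hb => ?_
    obtain ⟨s, hs, e⟩ := mem_autInducedBy.1 hb.1
    have hsN : s ∈ normalizerIn S P := ⟨hs, mem_normalizer_of_stab hP hb.2 e⟩
    exact ⟨g s, hg.mem hsN, fun x hx => by rw [e x hx, hg.map_conj hsN (hQ hx)]⟩

theorem GP.step (hS : IsPGroup p S) (h : GP F p Q' P') (hf : Mor F Q f) (hP : P ≤ Q)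
    (e1 : img f Q = Q') (e2 : img f P = P') (hQ : Q < normalizerIn S P) :
    ∃ N ψ, Q < N ∧ N ≤ normalizerIn S P ∧ Mor F N ψ ∧ img ψ Q = Q' ∧ img ψ P = P' := by
  have := finite_of_le (normalizerIn_le : normalizerIn S P ≤ S)
  have hlt := lt_normalizerIn (pgroup_of_le hS normalizerIn_le) hQ
  obtain ⟨c, hc, ψ, hψ, e⟩ := exists_ext_mod hS h.rcp h.syl inf_le_left inf_le_left hf e1
    (N := normalizerIn (normalizerIn S P) Q) (normalizerIn_mono normalizerIn_le) (by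
      intro n hn β hβ eβ
      refine ⟨hβ, fun y hy => ?_⟩
      obtain ⟨x, hx, rfl⟩ := hf.mem_img.1 (e1 ▸ hy)
      rw [eβ x hx, ← e2, hf.apply_mem_img_iff hP (conj_mem_of_mem_normalizerIn hn hx),
        hf.apply_mem_img_iff hP hx]
      exact ((mem_normalizerIn.1 hn.1).2 x).symm)
  have hP' : P' ≤ Q' := e1 ▸ e2 ▸ img_mono hP
  refine ⟨_, ψ, hlt, normalizerIn_le, hψ.mono le_sup_left, ?_, ?_⟩
  · rw [img_congr e, hf.img_comp', e1, img_afun]
  · rw [img_congr fun x hx => e x (hP hx), (hf.mono hP).img_comp', e2, img_afun_of_stab hP' hc.2]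

/-- `P` moves to `P'` together with its normalizer -/
def Jn (F : FusionSystem S) (P P' : Subgroup Ω) : Prop :=
  ∃ ψ, Mor F (normalizerIn S P) ψ ∧ img ψ P = P'

theorem Jn.refl (F : FusionSystem S) (P : Subgroup Ω) : Jn F P P :=
  ⟨_, mor_id F normalizerIn_le, img_id P⟩

theorem Jn.trans (hP : P ≤ S) (h : Jn F P Q) (h' : Jn F Q R) : Jn F P R := by
  obtain ⟨ψ, hψ, rfl⟩ := h
  obtain ⟨χ, hχ, rfl⟩ := h'
  exact ⟨_, hψ.comp hχ fun x hx => hψ.normalizerIn_mem hP hx,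
    (hψ.mono (le_normalizerIn hP)).img_comp' _⟩

theorem Jn.isConj (hP : P ≤ S) (h : Jn F P Q) : F.IsConj P Q := by
  obtain ⟨ψ, hψ, rfl⟩ := h
  exact (hψ.mono (le_normalizerIn hP)).isConj

theorem Jn.symm (hP : F.IsFullyNormalized P) (h : Jn F P Q) : Jn F Q P := by
  obtain ⟨ψ, hψ, rfl⟩ := h
  obtain ⟨g, hg, e, -⟩ := hψ.inv' (hψ.img_normalizerIn hP)
  exact ⟨g, hg, hψ.img_inv_img (le_normalizerIn hP.1) e⟩

/-- joinable subgroups -/
def Jb (F : FusionSystem S) (P P' : Subgroup Ω) : Prop := ∃ C, Jn F P C ∧ Jn F P' C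

theorem Jn.diamond (hS : IsPGroup p S) (hP : P < S) (h1 : Jn F P Q) (h2 : Jn F P R)
    (ih : ∀ N, N ≤ S → Nat.card N = Nat.card (normalizerIn S P) → ∀ (A : Subgroup Ω) φ, Nat.card A = Nat.card P →
      A < N → N ≤ normalizerIn S A → Mor F N φ → Jb F A (img φ A)) : Jb F Q R := by
  obtain ⟨α, hα, rfl⟩ := h1
  obtain ⟨β, hβ, rfl⟩ := h2
  obtain ⟨i, hi, i1, i2, -⟩ := hα.inv
  have hl := le_normalizerIn hP.le
  have := ih _ hα.img_le hα.card_img (img α P) _ (hα.mono hl).card_img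
    (hα.img_lt (lt_normalizerIn hS hP)) (hα.img_le_normalizerIn hl le_rfl) (hi.comp hβ i2)
  rwa [(hi.mono (img_mono hl)).img_comp', hα.img_inv_img hl i1] at this

theorem join_edge (hS : IsPGroup p S) {n : ℕ} (hbig : ∀ Q, Q ≤ S → n < Nat.card Q → SatClass F p Q) :
    ∀ Q, Q ≤ S → ∀ (P : Subgroup Ω) φ, Nat.card P = n → P < Q → Q ≤ normalizerIn S P → Mor F Q φ →
      Jb F P (img φ P) := by
  refine downward_induction ?_
  intro Q hQ ih P φ hn hPQ hQN hφ
  have hPS := hPQ.le.trans hQ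
  rcases hQN.eq_or_lt with e | hlt
  · exact ⟨_, ⟨φ, e ▸ hφ, rfl⟩, Jn.refl _ _⟩
  obtain ⟨i, hi, i1, i2, -, i4⟩ := hφ.inv
  have eP := hφ.img_inv_img hPQ.le i1
  rcases (hφ.img_le_normalizerIn hPQ.le hQN).eq_or_lt with e | hlt'
  · exact ⟨P, Jn.refl _ _, i, e ▸ hi, eP⟩
  have := finite_of_le hQ
  obtain ⟨θ, hθ, hg⟩ := exists_gp hS (hbig Q hQ (hn ▸ card_lt_of_lt hPQ)) hPQ.le
  obtain ⟨N1, ψ1, l1, m1, h1, -, e1⟩ := hg.step hS hθ hPQ.le rfl rfl hlt
  have e2' : img (fun x => θ (i x)) (img φ P) = img θ P := by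
    rw [(hi.mono (img_mono hPQ.le)).img_comp', eP]
  obtain ⟨N2, ψ2, l2, m2, h2, -, e2⟩ := hg.step hS (hi.comp hθ i2) (img_mono hPQ.le)
    (by rw [hi.img_comp', i4]) e2' hlt'
  have := finite_of_le h1.le
  have := finite_of_le h2.le
  have c1 := card_lt_of_lt l1
  obtain ⟨A, a1, a2⟩ := ih N1 h1.le c1 P ψ1 hn (hPQ.trans l1) m1 h1
  obtain ⟨B, b1, b2⟩ := ih N2 h2.le (hφ.card_img ▸ card_lt_of_lt l2) (img φ P) ψ2
    ((hφ.mono hPQ.le).card_img.trans hn) ((hφ.img_lt hPQ).trans l2) m2 h2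
  rw [e1] at a2; rw [e2] at b2
  have := finite_of_le (normalizerIn_le : normalizerIn S (img θ P) ≤ S)
  have c2 : Nat.card N1 ≤ Nat.card (normalizerIn S (img θ P)) :=
    h1.card_le fun x hx => e1 ▸ h1.mem_normalizer_img (hPQ.trans l1).le hx (m1 hx).2
  obtain ⟨C, c1', c2'⟩ := Jn.diamond hS ((hθ.img_lt hPQ).trans_le hθ.img_le) a2 b2
    fun N hN hc A φ hA => ih N hN (by omega) A φ (hA.trans ((hθ.mono hPQ.le).card_img.trans hn))
  exact ⟨C, a1.trans hPS c1', b1.trans (hφ.mono hPQ.le).img_le c2'⟩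

theorem Jb.trans (hS : IsPGroup p S) (hbig : ∀ U, U ≤ S → Nat.card Q < Nat.card U → SatClass F p U)
    (hP : P ≤ S) (hQ : Q < S) (hR : R ≤ S) (h1 : Jb F P Q) (h2 : Jb F Q R) : Jb F P R := by
  obtain ⟨A, a1, a2⟩ := h1
  obtain ⟨B, b1, b2⟩ := h2
  obtain ⟨C, c1, c2⟩ := Jn.diamond hS hQ a2 b1
    fun N hN _ A φ hA => join_edge hS hbig N hN A φ hA
  exact ⟨C, a1.trans hP c1, b2.trans hR c2⟩

/-- composites of restrictions of maps defined on larger subgroups -/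
inductive Up (F : FusionSystem S) : Subgroup Ω → (Ω → Ω) → Prop
  | base {P Q : Subgroup Ω} {f g : Ω → Ω} : P < Q → Mor F Q f → (∀ x ∈ P, f x = g x) → Up F P g
  | comp {P : Subgroup Ω} {f g k : Ω → Ω} : Up F P f → Up F (img f P) g → (∀ x ∈ P, g (f x) = k x) → Up F P k

theorem Up.mor (h : Up F P f) : Mor F P f := by
  induction h with
  | base h hf e => exact (hf.mono h.le).congr e
  | comp _ _ e h1 h2 => exact (h1.comp h2 fun x hx => subset_img hx).congr e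

theorem Up.congr (h : Up F P f) (e : ∀ x ∈ P, f x = g x) : Up F P g := by
  cases h with
  | base h hf e' => exact .base h hf fun x hx => (e' x hx).trans (e x hx)
  | comp h1 h2 e' => exact .comp h1 h2 fun x hx => (e' x hx).trans (e x hx)

theorem Up.inv (h : Up F P f) : ∀ g, (∀ x ∈ P, g (f x) = x) → Up F (img f P) g := by
  induction h with
  | @base P Q f k h hf e =>
    intro g eg
    obtain ⟨i, hi, i1, -⟩ := hf.inv
    rw [← img_congr e]
    refine .base (hf.img_lt h) hi fun y hy => ?_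
    obtain ⟨x, hx, rfl⟩ := (hf.mono h.le).mem_img.1 hy
    rw [i1 x (h.le hx), e x hx, eg x hx]
  | @comp P f g k h1 h2 e ih1 ih2 =>
    intro j ej
    obtain ⟨i1, -, e1, -⟩ := h1.mor.inv
    obtain ⟨i2, -, e2, -⟩ := h2.mor.inv
    have h3 := ih2 i2 e2
    have h4 := ih1 i1 e1
    rw [← img_congr e, h1.mor.img_comp']
    refine .comp (g := i1) h3 (by rwa [h2.mor.img_inv_img le_rfl e2]) fun y hy => ?_
    obtain ⟨z, hz, rfl⟩ := h2.mor.mem_img.1 hy
    obtain ⟨x, hx, rfl⟩ := h1.mor.mem_img.1 hz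
    rw [e2 _ hz, e1 x hx, e x hx, ej x hx]

theorem eq_or_lt_of_card (hP : P ≤ S) (hQ : Q < S) (h : Nat.card P = Nat.card Q) : P < S :=
  lt_of_le_of_ne hP fun e => by
    rw [e] at h; exact (card_lt_of_lt hQ).ne' h

theorem Up.jb (hS : IsPGroup p S) (h : Up F P f)
    (hbig : ∀ U, U ≤ S → Nat.card P < Nat.card U → SatClass F p U) : P < S ∧ Jb F P (img f P) := by
  induction h with
  | @base P Q f k h hf e =>
    have := finite_of_le hf.le
    have hl := lt_normalizerIn (pgroup_of_le hS hf.le) h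
    refine ⟨h.trans_le hf.le, ?_⟩
    rw [← img_congr e]
    exact join_edge hS hbig _ (normalizerIn_le.trans hf.le) P f rfl hl (normalizerIn_mono hf.le)
      (hf.mono normalizerIn_le)
  | @comp P f g k h1 h2 e ih1 ih2 =>
    obtain ⟨a1, a2⟩ := ih1 hbig
    have hb : ∀ U, U ≤ S → Nat.card (img f P) < Nat.card U → SatClass F p U := by
      rwa [h1.mor.card_img]
    obtain ⟨b1, b2⟩ := ih2 hb
    rw [← img_congr e, h1.mor.img_comp']
    exact ⟨a1, a2.trans hS hb a1.le b1 h2.mor.img_le b2⟩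

theorem Jb.jn (hQ : Q ≤ S) (h : Jb F Q P) (hP : F.IsFullyNormalized P) : Jn F Q P := by
  obtain ⟨C, c1, c2⟩ := h
  exact c1.trans hQ (c2.symm hP)

/-- maps on `P` extending to `hat P` -/
def Ex (F : FusionSystem S) (p : ℕ) (P : Subgroup Ω) (f : Ω → Ω) : Prop :=
  ∃ g, Mor F (hat F p P) g ∧ ∀ x ∈ P, g x = f x

theorem Ex.congr (h : Ex F p P f) (e : ∀ x ∈ P, f x = g x) : Ex F p P g := by
  obtain ⟨k, hk, e'⟩ := h
  exact ⟨k, hk, fun x hx => (e' x hx).trans (e x hx)⟩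

theorem Mor.img_hat (hS : IsPGroup p S) (hP : P ≤ S) (hg : Mor F (hat F p P) g) (e : img g P = P) :
    img g (hat F p P) = hat F p P := by
  have := finite_of_le (hat_le.trans normalizerIn_le : hat F p P ≤ S)
  refine hg.img_eq_self fun x hx => ?_
  have := hg.hat_mem (le_hat hS hP) hx hx
  rwa [e] at this

theorem Ex.comp (hS : IsPGroup p S) (hP : P ≤ S) (h1 : Ex F p P f) (h2 : Ex F p P g)
    (e : img f P = P) : Ex F p P (fun x => g (f x)) := by
  obtain ⟨k, hk, e1⟩ := h1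
  obtain ⟨l, hl, e2⟩ := h2
  refine ⟨_, hk.comp hl fun x hx => ?_, fun x hx => ?_⟩
  · rw [← hk.img_hat hS hP ((img_congr e1).trans e)]; exact subset_img hx
  · show l (k x) = _
    rw [e1 x hx, e2 _ (e ▸ subset_img hx)]

theorem Ex.inv (hS : IsPGroup p S) (hP : P ≤ S) (h1 : Ex F p P f) (e : img f P = P)
    (eg : ∀ x ∈ P, g (f x) = x) : Ex F p P g := by
  obtain ⟨k, hk, e1⟩ := h1
  have e' := (img_congr e1).trans e
  obtain ⟨i, hi, i1, -⟩ := hk.inv' (hk.img_hat hS hP e')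
  refine ⟨i, hi, fun y hy => ?_⟩
  obtain ⟨x, hx, rfl⟩ := (hk.mono (le_hat hS hP)).mem_img.1 (e'.symm ▸ hy)
  rw [i1 x (le_hat hS hP hx), e1 x hx, eg x hx]

theorem resImg_le_autGroup (hP : P ≤ Q) (hQ : Q ≤ S) {A : Subgroup (MulAut Q)}
    (hA : A ≤ F.autGroup Q) : resImg hP A ≤ F.autGroup P := by
  intro α hα
  obtain ⟨β, hβ, e⟩ := (mem_resImg hP).1 hα
  exact (((mem_autGroup hQ).1 (hA hβ)).mono hP).mem_autGroup fun x hx => (e x hx).symm

theorem resImg_le_autInducedBy (hP : P ≤ Q) {A : Subgroup (MulAut Q)}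
    (hA : A ≤ autInducedBy T Q) : resImg hP A ≤ autInducedBy T P := by
  intro α hα
  obtain ⟨β, hβ, e⟩ := (mem_resImg hP).1 hα
  obtain ⟨s, hs, es⟩ := mem_autInducedBy.1 (hA hβ)
  exact mem_autInducedBy.2 ⟨s, hs, fun x hx => by rw [← e x hx, es x (hP hx)]⟩

theorem resPre_conj (hP : P ≤ Q) (hQ : Q ≤ S) {K : Subgroup (MulAut P)}
    (hK : ∀ a ∈ F.autGroup P, ∀ n ∈ K, a * n * a⁻¹ ∈ K) {a n : MulAut Q}
    (ha : a ∈ F.autGroup Q ⊓ stabAut Q P) (hn : n ∈ resPre hP K) : a * n * a⁻¹ ∈ resPre hP K := by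
  obtain ⟨α, eα⟩ := exists_resAut hP ha.2
  obtain ⟨ν, hν, eν⟩ := (mem_resPre hP).1 hn
  have hα : α ∈ F.autGroup P := resImg_le_autGroup hP hQ inf_le_left ((mem_resImg hP).2 ⟨a, ha, eα⟩)
  refine (mem_resPre hP).2 ⟨_, hK α hα ν hν, fun x hx => ?_⟩
  have h1 := afun_mem α⁻¹ hx
  have h2 : afun a⁻¹ x = afun α⁻¹ x := by
    conv_lhs => rw [← afun_afun_inv α hx, ← eα _ h1, afun_inv_afun a (hP h1)]
  rw [afun_mul _ _ (hP hx), afun_mul _ _ hx, h2, afun_mul _ _ (hP h1), afun_mul _ _ h1, eν _ h1,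
    eα _ (afun_mem ν h1)]

theorem GP.ex (hS : IsPGroup p S) (h : GP F p Q P) (hPQ : P < Q) (hQ : Q ≤ normalizerIn S P)
    (ih : ∀ N, N ≤ S → Nat.card Q < Nat.card N → ∀ φ, P < N → N ≤ normalizerIn S P → Mor F N φ →
      img φ P = P → Ex F p P φ) {α : MulAut Q} (hα : α ∈ F.autGroup Q ⊓ stabAut Q P) :
    Ex F p P (afun α) := by
  have hQS := h.rcp.1
  have hPS := hPQ.le.trans hQS
  have hmα := (mem_autGroup hQS).1 hα.1
  by_cases hh : hat F p P ≤ Q
  · exact ⟨_, hmα.mono hh, fun _ _ => rfl⟩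
  have := finite_autGroup F hQS
  have : Finite (F.autGroup Q ⊓ stabAut Q P : Subgroup _) := finite_of_le inf_le_left
  set K := (F.autGroup Q ⊓ stabAut Q P) ⊓ resPre hPQ.le (autCore F p P) with hK
  have hKs : SylowIn p ((autInducedBy S Q ⊓ stabAut Q P) ⊓ K) K :=
    h.syl.inf_normal inf_le_left fun c hc d hd =>
      ⟨Subgroup.mul_mem _ (Subgroup.mul_mem _ hc hd.1) (Subgroup.inv_mem _ hc),
        resPre_conj hPQ.le hQS autCore_conj hc hd.2⟩
  have eα := img_afun_of_stab hPQ.le hα.2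
  obtain ⟨c, hc, ψ, hψ, e⟩ := exists_ext_mod hS h.rcp hKs (inf_le_left.trans inf_le_left)
    (inf_le_left.trans inf_le_left) hmα (img_afun α) (N := normalizerIn (hat F p P) Q)
    (normalizerIn_mono (hat_le.trans normalizerIn_le)) (by
      intro n hn β hβ eβ
      have h1 := ((mor_id F (hat_le.trans normalizerIn_le : hat F p P ≤ S)).le hn.1)
      obtain ⟨ν, eν⟩ := exists_cAut hn.2
      have hν : ν ∈ K := by
        obtain ⟨-, ν', hν', e'⟩ := mem_hat.1 hn.1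
        have e'' : ∀ x ∈ P, afun ν x = afun ν' x := fun x hx => by rw [eν x (hPQ.le hx), e' x hx]
        exact ⟨⟨autInducedBy_le_autGroup F hQS (mem_autInducedBy.2 ⟨n, h1, eν⟩),
          mem_stabAut_of_eq hPQ.le e''⟩, (mem_resPre _).2 ⟨ν', hν', e''⟩⟩
      have : β = α * ν * α⁻¹ := aut_ext fun x hx => by
        have h2 := afun_mem α⁻¹ hx
        rw [afun_mul _ _ hx, afun_mul _ _ h2, eν _ h2, ← eβ _ h2, afun_afun_inv α hx]
      rw [this]
      exact ⟨Subgroup.mul_mem _ (Subgroup.mul_mem _ hα hν.1) (Subgroup.inv_mem _ hα),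
        resPre_conj hPQ.le hQS autCore_conj hα hν.2⟩)
  have hn : Q ≤ Subgroup.normalizer (hat F p P : Set Ω) :=
    le_normalizer_of_conj_mem fun s hs x hx => by
      have := (mor_conj F le_rfl (hQS hs)).hat_mem hPS (hat_le hx).1 hx
      rwa [img_eq_of_afun (α := cAut P ⟨s, (hQ hs).2⟩) fun y hy => (afun_cAut _ hy).symm] at this
  have hlt := lt_normalizerIn_sup hS (hat_le.trans normalizerIn_le) hQS hn hh
  have := finite_of_le hψ.le
  have ec := img_afun_of_stab hPQ.le hc.1.2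
  have h1 := ih _ hψ.le (card_lt_of_lt hlt) ψ (hPQ.trans hlt)
    (sup_le (normalizerIn_le.trans hat_le) hQ) hψ (by
      rw [img_congr fun x hx => e x (hPQ.le hx), (hmα.mono hPQ.le).img_comp', eα, ec])
  have h2 : Ex F p P (afun c⁻¹) := by
    have := finite_of_le hQS
    have h3 := hKs.resImg hPQ.le (inf_le_left.trans inf_le_right)
    have h4 : resImg hPQ.le K ≤ autCore F p P := fun a ha => by
      obtain ⟨b, hb, eb⟩ := (mem_resImg _).1 ha
      obtain ⟨a', ha', ea'⟩ := (mem_resPre _).1 hb.2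
      rwa [aut_ext fun x hx => (eb x hx).symm.trans (ea' x hx)]
    obtain ⟨c', ec'⟩ := exists_resAut hPQ.le (K.inv_mem hc).1.2
    obtain ⟨s, hs, es⟩ := mem_autInducedBy.1 (resImg_le_autInducedBy hPQ.le
      (inf_le_left.trans inf_le_left) (h3.max _ le_rfl (pgroup_of_le autCore_pgroup h4) h3.le
        ((mem_resImg _).2 ⟨_, K.inv_mem hc, ec'⟩)))
    exact ⟨_, mor_conj F (hat_le.trans normalizerIn_le) hs, fun x hx => by
      rw [ec' x hx, es x hx]⟩
  refine (h1.comp hS hPS h2 (by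
      rw [img_congr fun x hx => e x (hPQ.le hx), (hmα.mono hPQ.le).img_comp', eα, ec])).congr
    fun x hx => ?_
  rw [e x (hPQ.le hx), afun_inv_afun _ (afun_mem α (hPQ.le hx))]

theorem exists_gp' (hS : IsPGroup p S) (hJ : ∀ P', F.IsConj P P' → Jn F P' P)
    (h : SatClass F p Q) (hP : P ≤ Q) (hQ : Q ≤ normalizerIn S P) :
    ∃ φ, Mor F Q φ ∧ img φ P = P ∧ GP F p (img φ Q) P := by
  obtain ⟨θ, hθ, hg⟩ := exists_gp hS h hP
  obtain ⟨ψ, hψ, e⟩ := hJ _ (hθ.mono hP).isConj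
  have h1 := hθ.img_le_normalizerIn hP hQ
  have h2 := hg.move hS (h.of_conj hθ.isConj) (img_mono hP) h1 hψ
  refine ⟨_, hθ.comp hψ fun x hx => h1 (subset_img hx), ?_, ?_⟩
  · rw [(hθ.mono hP).img_comp', e]
  · rwa [hθ.img_comp', ← e]

theorem ex_edge (hS : IsPGroup p S) (hbig : ∀ U, U ≤ S → Nat.card P < Nat.card U → SatClass F p U)
    (hJ : ∀ P', F.IsConj P P' → Jn F P' P) :
    ∀ Q, Q ≤ S → ∀ φ, P < Q → Q ≤ normalizerIn S P → Mor F Q φ → img φ P = P → Ex F p P φ := by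
  refine downward_induction ?_
  intro Q hQ ih φ hPQ hQN hφ eφ
  have hPS := hPQ.le.trans hQ
  rcases hQN.eq_or_lt with e | hlt
  · exact ⟨φ, hφ.mono (e ▸ hat_le), fun _ _ => rfl⟩
  have := finite_of_le hQ
  have := finite_of_le (normalizerIn_le : normalizerIn S P ≤ S)
  obtain ⟨i, hi, i1, i2, -, i4⟩ := hφ.inv
  have eP := hφ.img_inv_img hPQ.le i1
  rw [eφ] at eP
  have hle := hφ.img_le_normalizerIn hPQ.le hQN
  rw [eφ] at hle
  have hlt' : img φ Q < normalizerIn S P := lt_of_le_of_ne hle fun e => by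
    have := card_lt_of_lt hlt
    rw [← e, hφ.card_img] at this; exact lt_irrefl _ this
  obtain ⟨θ, hθ, eθ, hg⟩ := exists_gp' hS hJ (hbig Q hQ (card_lt_of_lt hPQ)) hPQ.le hQN
  have hPφ : P < img φ Q := eφ ▸ hφ.img_lt hPQ
  obtain ⟨N1, ψ1, l1, m1, h1, d1, e1⟩ := hg.step hS hθ hPQ.le rfl eθ hlt
  obtain ⟨N2, ψ2, l2, m2, h2, d2, e2⟩ := hg.step hS (hi.comp hθ i2) hPφ.le
    (by rw [hi.img_comp', i4]) (by rw [(hi.mono hPφ.le).img_comp', eP, eθ]) hlt'
  have := finite_of_le h1.le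
  have := finite_of_le h2.le
  have a1 := ih N1 h1.le (card_lt_of_lt l1) ψ1 (hPQ.trans l1) m1 h1 e1
  have a2 := ih N2 h2.le (hφ.card_img ▸ card_lt_of_lt l2) ψ2 (hPφ.trans l2) m2 h2 e2
  obtain ⟨j, hj, j1, j2, -⟩ := (h1.mono l1.le).inv' d1
  obtain ⟨k, hk, k1, -⟩ := h2.inv
  have hα := (hj.comp hφ j2).comp h2 fun x hx => l2.le (subset_img (j2 x hx))
  have := finite_of_le hθ.img_le
  obtain ⟨α, hαF, eα⟩ := hα.exists_aut
    (hα.img_eq_self fun x hx => d2 ▸ subset_img (subset_img (j2 x hx)))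
  have hPθ : P < img θ Q := eθ ▸ hθ.img_lt hPQ
  have m1' : ∀ x ∈ P, ψ1 x ∈ P := fun x hx => e1 ▸ subset_img hx
  have mφ : ∀ x ∈ P, φ x ∈ P := fun x hx => eφ ▸ subset_img hx
  have hst : α ∈ stabAut _ P := mem_stabAut_of_finite hPθ.le fun y hy => by
    obtain ⟨x, hx, rfl⟩ := (h1.mono (hPQ.trans l1).le).mem_img.1 (e1.symm ▸ hy)
    rw [eα _ (hPθ.le hy), j1 x (hPQ.le hx)]
    exact e2 ▸ subset_img (mφ x hx)
  have a3 := hg.ex hS hPθ (eθ ▸ hθ.img_le_normalizerIn hPQ.le hQN)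
    (fun N hN hc => ih N hN (hθ.card_img ▸ hc)) ⟨hαF, hst⟩
  have a4 := a2.inv hS hPS e2 fun x hx => k1 x ((hPφ.trans l2).le hx)
  refine ((a1.comp hS hPS a3 e1).comp hS hPS a4 ?_).congr fun x hx => ?_
  · rw [(h1.mono (hPQ.trans l1).le).img_comp', e1, img_afun_of_stab hPθ.le hst]
  · rw [eα _ (hPθ.le (m1' x hx)), j1 x (hPQ.le hx), k1 _ ((hPφ.trans l2).le (mφ x hx))]

theorem Up.ex (hS : IsPGroup p S) (hbig : ∀ U, U ≤ S → Nat.card P < Nat.card U → SatClass F p U)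
    (hJ : ∀ P', F.IsConj P P' → Jn F P' P) (h : Up F Q f) (hc : F.IsConj P Q) :
    ∀ ψ χ, Mor F (normalizerIn S Q) ψ → img ψ Q = P → Mor F (normalizerIn S (img f Q)) χ →
      img χ (img f Q) = P → ∃ g, Ex F p P g ∧ img g P = P ∧ ∀ x ∈ Q, g (ψ x) = χ (f x) := by
  induction h with
  | @base Q R f k h hf e =>
    intro ψ χ hψ eψ hχ eχ
    rw [← img_congr e] at hχ eχ
    have := finite_of_le hf.le
    have hl := lt_normalizerIn (pgroup_of_le hS hf.le) h
    have hm : normalizerIn R Q ≤ normalizerIn S Q := normalizerIn_mono hf.le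
    obtain ⟨i, hi, i1, i2, -⟩ := (hψ.mono hm).inv
    have hf' := hf.mono (normalizerIn_le : normalizerIn R Q ≤ R)
    have hg := (hi.comp hf' i2).comp hχ fun x hx =>
      hf'.img_le_normalizerIn hl.le hm (subset_img (i2 x hx))
    have hlt : P < img ψ (normalizerIn R Q) := eψ ▸ (hψ.mono hm).img_lt hl
    have eg : img (fun x => χ (f (i x))) P = P := by
      conv_lhs => rw [← eψ, ← ((hψ.mono hm).mono hl.le).img_comp']
      rw [img_congr (g := fun x => χ (f x)) fun x hx => by rw [i1 x (hl.le hx)],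
        (hf.mono h.le).img_comp', eχ]
    refine ⟨_, ex_edge hS hbig hJ _ hg.le _ hlt (eψ ▸ (hψ.mono hm).img_le_normalizerIn hl.le hm) hg eg,
      eg, fun x hx => ?_⟩
    rw [i1 x (hl.le hx), e x hx]
  | @comp Q f g k h1 h2 e ih1 ih2 =>
    intro ψ χ hψ eψ hχ eχ
    rw [← img_congr e, h1.mor.img_comp'] at hχ eχ
    have hc' := isConj_trans hc h1.mor.isConj
    obtain ⟨θ, hθ, eθ⟩ := hJ _ hc'
    obtain ⟨a, a1, a2, a3⟩ := ih1 hc ψ θ hψ eψ hθ eθ
    obtain ⟨b, b1, b2, b3⟩ := ih2 hc' θ χ hθ eθ hχ eχ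
    have hPS := isConj_le_left hc
    obtain ⟨a', ha', ea'⟩ := id a1
    refine ⟨_, a1.comp hS hPS b1 a2, ?_, fun x hx => ?_⟩
    · rw [img_congr (g := fun x => b (a' x)) fun x hx => by rw [ea' x hx],
        (ha'.mono (le_hat hS hPS)).img_comp', img_congr ea', a2, b2]
    · rw [a3 x hx, b3 _ (subset_img hx), e x hx]

theorem good_of_ex (hS : IsPGroup p S) (hP : P ≤ S) (hg : GP F p (hat F p P) P)
    (hJ : ∀ P', F.IsConj P P' → Jn F P' P) (h : ∀ α ∈ F.autGroup P, Ex F p P (afun α)) :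
    F.IsFullyAutomized p P ∧ F.IsReceptive P := by
  have hl := le_hat (F := F) hS hP
  have hH := hg.rcp.1
  have := finite_of_le hH
  have key : ∀ α ∈ F.autGroup P, ∃ β ∈ F.autGroup (hat F p P) ⊓ stabAut _ P,
      ∀ x ∈ P, afun β x = afun α x := fun α hα => by
    obtain ⟨g, hg, e⟩ := h α hα
    obtain ⟨β, hβ, eβ⟩ := hg.exists_aut (hg.img_hat hS hP (img_eq_of_afun e))
    have e' : ∀ x ∈ P, afun β x = afun α x := fun x hx => by rw [eβ x (hl hx), e x hx]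
    exact ⟨β, ⟨hβ, mem_stabAut_of_eq hl e'⟩, e'⟩
  constructor
  · have h3 := hg.syl.resImg hl inf_le_right
    rw [le_antisymm (resImg_le_autGroup hl hH inf_le_left) fun α hα =>
      (mem_resImg hl).2 (key α hα)] at h3
    have h4 := resImg_le_autInducedBy (T := S) hl
      (inf_le_left : autInducedBy S (hat F p P) ⊓ stabAut _ P ≤ _)
    rw [le_antisymm h4 (h3.max _ (autInducedBy_le_autGroup F hP) (autInducedBy_pgroup hS _) h4)] at h3
    exact isFullyAutomized_iff.2 ⟨hP, h3⟩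
  have ext : ∀ α ∈ F.autGroup P, ∃ g, Mor F (Next S P (afun α)) g ∧ ∀ x ∈ P, g x = afun α x := by
    intro α hα
    obtain ⟨β, hβ, eβ⟩ := key α hα
    have := finite_autGroup F hH
    have hB : autInducedBy S (hat F p P) ⊓ stabAut _ P ≤
        (F.autGroup (hat F p P) ⊓ stabAut _ P) ⊓ resPre hl (autInducedBy S P) :=
      le_inf hg.syl.le fun b hb => by
        obtain ⟨a, ea⟩ := exists_resAut hl hb.2
        exact (mem_resPre hl).2 ⟨a, resImg_le_autInducedBy hl inf_le_left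
          ((mem_resImg hl).2 ⟨b, hb, ea⟩), ea⟩
    obtain ⟨c, hc, ψ, hψ, e⟩ := exists_ext_mod hS hg.rcp (hg.syl.of_le hB inf_le_left) inf_le_left
      (inf_le_left.trans inf_le_left) ((mem_autGroup hH).1 hβ.1) (img_afun β)
      (N := Next S P (afun α)) (fun s hs => by
        have hs' := Next_le_normalizerIn hs
        refine ⟨hs'.1, mem_normalizer_of_finite fun x hx => ?_⟩
        have := (mor_conj F le_rfl hs'.1).hat_mem hP (hH hx) hx
        rwa [img_eq_of_afun (α := cAut P ⟨s, hs'.2⟩) fun y hy => (afun_cAut _ hy).symm] at this) (by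
      intro n hn γ hγ eγ
      obtain ⟨hn1, s, hs, es⟩ := mem_Next.1 hn
      have e1 : ∀ x ∈ P, afun γ x = s * x * s⁻¹ := fun x hx => by
        have h2 := afun_mem α⁻¹ hx
        conv_lhs => rw [← afun_afun_inv α hx, ← eβ _ h2, eγ _ (hl h2),
          eβ _ (conj_mem_of_mem_normalizerIn hn1 h2), es _ h2, afun_afun_inv α hx]
      have hst : γ ∈ stabAut _ P := mem_stabAut_of_finite hl fun x hx => by
        have h2 := afun_mem α⁻¹ hx
        rw [← afun_afun_inv α hx, ← eβ _ h2, eγ _ (hl h2), eβ _ (conj_mem_of_mem_normalizerIn hn1 h2)]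
        exact afun_mem _ (conj_mem_of_mem_normalizerIn hn1 h2)
      obtain ⟨a, ea⟩ := exists_resAut hl hst
      exact ⟨⟨hγ, hst⟩, (mem_resPre hl).2 ⟨a, mem_autInducedBy.2 ⟨s, hs, fun x hx => by
        rw [← ea x hx, e1 x hx]⟩, ea⟩⟩)
    obtain ⟨a, ha, ea⟩ := (mem_resPre hl).1 hc.2
    obtain ⟨s, hs, es⟩ := mem_autInducedBy.1 ha
    refine ⟨_, (hψ.mono le_sup_left).comp (mor_conj F le_rfl (S.inv_mem hs))
      fun x hx => hψ.mem (Subgroup.mem_sup_left hx), fun x hx => ?_⟩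
    rw [e x (hl hx), eβ x hx, ea _ (afun_mem α hx), es _ (afun_mem α hx)]; group
  refine isReceptive_iff.2 ⟨hP, fun Q f hf e => ?_⟩
  obtain ⟨ψ, hψ, eψ⟩ := hJ Q (isConj_symm (e ▸ hf.isConj))
  have hQN := le_normalizerIn hf.le
  obtain ⟨i, hi, i1, i2, -, i4⟩ := (hψ.mono hQN).inv' eψ
  obtain ⟨α, hα, eα⟩ := (hi.comp hf i2).exists_aut (by rw [hi.img_comp', i4, e])
  obtain ⟨g, hg, eg⟩ := ext α hα
  have mψ : ∀ x ∈ Q, ψ x ∈ P := fun x hx => eψ ▸ subset_img hx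
  refine ⟨_, (hψ.mono Next_le_normalizerIn).comp hg fun n hn => ?_, fun x hx => ?_⟩
  · obtain ⟨hn1, s, hs, es⟩ := mem_Next.1 hn
    refine mem_Next.2 ⟨eψ ▸ hψ.normalizerIn_mem hf.le hn1, s, hs, fun y hy => ?_⟩
    obtain ⟨x, hx, rfl⟩ := (hψ.mono hQN).mem_img.1 (eψ.symm ▸ hy)
    have h1 := conj_mem_of_mem_normalizerIn hn1 hx
    rw [← hψ.map_conj hn1 (hQN hx), eα _ (mψ _ h1), eα _ hy, i1 _ h1, i1 _ hx, es x hx]
  · show g (ψ x) = _
    rw [eg _ (mψ x hx), eα _ (mψ x hx), i1 x hx]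

theorem satClass_of_up (hS : IsPGroup p S) (hP : P ≤ S)
    (hbig : ∀ U, U ≤ S → Nat.card P < Nat.card U → SatClass F p U)
    (hup : ∀ Q f, F.IsConj P Q → Mor F Q f → Up F Q f)
    (hstar : ∃ Q, F.IsConj P Q ∧ ¬ hat F p Q ≤ Q) : SatClass F p P := by
  obtain ⟨P₀, h0, hn⟩ := exists_fullyNormalized F hP
  have hb : ∀ U, U ≤ S → Nat.card P₀ < Nat.card U → SatClass F p U := isConj_card h0 ▸ hbig
  have hJ : ∀ P', F.IsConj P₀ P' → Jn F P' P₀ := fun P' h => by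
    obtain ⟨f, hf, e⟩ := isConj_iff.1 (isConj_symm h)
    exact (e ▸ ((hup P' f (isConj_trans h0 h) hf).jb hS (isConj_card h ▸ hb)).2).jn hf.le hn
  have hlt : P₀ < hat F p P₀ := by
    obtain ⟨Q, hQ, hh⟩ := hstar
    obtain ⟨ψ, hψ, e⟩ := hJ Q (isConj_trans (isConj_symm h0) hQ)
    have hQN := le_normalizerIn (isConj_le_right hQ)
    refine lt_of_le_of_ne (le_hat hS hn.1) fun e' => hh fun x hx => ?_
    have := hψ.hat_mem hQN (hat_le hx) hx
    rw [e, ← e', ← e] at this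
    exact (hψ.apply_mem_img_iff hQN (hat_le hx)).1 this
  have hH : hat F p P₀ ≤ S := hat_le.trans normalizerIn_le
  have := finite_of_le hH
  obtain ⟨φ, hφ, eφ, hg⟩ := exists_gp' hS hJ (hb _ hH (card_lt_of_lt hlt)) hlt.le hat_le
  rw [hφ.img_hat hS hn.1 eφ] at hg
  refine ⟨P₀, h0, good_of_ex hS hn.1 hg hJ fun α hα => ?_⟩
  obtain ⟨g, h1, -, h3⟩ := (hup P₀ _ h0 ((mem_autGroup hn.1).1 hα)).ex hS hb hJ (isConj_refl F hn.1)
    _ _ (mor_id F normalizerIn_le) (img_id _) (mor_id F normalizerIn_le) (by rw [img_id, img_afun])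
  exact h1.congr h3

theorem up_of_gen {H : Subgroup Ω → Prop} (hP : P < S) (hH : ∀ Q, F.IsConj P Q → ¬ H Q)
    (hgen : ∀ E : FusionSystem S, (∀ Q f, H Q → Mor F Q f → Mor E Q f) → F ≤ E)
    (hc : F.IsConj P Q) (hf : Mor F Q f) : Up F Q f := by
  have D : SysData S (fun R f => Mor F R f ∧ ∀ Q, Q ≤ R → F.IsConj P Q → Up F Q f) :=
    SysData.ofSub F (fun h => h.1) (fun h => h.1.le) (fun h _ hx => h.1.mem hx)
      (fun h e => ⟨h.1.congr e, fun Q hQ hc => (h.2 Q hQ hc).congr fun x hx => e x (hQ hx)⟩)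
      (fun hR hs => ⟨mor_conj F hR hs, fun Q hQ hc => .base
        (eq_or_lt_of_card (hQ.trans hR) hP (isConj_card hc).symm) (mor_conj F le_rfl hs) fun _ _ => rfl⟩)
      (fun h1 h2 e => ⟨h1.1.comp h2.1 e, fun Q hQ hc => .comp (h1.2 Q hQ hc)
        (h2.2 _ (img_le_iff.2 fun x hx => e x (hQ hx)) (isConj_trans hc (h1.1.mono hQ).isConj))
          fun _ _ => rfl⟩)
      (by
        rintro R f g h hg e
        refine ⟨hg, fun Q hQ hc => ?_⟩
        have h1 : img g Q ≤ R := img_le_iff.2 fun y hy => by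
          obtain ⟨x, hx, rfl⟩ := h.1.mem_img.1 (hQ hy)
          rwa [e x hx]
        have h2 : ∀ y ∈ Q, f (g y) = y := fun y hy => by
          obtain ⟨x, hx, rfl⟩ := h.1.mem_img.1 (hQ hy)
          rw [e x hx]
        have h3 := (h.2 _ h1 (isConj_trans hc (hg.mono hQ).isConj)).inv g fun x hx => e x (h1 hx)
        rwa [(hg.mono hQ).img_inv_img le_rfl h2] at h3)
  refine (D.mor_iff.1 (le_iff_mor.1 (hgen D.sys fun R f hR hf => D.mor_iff.2 ⟨hf, fun Q hQ hc => ?_⟩)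
    Q f hf)).2 Q le_rfl hc
  exact .base (lt_of_le_of_ne hQ fun e => hH Q hc (e ▸ hR)) hf fun _ _ => rfl

theorem hsat {H : Subgroup Ω → Prop} (hS : IsPGroup p S)
    (hconj : ∀ P Q, H P → F.IsConj P Q → H Q) (hs : ∀ P, P ≤ S → H P → SatClass F p P)
    (hgen : ∀ E : FusionSystem S, (∀ Q f, H Q → Mor F Q f → Mor E Q f) → F ≤ E)
    (hstar : ∀ P, F.IsCentric P → ¬ H P → ∃ Q, F.IsConj P Q ∧ ¬ hat F p Q ≤ Q) :
    F.IsSaturated p := by
  refine downward_induction (S := S) (C := fun P => SatClass F p P) fun P hP ih => ?_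
  by_cases hH : H P
  · exact hs P hP hH
  have h1 : ∃ Q, F.IsConj P Q ∧ ¬ hat F p Q ≤ Q := by
    by_cases hc : F.IsCentric P
    · exact hstar P hc hH
    · by_contra hh
      push Not at hh
      exact hc ⟨hP, fun Q hQ => centralizerIn_le_hat.trans (hh Q hQ)⟩
  have hlt : P < S := lt_of_le_of_ne hP fun e => by
    obtain ⟨Q, hQ, hh⟩ := h1
    have : Q = S := by
      by_contra hne
      have := card_lt_of_lt (lt_of_le_of_ne (isConj_le_right hQ) hne)
      rw [← isConj_card hQ, e] at this; exact lt_irrefl _ this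
    exact hh ((hat_le.trans normalizerIn_le).trans this.ge)
  exact satClass_of_up hS hP ih (fun Q f hc hf => up_of_gen hlt
    (fun R hR h => hH (hconj R P h (isConj_symm hR))) hgen hc hf) h1

theorem not_hat_le (h : ¬ autInducedBy S Q ⊓ autCore F p Q ≤ Inn Q) : ¬ hat F p Q ≤ Q := by
  refine fun hh => h ?_
  rintro α ⟨h1, h2⟩
  obtain ⟨s, hs, e⟩ := mem_autInducedBy.1 h1
  exact mem_Inn.2 ⟨s, hh (mem_hat.2 ⟨hs, α, h2, e⟩), e⟩

end Cfsg.Agent.Fusion
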