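import Cfsg.Agent.Lib.Fusion.Sparse
import Cfsg.Agent.Lib.BG.Meta
import Cfsg.Agent.Lib.Solv.PCyc
import Cfsg.Agent.Lib.Solv.Super
import Cfsg.Agent.Lib.Transfer.PG
import Cfsg.Agent.S3736

/-! Groups in which all `p`-subgroups of a fixed order are closed under fusion. -/

set_option autoImplicit false
set_option linter.unusedSectionVars false
set_option linter.unusedVariables false
open Cfsg

namespace Cfsg.Agent.HSub

open Subgroup Cfsg.Agent.BG
open scoped commutatorElement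

universe u
variable {G : Type u} [Group G] [Finite G] {p : ℕ} [hp : Fact p.Prime]

theorem exists_btw {A B : Subgroup G} (hB : IsPGroup p B) (h : A ≤ B) {m : ℕ} (h1 : Nat.card A ≤ p ^ m)
    (h2 : p ^ m ≤ Nat.card B) : ∃ E, A ≤ E ∧ E ≤ B ∧ Nat.card E = p ^ m := by
  obtain ⟨a, ha⟩ := IsPGroup.iff_card.1 (hB.to_le h)
  obtain ⟨b, hb⟩ := IsPGroup.iff_card.1 hB
  rw [ha, Nat.pow_le_pow_iff_right hp.out.one_lt] at h1
  rw [hb, Nat.pow_le_pow_iff_right hp.out.one_lt] at h2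
  obtain ⟨K, h3, h4⟩ := Sylow.exists_subgroup_card_pow_prime_le p (hb ▸ pow_dvd_pow p h2) (A.subgroupOf B)
    ((Comp.card_subgroupOf h).trans ha) h1
  exact ⟨K.map B.subtype, (map_subgroupOf_eq_of_le h).ge.trans (map_mono h4), map_subtype_le _,
    (Comp.card_map_subtype K).trans h3⟩

theorem cyc_pow {C : Subgroup G} (hC : IsCyclic C) (hP : IsPGroup p C) :
    ∃ k, ∀ a ∈ Nm(C), (a ^ (p - 1)) ^ p ^ k ∈ Ct(C) := by
  obtain ⟨n, hn⟩ := IsPGroup.iff_card.1 hP
  refine ⟨n, fun a ha => ?_⟩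
  have h := Solv.pow_card_mulAut_mem_centralizer ha
  have : Nat.card (MulAut C) ∣ (p - 1) * p ^ n := by
    rw [hC.card_mulAut, hn]
    rcases n with _ | n
    · simp
    · rw [Nat.totient_prime_pow_succ hp.out, mul_comm]
      exact mul_dvd_mul_left _ (pow_dvd_pow p n.le_succ)
  obtain ⟨c, hc⟩ := this
  rw [← pow_mul, hc, pow_mul]
  exact pow_mem h c

theorem relIndex_of_card {M H : Subgroup G} (h : M ≤ H) (e : Nat.card H = p * Nat.card M) : M.relIndex H = p :=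
  Nat.eq_of_mul_eq_mul_right Nat.card_pos ((Comp.relIndex_mul_card h).trans e)

theorem sup_eq_of_relIndex {M E H : Subgroup G} (hH : IsPGroup p H) (h1 : M ≤ H) (h2 : E ≤ H)
    (hi : M.relIndex H = p) (hn : ¬ E ≤ M) : M ⊔ E = H := by
  refine eq_of_le_of_card_ge (sup_le h1 h2) ?_
  rw [← Comp.relIndex_mul_card h1, hi]
  exact mul_card_le_of_lt (hH.to_le (sup_le h1 h2)) (left_lt_sup.2 hn)

theorem special_exp {Q : Type u} [Group Q] [Finite Q] (h : IsSpecial 2 Q) (x : Q) : x ^ 4 = 1 := by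
  have h1 : ∀ y : Q, y ^ 2 ∈ center Q := fun y => h.2.1 ▸ Solv.pow_mem_frattini h.1 y
  have h2 : ∀ a b : Q, ⁅a, b⁆ ∈ center Q := fun a b => h.2.2.le (commutator_mem_commutator (mem_top a) (mem_top b))
  have h3 : ∀ z ∈ commutator Q, z ^ 2 = 1 := by
    intro z hz
    rw [commutator_eq_closure] at hz
    have : z ∈ center Q ∧ z ^ 2 = 1 := by
      induction hz using closure_induction with
      | mem z hz =>
        obtain ⟨a, b, rfl⟩ := hz
        refine ⟨h2 a b, ?_⟩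
        rw [← Transfer.comm_pow_left (mem_center_iff.1 (h2 a b) a).symm, commutatorElement_eq_one_iff_mul_comm]
        exact (mem_center_iff.1 (h1 a) b).symm
      | one => simp
      | mul a b _ _ ha hb =>
        exact ⟨mul_mem ha.1 hb.1, by rw [Commute.mul_pow (mem_center_iff.1 hb.1 a), ha.2, hb.2, one_mul]⟩
      | inv a _ ha => exact ⟨inv_mem ha.1, by rw [inv_pow, ha.2, inv_one]⟩
    exact this.2
  rw [show 4 = 2 * 2 from rfl, pow_mul]
  exact h3 _ (h.2.2.ge (h1 x))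

theorem core {P Q₀ : Subgroup G} (hP : IsPGroup p P) (hQ : Q₀ ≤ P) {𝒞 : Subgroup G → Prop} {k : ℕ}
    (hsup : ∀ A B, 𝒞 A → 𝒞 B → 𝒞 (A ⊔ B)) (hk : 1 ≤ k) (hk' : p ^ k < Nat.card P)
    (hd : ∀ E, E ≤ P → (Nat.card E = p ^ k ∨ (p ^ k = 2 ∧ Nat.card E = 4)) → 𝒞 E)
    {g : G} (hg : (orderOf g).Coprime p) (hgQ : g ∈ Nm(Q₀)) (hc : ∀ E, 𝒞 E → g ∈ Nm(E ⊓ Q₀))
    (hsec : ∀ H M, H ≤ P → 𝒞 H → 𝒞 M → M ≤ H → M.relIndex H = p → ⁅H ⊓ Q₀, zpowers g⁆ ≤ M)
    (hcyc : ∀ E, E ≤ P → 𝒞 E → IsCyclic E → g ∈ Ct(E ⊓ Q₀)) (hn : g ∉ Ct(Q₀)) :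
    𝒞 P ∧ ∀ M, M ≤ P → M.relIndex P = p → 𝒞 M := by
  obtain ⟨Q, hQ1, ⟨hQ2, hQ3⟩, hmin⟩ := Solv.exists_minimal_le
    (P := fun Q : Subgroup G => g ∈ Nm(Q) ∧ g ∉ Ct(Q)) ⟨hgQ, hn⟩
  have hQP := hQ1.trans hQ
  have hcb : ∀ U : Subgroup G, ⁅U, zpowers g⁆ = ⊥ ↔ g ∈ Ct(U) := fun U => by
    rw [commutator_eq_bot_iff_le, le_Ct_comm, zpowers_le]
  obtain ⟨r1, r2, -, r4⟩ := S3736.result (zpowers g) (zpowers g) Q (hP.to_le hQP) (zpowers_le.2 hQ2) le_rfl
    le_normalizer (by rwa [Nat.card_zpowers]) (fun h => hQ3 ((hcb Q).1 h)) fun U hU hU' => (hcb U).2 (by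
      by_contra h
      exact hU.ne (hmin U ⟨zpowers_le.1 hU', h⟩ hU.le))
  obtain ⟨x, hx, hxg⟩ : ∃ x ∈ Q, x * g ≠ g * x := by
    by_contra h
    push Not at h
    exact hQ3 (mem_Ct.2 h)
  have k1 : ∀ E, 𝒞 E → x ∈ E → Q ≤ E := fun E hE hxE => by
    have := hmin (E ⊓ Q₀ ⊓ Q) ⟨Transfer.mem_normalizer_inf (hc E hE) hQ2,
      fun h => hxg (mem_Ct.1 h x ⟨⟨hxE, hQ1 hx⟩, hx⟩)⟩ inf_le_right
    rw [← this]; exact inf_le_left.trans inf_le_left
  have k2 : ∀ E, E ≤ P → 𝒞 E → x ∈ E → ¬ IsCyclic E := fun E h1 hE hxE h =>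
    hxg (mem_Ct.1 (hcyc E h1 hE h) x ⟨hxE, hQ1 hx⟩)
  have hxP := zpowers_le.2 (hQP hx)
  have hx1 : x ≠ 1 := by rintro rfl; simp at hxg
  have k3 : Nat.card (zpowers x) ≤ p ^ k := by
    have e1 : x ^ p = 1 → Nat.card (zpowers x) ≤ p ^ k := fun h => by
      rw [Nat.card_zpowers, orderOf_eq_prime h hx1]; exact Nat.le_self_pow (by omega) p
    by_cases h2 : p = 2
    swap
    · exact e1 (r4 h2 x hx)
    subst h2
    rcases r2 with r2 | r2
    · exact e1 (r2.2 x hx)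
    have h4 : x ^ 2 ^ 2 = 1 := congrArg Subtype.val (special_exp r2 ⟨x, hx⟩)
    by_cases h5 : x ^ 2 = 1
    · exact e1 h5
    have h6 : Nat.card (zpowers x) = 4 := by
      rw [Nat.card_zpowers]; exact orderOf_eq_prime_pow (by simpa using h5) h4
    by_cases h7 : k = 1
    · exact absurd (inferInstance : IsCyclic (zpowers x)) (k2 _ hxP (hd _ hxP (Or.inr ⟨by simp [h7], h6⟩)) (mem_zpowers x))
    · rw [h6]; exact Nat.pow_le_pow_right (n := 2) two_pos (show 2 ≤ k by omega)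
  have kE : ∀ H, H ≤ P → x ∈ H → p ^ k ≤ Nat.card H → ∃ E, x ∈ E ∧ E ≤ H ∧ Nat.card E = p ^ k := fun H h1 h2 h3 =>
    let ⟨E, a, b, c⟩ := exists_btw (hP.to_le h1) (zpowers_le.2 h2) k3 h3
    ⟨E, a (mem_zpowers x), b, c⟩
  have kA : ∀ H, H ≤ P → x ∈ H → Nat.card H = p ^ (k + 1) → ∀ M, M ≤ H → Nat.card M = p ^ k → Q ≤ M := by
    intro H h1 h2 h3 M h4 h5
    obtain ⟨E, a, b, c⟩ := kE H h1 h2 (h3 ▸ Nat.pow_le_pow_right hp.out.pos k.le_succ)
    have hE := hd E (b.trans h1) (Or.inl c)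
    have hM := hd M (h4.trans h1) (Or.inl h5)
    by_cases h : E ≤ M
    · exact (k1 E hE a).trans h
    have hi := relIndex_of_card h4 (by rw [h3, h5, pow_succ'])
    have e := sup_eq_of_relIndex (hP.to_le h1) h4 b hi h
    rw [← r1]
    exact (commutator_mono (le_inf ((k1 E hE a).trans b) hQ1) le_rfl).trans (hsec H M h1 (e ▸ hsup M E hM hE) hM h4 hi)
  have kB : ∀ H, H ≤ P → x ∈ H → p ^ k < Nat.card H → ∀ M, M ≤ H → M.relIndex H = p →
      Q ≤ M ∧ p ^ k ≤ Nat.card M := by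
    intro H h1 h2 h3 M h4 h5
    have h6 : p ^ (k + 1) ≤ Nat.card H := by
      obtain ⟨n, hn⟩ := IsPGroup.iff_card.1 (hP.to_le h1)
      rw [hn] at h3 ⊢
      exact Nat.pow_le_pow_right hp.out.pos ((Nat.pow_lt_pow_iff_right hp.out.one_lt).1 h3)
    obtain ⟨H₀, a, b, c⟩ := exists_btw (hP.to_le h1) (zpowers_le.2 h2)
      (k3.trans (Nat.pow_le_pow_right hp.out.pos k.le_succ)) h6
    have h7 : p ^ k ≤ Nat.card (M ⊓ H₀ : Subgroup G) := by
      have e := Comp.relIndex_mul_card (inf_le_right : M ⊓ H₀ ≤ H₀)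
      rw [inf_relIndex_right, c, pow_succ'] at e
      have : M.relIndex H₀ ≤ p := h5 ▸ relIndex_le_of_le_right b (h5 ▸ hp.out.ne_zero)
      exact Nat.le_of_mul_le_mul_left (e.ge.trans (Nat.mul_le_mul_right _ this)) hp.out.pos
    obtain ⟨M₀, -, a', b'⟩ := exists_btw (hP.to_le (inf_le_right.trans (b.trans h1))) bot_le
      (by simp; exact Nat.one_le_pow _ _ hp.out.pos) h7
    exact ⟨(kA H₀ (b.trans h1) (a (mem_zpowers x)) c M₀ (a'.trans inf_le_right) b').trans (a'.trans inf_le_left),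
      h7.trans (card_le_of_le inf_le_left)⟩
  have kM : ∀ A H : Subgroup G, H ≤ P → A < H → ∃ M, A ≤ M ∧ M ≤ H ∧ M.relIndex H = p := fun A H h1 h2 => by
    obtain ⟨n, hn⟩ := IsPGroup.iff_card.1 (hP.to_le h1)
    rcases n with _ | n
    · exact absurd (eq_bot_of_card_eq _ hn) h2.ne_bot
    obtain ⟨M, a, b, c⟩ := exists_btw (hP.to_le h1) h2.le (card_le_pow_of_lt (hP.to_le h1) h2 hn.le)
      (hn ▸ Nat.pow_le_pow_right hp.out.pos n.le_succ)
    exact ⟨M, a, b, relIndex_of_card b (by rw [hn, c, pow_succ'])⟩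
  have kC : ∀ n (H : Subgroup G), Nat.card H = n → H ≤ P → x ∈ H → p ^ k ≤ Nat.card H → 𝒞 H := by
    intro n
    induction n using Nat.strong_induction_on with
    | _ n ih =>
    intro H hn h1 h2 h3
    rcases h3.eq_or_lt with h3 | h4
    · exact hd H h1 (Or.inl h3.symm)
    have ih' : ∀ M, M ≤ H → M.relIndex H = p → 𝒞 M := fun M a b => by
      obtain ⟨c, d⟩ := kB H h1 h2 h4 M a b
      refine ih _ (hn ▸ Comp.card_lt_of_lt (lt_of_le_of_ne a ?_)) M rfl (a.trans h1) (c hx) d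
      rintro rfl
      exact hp.out.one_lt.ne ((relIndex_self _).symm.trans b)
    obtain ⟨M, -, a, b⟩ := kM ⊥ H h1 (bot_lt_iff_ne_bot.2 fun h => hx1 (mem_bot.1 (h ▸ h2)))
    obtain ⟨y, hy, hyM⟩ : ∃ y ∈ H, y ∉ M := by
      by_contra h
      push Not at h
      exact hp.out.one_lt.ne ((relIndex_eq_one.2 h).symm.trans b)
    have h5 : zpowers y < H := lt_of_le_of_ne (zpowers_le.2 hy) fun h => by
      obtain ⟨E, c, d, e⟩ := kE H h1 h2 h3
      haveI : IsCyclic H := h ▸ inferInstance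
      exact k2 E (d.trans h1) (hd E (d.trans h1) (Or.inl e)) c (isCyclic_of_le d)
    obtain ⟨M', c, d, e⟩ := kM _ H h1 h5
    exact sup_eq_of_relIndex (hP.to_le h1) a d b (fun h => hyM (h (c (mem_zpowers y)))) ▸
      hsup _ _ (ih' M a b) (ih' M' d e)
  refine ⟨kC _ P rfl le_rfl (hQP hx) hk'.le, fun M a b => ?_⟩
  obtain ⟨c, d⟩ := kB P le_rfl (hQP hx) hk' M a b
  exact kC _ M rfl a (c hx) d

theorem frattini_eq {P : Subgroup G} (hP : IsPGroup p P) {x : G} (hx : x ∈ P)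
    (h : ∀ M, M ≤ P → M.relIndex P = p → x ∈ M) : x ∈ (frattini P).map P.subtype := by
  refine ⟨⟨x, hx⟩, Solv.mem_frattini_iff.2 fun M hM => ?_, rfl⟩
  have h1 : M.map P.subtype < P := lt_of_le_of_ne (map_subtype_le _) fun e => hM.1 (by
    rw [← comap_map_eq_self_of_injective P.subtype_injective M, e]; exact subgroupOf_self P)
  obtain ⟨n, hn⟩ := IsPGroup.iff_card.1 hP
  rcases n with _ | n
  · exact absurd (eq_bot_of_card_eq _ hn) h1.ne_bot
  obtain ⟨K, a, b, c⟩ := exists_btw hP h1.le (card_le_pow_of_lt hP h1 hn.le)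
    (hn ▸ Nat.pow_le_pow_right hp.out.pos n.le_succ)
  have hi := relIndex_of_card b (by rw [hn, c, pow_succ'])
  have h2 : M ≤ K.subgroupOf P := map_le_iff_le_comap.1 a
  rcases h2.eq_or_lt with e | e
  · rw [e]; exact h K b hi
  · have := hM.2 _ e
    rw [subgroupOf_eq_top] at this
    exact absurd ((relIndex_eq_one.2 this).symm.trans hi) hp.out.one_lt.ne

theorem cent_of_max {P : Subgroup G} (hP : IsPGroup p P) {g : G} (hg : (orderOf g).Coprime p) (hn : g ∈ Nm(P))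
    (h : ∀ M, M ≤ P → M.relIndex P = p → ⁅P, zpowers g⁆ ≤ M) : g ∈ Ct(P) := by
  refine zpowers_le.1 (Solv.coprime_frattini_le_centralizer ?_ (fun x hx => frattini_eq hP
    (Solv.commutator_le_left_of_le_normalizer (zpowers_le.2 hn) hx) fun M a b => h M a b hx) (zpowers_le.2 hn))
  obtain ⟨n, hn⟩ := IsPGroup.iff_card.1 (hP.to_subgroup (frattini P))
  rw [hn, Nat.card_zpowers]
  exact hg.pow_right n

theorem hsub {F P : Subgroup G} (hP : IsPGroup p P) (h1 : F ≤ P)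
    (h : ∀ g : G, F.map (MulAut.conj g).toMonoidHom ⊓ Nm(F) ≤ F) : P ≤ Nm(F) ∧ IsStronglyClosed F P := by
  have h2 : P ≤ Nm(F) := by
    by_contra hn
    obtain ⟨g, hg, a, b⟩ := Transfer.exists_mem_normalizer_notMem hP
      (lt_of_le_of_ne inf_le_left fun e => hn (e ▸ inf_le_right) : P ⊓ Nm(F) < P)
    refine b ⟨hg, Transfer.mem_normalizer_of_conj_mem fun x hx => h g ⟨⟨x, hx, rfl⟩, ?_⟩⟩
    exact ((mem_normalizer_iff.1 a x).1 ⟨h1 hx, le_normalizer hx⟩).2
  exact ⟨h2, h1, fun x hx g hg => h g ⟨⟨x, hx, rfl⟩, h2 hg⟩⟩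

theorem coprime_pred {g : G} (hg : (orderOf g).Coprime p) (hmin : ∀ q : ℕ, q.Prime → q ∣ Nat.card G → p ≤ q)
    (k : ℕ) : (orderOf g).Coprime ((p - 1) * p ^ k) := by
  refine Nat.Coprime.mul_right (Nat.coprime_of_dvd fun q hq h1 h2 => ?_) (hg.pow_right k)
  have := hmin q hq (h1.trans (orderOf_dvd_natCard g))
  have h3 := hp.out.two_le
  have := Nat.le_of_dvd (by omega) h2
  omega

theorem group_sc {S E : Subgroup G} (h : (groupFusionSystem S).StronglyClosed E) :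
    ∀ x ∈ E, ∀ g : G, g * x * g⁻¹ ∈ S → g * x * g⁻¹ ∈ E := by
  rw [Fusion.groupFusionSystem_eq, Fusion.stronglyClosed_sub_iff] at h
  exact fun x hx g => h.2 x hx g (mem_top g)

theorem npc (hmin : ∀ q : ℕ, q.Prime → q ∣ Nat.card G → p ≤ q) (P : Sylow p G) {k : ℕ} (hk : 1 ≤ k)
    (hk' : p ^ k < Nat.card P.1)
    (hd : ∀ E, E ≤ P.1 → (Nat.card E = p ^ k ∨ (p ^ k = 2 ∧ Nat.card E = 4)) → IsStronglyClosed E P.1) :
    HasNormalPComplement p G := by
  set F := groupFusionSystem P.1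
  have hF := Fusion.group_saturated P
  have hc : ∀ Q₀, Q₀ ≤ P.1 → ∀ g ∈ Nm(Q₀), ∀ E, F.StronglyClosed E → g ∈ Nm(E ⊓ Q₀) := fun Q₀ hQ g hg E hE =>
    Transfer.mem_normalizer_of_conj_mem fun x hx =>
      have a := (mem_normalizer_iff.1 hg x).1 hx.2
      ⟨group_sc hE x hx.1 g (hQ a), a⟩
  have hcy : ∀ {H : Type u} [Group H] [Finite H] (φ : H) (C : Subgroup H), IsCyclic C → IsPGroup p C → φ ∈ Nm(C) →
      (∀ k, (orderOf φ).Coprime ((p - 1) * p ^ k)) → φ ∈ Ct(C) := fun φ C h1 h2 h3 h4 => by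
    obtain ⟨k, hk⟩ := cyc_pow h1 h2
    exact Solv.mem_of_pow_mem_of_coprime_orderOf (pow_mul φ _ _ ▸ hk φ h3) (h4 k)
  have hsec : ∀ Q₀, Q₀ ≤ P.1 → ∀ g ∈ Nm(Q₀), (orderOf g).Coprime p → ∀ H M, H ≤ P.1 → F.StronglyClosed H →
      F.StronglyClosed M → M ≤ H → M.relIndex H = p → ⁅H ⊓ Q₀, zpowers g⁆ ≤ M := by
    intro Q₀ hQ g hg hg' H M h1 h2 h3 h4 h5
    have a1 := zpowers_le.2 (hc Q₀ hQ g hg H h2)
    have a2 := zpowers_le.2 (hc Q₀ hQ g hg M h3)
    have hq : H ⊓ Q₀ ⊔ zpowers g ≤ Nm(M ⊓ Q₀) := sup_le (Solv.le_normalizer_inf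
      (inf_le_left.trans (h1.trans (Fusion.StronglyClosed.le_normalizer h3))) (inf_le_right.trans le_normalizer)) a2
    have hX : IsPGroup p (H ⊓ Q₀ : Subgroup G) := P.2.to_le (inf_le_left.trans h1)
    have hcard : Nat.card (img hq (H ⊓ Q₀)) ≤ p := by
      rw [card_img le_sup_left, relIndex_congr_inf (B := M) (by rw [inf_comm M, ← inf_assoc, inf_assoc H, inf_idem])]
      exact h5 ▸ relIndex_le_of_le_right inf_le_left (h5 ▸ hp.out.ne_zero)
    have hcyc : IsCyclic (img hq (H ⊓ Q₀)) := by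
      by_cases e : img hq (H ⊓ Q₀) = ⊥
      · rw [e]; infer_instance
      · exact isCyclic_of_prime_card (card_eq_of_card_le (isPGroup_img hX) e hcard)
    have := hcy (qmap hq ⟨g, mem_sup_right (mem_zpowers g)⟩) _ hcyc (isPGroup_img hX)
      (img_le_normalizer a1 (qmap_mem_img (mem_zpowers g))) fun k =>
        (coprime_pred hg' hmin k).coprime_dvd_left ((orderOf_map_dvd _ _).trans (by simp))
    rw [← zpowers_le, ← img_zpowers, img_le_centralizer_iff le_sup_right le_sup_left, commutator_comm] at this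
    exact this.trans inf_le_left
  by_cases hM : F.StronglyClosed P.1 ∧ ∀ M, M ≤ P.1 → M.relIndex P.1 = p → F.StronglyClosed M
  · refine Fusion.hasNPC_of_isInner (Fusion.sylowIn_top P) (Fusion.inner_of_frattini P.2 hF
      (T := (frattini P.1).map P.1.subtype) ?_ (Solv.commutator_le_map_frattini P.2.isNilpotent) le_rfl ?_)
    · refine Fusion.stronglyClosed_iff.2 ⟨map_subtype_le _, fun X f hf x hx hx' => frattini_eq P.2 (hf.mem hx) ?_⟩
      intro M a b
      refine (Fusion.stronglyClosed_iff.1 (hM.2 M a b)).2 X f hf x hx (Solv.map_frattini_le_of_lt ?_ ?_ hx')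
      · exact lt_of_le_of_ne a fun e => hp.out.one_lt.ne ((relIndex_eq_one.2 e.ge).symm.trans b)
      · exact fun K h1 h2 => (sup_eq_right.2 h1.le).symm.trans (sup_eq_of_relIndex P.2 a h2 b h1.not_ge)
    · intro X f hf h1 _ h2
      obtain ⟨h3, h4, g, e⟩ := Fusion.mor_group_iff.1 hf
      obtain ⟨s, hs, a, ha, rfl⟩ := ((Transfer.isSyl_top P).mono le_normalizer le_top).exists_mul_res
        (Fusion.mem_normalizer_of_img (fun x hx => e x (h1 hx)) h2)
      have : a ∈ Ct(P.1) := Transfer.res_le_iff.2 (fun g hg hg' => cent_of_max P.2 hg' hg fun M a b => by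
        simpa using hsec P.1 le_rfl g hg hg' P.1 M le_rfl hM.1 (hM.2 M a b) a b) ha
      rw [Fusion.innerFusionSystem_eq]
      refine Fusion.mor_subgroup_iff.2 ⟨h3, h4, s, hs, fun x hx => ?_⟩
      rw [e x hx, mul_assoc s a x, ← mem_Ct.1 this x (h3 hx)]; group
  · refine Transfer.hasNPC_of_res_normalizer_le P fun B hB _ => Transfer.res_le_iff.2 fun g hg hg' => ?_
    by_contra hn
    exact hM (core P.2 hB (fun A B => Fusion.stronglyClosed_sup P.2 hF) hk hk'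
      (fun E a b => Fusion.sc_group (hd E a b)) hg' hg (hc B hB g hg) (hsec B hB g hg hg')
      (fun E a b c => hcy g _ (isCyclic_of_le inf_le_left) (P.2.to_le (inf_le_left.trans a)) (hc B hB g hg E b)
        (coprime_pred hg' hmin)) hn)

theorem ss_main {Q : Subgroup G} [Q.Normal] (hQ : IsPGroup p Q) (hq : IsSupersolvable (G ⧸ Q)) {k : ℕ}
    (hk : 1 ≤ k) (hk' : p ^ k < Nat.card Q)
    (hd : ∀ E, E ≤ Q → (Nat.card E = p ^ k ∨ (p ^ k = 2 ∧ Nat.card E = 4)) → E.Normal) : IsSupersolvable G := by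
  set A : Subgroup G := ⁅(⊤ : Subgroup G), (⊤ : Subgroup G)⁆ ⊔ normalClosure {x | ∃ a, x = a ^ (p - 1)}
  have hn : ∀ (N : Subgroup G) [N.Normal] (g : G), g ∈ Nm(N) := fun N _ g => le_normalizer_of_normal (mem_top g)
  have hsec : ∀ g ∈ A, ∀ H M : Subgroup G, H.Normal → M.Normal → M ≤ H → M.relIndex H = p →
      ⁅H, zpowers g⁆ ≤ M := by
    intro g hg H M _ _ h1 h2
    have hc : Nat.card (H.map (QuotientGroup.mk' M)) = p := by rw [Solv.card_map_mk_eq_relIndex, h2]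
    haveI : (H.map (QuotientGroup.mk' M)).Normal := Normal.map inferInstance _ (QuotientGroup.mk'_surjective M)
    have : A ≤ Ct(H.map (QuotientGroup.mk' M)).comap (QuotientGroup.mk' M) := by
      refine sup_le ?_ (normalClosure_le_normal ?_)
      · rw [← map_le_iff_le_comap, map_commutator]
        exact le_Ct_of_isCyclic (isCyclic_of_prime_card hc) le_normalizer_of_normal le_normalizer_of_normal
      · rintro _ ⟨a, rfl⟩
        exact mem_comap.2 (map_pow (QuotientGroup.mk' M) a _ ▸ Solv.pow_sub_one_mem_centralizer_of_card_prime hp.out hc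
          (le_normalizer_of_normal (mem_top _)))
    rw [← Solv.map_mk_eq_bot_iff M, map_commutator, commutator_comm, commutator_eq_bot_iff_le, MonoidHom.map_zpowers,
      zpowers_le]
    exact this hg
  have hcyc : ∀ g ∈ A, (orderOf g).Coprime p → ∀ E : Subgroup G, E ≤ Q → E.Normal → IsCyclic E → g ∈ Ct(E) := by
    intro g hg hg' E h1 _ h2
    obtain ⟨m, hm⟩ := cyc_pow h2 (hQ.to_le h1)
    have hd : ⁅(⊤ : Subgroup G), ⊤⁆ ≤ Ct(E) := le_Ct_of_isCyclic h2 le_normalizer_of_normal le_normalizer_of_normal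
    haveI : IsMulCommutative (G ⧸ Ct(E)) := Normal.quotient_commutative_iff_commutator_le.2 hd
    let φ : G →* G ⧸ Ct(E) := MonoidHom.mk' (fun a => QuotientGroup.mk (a ^ p ^ m)) fun a b => by
      simp only [QuotientGroup.mk_pow, QuotientGroup.mk_mul]
      exact Commute.mul_pow (mul_comm' _ _) _
    have : A ≤ φ.ker := sup_le (fun a ha => (QuotientGroup.eq_one_iff _).2 (pow_mem (hd ha) _))
      (normalClosure_le_normal (by rintro _ ⟨a, rfl⟩; exact (QuotientGroup.eq_one_iff _).2 (hm a (hn E a))))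
    exact Solv.mem_of_pow_mem_of_coprime_orderOf ((QuotientGroup.eq_one_iff _).1 (this hg)) (hg'.pow_right m)
  have hA : Transfer.res p A ≤ Ct(Q) := Transfer.res_le_iff.2 fun g hg hg' => by
    by_contra h
    have := core hQ le_rfl (𝒞 := fun E => E.Normal) (fun _ _ _ _ => inferInstance) hk hk' hd hg' (hn Q g)
      (fun E _ => hn _ g) (fun H M _ a b c d => (commutator_mono inf_le_left le_rfl).trans (hsec g hg H M a b c d))
      (fun E a b c => centralizer_le inf_le_left (hcyc g hg hg' E a b c)) h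
    exact h (cent_of_max hQ hg' (hn Q g) fun M a b => hsec g hg Q M inferInstance (this.2 M a b) a b)
  refine Solv.ss_of_quotient_of_step Q hq fun M _ hM => ?_
  set π := QuotientGroup.mk' M
  have hs := QuotientGroup.mk'_surjective M
  haveI : (Q.map π).Normal := Normal.map inferInstance _ hs
  haveI : (A.map π).Normal := Normal.map inferInstance _ hs
  obtain ⟨V, h1, h2, h3, h4⟩ := Solv.exists_minimal_normal_le (Q.map π) (by rwa [Ne, Solv.map_mk_eq_bot_iff])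
  have hV : IsPGroup p V := (hQ.map π).to_le h1
  haveI := hV.isNilpotent
  obtain ⟨hc, q, hq', he⟩ := Solv.minimal_normal_elementary V inferInstance h3 h4
  obtain rfl : q = p := by
    obtain ⟨x, hx, hx1⟩ := Solv.exists_ne_one_of_ne_bot h3
    have := Fact.mk hq'
    exact Solv.eq_of_isPGroup_of_dvd hV hq' (orderOf_eq_prime (he x hx) hx1 ▸ Solv.orderOf_dvd_card_of_mem hx)
  have h5 : A.map π ≤ Ct(V) := by
    obtain ⟨T, hT⟩ := Transfer.exists_isSyl q A
    have h6 := Comp.inf_centralizer_ne_bot (hT.pgroup.map π) hV le_normalizer_of_normal h3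
    have h7 : V ⊓ Ct(T.map π) ≤ V ⊓ Ct(A.map π) := fun v hv => ⟨hv.1, mem_Ct.2 (by
      rintro _ ⟨a, ha, rfl⟩
      obtain ⟨s, hs, b, hb, rfl⟩ := hT.exists_mul_res ha
      obtain ⟨w, hw, rfl⟩ := h1 hv.1
      have e1 : Commute (π s) (π w) := mem_Ct.1 hv.2 _ ⟨s, hs, rfl⟩
      have e2 : Commute (π b) (π w) := (Commute.map (mem_Ct.1 (hA hb) w hw) π).symm
      rw [map_mul]; exact e1.mul_left e2)⟩
    rw [le_Ct_comm, ← inf_eq_left]
    exact (h4 _ inferInstance inf_le_left).resolve_left fun h => h6 (eq_bot_iff.2 (h ▸ h7))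
  have h6 := Solv.card_eq_prime_of_irreducible (p := q) ⟨hc, he⟩ h3 (L := ⊤) le_normalizer_of_normal
    (fun a _ => h5 (by
      obtain ⟨a, rfl⟩ := hs a
      exact ⟨a ^ (q - 1), mem_sup_right (subset_normalClosure ⟨a, rfl⟩), map_pow _ _ _⟩))
    (le_trans (by rw [← map_top_of_surjective π hs, ← map_commutator]; exact map_mono le_sup_left) h5)
    fun U a b => h4 U (normalizer_eq_top_iff.1 (eq_top_iff.2 b)) a
  obtain ⟨v, hv1, rfl⟩ := (el_one_iff.2 h6).exists_zpowers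
  obtain ⟨g, rfl⟩ := hs v
  refine ⟨g, fun h => h3 ?_, ?_⟩
  · rw [zpowers_eq_bot]; exact (QuotientGroup.eq_one_iff _).2 h
  · have := h2.comap π
    rwa [← MonoidHom.map_zpowers, comap_map_eq, QuotientGroup.ker_mk', sup_comm] at this

theorem exists_k {D P : Subgroup G} (hP : IsPGroup p P) (h : D ≤ P) (h1 : 1 < Nat.card D) :
    ∃ k, 1 ≤ k ∧ Nat.card D = p ^ k := by
  obtain ⟨k, hk⟩ := IsPGroup.iff_card.1 (hP.to_le h)
  exact ⟨k, Nat.one_le_iff_ne_zero.2 fun e => by simp [hk, e] at h1, hk⟩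

def Hyp (E : Subgroup G) : Prop :=
  ∀ (p : ℕ), p.Prime → ∀ P : Subgroup G, P ≤ E → IsPGroup p P → ¬ p ∣ P.relIndex E → ¬ IsCyclic ↥P →
    ∃ D : Subgroup G, D ≤ P ∧ 1 < Nat.card D ∧ Nat.card D < Nat.card P ∧
      ∀ F : Subgroup G, F ≤ P → (Nat.card F = Nat.card D ∨ (Nat.card D = 2 ∧ Nat.card F = 4)) →
        ∀ g : G, F.map (MulAut.conj g).toMonoidHom ⊓ Subgroup.normalizer (F : Set G) ≤ F

theorem ss (n : ℕ) : ∀ (E : Subgroup G) [E.Normal], Nat.card E = n → IsSupersolvable (G ⧸ E) → Hyp E →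
    IsSupersolvable G := by
  induction n using Nat.strong_induction_on with
  | _ n ih =>
  intro E _ hn hq h
  by_cases h0 : E = ⊥
  · subst h0
    exact Solv.ss_of_surjective hq (f := QuotientGroup.quotientBot.toMonoidHom) QuotientGroup.quotientBot.surjective
  have h1 : Nat.card E ≠ 1 := fun e => h0 (eq_bot_of_card_eq _ e)
  set p := (Nat.card E).minFac
  haveI hp : Fact p.Prime := ⟨Nat.minFac_prime h1⟩
  have hmin : ∀ q : ℕ, q.Prime → q ∣ Nat.card E → p ≤ q := fun q hq h => Nat.minFac_le_of_dvd hq.two_le h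
  obtain ⟨S⟩ : Nonempty (Sylow p E) := inferInstance
  have hP := Transfer.isSyl_map_subtype S
  set P := S.1.map E.subtype
  have key : IsCyclic P ∨ ∃ k, 1 ≤ k ∧ p ^ k < Nat.card P ∧ ∀ F, F ≤ P →
      (Nat.card F = p ^ k ∨ (p ^ k = 2 ∧ Nat.card F = 4)) → P ≤ Nm(F) ∧ IsStronglyClosed F P := by
    refine or_iff_not_imp_left.2 fun hc => ?_
    obtain ⟨D, a, b, c, d⟩ := h p hp.out P hP.le hP.pgroup hP.not_dvd hc
    obtain ⟨k, hk, e⟩ := exists_k hP.pgroup a b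
    exact ⟨k, hk, e ▸ c, fun F a b => hsub hP.pgroup a (d F a (e ▸ b))⟩
  have hE : HasNormalPComplement p E := by
    rcases key with hc | ⟨k, a, b, c⟩
    · exact hasNPC_of_isCyclic_of_min (Comp.sylIn_sylow S) hc hmin
    · refine npc hmin S a (by rwa [Comp.card_map_subtype] at b) fun F h1 h2 => ⟨h1, fun x hx g hg => ?_⟩
      obtain ⟨y, hy, e⟩ := (c (F.map E.subtype) (map_mono h1) (by rwa [Comp.card_map_subtype])).2.2 x ⟨x, hx, rfl⟩ g
        ⟨_, hg, rfl⟩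
      exact (Subtype.ext e : y = g * x * g⁻¹) ▸ hy
  set K := Transfer.res p E
  haveI : K.Normal := normalizer_eq_top_iff.1 (eq_top_iff.2 (le_normalizer_of_normal.trans (Transfer.normalizer_le_normalizer_res E)))
  have hKE : K ≤ E := Transfer.res_le E
  have hK : ¬ p ∣ Nat.card K := Transfer.hasNPC_sub_iff.1 hE
  have hPK : P ⊓ K = ⊥ := hP.hasNPC_iff.1 hE
  set π := QuotientGroup.mk' K
  have hs := QuotientGroup.mk'_surjective K
  have hEP : E.map π = P.map π := by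
    rw [← hP.res_sup, Subgroup.map_sup, QuotientGroup.map_mk'_self, bot_sup_eq]
  haveI : (E.map π).Normal := Normal.map inferInstance _ hs
  have hq' : IsSupersolvable ((G ⧸ K) ⧸ E.map π) := Solv.ss_of_surjective hq
    (f := (QuotientGroup.quotientQuotientEquivQuotient K E hKE).symm.toMonoidHom) (MulEquiv.surjective _)
  have hcard : ∀ F, F ≤ P → Nat.card (F.map π) = Nat.card F := fun F hF => by
    have := Solv.card_map_mul_card_inf_ker π F
    rwa [QuotientGroup.ker_mk', eq_bot_iff.2 (hPK ▸ inf_le_inf_right K hF : F ⊓ K ≤ ⊥), card_bot, mul_one] at this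
  refine ih _ (hn ▸ Comp.card_lt_of_lt (lt_of_le_of_ne hKE fun e => hK (e ▸ Nat.minFac_dvd _))) K rfl ?_ ?_
  · rcases key with hc | ⟨k, a, b, c⟩
    · exact Solv.ss_of_isCyclic_of_quotient (E.map π) (hEP ▸ isCyclic_of_surjective _ (π.subgroupMap_surjective P)) hq'
    refine ss_main (hEP ▸ hP.pgroup.map π) hq' a (by rwa [hEP, hcard P le_rfl]) fun F h1 h2 => ?_
    have e : (P ⊓ F.comap π).map π = F := by
      refine le_antisymm (map_le_iff_le_comap.2 inf_le_right) fun y hy => ?_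
      obtain ⟨x, hx, rfl⟩ := hEP.le (h1 hy)
      exact ⟨x, ⟨hx, hy⟩, rfl⟩
    obtain ⟨c1, c2⟩ := c (P ⊓ F.comap π) inf_le_left (by rwa [← hcard _ inf_le_left, e])
    refine ⟨fun x hx g => ?_⟩
    obtain ⟨g, rfl⟩ := hs g
    rw [← e] at hx ⊢
    obtain ⟨x, hx, rfl⟩ := hx
    have h3 : g * x * g⁻¹ ∈ E := (inferInstance : E.Normal).conj_mem x (hP.le hx.1) g
    obtain ⟨u, hu, h4⟩ := hP.exists_cj_le (Transfer.IsPGroup.cj (hP.pgroup.to_le (zpowers_le.2 hx.1)) g)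
      (by rw [Transfer.cj_zpowers]; exact zpowers_le.2 h3)
    have h5 := c2.2 x hx (u * g) (h4 (Transfer.cj_cj u g _ ▸ Transfer.conj_mem_cj (mem_zpowers x)))
    obtain ⟨s, hs, e'⟩ := hEP.le ⟨u, hu, rfl⟩
    refine ⟨_, (mem_normalizer_iff.1 (c1 (P.inv_mem hs)) _).1 h5, ?_⟩
    simp only [map_mul, map_inv, e']; group; rfl
  · intro r hr R a b c d
    refine h r hr R (a.trans hKE) b (fun e => ?_) d
    obtain ⟨m, hm⟩ := Transfer.relIndex_res (p := p) E
    rw [← relIndex_mul_relIndex R K E a hKE, hr.dvd_mul, hm, or_iff_right c] at e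
    obtain rfl := (Nat.prime_dvd_prime_iff_eq hr hp.out).1 (hr.dvd_of_dvd_pow e)
    obtain ⟨j, hj⟩ := IsPGroup.iff_card.1 b
    rcases j with _ | j
    · exact d (by rw [eq_bot_of_card_eq _ hj]; infer_instance)
    · exact hK ((hj ▸ dvd_pow_self _ j.succ_ne_zero).trans (card_dvd_of_le a))

end Cfsg.Agent.HSub
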