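import Cfsg.Agent.Lib.Fusion.Iso

/-! Invariant, weakly normal, normal and subnormal subsystems. -/

set_option autoImplicit false

namespace Cfsg.Agent.Fusion

open Cfsg Cfsg.FusionSystem

variable {Ω : Type*} [Group Ω] {S : Subgroup Ω} {F : FusionSystem S} {P Q R T U : Subgroup Ω}
  {f g : Ω → Ω} {p : ℕ} {E : FusionSystem T}

theorem img_afun_eq_map (hP : P ≤ T) (α : MulAut T) :
    img (afun α) P = (P.subgroupOf T).map (T.subtype.comp α.toMonoidHom) :=
  img_eq_map hP fun x => (afun_coe α x).symm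

theorem isInvariantIn_iff : E.IsInvariantIn F ↔ E.IsSubsystemOf F ∧ F.StronglyClosed T ∧
    (∀ P f, Mor E P f → ∀ α ∈ F.autGroup T, ∃ g, Mor E (img (afun α) P) g ∧
      ∀ x ∈ P, g (afun α x) = afun α (f x)) ∧
    ∀ P f, P ≤ T → Mor F P f → ∃ α ∈ F.autGroup T, ∃ g, Mor E P g ∧ ∀ x ∈ P, f x = afun α (g x) := by
  refine and_congr_right fun _ => and_congr_right fun _ => and_congr ⟨fun h P f hf α hα => ?_,
    fun h P hP φ hφ α hα => ?_⟩ ⟨fun h P f hP hf => ?_, fun h P hP φ hφ => ?_⟩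
  · obtain ⟨φ, hφ, e⟩ := id hf
    obtain ⟨χ, hχ, e'⟩ := h P hf.le φ hφ α hα
    rw [img_afun_eq_map hf.le]
    refine ⟨_, mor_hfun hχ, fun x hx => ?_⟩
    have h1 := img_afun_eq_map hf.le α ▸ subset_img (f := afun α) hx
    have h2 : φ ⟨x, hx⟩ ∈ T := (E.le_of_mem hφ).2 _
    rw [hfun_of_mem _ h1, ← e ⟨x, hx⟩, afun_of_mem α h2, ← e' ⟨x, hx⟩ h2
      (by rwa [afun_of_mem _ (hf.le hx)] at h1)]
    congr 2; exact afun_of_mem _ _
  · obtain ⟨g, hg, e⟩ := h P _ (mor_hfun hφ) α hα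
    rw [img_afun_eq_map hP] at hg
    obtain ⟨χ, hχ, e'⟩ := hg
    refine ⟨χ, hχ, fun x h1 h2 => ?_⟩
    rw [e', ← afun_of_mem, ← afun_of_mem, e x x.2, hfun_coe]
  · obtain ⟨φ, hφ, e⟩ := id hf
    obtain ⟨α, hα, φ₀, hφ₀, e'⟩ := h P hP φ hφ
    refine ⟨α, hα, _, mor_hfun hφ₀, fun x hx => ?_⟩
    rw [← e ⟨x, hx⟩, hfun_of_mem _ hx, e' ⟨x, hx⟩ ((E.le_of_mem hφ₀).2 _), afun_of_mem]
  · obtain ⟨α, hα, g, ⟨φ₀, hφ₀, e'⟩, e⟩ := h P _ hP (mor_hfun hφ)
    exact ⟨α, hα, φ₀, hφ₀, fun x hx => by rw [← afun_of_mem, e', ← e x x.2, hfun_coe]⟩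

/-- The strong invariance condition. -/
def StrongInv (E : FusionSystem T) (F : FusionSystem S) : Prop :=
  ∀ P Q f ψ, Mor E P f → P ≤ Q → Q ≤ T → (∀ x ∈ P, f x ∈ Q) → Mor F Q ψ →
    ∃ g, Mor E (img ψ P) g ∧ ∀ x ∈ P, g (ψ x) = ψ (f x)

theorem IsInvariantIn.sub (h : E.IsInvariantIn F) : E.IsSubsystemOf F := h.1

theorem IsInvariantIn.frattini (h : E.IsInvariantIn F) (hP : P ≤ T) (hf : Mor F P f) :
    ∃ α ∈ F.autGroup T, ∃ g, Mor E P g ∧ ∀ x ∈ P, f x = afun α (g x) :=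
  (isInvariantIn_iff.1 h).2.2.2 P f hP hf

theorem IsInvariantIn.strongInv (h : E.IsInvariantIn F) : StrongInv E F := by
  intro P Q f ψ hf hPQ hQ hfQ hψ
  obtain ⟨α, hα, k, hk, e⟩ := IsInvariantIn.frattini h hQ hψ
  obtain ⟨i, hi, i1, i2, -⟩ := (hk.mono hPQ).inv
  have hm := (hi.comp hf i2).comp hk fun x hx => hfQ _ (i2 x hx)
  obtain ⟨g, hg, eg⟩ := (isInvariantIn_iff.1 h).2.2.1 _ _ hm α hα
  have e2 : img ψ P = img (afun α) (img k P) := by
    rw [img_congr fun x hx => e x (hPQ hx), (hk.mono hPQ).img_comp']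
  refine ⟨g, e2 ▸ hg, fun x hx => ?_⟩
  rw [e x (hPQ hx), eg _ (subset_img hx), i1 x hx, e _ (hfQ x hx)]

theorem StrongInv.mor (h : StrongInv E F) (hf : Mor E P f) (hPQ : P ≤ Q) (hQ : Q ≤ T)
    (hfQ : ∀ x ∈ P, f x ∈ Q) {ψ : Ω → Ω} (hψ : Mor F Q ψ) (e : ∀ x ∈ P, g (ψ x) = ψ (f x)) :
    Mor E (img ψ P) g := by
  obtain ⟨k, hk, ek⟩ := h P Q f ψ hf hPQ hQ hfQ hψ
  refine hk.congr fun y hy => ?_
  obtain ⟨x, hx, rfl⟩ := (hψ.mem_img' hPQ).1 hy
  rw [ek x hx, e x hx]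

theorem StrongInv.conj_autGroup (h : StrongInv E F) (hP : P ≤ T) (hPS : P ≤ S) :
    ∀ a ∈ F.autGroup P, ∀ n ∈ E.autGroup P, a * n * a⁻¹ ∈ E.autGroup P := by
  intro a ha n hn
  have := h.mor (g := afun (a * n * a⁻¹)) ((mem_autGroup hP).1 hn) le_rfl hP
    (fun x hx => afun_mem n hx) ((mem_autGroup hPS).1 ha) fun x hx => by
      rw [← afun_mul _ _ hx, ← afun_mul _ _ hx]; congr 1; group
  rw [img_afun] at this
  exact (mem_autGroup hP).2 this

theorem normalizerIn_sup_self (hP : P ≤ T) : normalizerIn T P ⊔ P = normalizerIn T P :=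
  sup_eq_left.2 (le_normalizerIn hP)

section

variable [Fact p.Prime] [Finite S]

theorem frattini_of_strongInv (hS : IsPGroup p S) (hF : F.IsSaturated p)
    (hE : E.IsSubsystemOf F) (hT : F.StronglyClosed T) (h : StrongInv E F) (hP : P ≤ T)
    (hf : Mor F P f) : ∃ α ∈ F.autGroup T, ∃ g, Mor E P g ∧ ∀ x ∈ P, f x = afun α (g x) := by
  have := finite_of_le hT.1
  refine downward_induction (S := T) (C := fun P => ∀ f, Mor F P f →
    ∃ α ∈ F.autGroup T, ∃ g, Mor E P g ∧ ∀ x ∈ P, f x = afun α (g x)) ?_ P hP f hf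
  intro P hP ih f hf
  rcases hP.eq_or_lt with rfl | hlt
  · obtain ⟨α, hα, e⟩ := hf.exists_aut (StronglyClosed.img_eq hT hf le_rfl)
    exact ⟨α, hα, _, mor_id E le_rfl, fun x hx => (e x hx).symm⟩
  obtain ⟨P₀, h0, hn⟩ := exists_fullyNormalized F hf.le
  have hP₀ : P₀ ≤ T := by
    obtain ⟨k, hk, rfl⟩ := isConj_iff.1 h0
    exact img_le_iff.2 fun x hx => StronglyClosed.mem hT hk hx (hP hx)
  have hmT : ∀ α ∈ F.autGroup T, Mor F T (afun α) := fun α hα => (mem_autGroup hT.1).1 hα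
  have key : ∀ R k, R ≤ T → Mor F R k → img k R = P₀ →
      ∃ α ∈ F.autGroup T, ∃ g, Mor E R g ∧ ∀ x ∈ R, k x = afun α (g x) := by
    intro R k hR hk e
    have hc : Nat.card R = Nat.card P := by rw [← hk.card_img, e, isConj_card h0]
    have hlt' : R < T := lt_of_le_of_ne hR fun e' => by
      rw [e'] at hc; exact (card_lt_of_lt hlt).ne' hc
    have := finite_autGroup F hn.1
    obtain ⟨c, hc', ψ, hψ, eψ⟩ := exists_ext_mod hS (IsSaturated.receptive' hS hF hn)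
      ((IsFullyAutomized.sylowIn (IsSaturated.fullyAutomized hS hF hn)).inf_normal
        (IsSubsystemOf.autGroup_le hE hP₀) (h.conj_autGroup hP₀ hn.1)) inf_le_left
      (IsSubsystemOf.autGroup_le hE hP₀) hk e (N := normalizerIn T R) (normalizerIn_mono hT.1)
      fun n hn β _ eβ => by
        have := h.mor (mor_conj E hR hn.1) le_rfl hR
          (fun x hx => conj_mem_of_mem_normalizerIn hn hx) hk eβ
        rw [e] at this
        exact (mem_autGroup hP₀).2 this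
    rw [normalizerIn_sup_self hR] at hψ
    have := finite_of_le hψ.le
    obtain ⟨α, hα, g, hg, eg⟩ := ih _ normalizerIn_le (hc ▸ card_lt_of_lt
      (lt_normalizerIn (pgroup_of_le hS hT.1) hlt')) ψ hψ
    have hk' : ∀ x ∈ R, k x ∈ P₀ := fun x hx => e ▸ subset_img hx
    obtain ⟨j, hj, ej⟩ := h P₀ T _ _ ((mem_autGroup hP₀).1 ((E.autGroup P₀).inv_mem hc')) hP₀ le_rfl
      (fun x hx => hP₀ (afun_mem _ hx)) (hmT _ ((F.autGroup T).inv_mem hα))
    have hg' := hg.mono (le_normalizerIn hR)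
    have e3 : ∀ x ∈ R, g x = afun α⁻¹ (afun c (k x)) := fun x hx => by
      rw [← eψ x hx, eg x (le_normalizerIn hR hx), afun_inv_afun _ (hg'.mem hx)]
    refine ⟨α, hα, _, hg'.comp hj fun x hx => by
      rw [e3 x hx]; exact subset_img (afun_mem _ (hk' x hx)), fun x hx => ?_⟩
    rw [e3 x hx, ej _ (afun_mem _ (hk' x hx)), afun_inv_afun _ (hk' x hx),
      afun_afun_inv _ (hP₀ (hk' x hx))]
  obtain ⟨k, hk, ek⟩ := isConj_iff.1 (isConj_trans (isConj_symm hf.isConj) h0)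
  have hfT : img f P ≤ T := img_le_iff.2 fun x hx => StronglyClosed.mem hT hf hx (hP hx)
  obtain ⟨α, hα, g1, hg1, e1⟩ := key _ k hfT hk ek
  obtain ⟨β, hβ, g2, hg2, e2⟩ := key P _ hP (hf.comp hk fun x hx => subset_img hx)
    (by rw [hf.img_comp', ek])
  obtain ⟨i, hi, i1, i2, -⟩ := hg1.inv
  have hγ := (F.autGroup T).mul_mem ((F.autGroup T).inv_mem hβ) hα
  obtain ⟨j, hj, ej⟩ := h _ T _ _ hi hg1.img_le le_rfl (fun x hx => hi.mem hx) (hmT _ hγ)
  have e3 : ∀ x ∈ P, g2 x = afun (β⁻¹ * α) (g1 (f x)) := fun x hx => by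
    rw [afun_mul _ _ (hg1.mem (subset_img hx)), ← e1 _ (subset_img hx), e2 x hx,
      afun_inv_afun _ (hg2.mem hx)]
  refine ⟨_, (F.autGroup T).inv_mem hγ, _, hg2.comp hj fun x hx => by
    rw [e3 x hx]; exact subset_img (subset_img (subset_img hx)), fun x hx => ?_⟩
  rw [e3 x hx, ej _ (subset_img (subset_img hx)), i1 _ (subset_img hx),
    afun_inv_afun _ (hfT (subset_img hx))]

theorem isInvariantIn_of_strongInv (hS : IsPGroup p S) (hF : F.IsSaturated p)
    (hE : E.IsSubsystemOf F) (hT : F.StronglyClosed T) (h : StrongInv E F) :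
    E.IsInvariantIn F :=
  isInvariantIn_iff.2 ⟨hE, hT, fun P f hf _ hα => h P T f _ hf hf.le le_rfl (fun _ hx => hf.mem hx)
    ((mem_autGroup hT.1).1 hα), fun _ _ hP hf => frattini_of_strongInv hS hF hE hT h hP hf⟩

theorem fullyCentralized_of_sub (hS : IsPGroup p S) (hF : F.IsSaturated p)
    (hT : F.StronglyClosed T) (hE : E.IsSubsystemOf F) (hQ : Q ≤ T)
    (h : F.IsFullyCentralized Q) : E.IsFullyCentralized Q := by
  refine ⟨hQ, fun R hR => ?_⟩
  obtain ⟨f, hf, e⟩ := isConj_iff.1 (isConj_symm hR)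
  have hf' := isSubsystemOf_iff.1 hE _ _ hf
  obtain ⟨g, hg, eg⟩ := IsReceptive.ext (IsSaturated.receptive hS hF h) hf' e
  have hle : centralizerIn T R ≤ Next S R f := (centralizerIn_mono hT.1).trans centralizerIn_le_Next
  have : Finite (centralizerIn T Q) := finite_of_le (centralizerIn_le.trans hT.1)
  refine (hg.mono hle).card_le fun x hx => ⟨StronglyClosed.mem hT hg (hle hx) hx.1, ?_⟩
  have := hg.mem_centralizer_img hf'.le_Next (hle hx) (mem_centralizerIn.1 hx).2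
  rw [img_congr eg, e] at this
  exact this.2

theorem fullyNormalized_of_sub (hS : IsPGroup p S) (hF : F.IsSaturated p)
    (hT : F.StronglyClosed T) (hE : E.IsSubsystemOf F) (hQ : Q ≤ T)
    (h : F.IsFullyNormalized Q) : E.IsFullyNormalized Q := by
  refine ⟨hQ, fun R hR => ?_⟩
  obtain ⟨f, hf, e⟩ := isConj_iff.1 (isConj_symm hR)
  have hf' := isSubsystemOf_iff.1 hE _ _ hf
  obtain ⟨g, hg, eg⟩ := IsSaturated.exists_normalizer_mor hS hF h (e ▸ hf'.isConj)
  have hle : normalizerIn T R ≤ normalizerIn S R := normalizerIn_mono hT.1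
  have : Finite (normalizerIn T Q) := finite_of_le (normalizerIn_le.trans hT.1)
  refine (hg.mono hle).card_le fun x hx => ⟨StronglyClosed.mem hT hg (hle hx) hx.1, ?_⟩
  have := hg.normalizerIn_mem hf'.le (hle hx)
  rw [eg] at this
  exact this.2

end

theorem isNormalIn_iff : E.IsNormalIn F p ↔ E.IsWeaklyNormalIn F p ∧ ∀ α ∈ E.autGroup T,
    ∃ g, Mor F (T ⊔ centralizerIn S T) g ∧ img g (T ⊔ centralizerIn S T) = T ⊔ centralizerIn S T ∧
      (∀ x ∈ T, g x = afun α x) ∧ ∀ c ∈ centralizerIn S T, c⁻¹ * g c ∈ T := by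
  refine and_congr_right fun hw => forall₂_congr fun α _ => ⟨?_, ?_⟩
  · rintro ⟨β, hβ, e, e'⟩
    refine ⟨_, (mem_autGroup (sup_le hw.2.2.2.1.1 centralizerIn_le)).1 hβ, img_afun β,
      fun x hx => ?_, fun c hc => ?_⟩
    · rw [afun_of_mem _ hx, ← e, afun_of_mem _ (Subgroup.mem_sup_left hx)]; rfl
    · rw [afun_of_mem _ (Subgroup.mem_sup_right hc)]
      exact (e' ⟨c, Subgroup.mem_sup_right hc⟩ hc).1
  · rintro ⟨g, hg, e1, e2, e3⟩
    obtain ⟨β, hβ, eβ⟩ := hg.exists_aut e1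
    refine ⟨β, hβ, fun x => ?_, fun c hc => ?_⟩
    · rw [← afun_coe, ← afun_coe, eβ _ (Subtype.property _)]; exact e2 x x.2
    · rw [← afun_coe, eβ _ c.2]
      refine ⟨e3 c hc, Subgroup.mul_mem _ (Subgroup.inv_mem _ hc.2) ?_⟩
      have := hg.mem_centralizer_img le_sup_left c.2 (mem_centralizerIn.1 hc).2
      rw [img_eq_of_afun e2] at this
      exact this.2

theorem isNormalIn_of [Finite S] (hw : E.IsWeaklyNormalIn F p) (h : ∀ α ∈ E.autGroup T,
    ∃ g, Mor F (T ⊔ centralizerIn S T) g ∧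
      (∀ x ∈ T, g x = afun α x) ∧ ∀ c ∈ centralizerIn S T, c⁻¹ * g c ∈ T) : E.IsNormalIn F p := by
  refine isNormalIn_iff.2 ⟨hw, fun α hα => ?_⟩
  obtain ⟨g, hg, e1, e2⟩ := h α hα
  have := finite_of_le hg.le
  refine ⟨g, hg, hg.img_eq_self (hg.mem_of_sup (fun x hx => ?_) fun c hc => ?_), e1, e2⟩
  · rw [e1 x hx]; exact Subgroup.mem_sup_left (afun_mem _ hx)
  · simpa using Subgroup.mul_mem _ (Subgroup.mem_sup_right (S := T) hc)
      (Subgroup.mem_sup_left (e2 c hc))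

theorem IsNormalIn.sat (h : E.IsNormalIn F p) : E.IsSaturated p := h.1.1
theorem IsNormalIn.inv (h : E.IsNormalIn F p) : E.IsInvariantIn F := h.1.2.2
theorem IsNormalIn.sub (h : E.IsNormalIn F p) : E.IsSubsystemOf F := h.1.2.2.1
theorem IsNormalIn.sc (h : E.IsNormalIn F p) : F.StronglyClosed T := h.1.2.2.2.1

theorem IsSubnormalIn.sub (h : E.IsSubnormalIn F p) : E.IsSubsystemOf F := by
  induction h with
  | refl => exact fun _ => le_rfl
  | step _ h ih => exact IsSubsystemOf.trans ih (IsNormalIn.sub h)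

theorem subnormal_induction {C : ∀ {S : Subgroup Ω}, FusionSystem S → Prop}
    (h : E.IsSubnormalIn F p) (hF : C F)
    (step : ∀ {U S : Subgroup Ω} (D : FusionSystem U) (F : FusionSystem S),
      D.IsNormalIn F p → E.IsSubnormalIn D p → C F → C D) : C E := by
  induction h with
  | refl => exact hF
  | step h1 h2 ih => exact ih (step _ _ h2 h1 hF) step

theorem IsSubnormalIn.sat (h : E.IsSubnormalIn F p) (hF : F.IsSaturated p) : E.IsSaturated p :=
  subnormal_induction (C := fun F => F.IsSaturated p) h hF fun _ _ h _ _ => IsNormalIn.sat h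

theorem IsSubnormalIn.trans {D : FusionSystem U} (h : D.IsSubnormalIn E p)
    (h' : E.IsSubnormalIn F p) : D.IsSubnormalIn F p := by
  induction h' with
  | refl => exact h
  | step _ h2 ih => exact .step (ih h) h2

theorem IsNormalIn.subnormal (h : E.IsNormalIn F p) : E.IsSubnormalIn F p := .step (.refl E p) h

theorem isNormalIn_self (hF : F.IsSaturated p) : F.IsNormalIn F p := by
  refine isNormalIn_iff.2 ⟨⟨hF, hF, isInvariantIn_iff.2 ⟨fun _ => le_rfl, stronglyClosed_top F,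
    fun P f hf α hα => ?_, fun P f _ hf => ⟨1, Subgroup.one_mem _, f, hf,
      fun x _ => (afun_one _).symm⟩⟩⟩, fun α hα => ?_⟩
  · have hm := (mem_autGroup le_rfl).1 hα
    obtain ⟨i, hi, i1, i2, -⟩ := (hm.mono hf.le).inv
    exact ⟨_, (hi.comp hf i2).comp hm fun x hx => hf.mem (i2 x hx), fun x hx => by rw [i1 x hx]⟩
  · rw [sup_eq_left.2 centralizerIn_le]
    exact ⟨_, (mem_autGroup le_rfl).1 hα, img_afun α, fun _ _ => rfl, fun c hc =>
      S.mul_mem (S.inv_mem hc.1) (afun_mem _ hc.1)⟩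

theorem IsInvariantIn.normal_img (h : E.IsInvariantIn F) (hR : E.IsNormal R) {α : MulAut T}
    (hα : α ∈ F.autGroup T) : E.IsNormal (img (afun α) R) := by
  have hT := h.2.1.1
  have hs := IsInvariantIn.strongInv h
  have hm := (mem_autGroup hT).1 hα
  have hm' := (mem_autGroup hT).1 ((F.autGroup T).inv_mem hα)
  have hRT : img (afun α) R ≤ T := img_le_iff.2 fun x hx => afun_mem _ (hR.1 hx)
  refine isNormal_iff.2 ⟨hRT, fun P f hf => ?_⟩
  obtain ⟨f1, hf1, e1⟩ := hs _ T _ _ hf hf.le le_rfl (fun x hx => hf.mem hx) hm'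
  obtain ⟨g, hg, eg, eg'⟩ := IsNormal.ext hR hf1
  obtain ⟨k, hk, ek⟩ := hs _ T _ _ hg hg.le le_rfl (fun x hx => hg.mem hx) hm
  have e2 : img (afun α) (img (afun α⁻¹) P) = P := by
    rw [← (hm'.mono hf.le).img_comp']; exact img_of_eq_id fun x hx => afun_afun_inv _ (hf.le hx)
  rw [(hm.mono hg.le).img_sup, e2] at hk
  refine ⟨k, hk, fun x hx => ?_, ?_⟩
  · rw [← afun_afun_inv α (hf.le hx), ek _ (Subgroup.mem_sup_left (subset_img hx)),
      eg _ (subset_img hx), e1 x hx, afun_afun_inv _ (hf.mem hx), afun_afun_inv _ (hf.le hx)]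
  · rw [← (hm.mono hR.1).img_comp', img_congr fun x hx => ek x (Subgroup.mem_sup_right hx),
      (hg.mono le_sup_right).img_comp', eg']

theorem IsInvariantIn.stronglyClosed_of (h : E.IsInvariantIn F) (hU : E.StronglyClosed U)
    (hi : ∀ α ∈ F.autGroup T, ∀ x ∈ U, afun α x ∈ U) : F.StronglyClosed U := by
  refine stronglyClosed_iff.2 ⟨hU.1.trans h.2.1.1, fun P f hf x hx hxU => ?_⟩
  obtain ⟨α, hα, g, hg, e⟩ := IsInvariantIn.frattini h (inf_le_right.trans hU.1)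
    (hf.mono (inf_le_left : P ⊓ U ≤ P))
  rw [e x ⟨hx, hxU⟩]
  exact hi α hα _ (StronglyClosed.mem hU hg ⟨hx, hxU⟩ hxU)

theorem afun_mem_of_char' (hV : Q ≤ U) (hU : U ≤ T) [Finite T]
    (hc : (Q.subgroupOf U).Characteristic) {α : MulAut T} (h : ∀ x ∈ U, afun α x ∈ U) :
    ∀ x ∈ Q, afun α x ∈ Q := by
  intro x hx
  obtain ⟨γ, e⟩ := exists_resAut hU (mem_stabAut_of_finite hU h)
  rw [e x (hV hx)]; exact afun_mem_of_char hV hc γ hx

variable [Fact p.Prime] [Finite S]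

theorem IsInvariantIn.normal_of (hS : IsPGroup p S) (hF : F.IsSaturated p)
    (h : E.IsInvariantIn F) (hU : E.IsNormal U)
    (hi : ∀ α ∈ F.autGroup T, ∀ x ∈ U, afun α x ∈ U) : F.IsNormal U := by
  have := finite_of_le h.2.1.1
  exact normal_of_zc hS hF (IsInvariantIn.stronglyClosed_of h (IsNormal.stronglyClosed hU) hi)
    fun i => StronglyClosed.weaklyClosed (IsInvariantIn.stronglyClosed_of h
      (IsNormal.stronglyClosed (IsNormal.of_char hU (zc_le _ _) (zc_char _ _)))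
      fun α hα => afun_mem_of_char' (zc_le _ _) hU.1 (zc_char _ _) (hi α hα))

theorem IsInvariantIn.core_normal (hS : IsPGroup p S) (hF : F.IsSaturated p)
    (h : E.IsInvariantIn F) : F.IsNormal E.core := by
  have := finite_of_le h.2.1.1
  exact IsInvariantIn.normal_of hS hF h (core_isNormal E) fun α hα x hx =>
    IsNormal.le_core (IsInvariantIn.normal_img h (core_isNormal E) hα) (subset_img hx)

theorem inner_weaklyNormal (hS : IsPGroup p S) (hF : F.IsSaturated p) (hQ : F.IsNormal Q) :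
    (innerFusionSystem Q).IsWeaklyNormalIn F p := by
  have := finite_of_le hQ.1
  have hsc := IsNormal.stronglyClosed hQ
  refine ⟨inner_saturated (pgroup_of_le hS hQ.1), hF, isInvariantIn_iff.2 ⟨isSubsystemOf_iff.2
    fun P f hf => ?_, hsc, fun P f hf α hα => ?_, fun P f hP hf => ?_⟩⟩
  · obtain ⟨h1, g, hg, e⟩ := mor_inner_iff.1 hf
    exact (mor_conj F (h1.trans hQ.1) (hQ.1 hg)).congr fun x hx => (e x hx).symm
  · obtain ⟨h1, g, hg, e⟩ := mor_inner_iff.1 hf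
    refine ⟨_, mor_conj _ (img_le_iff.2 fun x hx => afun_mem _ (h1 hx)) (afun_mem α hg),
      fun x hx => ?_⟩
    rw [e x hx, ((mem_autGroup hQ.1).1 hα).map_conj hg (h1 hx)]
  · obtain ⟨g, hg, e, e'⟩ := IsNormal.ext hQ hf
    obtain ⟨α, hα, eα⟩ := (hg.mono le_sup_right).exists_aut e'
    exact ⟨α, hα, _, mor_id _ hP, fun x hx => by rw [eα x (hP hx), e x hx]⟩

theorem inner_isNormalIn (hS : IsPGroup p S) (hF : F.IsSaturated p) (hQ : F.IsNormal Q) :
    (innerFusionSystem Q).IsNormalIn F p := by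
  refine isNormalIn_of (inner_weaklyNormal hS hF hQ) fun α hα => ?_
  obtain ⟨-, g, hg, e⟩ := mor_inner_iff.1 ((mem_autGroup le_rfl).1 hα)
  refine ⟨_, mor_conj F (sup_le hQ.1 centralizerIn_le) (hQ.1 hg), fun x hx => (e x hx).symm,
    fun c hc => ?_⟩
  have := (mem_centralizerIn.1 (Subgroup.inv_mem _ hc)).2 g hg
  rw [show c⁻¹ * (g * c * g⁻¹) = c⁻¹ * g * c⁻¹⁻¹ * g⁻¹ by group, this, mul_inv_cancel]
  exact Q.one_mem

omit [Fact p.Prime] [Finite S] in
theorem inner_normal_top (Q : Subgroup Ω) : (innerFusionSystem Q).IsNormal Q := by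
  rw [innerFusionSystem_eq]; exact normal_sub_of_le_normalizer le_rfl Subgroup.le_normalizer

omit [Finite S] in
/-- The fusion system of a normal subgroup is a normal subsystem. -/
theorem sub_isNormalIn {K H : Subgroup Ω} [Finite K] (hS : SylowIn p S K) (hH : H ≤ K)
    (hn : K ≤ Subgroup.normalizer (H : Set Ω)) :
    (fusionSystemOfSubgroup H (S ⊓ H) inf_le_right).IsNormalIn
      (fusionSystemOfSubgroup K S hS.le) p := by
  have := finite_of_le hS.le
  have := finite_of_le hH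
  have hn' : ∀ c ∈ K, ∀ d ∈ H, c * d * c⁻¹ ∈ H := fun c hc d hd =>
    conj_mem_of_mem_normalizer (hn hc) hd
  have hsat := sub_saturated (hTH := hS.le) hS
  have hsc : (fusionSystemOfSubgroup K S hS.le).StronglyClosed (S ⊓ H) :=
    stronglyClosed_sub_iff.2 ⟨inf_le_left, fun x hx g hg h => ⟨h, hn' g hg x hx.2⟩⟩
  have hsub : (fusionSystemOfSubgroup H (S ⊓ H) inf_le_right).IsSubsystemOf
      (fusionSystemOfSubgroup K S hS.le) := isSubsystemOf_iff.2 fun P f hf => by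
    obtain ⟨h1, h2, g, hg, e⟩ := mor_subgroup_iff.1 hf
    exact mor_subgroup_iff.2 ⟨h1.trans inf_le_left, fun x hx => (h2 x hx).1, g, hH hg, e⟩
  refine isNormalIn_of ⟨sub_saturated (hS.inf_normal hH hn'), hsat,
    isInvariantIn_of_strongInv hS.pgroup hsat hsub hsc ?_⟩ fun α hα => ?_
  · intro P Q f ψ hf hPQ hQ hfQ hψ
    obtain ⟨h1, h2, h, hh, e⟩ := mor_subgroup_iff.1 hf
    obtain ⟨h3, h4, g, hg, eg⟩ := mor_subgroup_iff.1 hψ
    have e2 : ∀ x ∈ P, g * h * g⁻¹ * ψ x * (g * h * g⁻¹)⁻¹ = ψ (f x) := fun x hx => by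
      rw [eg _ (hfQ x hx), eg x (hPQ hx), e x hx]; group
    refine ⟨_, mor_sub_conj inf_le_right (img_le_iff.2 fun x hx =>
      StronglyClosed.mem hsc hψ (hPQ hx) (h1 hx)) (hn' g hg h hh) fun y hy => ?_, e2⟩
    obtain ⟨x, hx, rfl⟩ := (hψ.mem_img' hPQ).1 hy
    rw [e2 x hx]; exact StronglyClosed.mem hsc hψ (hfQ x hx) (h2 x hx)
  · rw [autGroup_sub le_rfl] at hα
    obtain ⟨h, hh, e⟩ := mem_autInducedBy.1 hα
    have hhn : h ∈ normalizerIn K (S ⊓ H) := ⟨hH hh, mem_normalizer_of_afun e⟩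
    have hC := (fullyCentralized_sub_iff hS inf_le_left).1 (IsSaturated.fullyCentralized hS.pgroup
      hsat (fullyNormalized_of_normal hsc.1 (StronglyClosed.le_normalizer hsc)))
    have hCK : centralizerIn S (S ⊓ H) ≤ K := centralizerIn_le.trans hS.le
    have hY : SylowIn p (centralizerIn S (S ⊓ H)) (centralizerIn K (S ⊓ H) ⊓ (centralizerIn S (S ⊓ H) ⊔ H)) :=
      hC.of_le (le_inf hC.le le_sup_left) inf_le_left
    have : Finite (centralizerIn K (S ⊓ H) ⊓ (centralizerIn S (S ⊓ H) ⊔ H) : Subgroup Ω) :=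
      finite_of_le (inf_le_left.trans centralizerIn_le)
    obtain ⟨y, hy, ey⟩ := hY.conj (D := img (fun x => h * x * h⁻¹) (centralizerIn S (S ⊓ H)))
      (img_le_iff.2 fun c hc => ⟨centralizerIn_conj_mem hhn (hC.le hc), by
        have h1 := H.mul_mem (hn' _ (K.inv_mem (hCK hc)) h hh) (H.inv_mem hh)
        have := Subgroup.mul_mem _ (Subgroup.mem_sup_left (T := H) hc) (Subgroup.mem_sup_right h1)
        simpa [mul_assoc] using this⟩) (by rw [img_conj]; exact hC.pgroup.map _)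
    obtain ⟨u, hu, k, hk, rfl⟩ := (mem_sup_of_le_normalizer (hCK.trans hn)).1 hy.2
    have hkC : k ∈ centralizerIn K (S ⊓ H) := by
      simpa using Subgroup.mul_mem _ (Subgroup.inv_mem _ (hC.le hu)) hy.1
    have e1 : ∀ x ∈ (S ⊓ H), k * h * x * (k * h)⁻¹ = afun α x := fun x hx => by
      rw [← (mem_centralizerIn.1 hkC).2 _ (afun_mem α hx), e x hx]; group
    have e2 : ∀ c ∈ centralizerIn S (S ⊓ H), k * h * c * (k * h)⁻¹ ∈ centralizerIn S (S ⊓ H) := fun c hc => by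
      have := Subgroup.mul_mem _ (Subgroup.mul_mem _ (Subgroup.inv_mem _ hu)
        (ey _ (subset_img hc))) hu
      convert this using 1; group
    refine ⟨_, mor_sub_conj hS.le (sup_le inf_le_left centralizerIn_le) (hH (H.mul_mem hk hh)) ?_,
      e1, fun c hc => ⟨S.mul_mem (S.inv_mem hc.1) (e2 c hc).1, ?_⟩⟩
    · rw [← img_le_iff, img_conj, Subgroup.map_sup, ← img_conj, ← img_conj]
      exact sup_le (img_le_iff.2 fun x hx => e1 x hx ▸ (afun_mem α hx).1)
        (img_le_iff.2 fun x hx => (e2 x hx).1)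
    · have := H.mul_mem (hn' _ (K.inv_mem (hCK hc)) _ (H.mul_mem hk hh))
        (H.inv_mem (H.mul_mem hk hh))
      rw [inv_inv, mul_assoc, mul_assoc, ← mul_assoc (k * h)] at this
      exact this

theorem constrained_of_subnormal (hS : IsPGroup p S) (hF : F.IsConstrained p)
    (h : E.IsSubnormalIn F p) : E.IsConstrained p := by
  refine (subnormal_induction (C := fun {S} F => Finite S ∧ IsPGroup p S ∧ F.IsConstrained p) h
    ⟨‹_›, hS, hF⟩ ?_).2.2
  rintro U S D F hD - ⟨_, h1, h2⟩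
  have hU := (IsNormalIn.sc hD).1
  exact ⟨finite_of_le hU, pgroup_of_le h1 hU,
    constrained_of_sub h1 h2 (IsNormalIn.sat hD) (IsNormalIn.sub hD) (IsNormalIn.sc hD)⟩

theorem fullyNormalized_of_subnormal (hS : IsPGroup p S) (hF : F.IsSaturated p)
    (h : E.IsSubnormalIn F p) (hP : P ≤ T) (hn : F.IsFullyNormalized P) :
    E.IsFullyNormalized P := by
  refine (subnormal_induction (C := fun {S} F => Finite S ∧ IsPGroup p S ∧ F.IsSaturated p ∧
    F.IsFullyNormalized P) h ⟨‹_›, hS, hF, hn⟩ ?_).2.2.2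
  rintro U S D F hD hE ⟨_, h1, h2, h3⟩
  have hU := (IsNormalIn.sc hD).1
  exact ⟨finite_of_le hU, pgroup_of_le h1 hU, IsNormalIn.sat hD, fullyNormalized_of_sub h1 h2
    (IsNormalIn.sc hD) (IsNormalIn.sub hD) (hP.trans (IsSubsystemOf.le (IsSubnormalIn.sub hE))) h3⟩

end Cfsg.Agent.Fusion
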