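import Cfsg.Agent.Lib.Fusion.Morph

/-! Isomorphisms of fusion systems, realized systems, constrained systems. -/

set_option autoImplicit false

namespace Cfsg.Agent.Fusion

open Cfsg Cfsg.FusionSystem
open scoped commutatorElement

section Constrained

variable {Ω : Type*} [Group Ω] {S : Subgroup Ω} {F : FusionSystem S} {P Q R T U : Subgroup Ω}
  {f g : Ω → Ω} {p : ℕ}

theorem isCentric_iff : F.IsCentric P ↔ P ≤ S ∧ ∀ f, Mor F P f →
    centralizerIn S (img f P) ≤ img f P := by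
  refine ⟨fun h => ⟨h.1, fun f hf => IsCentric.cent_le (isCentric_of_conj h hf.isConj)⟩,
    fun h => ⟨h.1, fun Q hQ => ?_⟩⟩
  obtain ⟨f, hf, rfl⟩ := isConj_iff.1 hQ
  exact h.2 f hf

theorem isCentric_of_weaklyClosed (h : F.WeaklyClosed Q) (hC : centralizerIn S Q ≤ Q) :
    F.IsCentric Q :=
  isCentric_iff.2 ⟨h.1, fun f hf => by rwa [WeaklyClosed.img_eq h hf le_rfl]⟩

theorem IsNormal.weaklyClosed (h : F.IsNormal Q) : F.WeaklyClosed Q := by
  refine weaklyClosed_iff.2 ⟨h.1, fun f hf => ?_⟩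
  obtain ⟨g, -, e, e'⟩ := IsNormal.ext h hf
  rw [← img_congr e, e']

theorem centralizerIn_anti (h : P ≤ Q) : centralizerIn S Q ≤ centralizerIn S P := fun _ hx =>
  mem_centralizerIn.2 ⟨hx.1, fun y hy => (mem_centralizerIn.1 hx).2 y (h hy)⟩

theorem isConstrained_iff [Finite S] : F.IsConstrained p ↔
    F.IsSaturated p ∧ centralizerIn S F.core ≤ F.core := by
  refine and_congr_right fun _ => ⟨fun ⟨Q, h1, h2⟩ => ?_, fun h => ⟨_, core_isNormal F,
    isCentric_of_weaklyClosed (IsNormal.weaklyClosed (core_isNormal F)) h⟩⟩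
  exact (centralizerIn_anti (IsNormal.le_core h1)).trans
    ((IsCentric.cent_le h2).trans (IsNormal.le_core h1))

theorem isConstrained_of (hF : F.IsSaturated p) (hQ : F.IsNormal Q)
    (hC : centralizerIn S Q ≤ Q) : F.IsConstrained p :=
  ⟨hF, Q, hQ, isCentric_of_weaklyClosed (IsNormal.weaklyClosed hQ) hC⟩

theorem IsConstrained.core_centric [Finite S] (h : F.IsConstrained p) : F.IsCentric F.core :=
  isCentric_of_weaklyClosed (IsNormal.weaklyClosed (core_isNormal F)) (isConstrained_iff.1 h).2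

theorem StronglyClosed.of_sub {E : FusionSystem T} (hE : E.IsSubsystemOf F)
    (h : F.StronglyClosed Q) (hQ : Q ≤ T) : E.StronglyClosed Q :=
  stronglyClosed_iff.2 ⟨hQ, fun P f hf _ hx hxQ =>
    StronglyClosed.mem h (isSubsystemOf_iff.1 hE P f hf) hx hxQ⟩

theorem WeaklyClosed.of_sub {E : FusionSystem T} (hE : E.IsSubsystemOf F)
    (h : F.WeaklyClosed Q) (hQ : Q ≤ T) : E.WeaklyClosed Q :=
  weaklyClosed_iff.2 ⟨hQ, fun f hf => WeaklyClosed.img_eq h (isSubsystemOf_iff.1 hE _ f hf) le_rfl⟩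

theorem IsSubsystemOf.le {E : FusionSystem T} (hE : E.IsSubsystemOf F) : T ≤ S :=
  (isSubsystemOf_iff.1 hE _ _ (mor_id E le_rfl)).le

theorem IsSubsystemOf.trans {E : FusionSystem T} {D : FusionSystem U} (h : D.IsSubsystemOf E)
    (hE : E.IsSubsystemOf F) : D.IsSubsystemOf F := fun P => (h P).trans (hE P)

theorem IsSubsystemOf.autGroup_le {E : FusionSystem T} (hE : E.IsSubsystemOf F) (hP : P ≤ T) :
    E.autGroup P ≤ F.autGroup P := fun _ hα =>
  (isSubsystemOf_iff.1 hE _ _ ((mem_autGroup hP).1 hα)).mem_autGroup fun _ _ => rfl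

/-- `O_p(Aut_F(P))` as a subgroup of `MulAut P`. -/
def autCore (F : FusionSystem S) (p : ℕ) (P : Subgroup Ω) : Subgroup (MulAut P) :=
  (pCore p (F.autGroup P)).map (F.autGroup P).subtype

theorem autCore_le : autCore F p P ≤ F.autGroup P := Subgroup.map_subtype_le _

theorem autCore_pgroup : IsPGroup p (autCore F p P) := (pCore_pgroup _).map _

theorem autCore_conj : ∀ a ∈ F.autGroup P, ∀ n ∈ autCore F p P, a * n * a⁻¹ ∈ autCore F p P := by
  rintro a ha _ ⟨n, hn, rfl⟩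
  exact ⟨_, (pCore_normal p _).conj_mem n hn ⟨a, ha⟩, rfl⟩

theorem le_autCore {N : Subgroup (MulAut P)} (h1 : N ≤ F.autGroup P) (h2 : IsPGroup p N)
    (h3 : ∀ a ∈ F.autGroup P, ∀ n ∈ N, a * n * a⁻¹ ∈ N) : N ≤ autCore F p P := fun n hn =>
  ⟨⟨n, h1 hn⟩, le_pCore (N := N.subgroupOf _) ⟨fun x hx a => h3 a a.2 x hx⟩
      (pgroup_subgroupOf h2) hn, rfl⟩

variable [Fact p.Prime] [Finite S]

/-- Automorphisms of `P` in `F` fixing a centric normal subgroup `Q` of `P` up to a `p`-group of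
automorphisms form a `p`-group. -/
theorem pgroup_resPre (hS : IsPGroup p S) (hQP : Q ≤ P) (hP : P ≤ S)
    (hn : P ≤ Subgroup.normalizer (Q : Set Ω)) (hC : centralizerIn S Q ≤ Q)
    {B : Subgroup (MulAut Q)} (hB : IsPGroup p B) :
    IsPGroup p (F.autGroup P ⊓ resPre hQP B : Subgroup _) := by
  have := finite_of_le hP
  let L := F.autGroup P ⊓ resPre hQP ⊥
  have hL : ∀ β ∈ L, ∀ x ∈ Q, afun β x = x := by
    rintro β ⟨-, hβ⟩ x hx
    obtain ⟨γ, hγ, e⟩ := (mem_resPre _).1 hβ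
    rw [Subgroup.mem_bot] at hγ
    rw [e x hx, hγ, afun_one]
  have hinv : ∀ β ∈ L, ∀ i, ∀ x ∈ P, x ∈ (if i = 0 then Q else ⊤) →
      afun β x ∈ (if i = 0 then Q else ⊤) := by
    intro β hβ i x hx hC
    split_ifs at hC ⊢
    · rwa [hL β hβ x hC]
    · trivial
  have hp := chainStab_pgroup (n := 1) (pgroup_of_le hS hP) hinv (by simp)
    fun β hβ => ⟨0, fun x _ hx => by simpa using hL β hβ.1 x (by simpa using hx)⟩
  rintro ⟨β, hβ, hβ'⟩
  obtain ⟨γ, hγ, e⟩ := (mem_resPre _).1 hβ'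
  obtain ⟨k, hk⟩ := hB ⟨γ, hγ⟩
  have hfix : ∀ x ∈ Q, afun (β ^ p ^ k) x = x := fun x hx => by
    rw [afun_pow_of_eq hQP e _ x hx, show γ ^ p ^ k = 1 from congrArg Subtype.val hk, afun_one]
  have hβk := (F.autGroup P).pow_mem hβ (p ^ k)
  obtain ⟨j, hj⟩ := hp ⟨β ^ p ^ k, ⟨hβk, (mem_resPre _).2 ⟨1, Subgroup.one_mem _,
    fun x hx => by rw [afun_one, hfix x hx]⟩⟩, fun j hj x hx _ => by
      have : j = 0 := by omega
      subst this
      show _ ∈ Q
      refine hC (mem_centralizerIn.2 ⟨S.mul_mem (S.inv_mem (hP hx))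
        (hP (afun_mem _ hx)), fun u hu => ?_⟩)
      have h1 := ((mem_autGroup hP).1 hβk).map_conj hx (hQP hu)
      rw [hfix _ (conj_mem_of_mem_normalizer (hn hx) hu), hfix u hu] at h1
      calc _ = x⁻¹ * (afun (β ^ p ^ k) x * u * (afun (β ^ p ^ k) x)⁻¹) * x := by group
        _ = u := by rw [← h1]; group⟩
  refine ⟨k + j, Subtype.ext ?_⟩
  have := congrArg Subtype.val hj
  simpa [pow_add, pow_mul] using this

/-- The preimage in `S` of `O_p(Aut_F(Q))`, for `Q` normal and centric, is normal. -/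
theorem kNorm_autCore_normal (hS : IsPGroup p S) (hF : F.IsSaturated p) (hQ : F.IsNormal Q)
    (hC : centralizerIn S Q ≤ Q) : F.IsNormal (kNorm S Q (autCore F p Q)) := by
  have hK := isKNorm_kNorm (S := S) (Q := Q) (K := autCore F p Q)
  have hsc : F.StronglyClosed (kNorm S Q (autCore F p Q)) := by
    refine stronglyClosed_iff.2 ⟨hK.le, fun P f hf x hx hxK => ?_⟩
    obtain ⟨g, hg, e, e'⟩ := IsNormal.ext hQ hf
    obtain ⟨a, ha, ea⟩ := (hg.mono le_sup_right).exists_aut e'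
    obtain ⟨-, β, hβ, eβ⟩ := (hK x).1 hxK
    refine (hK _).2 ⟨hf.mem hx, _, autCore_conj a ha β hβ, fun y hy => ?_⟩
    have hz := afun_mem a⁻¹ hy
    rw [afun_mul _ _ hy, afun_mul _ _ hz, ea _ (afun_mem β hz), eβ _ hz,
      hg.map_conj (Subgroup.mem_sup_left hx) (Subgroup.mem_sup_right hz), ← ea _ hz,
      afun_afun_inv _ hy, e x hx]
  refine normal_of_le_family hS hF (StronglyClosed.weaklyClosed hsc) fun P _ hc hr => ?_
  have hQP := IsNormal.le_of_radical hS hQ hc hr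
  refine le_of_normalizer_inf_le hS hc.1 hK.le (hc.1.trans (StronglyClosed.le_normalizer hsc))
    fun s hs hn => ?_
  obtain ⟨σ, e⟩ := exists_cAut hn
  refine mem_of_cAut_mem_Inn (IsCentric.cent_le hc) hc.1 (hK.le hs) e ?_
  obtain ⟨hsS, β, hβ, eβ⟩ := (hK s).1 hs
  refine ((isRadical_iff hS).1 hr).2 _ inf_le_left (pgroup_resPre hS hQP hc.1
    (hc.1.trans (WeaklyClosed.le_normalizer (IsNormal.weaklyClosed hQ))) hC autCore_pgroup)
    ?_ ⟨autInducedBy_le_autGroup F hc.1 (mem_autInducedBy.2 ⟨s, hsS, e⟩), (mem_resPre _).2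
      ⟨β, hβ, fun x hx => by rw [e x (hQP hx), eβ x hx]⟩⟩
  rintro a ha n ⟨hn1, hn2⟩
  refine ⟨Subgroup.mul_mem _ (Subgroup.mul_mem _ ha hn1) (Subgroup.inv_mem _ ha), ?_⟩
  obtain ⟨γ, hγ, eγ⟩ := (mem_resPre _).1 hn2
  have hm := (mem_autGroup hc.1).1 ha
  obtain ⟨b, hb, eb⟩ := (hm.mono hQP).exists_aut
    (WeaklyClosed.img_eq (IsNormal.weaklyClosed hQ) hm hQP)
  refine (mem_resPre _).2 ⟨_, autCore_conj b hb γ hγ, fun x hx => ?_⟩
  have hz := afun_mem b⁻¹ hx
  have e2 : afun a⁻¹ x = afun b⁻¹ x := by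
    rw [← afun_inv_afun a (hQP hz), ← eb _ hz, afun_afun_inv _ hx]
  rw [afun_mul _ _ (hQP hx), afun_mul _ _ (afun_mem _ (hQP hx)), afun_mul _ _ hx, afun_mul _ _ hz,
    e2, eγ _ hz, eb _ (afun_mem _ hz)]

theorem core_radical (hS : IsPGroup p S) (hF : F.IsConstrained p) : F.IsRadical p F.core := by
  have hn := core_isNormal F
  have h := IsNormal.le_core (kNorm_autCore_normal hS hF.1 hn (isConstrained_iff.1 hF).2)
  refine (isRadical_iff hS).2 ⟨hn.1, fun N h1 h2 h3 n hn' => ?_⟩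
  have := finite_autGroup F hn.1
  have hA := IsSaturated.fullyAutomized hS hF.1 (fullyNormalized_of_normal hn.1
    (WeaklyClosed.le_normalizer (IsNormal.weaklyClosed hn)))
  obtain ⟨s, hs, e⟩ := mem_autInducedBy.1 ((IsFullyAutomized.sylowIn hA).le_of_normal h1 h2 h3 hn')
  exact mem_Inn.2 ⟨s, h ((isKNorm_kNorm s).2 ⟨hs, n, le_autCore h1 h2 h3 hn', e⟩), e⟩

theorem normal_inf_of_stronglyClosed (hS : IsPGroup p S) {E : FusionSystem T}
    (hE : E.IsSaturated p) (hsub : E.IsSubsystemOf F) (hT : F.StronglyClosed T)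
    (hQ : F.IsNormal Q) : E.IsNormal (Q ⊓ T) := by
  have := finite_of_le hQ.1
  have := finite_of_le hT.1
  obtain ⟨n, hn⟩ := exists_zc_eq (pgroup_of_le hS hQ.1)
  have hsc : ∀ i, E.StronglyClosed (zc Q i ⊓ T) := fun i => StronglyClosed.of_sub hsub
    (stronglyClosed_inf (IsNormal.stronglyClosed (IsNormal.of_char hQ (zc_le _ _) (zc_char _ _)))
      hT) inf_le_right
  refine normal_of_chain (pgroup_of_le hS hT.1) hE (hn ▸ hsc n) (C := fun i => zc Q i ⊓ T) (n := n)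
    (by simp [zc_zero]) (by rw [hn]) (fun i _ => inf_le_inf_right _ (zc_le _ _))
    (fun i _ => StronglyClosed.weaklyClosed (hsc i)) fun i _ x hx y hy =>
      ⟨(mem_zc_succ.1 hx.1).2 y hy.1, ?_⟩
  rw [commutatorElement_def]
  exact T.mul_mem (T.mul_mem (T.mul_mem hx.2 hy.2) (T.inv_mem hx.2)) (T.inv_mem hy.2)

theorem centralizerIn_inf_core_le (hS : IsPGroup p S) (hF : F.IsConstrained p)
    (hT : F.StronglyClosed T) : centralizerIn T (F.core ⊓ T) ≤ F.core ⊓ T := by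
  intro s hs
  refine ⟨?_, hs.1⟩
  have hn := core_isNormal F
  refine mem_of_chain hS (IsConstrained.core_centric hF) (core_radical hS hF)
    (C := fun j => if j = 0 then ⊥ else if j = 1 then T else ⊤) (n := 2)
    (fun α hα j x hx hC => ?_) (by simp) (fun α _ => ⟨0, fun x _ hx => ?_⟩)
    ⟨hT.1 hs.1, WeaklyClosed.le_normalizer (IsNormal.weaklyClosed hn) (hT.1 hs.1)⟩
    fun j hj x hx hC => ?_
  · have hm := (mem_autGroup hn.1).1 hα
    split_ifs at hC ⊢
    · exact StronglyClosed.mem (stronglyClosed_bot F) hm hx hC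
    · exact StronglyClosed.mem hT hm hx hC
    · trivial
  · simp only [if_true, Subgroup.mem_bot] at hx
    rw [hx, afun_map_one]
  · rcases (by omega : j = 0 ∨ j = 1) with rfl | rfl
    · simp only [zero_add, one_ne_zero, if_false, if_true, Subgroup.mem_bot] at hC ⊢
      rw [(mem_centralizerIn.1 hs).2 x ⟨hx, hC⟩, inv_mul_cancel]
    · simp only [one_ne_zero, if_false, if_true]
      have := T.mul_mem (StronglyClosed.conj_mem hT (S.inv_mem (hn.1 hx)) hs.1) (T.inv_mem hs.1)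
      simpa [mul_assoc] using this

theorem constrained_of_sub (hS : IsPGroup p S) (hF : F.IsConstrained p) {E : FusionSystem T}
    (hE : E.IsSaturated p) (hsub : E.IsSubsystemOf F) (hT : F.StronglyClosed T) :
    E.IsConstrained p :=
  isConstrained_of hE (normal_inf_of_stronglyClosed hS hE hsub hT (core_isNormal F))
    (centralizerIn_inf_core_le hS hF hT)

end Constrained

variable {Ω Ω' : Type*} [Group Ω] [Group Ω'] {S : Subgroup Ω} {S' : Subgroup Ω'}
  {F : FusionSystem S} {F' : FusionSystem S'} {α : S →* Ω'} {P Q R T : Subgroup Ω}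
  {P' Q' R' : Subgroup Ω'} {f g : Ω → Ω} {f' g' : Ω' → Ω'} {p : ℕ}

/-- Isomorphisms of fusion systems. -/
structure FIso (F : FusionSystem S) (F' : FusionSystem S') (α : S →* Ω') : Prop
    extends Surj F F' α where
  inj : Function.Injective α

theorem exists_inv_hom (h : Function.Injective α) (hr : α.range = S') :
    ∃ κ : S' →* Ω, (∀ x ∈ S, ap κ (ap α x) = x) ∧ (∀ y ∈ S', ap κ y ∈ S) ∧
      ∀ y ∈ S', ap α (ap κ y) = y := by
  subst hr
  have h1 : ∀ x ∈ S, ap (S.subtype.comp (MonoidHom.ofInjective h).symm.toMonoidHom) (ap α x) = x := by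
    intro x hx
    rw [ap_of_mem _ (ap_mem_range α hx)]
    have : (⟨ap α x, ap_mem_range α hx⟩ : α.range) = MonoidHom.ofInjective h ⟨x, hx⟩ :=
      Subtype.ext (ap_of_mem α hx)
    rw [this]; simp
  refine ⟨_, h1, fun y hy => ?_, fun y hy => ?_⟩
  · obtain ⟨x, hx, rfl⟩ := mem_range_iff.1 hy
    rwa [h1 x hx]
  · obtain ⟨x, hx, rfl⟩ := mem_range_iff.1 hy
    rw [h1 x hx]

theorem FIso.of_factor (h : Factor F ⊥ α F') : FIso F F' α :=
  ⟨h.surj_of_bot, inj_of_preimage_bot h.ker⟩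

theorem FIso.factor (h : FIso F F' α) : Factor F ⊥ α F' := by
  have := h.toSurj.factor
  rwa [preimage_bot_of_inj h.inj] at this

theorem FIso.mor_of (h : FIso F F' α) (hP : P ≤ S) (hm : ∀ x ∈ P, f x ∈ S)
    (hf' : Mor F' (imageAlong α P) f') (e : ∀ x ∈ P, f' (ap α x) = ap α (f x)) : Mor F P f := by
  obtain ⟨g, hg, e'⟩ := h.lift hf'
  rw [preimage_image_of_inj h.inj hP] at hg e'
  exact hg.congr fun x hx => ap_inj h.inj (hg.mem hx) (hm x hx) (by rw [← e' x hx, e x hx])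

theorem FIso.symm (h : FIso F F' α) : ∃ κ : S' →* Ω, FIso F' F κ ∧ (∀ x ∈ S, ap κ (ap α x) = x) ∧
    (∀ y ∈ S', ap α (ap κ y) = y) ∧ (∀ P' ≤ S', imageAlong κ P' = preimageAlong α P') ∧
      ∀ P ≤ S, preimageAlong κ P = imageAlong α P := by
  obtain ⟨κ, k1, k2, k3⟩ := exists_inv_hom h.inj h.range
  have e1 : ∀ P' ≤ S', imageAlong κ P' = preimageAlong α P' := by
    intro P' hP'
    ext x
    rw [mem_imageAlong' hP', mem_preimageAlong]
    exact ⟨fun ⟨y, hy, e⟩ => e ▸ ⟨k2 y (hP' hy), by rwa [k3 y (hP' hy)]⟩,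
      fun ⟨h1, h2⟩ => ⟨_, h2, k1 x h1⟩⟩
  have e2 : ∀ P ≤ S, preimageAlong κ P = imageAlong α P := by
    intro P hP
    ext y
    rw [mem_imageAlong' hP, mem_preimageAlong]
    exact ⟨fun ⟨h1, h2⟩ => ⟨_, h2, k3 y h1⟩,
      fun ⟨x, hx, e⟩ => e ▸ ⟨h.mem x (hP hx), by rwa [k1 x (hP hx)]⟩⟩
  refine ⟨κ, ⟨⟨⟨k2, fun {P' f'} hf' => ?_⟩, ?_, fun {P f} hf => ?_⟩, fun a b hab => ?_⟩,
    k1, k3, e1, e2⟩
  · obtain ⟨f, hf, e⟩ := h.lift hf'
    rw [← e1 _ hf'.le] at hf e
    refine ⟨f, hf, fun y hy => ?_⟩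
    have := ap_mem_imageAlong (α := κ) hf'.le hy
    rw [← k1 _ (hf.mem this), ← e _ this, k3 y (hf'.le hy)]
  · ext x
    rw [mem_range_iff]
    exact ⟨fun ⟨y, hy, e⟩ => e ▸ k2 y hy, fun hx => ⟨_, h.mem x hx, k1 x hx⟩⟩
  · obtain ⟨f', hf', e⟩ := h.mor hf
    rw [e2 _ hf.le]
    refine ⟨f', hf', fun y hy => ?_⟩
    obtain ⟨x, hx, rfl⟩ := (mem_imageAlong' hf.le).1 hy
    rw [e x hx, k1 x (hf.le hx), k1 _ (hf.mem hx)]
  · apply Subtype.ext
    rw [← k3 a a.2, ← k3 b b.2, ap_coe, ap_coe, hab]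

theorem imageAlong_centralizerIn (h : Function.Injective α) (hr : α.range = S') (hP : P ≤ S) :
    imageAlong α (centralizerIn S P) = centralizerIn S' (imageAlong α P) := by
  subst hr
  ext y
  rw [mem_imageAlong' centralizerIn_le, mem_centralizerIn]
  constructor
  · rintro ⟨x, hx, rfl⟩
    refine ⟨ap_mem_range α hx.1, fun z hz => ?_⟩
    obtain ⟨w, hw, rfl⟩ := (mem_imageAlong' hP).1 hz
    rw [← ap_conj α hx.1 (hP hw), (mem_centralizerIn.1 hx).2 w hw]
  · rintro ⟨h1, h2⟩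
    obtain ⟨x, hx, rfl⟩ := mem_range_iff.1 h1
    refine ⟨x, mem_centralizerIn.2 ⟨hx, fun w hw => ap_inj h
      (S.mul_mem (S.mul_mem hx (hP hw)) (S.inv_mem hx)) (hP hw) ?_⟩, rfl⟩
    rw [ap_conj α hx (hP hw), h2 _ (ap_mem_imageAlong hP hw)]

theorem ap_mem_image_iff (h : Function.Injective α) (hP : P ≤ S) {x : Ω} (hx : x ∈ S) :
    ap α x ∈ imageAlong α P ↔ x ∈ P := by
  conv_rhs => rw [← preimage_image_of_inj h hP, mem_preimageAlong]
  simp [hx]

theorem imageAlong_normalizerIn (h : Function.Injective α) (hr : α.range = S') (hP : P ≤ S) :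
    imageAlong α (normalizerIn S P) = normalizerIn S' (imageAlong α P) := by
  subst hr
  ext y
  rw [mem_imageAlong' normalizerIn_le]
  constructor
  · rintro ⟨x, hx, rfl⟩
    refine ⟨ap_mem_range α hx.1, le_normalizer_of_conj_mem (K := imageAlong α (normalizerIn S P))
      (fun s hs z hz => ?_) (ap_mem_imageAlong normalizerIn_le hx)⟩
    obtain ⟨w, hw, rfl⟩ := (mem_imageAlong' hP).1 hz
    obtain ⟨t, ht, rfl⟩ := (mem_imageAlong' normalizerIn_le).1 hs
    rw [← ap_conj α ht.1 (hP hw)]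
    exact ap_mem_imageAlong hP (conj_mem_of_mem_normalizerIn ht hw)
  · rintro ⟨h1, h2⟩
    obtain ⟨x, hx, rfl⟩ := mem_range_iff.1 h1
    exact ⟨x, mem_normalizer_of_ap hP (by rw [preimage_bot_of_inj h]; exact bot_le) hx h2, rfl⟩

theorem imageAlong_le_imageAlong_iff (h : Function.Injective α) (hP : P ≤ S) (hQ : Q ≤ S) :
    imageAlong α P ≤ imageAlong α Q ↔ P ≤ Q := by
  refine ⟨fun h' x hx => ?_, imageAlong_mono⟩
  exact (ap_mem_image_iff h hQ (hP hx)).1 (h' (ap_mem_imageAlong hP hx))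

theorem imageAlong_inj (h : Function.Injective α) (hP : P ≤ S) (hQ : Q ≤ S)
    (e : imageAlong α P = imageAlong α Q) : P = Q :=
  le_antisymm ((imageAlong_le_imageAlong_iff h hP hQ).1 e.le)
    ((imageAlong_le_imageAlong_iff h hQ hP).1 e.ge)

theorem FIso.image_pre (h : FIso F F' α) {κ : S' →* Ω}
    (e1 : ∀ P' ≤ S', imageAlong κ P' = preimageAlong α P') (hP : P ≤ S) :
    imageAlong κ (imageAlong α P) = P := by
  rw [e1 _ (h.image_le hP), preimage_image_of_inj h.inj hP]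

theorem FIso.isConj (h : FIso F F' α) (hc : F.IsConj P Q) :
    F'.IsConj (imageAlong α P) (imageAlong α Q) := by
  obtain ⟨f, hf, rfl⟩ := isConj_iff.1 hc
  obtain ⟨f', hf', e⟩ := h.mor hf
  rw [← img_induced hf e le_rfl]; exact hf'.isConj

theorem FIso.exists_of_isConj (h : FIso F F' α) (hP : P ≤ S)
    (hc : F'.IsConj (imageAlong α P) Q') : ∃ Q, F.IsConj P Q ∧ imageAlong α Q = Q' := by
  obtain ⟨f', hf', rfl⟩ := isConj_iff.1 hc
  obtain ⟨f, hf, e⟩ := h.lift hf'
  rw [preimage_image_of_inj h.inj hP] at hf e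
  exact ⟨_, hf.isConj, (img_induced hf e le_rfl).symm⟩

theorem FIso.centric (h : FIso F F' α) (hc : F.IsCentric P) : F'.IsCentric (imageAlong α P) := by
  refine ⟨h.image_le hc.1, fun Q' hQ' => ?_⟩
  obtain ⟨Q, hQ, rfl⟩ := h.exists_of_isConj hc.1 hQ'
  rw [← imageAlong_centralizerIn h.inj h.range (isConj_le_right hQ)]
  exact imageAlong_mono (hc.2 Q hQ)

theorem FIso.fullyNormalized (h : FIso F F' α) (hc : F.IsFullyNormalized P) :
    F'.IsFullyNormalized (imageAlong α P) := by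
  refine ⟨h.image_le hc.1, fun Q' hQ' => ?_⟩
  obtain ⟨Q, hQ, rfl⟩ := h.exists_of_isConj hc.1 hQ'
  rw [← imageAlong_normalizerIn h.inj h.range (isConj_le_right hQ),
    ← imageAlong_normalizerIn h.inj h.range hc.1, card_imageAlong_of_inj h.inj normalizerIn_le,
    card_imageAlong_of_inj h.inj normalizerIn_le]
  exact hc.2 Q hQ

theorem FIso.fullyCentralized (h : FIso F F' α) (hc : F.IsFullyCentralized P) :
    F'.IsFullyCentralized (imageAlong α P) := by
  refine ⟨h.image_le hc.1, fun Q' hQ' => ?_⟩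
  obtain ⟨Q, hQ, rfl⟩ := h.exists_of_isConj hc.1 hQ'
  rw [← imageAlong_centralizerIn h.inj h.range (isConj_le_right hQ),
    ← imageAlong_centralizerIn h.inj h.range hc.1, card_imageAlong_of_inj h.inj centralizerIn_le,
    card_imageAlong_of_inj h.inj centralizerIn_le]
  exact hc.2 Q hQ

theorem FIso.constrained [Finite S] [Fact p.Prime] (h : FIso F F' α) (hS : IsPGroup p S)
    (hF : F.IsConstrained p) : F'.IsConstrained p := by
  obtain ⟨h1, Q, h2, h3⟩ := hF
  exact ⟨h.saturated hS h1, _, h.image_normal h2, h.centric h3⟩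

theorem FIso.normal_iff (h : FIso F F' α) (hP : P ≤ S) :
    F'.IsNormal (imageAlong α P) ↔ F.IsNormal P := by
  refine ⟨fun hn => ?_, h.image_normal⟩
  obtain ⟨κ, hκ, -, -, e1, -⟩ := h.symm
  rw [← h.image_pre e1 hP]; exact hκ.image_normal hn

theorem FIso.central_iff (h : FIso F F' α) (hP : P ≤ S) :
    F'.IsCentral (imageAlong α P) ↔ F.IsCentral P := by
  refine ⟨fun hn => ?_, h.image_central⟩
  obtain ⟨κ, hκ, -, -, e1, -⟩ := h.symm
  rw [← h.image_pre e1 hP]; exact hκ.image_central hn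

theorem FIso.centric_iff (h : FIso F F' α) (hP : P ≤ S) :
    F'.IsCentric (imageAlong α P) ↔ F.IsCentric P := by
  refine ⟨fun hn => ?_, h.centric⟩
  obtain ⟨κ, hκ, -, -, e1, -⟩ := h.symm
  rw [← h.image_pre e1 hP]; exact hκ.centric hn

theorem FIso.fullyNormalized_iff (h : FIso F F' α) (hP : P ≤ S) :
    F'.IsFullyNormalized (imageAlong α P) ↔ F.IsFullyNormalized P := by
  refine ⟨fun hn => ?_, h.fullyNormalized⟩
  obtain ⟨κ, hκ, -, -, e1, -⟩ := h.symm
  rw [← h.image_pre e1 hP]; exact hκ.fullyNormalized hn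

theorem FIso.stronglyClosed_iff (h : FIso F F' α) (hP : P ≤ S) :
    F'.StronglyClosed (imageAlong α P) ↔ F.StronglyClosed P := by
  refine ⟨fun hn => ?_, fun hn => h.image_stronglyClosed hn
    (by rw [preimage_bot_of_inj h.inj]; exact bot_le)⟩
  rw [← preimage_image_of_inj h.inj hP]; exact h.preimage_stronglyClosed hn

theorem FIso.image_core [Finite S] (h : FIso F F' α) : imageAlong α F.core = F'.core := by
  have := h.finite
  refine le_antisymm (IsNormal.le_core (h.image_normal (core_isNormal F))) ?_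
  rw [← h.image_preimage (core_le F')]
  refine imageAlong_mono (IsNormal.le_core ((h.normal_iff preimageAlong_le).1 ?_))
  rw [h.image_preimage (core_le F')]; exact core_isNormal F'

theorem FIso.image_center [Finite S] (h : FIso F F' α) : imageAlong α F.center = F'.center := by
  have := h.finite
  refine le_antisymm (IsCentral.le_center (h.image_central (center_isCentral F))) ?_
  rw [← h.image_preimage (center_le F')]
  refine imageAlong_mono (IsCentral.le_center ((h.central_iff preimageAlong_le).1 ?_))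
  rw [h.image_preimage (center_le F')]; exact center_isCentral F'

/-- Transport of automizers along an isomorphism. -/
theorem FIso.exists_autEquiv (h : FIso F F' α) (hP : P ≤ S) (hP' : imageAlong α P = P') :
    ∃ τ : MulAut P ≃* MulAut P', (∀ β, ∀ x ∈ P, afun (τ β) (ap α x) = ap α (afun β x)) ∧
      (∀ β, τ β ∈ F'.autGroup P' ↔ β ∈ F.autGroup P) ∧ (∀ β, τ β ∈ Inn P' ↔ β ∈ Inn P) ∧
      (∀ β, τ β ∈ autInducedBy S' P' ↔ β ∈ autInducedBy S P) := by
  subst hP'
  let e : P ≃* imageAlong α P := (Subgroup.subgroupOfEquivOfLe hP).symm.trans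
    ((P.subgroupOf S).equivMapOfInjective α h.inj)
  have he : ∀ x : P, (e x : Ω') = ap α x := fun x => by rw [ap_of_mem _ (hP x.2)]; rfl
  have hτ : ∀ β, ∀ x ∈ P, afun (MulAut.congr e β) (ap α x) = ap α (afun β x) := by
    intro β x hx
    rw [← he ⟨x, hx⟩, afun_coe, afun_of_mem _ hx, ← he]; simp
  have key : ∀ (K : Subgroup Ω) (hK : K ≤ S) β, MulAut.congr e β ∈ autInducedBy (imageAlong α K)
      (imageAlong α P) ↔ β ∈ autInducedBy K P := by
    intro K hK β
    simp only [mem_autInducedBy]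
    constructor
    · rintro ⟨s', hs', es⟩
      obtain ⟨s, hs, rfl⟩ := (mem_imageAlong' hK).1 hs'
      refine ⟨s, hs, fun x hx => ap_inj h.inj (hP (afun_mem _ hx))
        (S.mul_mem (S.mul_mem (hK hs) (hP hx)) (S.inv_mem (hK hs))) ?_⟩
      rw [← hτ β x hx, es _ (ap_mem_imageAlong hP hx), ap_conj α (hK hs) (hP hx)]
    · rintro ⟨s, hs, es⟩
      refine ⟨_, ap_mem_imageAlong hK hs, fun y hy => ?_⟩
      obtain ⟨x, hx, rfl⟩ := (mem_imageAlong' hP).1 hy
      rw [hτ β x hx, es x hx, ap_conj α (hK hs) (hP hx)]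
  refine ⟨MulAut.congr e, hτ, fun β => ?_, fun β => ?_, fun β => ?_⟩
  · rw [mem_autGroup hP, mem_autGroup (h.image_le hP)]
    refine ⟨fun h' => h.mor_of hP (fun x hx => hP (afun_mem _ hx)) h' (hτ β), fun h' => ?_⟩
    obtain ⟨f', hf', e'⟩ := h.mor h'
    refine hf'.congr fun y hy => ?_
    obtain ⟨x, hx, rfl⟩ := (mem_imageAlong' hP).1 hy
    rw [e' x hx, hτ β x hx]
  · rw [Inn_eq_autInducedBy, Inn_eq_autInducedBy, key P hP]
  · rw [← h.range, ← imageAlong_top, key S le_rfl]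

theorem FIso.radical [Finite S] [Fact p.Prime] (h : FIso F F' α) (hS : IsPGroup p S) (hr : F.IsRadical p P) :
    F'.IsRadical p (imageAlong α P) := by
  obtain ⟨τ, -, h2, h3, -⟩ := h.exists_autEquiv hr.1 rfl
  have := h.finite
  refine (isRadical_iff (h.pgroup hS)).2 ⟨h.image_le hr.1, fun N h4 h5 h6 n hn => ?_⟩
  obtain ⟨m, rfl⟩ := τ.surjective n
  refine (h3 m).2 (((isRadical_iff hS).1 hr).2 (N.comap τ.toMonoidHom) (fun a ha => (h2 a).1 (h4 ha))
    (h5.comap_of_injective _ τ.injective) (fun a ha b hb => ?_) hn)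
  have := h6 _ ((h2 a).2 ha) _ hb
  simpa using this

/-! ### realized systems -/

variable {G : Type*} [Group G] {ι : S →* G}

theorem isRealizedBy_iff : F.IsRealizedBy ι ↔ Function.Injective ι ∧ ∀ P f, P ≤ S →
    (∀ x ∈ P, f x ∈ S) → (Mor F P f ↔ ∃ g : G, ∀ x ∈ P, ap ι (f x) = g * ap ι x * g⁻¹) := by
  refine and_congr_right fun hi => ⟨fun h P f hP hf => ⟨?_, ?_⟩, fun h P hP φ hφ => ?_⟩
  · rintro ⟨φ, hφ, e⟩
    obtain ⟨g, eg⟩ := (h P hP φ fun x => e x ▸ hf x x.2).1 hφ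
    exact ⟨g, fun x hx => by
      rw [ap_of_mem _ (hP hx), ← eg ⟨x, hx⟩, ← ap_of_mem ι, e]⟩
  · rintro ⟨g, eg⟩
    have hmul : ∀ x ∈ P, ∀ y ∈ P, f (x * y) = f x * f y := fun x hx y hy =>
      ap_inj hi (hf _ (P.mul_mem hx hy)) (S.mul_mem (hf x hx) (hf y hy)) (by
        rw [ap_mul _ (hf x hx) (hf y hy), eg _ (P.mul_mem hx hy), eg x hx, eg y hy,
          ap_mul _ (hP hx) (hP hy)]; group)
    refine ⟨mkHom P f hmul, (h P hP _ fun x => hf x x.2).2 ⟨g, fun x => ?_⟩, fun _ => rfl⟩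
    rw [← ap_of_mem ι (hP x.2), ← eg x x.2]; exact (ap_of_mem ι _).symm
  · rw [mem_Hom_iff, h P _ hP fun x hx => by rw [hfun_of_mem _ hx]; exact hφ _]
    refine exists_congr fun g => ⟨fun h x => ?_, fun h x hx => ?_⟩
    · rw [← ap_of_mem ι, ← ap_of_mem ι, ← h x x.2, hfun_coe]
    · rw [hfun_of_mem _ hx, ap_of_mem _ (hφ _), ap_of_mem _ (hP hx)]; exact h ⟨x, hx⟩

theorem isRealizedBy_iff_iso : F.IsRealizedBy ι ↔ FIso F (groupFusionSystem ι.range) ι := by
  rw [isRealizedBy_iff]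
  constructor
  · rintro ⟨hi, h⟩
    refine ⟨⟨⟨fun x hx => ap_mem_range ι hx, fun {P f} hf => ?_⟩, rfl, fun {P' f'} hf' => ?_⟩, hi⟩
    · obtain ⟨g, e⟩ := (h P f hf.le fun x hx => hf.mem hx).1 hf
      refine ⟨fun y => g * y * g⁻¹, mor_group_iff.2 ⟨imageAlong_le_range, fun y hy => ?_, g,
        fun _ _ => rfl⟩, fun x hx => (e x hx).symm⟩
      obtain ⟨x, hx, rfl⟩ := (mem_imageAlong' hf.le).1 hy
      rw [← e x hx]; exact ap_mem_range ι (hf.mem hx)
    · obtain ⟨h1, h2, g, e⟩ := mor_group_iff.1 hf'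
      obtain ⟨κ, k1, k2, k3⟩ := exists_inv_hom hi rfl
      have h3 : ∀ x ∈ preimageAlong ι P', f' (ap ι x) ∈ ι.range := fun x hx =>
        h2 _ (mem_preimageAlong.1 hx).2
      refine ⟨fun x => ap κ (f' (ap ι x)), (h _ _ preimageAlong_le fun x hx => k2 _ (h3 x hx)).2
        ⟨g, fun x hx => ?_⟩, fun x hx => (k3 _ (h3 x hx)).symm⟩
      rw [k3 _ (h3 x hx), e _ (mem_preimageAlong.1 hx).2]
  · intro h
    refine ⟨h.inj, fun P f hP hm => ⟨fun hf => ?_, fun ⟨g, e⟩ => ?_⟩⟩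
    · obtain ⟨f', hf', e⟩ := h.mor hf
      obtain ⟨-, -, g, eg⟩ := mor_group_iff.1 hf'
      exact ⟨g, fun x hx => by rw [← e x hx, eg _ (ap_mem_imageAlong hP hx)]⟩
    · refine h.mor_of hP hm (f' := fun y => g * y * g⁻¹) (mor_group_iff.2 ⟨imageAlong_le_range,
        fun y hy => ?_, g, fun _ _ => rfl⟩) fun x hx => (e x hx).symm
      obtain ⟨x, hx, rfl⟩ := (mem_imageAlong' hP).1 hy
      rw [← e x hx]; exact ap_mem_range ι (hm x hx)

theorem IsRealizedBy.mor_iff (h : F.IsRealizedBy ι) (hP : P ≤ S) (hm : ∀ x ∈ P, f x ∈ S) :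
    Mor F P f ↔ ∃ g : G, ∀ x ∈ P, ap ι (f x) = g * ap ι x * g⁻¹ :=
  (isRealizedBy_iff.1 h).2 P f hP hm

theorem ap_subtype (S : Subgroup G) {x : G} (hx : x ∈ S) : ap S.subtype x = x := ap_of_mem _ hx

theorem group_realizedBy (S : Subgroup G) : (groupFusionSystem S).IsRealizedBy S.subtype := by
  refine isRealizedBy_iff.2 ⟨S.subtype_injective, fun P f hP hm => ?_⟩
  rw [mor_group_iff]
  exact ⟨fun ⟨_, _, g, e⟩ => ⟨g, fun x hx => by
      rw [ap_subtype S (hm x hx), ap_subtype S (hP hx), e x hx]⟩,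
    fun ⟨g, e⟩ => ⟨hP, hm, g, fun x hx => by
      rw [← ap_subtype S (hm x hx), e x hx, ap_subtype S (hP hx)]⟩⟩

theorem coe_ap_inclusion {H T : Subgroup Ω} (hTH : T ≤ H) {x : Ω} (hx : x ∈ T) :
    ((ap (Subgroup.inclusion hTH) x : H) : Ω) = x := by rw [ap_of_mem _ hx]; rfl

theorem sub_realizedBy {H T : Subgroup Ω} (hTH : T ≤ H) :
    (fusionSystemOfSubgroup H T hTH).IsRealizedBy (Subgroup.inclusion hTH) := by
  refine isRealizedBy_iff.2 ⟨Subgroup.inclusion_injective hTH, fun P f hP hm => ?_⟩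
  rw [mor_subgroup_iff]
  constructor
  · rintro ⟨_, _, g, hg, e⟩
    refine ⟨⟨g, hg⟩, fun x hx => Subtype.ext ?_⟩
    simp only [Subgroup.coe_mul, Subgroup.coe_inv]
    rw [coe_ap_inclusion hTH (hm x hx), coe_ap_inclusion hTH (hP hx), e x hx]
  · rintro ⟨g, e⟩
    refine ⟨hP, hm, g, g.2, fun x hx => ?_⟩
    have := congrArg Subtype.val (e x hx)
    simp only [Subgroup.coe_mul, Subgroup.coe_inv] at this
    rwa [coe_ap_inclusion hTH (hm x hx), coe_ap_inclusion hTH (hP hx)] at this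

theorem sub_iso {H T : Subgroup Ω} (hTH : T ≤ H) : FIso (fusionSystemOfSubgroup H T hTH)
    (groupFusionSystem (T.subgroupOf H)) (Subgroup.inclusion hTH) := by
  have := isRealizedBy_iff_iso.1 (sub_realizedBy hTH)
  rwa [Subgroup.inclusion_range] at this

theorem realized_saturated [Finite G] [Fact p.Prime] (h : F.IsRealizedBy ι)
    (hT : ∃ T : Sylow p G, (T : Subgroup G) = ι.range) : F.IsSaturated p := by
  obtain ⟨T, hT⟩ := hT
  obtain ⟨κ, hκ, -⟩ := (isRealizedBy_iff_iso.1 h).symm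
  exact hκ.saturated (hT ▸ T.isPGroup') (hT ▸ group_saturated T)

theorem group_normal_of_normal {S R : Subgroup G} (hn : R.Normal) (hR : R ≤ S) :
    (groupFusionSystem S).IsNormal R := by
  rw [groupFusionSystem_eq]
  exact normal_sub_of_le_normalizer hR (by rw [Subgroup.normalizer_eq_top])

theorem pCore_le_sylow [Fact p.Prime] [Finite G] (T : Sylow p G) : pCore p G ≤ T := by
  have := pCore_normal p G
  exact (pCore_pgroup G).le_sylow_of_normal T

theorem group_constrained [Finite G] [Fact p.Prime] (T : Sylow p G)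
    (h : Subgroup.centralizer ((pCore p G : Subgroup G) : Set G) ≤ pCore p G) :
    (groupFusionSystem (T : Subgroup G)).IsConstrained p :=
  isConstrained_of (group_saturated T) (group_normal_of_normal (pCore_normal p G) (pCore_le_sylow T))
    (inf_le_right.trans h)

theorem IsModel.constrained [Fact p.Prime] (h : F.IsModel p G ι) : F.IsConstrained p := by
  obtain ⟨_, h1, ⟨T, hT⟩, h3⟩ := h
  obtain ⟨κ, hκ, -⟩ := (isRealizedBy_iff_iso.1 h1).symm
  exact hκ.constrained (hT ▸ T.isPGroup') (hT ▸ group_constrained T h3)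

end Cfsg.Agent.Fusion
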