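import Cfsg.Agent.Lib.Fusion.KNorm

/-! Normal, central and strongly closed subgroups of fusion systems. -/

set_option autoImplicit false

namespace Cfsg.Agent.Fusion

open Cfsg Cfsg.FusionSystem
open scoped commutatorElement

variable {Ω : Type*} [Group Ω] {S : Subgroup Ω} {F : FusionSystem S} {P Q R T U : Subgroup Ω}
  {f g : Ω → Ω} {p : ℕ}

theorem IsNormal.ext (h : F.IsNormal Q) (hf : Mor F P f) :
    ∃ g, Mor F (P ⊔ Q) g ∧ (∀ x ∈ P, g x = f x) ∧ img g Q = Q := (isNormal_iff.1 h).2 P f hf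

theorem IsCentral.ext (h : F.IsCentral Q) (hf : Mor F P f) :
    ∃ g, Mor F (P ⊔ Q) g ∧ (∀ x ∈ P, g x = f x) ∧ ∀ x ∈ Q, g x = x := (isCentral_iff.1 h).2 P f hf

theorem IsCentral.isNormal (h : F.IsCentral Q) : F.IsNormal Q := by
  refine isNormal_iff.2 ⟨h.1, fun P f hf => ?_⟩
  obtain ⟨g, hg, e, e'⟩ := IsCentral.ext h hf
  exact ⟨g, hg, e, img_of_eq_id e'⟩

theorem IsCentral.fix (h : F.IsCentral Q) (hf : Mor F P f) {x : Ω} (hx : x ∈ P) (hQ : x ∈ Q) :
    f x = x := by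
  obtain ⟨g, hg, e, e'⟩ := IsCentral.ext h hf
  rw [← e x hx, e' x hQ]

theorem IsCentral.of_le (h : F.IsCentral Q) (hR : R ≤ Q) : F.IsCentral R := by
  refine isCentral_iff.2 ⟨hR.trans h.1, fun P f hf => ?_⟩
  obtain ⟨g, hg, e, e'⟩ := IsCentral.ext h hf
  exact ⟨g, hg.mono (sup_le_sup_left hR _), e, fun x hx => e' x (hR hx)⟩

theorem IsNormal.stronglyClosed (h : F.IsNormal Q) : F.StronglyClosed Q := by
  refine stronglyClosed_iff.2 ⟨h.1, fun P f hf x hx hQ => ?_⟩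
  obtain ⟨g, hg, e, e'⟩ := IsNormal.ext h hf
  rw [← e x hx, ← e']; exact subset_img hQ

theorem StronglyClosed.conj_mem (h : F.StronglyClosed Q) {s x : Ω} (hs : s ∈ S) (hx : x ∈ Q) :
    s * x * s⁻¹ ∈ Q := StronglyClosed.mem h (mor_conj F le_rfl hs) (h.1 hx) hx

theorem le_normalizer_of_conj_mem {K : Subgroup Ω} (h : ∀ s ∈ K, ∀ x ∈ Q, s * x * s⁻¹ ∈ Q) :
    K ≤ Subgroup.normalizer (Q : Set Ω) := by
  intro s hs
  rw [Subgroup.mem_normalizer_iff]
  refine fun x => ⟨h s hs x, fun hx => ?_⟩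
  have := h _ (K.inv_mem hs) _ hx
  simpa [mul_assoc] using this

theorem StronglyClosed.le_normalizer (h : F.StronglyClosed Q) :
    S ≤ Subgroup.normalizer (Q : Set Ω) :=
  le_normalizer_of_conj_mem fun _ hs _ hx => StronglyClosed.conj_mem h hs hx

theorem StronglyClosed.mem_iff (h : F.StronglyClosed Q) (hf : Mor F P f) {x : Ω} (hx : x ∈ P) :
    f x ∈ Q ↔ x ∈ Q := by
  refine ⟨fun h' => ?_, StronglyClosed.mem h hf hx⟩
  obtain ⟨i, hi, e, -⟩ := hf.inv
  rw [← e x hx]; exact StronglyClosed.mem h hi (subset_img hx) h'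

theorem StronglyClosed.img_inf (h : F.StronglyClosed Q) (hf : Mor F P f) :
    img f (P ⊓ Q) = img f P ⊓ Q := by
  ext y
  rw [hf.mem_img' inf_le_left, Subgroup.mem_inf, hf.mem_img]
  constructor
  · rintro ⟨x, hx, rfl⟩; exact ⟨⟨x, hx.1, rfl⟩, StronglyClosed.mem h hf hx.1 hx.2⟩
  · rintro ⟨⟨x, hx, rfl⟩, h'⟩; exact ⟨x, ⟨hx, (StronglyClosed.mem_iff h hf hx).1 h'⟩, rfl⟩

theorem StronglyClosed.img_eq [Finite S] (h : F.StronglyClosed Q) (hf : Mor F P f) (hQ : Q ≤ P) :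
    img f Q = Q := by
  have := finite_of_le h.1
  exact (hf.mono hQ).img_eq_self fun x hx => StronglyClosed.mem h hf (hQ hx) hx

theorem StronglyClosed.weaklyClosed [Finite S] (h : F.StronglyClosed Q) : F.WeaklyClosed Q :=
  weaklyClosed_iff.2 ⟨h.1, fun _ hf => StronglyClosed.img_eq h hf le_rfl⟩

theorem WeaklyClosed.img_eq (h : F.WeaklyClosed Q) (hf : Mor F P f) (hQ : Q ≤ P) : img f Q = Q :=
  (weaklyClosed_iff.1 h).2 f (hf.mono hQ)

theorem WeaklyClosed.mem (h : F.WeaklyClosed Q) (hf : Mor F P f) (hQ : Q ≤ P) {x : Ω}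
    (hx : x ∈ Q) : f x ∈ Q := WeaklyClosed.img_eq h hf hQ ▸ subset_img hx

theorem WeaklyClosed.le_normalizer (h : F.WeaklyClosed Q) :
    S ≤ Subgroup.normalizer (Q : Set Ω) :=
  le_normalizer_of_conj_mem fun _ hs _ hx => WeaklyClosed.mem h (mor_conj F le_rfl hs) h.1 hx

theorem stronglyClosed_inf (h : F.StronglyClosed Q) (h' : F.StronglyClosed R) :
    F.StronglyClosed (Q ⊓ R) :=
  stronglyClosed_iff.2 ⟨inf_le_left.trans h.1, fun _ _ hf _ hx hQ =>
    ⟨StronglyClosed.mem h hf hx hQ.1, StronglyClosed.mem h' hf hx hQ.2⟩⟩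

theorem stronglyClosed_top (F : FusionSystem S) : F.StronglyClosed S :=
  stronglyClosed_iff.2 ⟨le_rfl, fun _ _ hf _ hx _ => hf.mem hx⟩

theorem isCentral_bot (F : FusionSystem S) : F.IsCentral ⊥ := by
  refine isCentral_iff.2 ⟨bot_le, fun P f hf => ⟨f, by rwa [sup_bot_eq], fun _ _ => rfl, ?_⟩⟩
  intro x hx
  rw [Subgroup.mem_bot] at hx
  rw [hx, hf.map_one]

theorem isNormal_bot (F : FusionSystem S) : F.IsNormal ⊥ := IsCentral.isNormal (isCentral_bot F)

theorem stronglyClosed_bot (F : FusionSystem S) : F.StronglyClosed ⊥ :=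
  IsNormal.stronglyClosed (isNormal_bot F)

theorem IsNormal.of_invariant (h : F.IsNormal Q) (hU : U ≤ Q)
    (hi : ∀ α ∈ F.autGroup Q, ∀ x ∈ U, afun α x ∈ U) : F.IsNormal U := by
  refine isNormal_iff.2 ⟨hU.trans h.1, fun P f hf => ?_⟩
  obtain ⟨g, hg, e, e'⟩ := IsNormal.ext h hf
  obtain ⟨α, hα, eα⟩ := (hg.mono le_sup_right).exists_aut e'
  refine ⟨g, hg.mono (sup_le_sup_left hU _), e, le_antisymm (img_le_iff.2 fun x hx => ?_)
    fun x hx => ?_⟩
  · rw [← eα x (hU hx)]; exact hi α hα x hx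
  · have := hi α⁻¹ ((F.autGroup Q).inv_mem hα) x hx
    rw [← afun_afun_inv α (hU hx), eα _ (hU this)]; exact subset_img this

theorem afun_mem_of_char (hU : U ≤ Q) (hc : (U.subgroupOf Q).Characteristic) (α : MulAut Q)
    {x : Ω} (hx : x ∈ U) : afun α x ∈ U := by
  rw [afun_of_mem _ (hU hx)]
  have := Subgroup.characteristic_iff_le_comap.1 hc α
  exact this (show (⟨x, hU hx⟩ : Q) ∈ U.subgroupOf Q from hx)

theorem IsNormal.of_char (h : F.IsNormal Q) (hU : U ≤ Q) (hc : (U.subgroupOf Q).Characteristic) :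
    F.IsNormal U := IsNormal.of_invariant h hU fun α _ _ hx => afun_mem_of_char hU hc α hx

theorem IsNormal.sup (h : F.IsNormal Q) (h' : F.IsNormal R) : F.IsNormal (Q ⊔ R) := by
  refine isNormal_iff.2 ⟨sup_le h.1 h'.1, fun P f hf => ?_⟩
  obtain ⟨g, hg, e, e'⟩ := IsNormal.ext h hf
  obtain ⟨k, hk, e1, e2⟩ := IsNormal.ext h' hg
  rw [sup_assoc] at hk
  refine ⟨k, hk, fun x hx => by rw [e1 x (Subgroup.mem_sup_left hx), e x hx], ?_⟩
  rw [(hk.mono le_sup_right).img_sup, e2, img_congr fun x hx => e1 x (Subgroup.mem_sup_right hx), e']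

theorem IsCentral.sup (h : F.IsCentral Q) (h' : F.IsCentral R) : F.IsCentral (Q ⊔ R) := by
  refine isCentral_iff.2 ⟨sup_le h.1 h'.1, fun P f hf => ?_⟩
  obtain ⟨g, hg, e, e'⟩ := IsCentral.ext h hf
  obtain ⟨k, hk, e1, e2⟩ := IsCentral.ext h' hg
  rw [sup_assoc] at hk
  refine ⟨k, hk, fun x hx => by rw [e1 x (Subgroup.mem_sup_left hx), e x hx], ?_⟩
  exact (hk.mono le_sup_right).eq_on_sup (mor_id F (sup_le h.1 h'.1))
    (fun x hx => by rw [e1 x (Subgroup.mem_sup_right hx), e' x hx]) e2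

/-- A family of subgroups of a finite subgroup closed under joins contains its supremum. -/
theorem sSup_mem_of_sup [Finite S] {C : Set (Subgroup Ω)} (h0 : ⊥ ∈ C) (hle : ∀ Q ∈ C, Q ≤ S)
    (hsup : ∀ Q ∈ C, ∀ R ∈ C, Q ⊔ R ∈ C) : sSup C ∈ C := by
  have hb : BddAbove ((fun Q : Subgroup Ω => Nat.card Q) '' C) :=
    ⟨Nat.card S, by rintro _ ⟨Q, hQ, rfl⟩; exact Subgroup.card_le_of_le (hle Q hQ)⟩
  obtain ⟨M, hM, e⟩ := Nat.sSup_mem (Set.Nonempty.image _ ⟨⊥, h0⟩) hb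
  have : sSup C = M := by
    refine le_antisymm (sSup_le fun Q hQ => ?_) (le_sSup hM)
    have h1 := hsup M hM Q hQ
    have := finite_of_le (hle _ h1)
    have h2 : M = M ⊔ Q := Subgroup.eq_of_le_of_card_ge le_sup_left
      (by simp only at e; rw [e]; exact le_csSup hb ⟨_, h1, rfl⟩)
    rw [h2]; exact le_sup_right
  rwa [this]

theorem core_isNormal [Finite S] (F : FusionSystem S) : F.IsNormal F.core :=
  sSup_mem_of_sup (S := S) (C := {Q | F.IsNormal Q}) (isNormal_bot F) (fun _ h => h.1)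
    fun _ h _ h' => IsNormal.sup h h'

theorem center_isCentral [Finite S] (F : FusionSystem S) : F.IsCentral F.center :=
  sSup_mem_of_sup (S := S) (C := {Q | F.IsCentral Q}) (isCentral_bot F) (fun _ h => h.1)
    fun _ h _ h' => IsCentral.sup h h'

theorem IsNormal.le_core (h : F.IsNormal Q) : Q ≤ F.core := le_sSup h

theorem IsCentral.le_center (h : F.IsCentral Q) : Q ≤ F.center := le_sSup h

theorem core_le (F : FusionSystem S) : F.core ≤ S := sSup_le fun _ h => h.1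

theorem center_le (F : FusionSystem S) : F.center ≤ S := sSup_le fun _ h => h.1

theorem center_le_core (F : FusionSystem S) : F.center ≤ F.core :=
  sSup_le fun _ h => IsNormal.le_core (IsCentral.isNormal h)

/-- Products with a normalized subgroup. -/
theorem mem_sup_of_le_normalizer (h : P ≤ Subgroup.normalizer (Q : Set Ω)) {x : Ω} :
    x ∈ P ⊔ Q ↔ ∃ u ∈ P, ∃ q ∈ Q, u * q = x := by
  rw [← SetLike.mem_coe, Subgroup.coe_mul_of_left_le_normalizer_right _ _ h]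
  rfl

theorem isKNorm_top_of_le (h : S ≤ Subgroup.normalizer (Q : Set Ω)) : IsKNorm S Q ⊤ S := by
  have : normalizerIn S Q = S := inf_eq_left.2 h
  have h2 := isKNorm_top (S := S) (Q := Q)
  rwa [this] at h2

theorem isKNorm_bot_of_le (h : ∀ s ∈ S, ∀ x ∈ Q, s * x * s⁻¹ = x) : IsKNorm S Q ⊥ S := by
  have : centralizerIn S Q = S :=
    le_antisymm centralizerIn_le fun s hs => mem_centralizerIn.2 ⟨hs, h s hs⟩
  have h2 := isKNorm_bot (S := S) (Q := Q)
  rwa [this] at h2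

/-! ### the upper central series of a subgroup -/

/-- The upper central series of `Q`, inside the ambient group. -/
def zc (Q : Subgroup Ω) (i : ℕ) : Subgroup Ω := (Subgroup.upperCentralSeries Q i).map Q.subtype

theorem zc_le (Q : Subgroup Ω) (i : ℕ) : zc Q i ≤ Q := Subgroup.map_subtype_le _

theorem zc_zero (Q : Subgroup Ω) : zc Q 0 = ⊥ := by simp [zc]

theorem zc_mono (Q : Subgroup Ω) : Monotone (zc Q) := fun _ _ h =>
  Subgroup.map_mono (Subgroup.upperCentralSeries_mono _ h)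

theorem zc_char (Q : Subgroup Ω) (i : ℕ) : ((zc Q i).subgroupOf Q).Characteristic := by
  rw [zc, Subgroup.subgroupOf, Subgroup.comap_map_eq_self_of_injective Q.subtype_injective]
  infer_instance

theorem mem_zc_succ {i : ℕ} {x : Ω} :
    x ∈ zc Q (i + 1) ↔ x ∈ Q ∧ ∀ y ∈ Q, ⁅x, y⁆ ∈ zc Q i := by
  constructor
  · rintro ⟨x, hx, rfl⟩
    exact ⟨x.2, fun y hy => ⟨_, Subgroup.mem_upperCentralSeries_succ_iff.1 hx ⟨y, hy⟩, rfl⟩⟩
  · rintro ⟨hx, h⟩
    refine ⟨⟨x, hx⟩, Subgroup.mem_upperCentralSeries_succ_iff.2 fun y => ?_, rfl⟩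
    obtain ⟨z, hz, e⟩ := h y y.2
    have : z = ⁅(⟨x, hx⟩ : Q), y⁆ := Subtype.ext e
    rwa [← this]

theorem commutator_zc_le (Q : Subgroup Ω) (i : ℕ) : ⁅zc Q (i + 1), Q⁆ ≤ zc Q i :=
  Subgroup.commutator_le.2 fun _ hx => (mem_zc_succ.1 hx).2

theorem exists_zc_eq [Fact p.Prime] [Finite Q] (hQ : IsPGroup p Q) : ∃ n, zc Q n = Q := by
  have := hQ.isNilpotent
  obtain ⟨n, hn⟩ := Group.IsNilpotent.nilpotent Q
  exact ⟨n, by rw [zc, hn, ← MonoidHom.range_eq_map, Subgroup.range_subtype]⟩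

theorem mem_zc_one {x : Ω} : x ∈ zc Q 1 ↔ x ∈ centralizerIn Q Q := by
  rw [mem_zc_succ, zc_zero, mem_centralizerIn]
  refine and_congr_right fun _ => forall₂_congr fun y _ => ?_
  rw [Subgroup.mem_bot, commutatorElement_def, mul_inv_eq_one]

theorem zc_one : zc Q 1 = centralizerIn Q Q := by ext; exact mem_zc_one

theorem centralizerIn_self_ne_bot [Fact p.Prime] [Finite Q] (hQ : IsPGroup p Q) (h : Q ≠ ⊥) :
    centralizerIn Q Q ≠ ⊥ := by
  intro h0
  rw [← zc_one] at h0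
  obtain ⟨n, hn⟩ := exists_zc_eq hQ
  have : ∀ i, zc Q i = ⊥ := by
    intro i
    induction i with
    | zero => exact zc_zero Q
    | succ i ih =>
      rw [eq_bot_iff, ← h0]
      intro x hx
      rw [mem_zc_succ, ih, ← zc_zero Q] at hx
      exact mem_zc_succ.2 hx
  exact h (hn ▸ this n)

/-! ### chain stabilizers -/

theorem afun_pow_of_step {β : MulAut P} {x c : Ω} (hx : x ∈ P) (hc : c ∈ P)
    (e : afun β x = x * c) (ec : afun β c = c) (m : ℕ) : afun (β ^ m) x = x * c ^ m := by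
  induction m with
  | zero => simp [afun_one]
  | succ m ih =>
    have h2 : ∀ k : ℕ, afun β (c ^ k) = c ^ k := by
      intro k
      induction k with
      | zero => simpa using afun_map_mul β P.one_mem P.one_mem
      | succ k ihk => rw [pow_succ, afun_map_mul _ (P.pow_mem hc k) hc, ihk, ec]
    rw [pow_succ', afun_mul _ _ hx, ih, afun_map_mul _ hx (P.pow_mem hc m), e, h2, pow_succ',
      mul_assoc]

theorem afun_map_one (β : MulAut P) : afun β 1 = 1 := by
  simpa using afun_map_mul β P.one_mem P.one_mem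

theorem afun_map_inv (β : MulAut P) {x : Ω} (hx : x ∈ P) : afun β x⁻¹ = (afun β x)⁻¹ := by
  rw [eq_inv_iff_mul_eq_one, ← afun_map_mul _ (P.inv_mem hx) hx, inv_mul_cancel, afun_map_one]

/-- The stabilizer of a chain inside a group `L` of automorphisms leaving the chain invariant. -/
def chainStab (L : Subgroup (MulAut P)) (C : ℕ → Subgroup Ω) (n : ℕ)
    (hinv : ∀ α ∈ L, ∀ i, ∀ x ∈ P, x ∈ C i → afun α x ∈ C i) : Subgroup (MulAut P) where
  carrier := {α | α ∈ L ∧ ∀ i < n, ∀ x ∈ P, x ∈ C (i + 1) → x⁻¹ * afun α x ∈ C i}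
  one_mem' := ⟨L.one_mem, fun i _ x _ _ => by simp [afun_one]⟩
  mul_mem' := by
    rintro α β ⟨h1, h2⟩ ⟨h3, h4⟩
    refine ⟨L.mul_mem h1 h3, fun i hi x hx hC => ?_⟩
    have := (C i).mul_mem (h4 i hi x hx hC) (h2 i hi _ (afun_mem β hx) (hinv β h3 _ x hx hC))
    rw [afun_mul _ _ hx]
    simpa [mul_assoc] using this
  inv_mem' := by
    rintro α ⟨h1, h2⟩
    refine ⟨L.inv_mem h1, fun i hi x hx hC => ?_⟩
    have := (C i).inv_mem (h2 i hi _ (afun_mem α⁻¹ hx) (hinv _ (L.inv_mem h1) _ x hx hC))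
    rw [afun_afun_inv _ hx] at this
    simpa using this

theorem chainStab_pgroup (hP : IsPGroup p P) [Finite P] [Fact p.Prime] {L : Subgroup (MulAut P)}
    {C : ℕ → Subgroup Ω} {n : ℕ}
    (hinv : ∀ α ∈ L, ∀ i, ∀ x ∈ P, x ∈ C i → afun α x ∈ C i) (htop : P ≤ C n)
    (hbot : ∀ α ∈ chainStab L C n hinv, ∃ k : ℕ, ∀ x ∈ P, x ∈ C 0 → afun (α ^ p ^ k) x = x) :
    IsPGroup p (chainStab L C n hinv) := by
  obtain ⟨e, he⟩ := IsPGroup.iff_card.1 hP
  rintro ⟨α, hα⟩
  have key : ∀ i ≤ n, ∃ k : ℕ, ∀ x ∈ P, x ∈ C i → afun (α ^ p ^ k) x = x := by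
    intro i
    induction i with
    | zero => exact fun _ => hbot α hα
    | succ i ih =>
      intro hi
      obtain ⟨k, hk⟩ := ih (by omega)
      refine ⟨k + e, fun x hx hC => ?_⟩
      have h1 := ((chainStab L C n hinv).pow_mem hα (p ^ k)).2 i (by omega) x hx hC
      have h2 : x⁻¹ * afun (α ^ p ^ k) x ∈ P := P.mul_mem (P.inv_mem hx) (afun_mem _ hx)
      rw [pow_add, pow_mul, afun_pow_of_step hx h2 (by group) (hk _ h2 h1), ← he]
      have : (⟨_, h2⟩ : P) ^ Nat.card P = 1 := pow_card_eq_one'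
      rw [show (x⁻¹ * afun (α ^ p ^ k) x) ^ Nat.card P = 1 from congrArg Subtype.val this, mul_one]
  obtain ⟨k, hk⟩ := key n le_rfl
  exact ⟨k, Subtype.ext (aut_ext fun x hx => by
    rw [Subgroup.coe_one, afun_one]; exact hk x hx (htop hx))⟩

theorem chainStab_conj {A L : Subgroup (MulAut P)} {C : ℕ → Subgroup Ω} {n : ℕ}
    (hinv : ∀ α ∈ L, ∀ i, ∀ x ∈ P, x ∈ C i → afun α x ∈ C i)
    (hA : ∀ α ∈ A, ∀ i, ∀ x ∈ P, x ∈ C i → afun α x ∈ C i)
    (hL : ∀ a ∈ A, ∀ α ∈ L, a * α * a⁻¹ ∈ L) :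
    ∀ a ∈ A, ∀ α ∈ chainStab L C n hinv, a * α * a⁻¹ ∈ chainStab L C n hinv := by
  rintro a ha α ⟨h1, h2⟩
  refine ⟨hL a ha α h1, fun i hi x hx hC => ?_⟩
  have hy := afun_mem a⁻¹ hx
  have := hA a ha _ _ (P.mul_mem (P.inv_mem hy) (afun_mem α hy))
    (h2 i hi _ hy (hA _ (A.inv_mem ha) _ x hx hC))
  rwa [afun_map_mul _ (P.inv_mem hy) (afun_mem α hy), afun_map_inv _ hy, afun_afun_inv _ hx,
    ← afun_mul _ _ hy, ← afun_mul _ _ hx] at this

variable [Fact p.Prime] [Finite S]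

/-- An element normalizing a centric radical subgroup and stabilizing an invariant chain
lies in it. -/
theorem mem_of_chain (hS : IsPGroup p S) (hc : F.IsCentric P) (hr : F.IsRadical p P)
    {C : ℕ → Subgroup Ω} {n : ℕ}
    (hinv : ∀ α ∈ F.autGroup P, ∀ i, ∀ x ∈ P, x ∈ C i → afun α x ∈ C i) (htop : P ≤ C n)
    (hbot : ∀ α ∈ chainStab (F.autGroup P) C n hinv,
      ∃ k : ℕ, ∀ x ∈ P, x ∈ C 0 → afun (α ^ p ^ k) x = x)
    {s : Ω} (hs : s ∈ normalizerIn S P)
    (h : ∀ i < n, ∀ x ∈ P, x ∈ C (i + 1) → x⁻¹ * (s * x * s⁻¹) ∈ C i) : s ∈ P := by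
  have := finite_of_le hc.1
  obtain ⟨σ, e⟩ := exists_cAut hs.2
  refine mem_of_cAut_mem_Inn (IsCentric.cent_le hc) hc.1 hs.1 e ?_
  refine ((isRadical_iff hS).1 hr).2 (chainStab (F.autGroup P) C n hinv) (fun _ h => h.1)
    (chainStab_pgroup (pgroup_of_le hS hc.1) hinv htop hbot)
    (chainStab_conj hinv hinv fun a ha α hα => (F.autGroup P).mul_mem
      ((F.autGroup P).mul_mem ha hα) ((F.autGroup P).inv_mem ha)) ⟨?_, fun i hi x hx hC => ?_⟩
  · exact autInducedBy_le_autGroup F hc.1 (mem_autInducedBy.2 ⟨s, hs.1, e⟩)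
  · rw [e x hx]; exact h i hi x hx hC

theorem le_of_normalizer_inf_le (hS : IsPGroup p S) (hP : P ≤ S) (hQ : Q ≤ S)
    (hn : P ≤ Subgroup.normalizer (Q : Set Ω))
    (h : ∀ s ∈ Q, s ∈ Subgroup.normalizer (P : Set Ω) → s ∈ P) : Q ≤ P := by
  by_contra hne
  have hlt : P < P ⊔ Q := left_lt_sup.2 hne
  have := finite_of_le (sup_le hP hQ)
  obtain ⟨g, g1, g2, g3⟩ := exists_mem_normalizer_of_lt (pgroup_of_le hS (sup_le hP hQ)) hlt
  obtain ⟨u, hu, q, hq, rfl⟩ := (mem_sup_of_le_normalizer hn).1 g1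
  refine g2 (P.mul_mem hu (h q hq ?_))
  have := Subgroup.mul_mem _ (Subgroup.inv_mem _ (Subgroup.le_normalizer hu)) g3
  simpa using this

theorem IsNormal.le_of_radical (hS : IsPGroup p S) (hQ : F.IsNormal Q) (hc : F.IsCentric P)
    (hr : F.IsRadical p P) : Q ≤ P := by
  have hsc := IsNormal.stronglyClosed hQ
  refine le_of_normalizer_inf_le hS hc.1 hQ.1 (hc.1.trans (StronglyClosed.le_normalizer hsc))
    fun s hs hn => ?_
  obtain ⟨σ, e⟩ := exists_cAut hn
  refine mem_of_cAut_mem_Inn (IsCentric.cent_le hc) hc.1 (hQ.1 hs) e ?_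
  refine ((isRadical_iff hS).1 hr).2 (autInducedBy Q P)
    ((autInducedBy_mono hQ.1).trans (autInducedBy_le_autGroup F hc.1))
    (autInducedBy_pgroup (pgroup_of_le hS hQ.1) P) (fun a ha α hα => ?_)
    (mem_autInducedBy.2 ⟨s, hs, e⟩)
  obtain ⟨t, ht, et⟩ := mem_autInducedBy.1 hα
  obtain ⟨g, hg, eg, -⟩ := IsNormal.ext hQ ((mem_autGroup hc.1).1 ha)
  refine mem_autInducedBy.2 ⟨g t, StronglyClosed.mem hsc hg (Subgroup.mem_sup_right ht) ht,
    fun x hx => ?_⟩
  have hy := afun_mem a⁻¹ hx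
  rw [afun_mul _ _ hx, afun_mul _ _ hy, ← eg _ (afun_mem α hy), et _ hy,
    hg.map_conj (Subgroup.mem_sup_right ht) (Subgroup.mem_sup_left hy), eg _ hy,
    afun_afun_inv _ hx]

theorem kMor_of_family (hS : IsPGroup p S) (hF : F.IsSaturated p) {K : Subgroup (MulAut Q)}
    (hQ : Q ≤ S) (hT : IsKNorm S Q K S)
    (h : ∀ P : Subgroup Ω, (P = S ∨ F.IsEssential p P) → Q ≤ P ∧ ∀ α ∈ F.autGroup P,
      ∃ γ ∈ K, ∀ x ∈ Q, afun α x = afun γ x) (hf : Mor F P f) : KMor F Q K S P f := by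
  refine alperin_ind hS hF (kSysData F hQ hT) (fun P hP α hα => ?_) hf
  have hPS := (alperin_family hS hF hP).1.1
  obtain ⟨γ, hγ, e⟩ := (h P hP).2 α hα
  exact KMor.of_ext hT hPS ((mem_autGroup hPS).1 hα) le_rfl (h P hP).1 (fun _ _ => rfl) hγ e

theorem normal_of_family (hS : IsPGroup p S) (hF : F.IsSaturated p)
    (h : ∀ P : Subgroup Ω, (P = S ∨ F.IsEssential p P) → Q ≤ P ∧ ∀ α ∈ F.autGroup P,
      ∀ x ∈ Q, afun α x ∈ Q) : F.IsNormal Q := by
  have hQ := (h S (Or.inl rfl)).1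
  have hn : S ≤ Subgroup.normalizer (Q : Set Ω) := le_normalizer_of_conj_mem fun s hs x hx => by
    obtain ⟨σ, e⟩ := exists_cAut (Subgroup.le_normalizer hs)
    rw [← e x (hQ hx)]
    exact (h S (Or.inl rfl)).2 σ (Inn_le_autGroup F le_rfl (mem_Inn.2 ⟨s, hs, e⟩)) x hx
  refine isNormal_iff.2 ⟨hQ, fun P f hf => ?_⟩
  obtain ⟨-, -, g, hg, e, α, -, e'⟩ := kMor_of_family hS hF hQ (isKNorm_top_of_le hn)
    (fun P hP => ⟨(h P hP).1, fun α hα => by
      have := finite_of_le (alperin_family hS hF hP).1.1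
      obtain ⟨γ, e⟩ := exists_resAut (h P hP).1 (mem_stabAut_of_finite (h P hP).1 ((h P hP).2 α hα))
      exact ⟨γ, trivial, e⟩⟩) hf
  exact ⟨g, hg, e, img_eq_of_afun e'⟩

theorem central_of_family (hS : IsPGroup p S) (hF : F.IsSaturated p) (hQ : Q ≤ S)
    (h : ∀ P : Subgroup Ω, (P = S ∨ F.IsEssential p P) → ∀ α ∈ F.autGroup P,
      ∀ x ∈ Q, x ∈ P → afun α x = x) : F.IsCentral Q := by
  have hn : ∀ s ∈ S, ∀ x ∈ Q, s * x * s⁻¹ = x := fun s hs x hx => by
    obtain ⟨σ, e⟩ := exists_cAut (Subgroup.le_normalizer hs)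
    rw [← e x (hQ hx)]
    exact h S (Or.inl rfl) σ (Inn_le_autGroup F le_rfl (mem_Inn.2 ⟨s, hs, e⟩)) x hx (hQ hx)
  refine isCentral_iff.2 ⟨hQ, fun P f hf => ?_⟩
  have hle : ∀ P : Subgroup Ω, (P = S ∨ F.IsEssential p P) → Q ≤ P := fun P hP x hx => by
    have hc := (alperin_family hS hF hP).2.1
    refine IsCentric.cent_le hc (mem_centralizerIn.2 ⟨hQ hx, fun y hy => ?_⟩)
    have := hn y (hc.1 hy) x hx
    calc x * y * x⁻¹ = (y * x * y⁻¹) * y * x⁻¹ := by rw [this]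
      _ = y := by group
  obtain ⟨-, -, g, hg, e, α, hα, e'⟩ := kMor_of_family hS hF hQ (isKNorm_bot_of_le hn)
    (fun P hP => ⟨hle P hP, fun α hα => ⟨1, Subgroup.one_mem _, fun x hx => by
      rw [afun_one, h P hP α hα x hx (hle P hP hx)]⟩⟩) hf
  rw [Subgroup.mem_bot] at hα
  exact ⟨g, hg, e, fun x hx => by rw [e' x hx, hα, afun_one]⟩

theorem central_of_fix (hS : IsPGroup p S) (hF : F.IsSaturated p) (hQ : Q ≤ S)
    (h : ∀ P f, Mor F P f → ∀ x ∈ P, x ∈ Q → f x = x) : F.IsCentral Q :=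
  central_of_family hS hF hQ fun P hP _ hα x hx hxP =>
    h P _ ((mem_autGroup (alperin_family hS hF hP).1.1).1 hα) x hxP hx

theorem mem_center_iff (hS : IsPGroup p S) (hF : F.IsSaturated p) {z : Ω} :
    z ∈ F.center ↔ z ∈ S ∧ ∀ P f, Mor F P f → z ∈ P → f z = z := by
  refine ⟨fun h => ⟨center_le F h, fun P f hf hz => IsCentral.fix (center_isCentral F) hf hz h⟩,
    fun ⟨h1, h2⟩ => ?_⟩
  refine IsCentral.le_center (central_of_family hS hF ((Subgroup.zpowers_le).2 h1)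
    fun P hP α hα x hx hxP => ?_) (Subgroup.mem_zpowers z)
  obtain ⟨hn, hc, -⟩ := alperin_family hS hF hP
  have hz : z ∈ P := by
    refine IsCentric.cent_le hc (mem_centralizerIn.2 ⟨h1, fun y hy => ?_⟩)
    have := h2 _ _ (mor_conj F le_rfl (hc.1 hy)) h1
    calc z * y * z⁻¹ = (y * z * y⁻¹) * y * z⁻¹ := by rw [this]
      _ = y := by group
  obtain ⟨k, rfl⟩ := Subgroup.mem_zpowers_iff.1 hx
  have hm := (mem_autGroup hc.1).1 hα
  rw [hm.map_zpow hz, h2 _ _ hm hz]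

theorem normal_of_le_family (hS : IsPGroup p S) (hF : F.IsSaturated p) (hQ : F.WeaklyClosed Q)
    (h : ∀ P : Subgroup Ω, F.IsFullyNormalized P → F.IsCentric P → F.IsRadical p P → Q ≤ P) :
    F.IsNormal Q := by
  refine normal_of_family hS hF fun P hP => ?_
  obtain ⟨h1, h2, h3⟩ := alperin_family hS hF hP
  exact ⟨h P h1 h2 h3, fun α hα x hx =>
    WeaklyClosed.mem hQ ((mem_autGroup h1.1).1 hα) (h P h1 h2 h3) hx⟩

/-- Normality from a chain: `Q` strongly closed with a central chain of weakly closed subgroups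
starting from a normal subgroup whose automizer is a `p`-group. -/
theorem normal_of_chain' (hS : IsPGroup p S) (hF : F.IsSaturated p) (hQ : F.StronglyClosed Q)
    {C : ℕ → Subgroup Ω} {n : ℕ} (h0 : F.IsNormal (C 0)) (h0' : IsPGroup p (F.autGroup (C 0)))
    (hn : Q ≤ C n) (hle : ∀ i ≤ n, C i ≤ Q) (hw : ∀ i ≤ n, F.WeaklyClosed (C i))
    (hcomm : ∀ i < n, ∀ x ∈ C (i + 1), ∀ y ∈ Q, ⁅x, y⁆ ∈ C i) : F.IsNormal Q := by
  refine normal_of_le_family hS hF (StronglyClosed.weaklyClosed hQ) fun P _ hc hr => ?_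
  have h0P := IsNormal.le_of_radical hS h0 hc hr
  have key : ∀ i ≤ n, ∀ j ≤ i, C j ≤ P := by
    intro i
    induction i with
    | zero => intro _ j hj; rwa [Nat.le_zero.1 hj]
    | succ i ih =>
      intro hi j hj
      rcases hj.lt_or_eq with hj | rfl
      · exact ih (by omega) j (by omega)
      refine le_of_normalizer_inf_le hS hc.1 (hw _ hi).1
        (hc.1.trans (WeaklyClosed.le_normalizer (hw _ hi))) fun s hs hsn => ?_
      have hsQ := hle _ hi hs
      refine mem_of_chain hS hc hr (C := fun j => if j ≤ i then C j else if j = i + 1 then Q else ⊤)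
        (n := i + 2) (fun α hα j x hx hC => ?_) (by simp) (fun α hα => ?_) ⟨hQ.1 hsQ, hsn⟩
        fun j hj x hx hC => ?_
      · have hm := (mem_autGroup hc.1).1 hα
        split_ifs at hC ⊢ with h1 h2
        · exact WeaklyClosed.mem (hw j (by omega)) hm (ih (by omega) j h1) hC
        · exact StronglyClosed.mem hQ hm hx hC
        · trivial
      · have hm := (mem_autGroup hc.1).1 hα.1
        obtain ⟨γ, hγ, e⟩ := (hm.mono h0P).exists_aut
          (StronglyClosed.img_eq (IsNormal.stronglyClosed h0) hm h0P)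
        obtain ⟨k, hk⟩ := h0' ⟨γ, hγ⟩
        refine ⟨k, fun x _ hx => ?_⟩
        simp only [Nat.zero_le, if_true] at hx
        rw [afun_pow_of_eq h0P (fun x hx => (e x hx).symm) _ x hx,
          show γ ^ p ^ k = 1 from congrArg Subtype.val hk, afun_one]
      · have e : x⁻¹ * (s * x * s⁻¹) = ⁅x⁻¹, s⁆ := by rw [commutatorElement_def]; group
        have e' : x⁻¹ * (s * x * s⁻¹) = ⁅s, x⁻¹⁆⁻¹ := by rw [commutatorElement_def]; group
        by_cases h1 : j + 1 ≤ i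
        · rw [if_pos h1] at hC
          rw [if_pos (by omega), e]
          exact hcomm j (by omega) _ ((C _).inv_mem hC) s hsQ
        · by_cases h2 : j = i
          · subst h2
            rw [if_neg h1, if_pos rfl] at hC
            rw [if_pos le_rfl, e']
            exact (C _).inv_mem (hcomm j (by omega) s hs _ (Q.inv_mem hC))
          · have h3 : j = i + 1 := by omega
            rw [if_neg (by omega), if_pos h3]
            have := StronglyClosed.conj_mem hQ (S.inv_mem (hc.1 hx)) hsQ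
            have h4 := Q.mul_mem this (Q.inv_mem hsQ)
            simpa [mul_assoc] using h4
  exact hn.trans (key n le_rfl n le_rfl)

theorem autGroup_bot_pgroup (F : FusionSystem S) (h : Q = ⊥) : IsPGroup p (F.autGroup Q) := by
  subst h
  intro α
  exact ⟨0, Subtype.ext (by ext x; rw [Subsingleton.elim x 1]; simp)⟩

theorem normal_of_chain (hS : IsPGroup p S) (hF : F.IsSaturated p) (hQ : F.StronglyClosed Q)
    {C : ℕ → Subgroup Ω} {n : ℕ} (h0 : C 0 = ⊥)
    (hn : Q ≤ C n) (hle : ∀ i ≤ n, C i ≤ Q) (hw : ∀ i ≤ n, F.WeaklyClosed (C i))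
    (hcomm : ∀ i < n, ∀ x ∈ C (i + 1), ∀ y ∈ Q, ⁅x, y⁆ ∈ C i) : F.IsNormal Q :=
  normal_of_chain' hS hF hQ (h0 ▸ isNormal_bot F) (autGroup_bot_pgroup F h0) hn hle hw hcomm

theorem normal_of_zc (hS : IsPGroup p S) (hF : F.IsSaturated p) (hQ : F.StronglyClosed Q)
    (hw : ∀ i, F.WeaklyClosed (zc Q i)) : F.IsNormal Q := by
  have := finite_of_le hQ.1
  obtain ⟨n, hn⟩ := exists_zc_eq (pgroup_of_le hS hQ.1)
  exact normal_of_chain hS hF hQ (zc_zero Q) hn.ge (fun i _ => zc_le Q i) (fun i _ => hw i)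
    fun i _ x hx => (mem_zc_succ.1 hx).2

theorem normal_of_abelian (hS : IsPGroup p S) (hF : F.IsSaturated p) (hQ : F.StronglyClosed Q)
    (hab : ∀ x ∈ Q, ∀ y ∈ Q, x * y = y * x) : F.IsNormal Q := by
  refine normal_of_chain hS hF hQ (C := fun i => if i = 0 then ⊥ else Q) (n := 1) (by simp)
    (by simp) (fun i _ => ?_) (fun i _ => ?_) fun i hi x hx y hy => ?_
  · split_ifs <;> simp
  · split_ifs
    · exact StronglyClosed.weaklyClosed (stronglyClosed_bot F)
    · exact StronglyClosed.weaklyClosed hQ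
  · have : i = 0 := by omega
    subst this
    simp only [zero_add, one_ne_zero, if_false] at hx
    simp [commutatorElement_def, hab x hx y hy]

theorem normal_of_restrict (hS : IsPGroup p S) (hF : F.IsSaturated p) (hR : R ≤ S)
    (h : ∀ P f, P ≤ R → Mor F P f → ∃ α : MulAut R, ∀ x ∈ P, afun α x = f x) : F.IsNormal R := by
  have key : ∀ U, U ≤ R → (U.subgroupOf R).Characteristic → F.StronglyClosed U := by
    intro U hU hc
    refine stronglyClosed_iff.2 ⟨hU.trans hR, fun P f hf x hx hxU => ?_⟩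
    obtain ⟨α, e⟩ := h _ f (inf_le_right.trans hU) (hf.mono (inf_le_left : P ⊓ U ≤ P))
    rw [← e x ⟨hx, hxU⟩]; exact afun_mem_of_char hU hc α hxU
  exact normal_of_zc hS hF (key R le_rfl (by rw [Subgroup.subgroupOf_self]; infer_instance))
    fun i => StronglyClosed.weaklyClosed (key _ (zc_le R i) (zc_char R i))

/-- Two maps agreeing on a centric subgroup differ by conjugation with a central element. -/
theorem eq_conj_of_eq_on_centric (hS : IsPGroup p S) (hF : F.IsSaturated p) (hQ : F.IsCentric Q)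
    (hQP : Q ≤ P) (hf : Mor F P f) (hg : Mor F P g) (e : ∀ x ∈ Q, f x = g x) :
    ∃ z ∈ centralizerIn Q Q, ∀ y ∈ P, g y = f (z * y * z⁻¹) := by
  have step : ∀ {P Q : Subgroup Ω} {f g : Ω → Ω}, F.IsCentric Q → Q ≤ P →
      P ≤ Subgroup.normalizer (Q : Set Ω) → Mor F P f → Mor F P g → (∀ x ∈ Q, f x = g x) →
      ∃ z ∈ centralizerIn Q Q, ∀ y ∈ P, g y = f (z * y * z⁻¹) := by
    intro P Q f g hQ hQP hn hf hg e
    have hc' := isCentric_of_conj hQ (hf.mono hQP).isConj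
    have hle : ∀ x ∈ P, g x ∈ img f P := by
      intro x hx
      have : (f x)⁻¹ * g x ∈ img f Q := by
        refine IsCentric.cent_le hc' (mem_centralizerIn.2 ⟨S.mul_mem (S.inv_mem (hf.mem hx))
          (hg.mem hx), fun y hy => ?_⟩)
        obtain ⟨u, hu, rfl⟩ := (hf.mem_img' hQP).1 hy
        have h1 := hg.map_conj hx (hQP hu)
        rw [← e _ (conj_mem_of_mem_normalizer (hn hx) hu), hf.map_conj hx (hQP hu), ← e u hu] at h1
        calc _ = (f x)⁻¹ * (g x * f u * (g x)⁻¹) * f x := by group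
          _ = f u := by rw [← h1]; group
      have h2 := (img f P).mul_mem (subset_img hx) (img_mono hQP this)
      simpa using h2
    obtain ⟨i, hi, i1, i2, i3, i4⟩ := hf.inv
    have hm := hg.comp hi hle
    have := finite_of_le hf.le
    obtain ⟨α, hα, eα⟩ := hm.exists_aut (hm.img_eq_self fun x hx => i2 _ (hle x hx))
    have hfix : ∀ x ∈ Q, afun α x = x := fun x hx => by
      rw [eα x (hQP hx), ← e x hx, i1 x (hQP hx)]
    let L := F.autGroup P ⊓ resPre hQP ⊥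
    have hL : ∀ β ∈ L, ∀ x ∈ Q, afun β x = x := by
      rintro β ⟨-, hβ⟩ x hx
      obtain ⟨γ, hγ, e⟩ := (mem_resPre _).1 hβ
      rw [Subgroup.mem_bot] at hγ
      rw [e x hx, hγ, afun_one]
    have hinv : ∀ β ∈ L, ∀ i, ∀ x ∈ P, x ∈ (if i = 0 then Q else ⊤) →
        afun β x ∈ (if i = 0 then Q else ⊤) := by
      intro β hβ i x hx hC
      split_ifs at hC ⊢
      · rwa [hL β hβ x hC]
      · trivial
    have hp := chainStab_pgroup (n := 1) (pgroup_of_le hS hf.le) hinv (by simp)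
      fun β hβ => ⟨0, fun x _ hx => by simpa using hL β hβ.1 x (by simpa using hx)⟩
    obtain ⟨R, hR, hRn⟩ := exists_fullyNormalized F hf.le
    obtain ⟨θ, hθ, -, hB⟩ := exists_pullAut_ge hS (IsSaturated.fullyAutomized hS hF hRn) hR
      (B := chainStab L _ 1 hinv) (fun _ h => h.1.1) hp
    obtain ⟨s, hs, es⟩ := hB (show α ∈ chainStab L _ 1 hinv from ⟨⟨hα, (mem_resPre _).2
      ⟨1, Subgroup.one_mem _, fun x hx => by rw [afun_one, hfix x hx]⟩⟩, fun j hj x hx _ => by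
        have : j = 0 := by omega
        subst this
        show _ ∈ Q
        refine IsCentric.cent_le hQ (mem_centralizerIn.2 ⟨S.mul_mem (S.inv_mem (hf.le hx))
          (hf.le (afun_mem _ hx)), fun u hu => ?_⟩)
        have h1 := ((mem_autGroup hf.le).1 hα).map_conj hx (hQP hu)
        rw [hfix _ (conj_mem_of_mem_normalizer (hn hx) hu), hfix u hu] at h1
        calc _ = x⁻¹ * (afun α x * u * (afun α x)⁻¹) * x := by group
          _ = u := by rw [← h1]; group⟩)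
    have hsQ : s ∈ img θ Q := by
      refine IsCentric.cent_le (isCentric_of_conj hQ (hθ.mono hQP).isConj)
        (mem_centralizerIn.2 ⟨hs, fun y hy => ?_⟩)
      obtain ⟨u, hu, rfl⟩ := (hθ.mem_img' hQP).1 hy
      rw [← es u (hQP hu), hfix u hu]
    obtain ⟨z, hz, rfl⟩ := (hθ.mem_img' hQP).1 hsQ
    have ez : ∀ y ∈ P, afun α y = z * y * z⁻¹ := fun y hy =>
      hθ.inj (afun_mem _ hy) (P.mul_mem (P.mul_mem (hQP hz) hy) (P.inv_mem (hQP hz)))
        (by rw [es y hy, hθ.map_conj (hQP hz) hy])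
    refine ⟨z, mem_centralizerIn.2 ⟨hz, fun u hu => by rw [← ez u (hQP hu), hfix u hu]⟩,
      fun y hy => by rw [← ez y hy, eα y hy, i3 _ (hle y hy)]⟩
  refine downward_induction (S := S) (C := fun Q => ∀ f, F.IsCentric Q → Q ≤ P → Mor F P f →
    (∀ x ∈ Q, f x = g x) → ∃ z ∈ centralizerIn Q Q, ∀ y ∈ P, g y = f (z * y * z⁻¹)) ?_ Q hQ.1 f
    hQ hQP hf e
  intro Q hQS ih f hQ hQP hf e
  rcases hQP.eq_or_lt with rfl | hlt
  · exact ⟨1, Subgroup.one_mem _, fun y hy => by simp [e y hy]⟩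
  have := finite_of_le hf.le
  have hN := lt_normalizerIn (pgroup_of_le hS hf.le) hlt
  have hNP : normalizerIn P Q ≤ P := normalizerIn_le
  obtain ⟨z, hz, ez⟩ := step hQ hN.le inf_le_right (hf.mono hNP) (hg.mono hNP) e
  have hzP := hQP hz.1
  have := finite_of_le hNP
  obtain ⟨w, hw, ew⟩ := ih _ (hNP.trans hf.le) (card_lt_of_lt hN) (fun y => f (z * y * z⁻¹))
    (isCentric_of_le hQ hN.le (hNP.trans hf.le)) hNP
    ((mor_conj F hf.le (hf.le hzP)).comp hf fun x hx =>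
      P.mul_mem (P.mul_mem hzP hx) (P.inv_mem hzP)) fun x hx => (ez x hx).symm
  have hw' : w ∈ centralizerIn Q Q := by
    have h1 : ∀ x ∈ Q, w * x * w⁻¹ = x := fun x hx => (mem_centralizerIn.1 hw).2 x (hN.le hx)
    exact mem_centralizerIn.2 ⟨IsCentric.cent_le hQ (mem_centralizerIn.2
      ⟨hf.le (hNP hw.1), h1⟩), h1⟩
  refine ⟨z * w, Subgroup.mul_mem _ hz hw', fun y hy => ?_⟩
  rw [ew y hy]; congr 1; group

end Cfsg.Agent.Fusion
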