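import Cfsg.Agent.Lib.Fusion.GroupQuot
import Cfsg.Agent.Lib.Fusion.Normal
import Cfsg.Agent.Lib.Solv.Cores
import Cfsg.Prelude.Def_Local

set_option autoImplicit false
set_option linter.unusedSectionVars false
set_option linter.unusedVariables false
open Cfsg Cfsg.FusionSystem

namespace Cfsg.Agent.Fusion

variable {G : Type*} [Group G] [Finite G] {p : ℕ} [Fact p.Prime]

theorem mem_center_group (S : Sylow p G) {x : G} :
    x ∈ (groupFusionSystem (S : Subgroup G)).center ↔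
      x ∈ (S : Subgroup G) ∧ ∀ g : G, g * x * g⁻¹ ∈ (S : Subgroup G) → g * x * g⁻¹ = x := by
  rw [mem_center_iff S.isPGroup' (group_saturated S)]
  refine and_congr_right fun hx => ⟨fun h g hg => ?_, fun h P f hf hP => ?_⟩
  · refine h (Subgroup.zpowers x) (fun y => g * y * g⁻¹)
      (mor_group_iff.2 ⟨Subgroup.zpowers_le.2 hx, fun y hy => ?_, g, fun _ _ => rfl⟩) (Subgroup.mem_zpowers x)
    obtain ⟨k, rfl⟩ := Subgroup.mem_zpowers_iff.1 hy
    rw [← conj_zpow]; exact Subgroup.zpow_mem _ hg k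
  · obtain ⟨-, h1, g, h2⟩ := mor_group_iff.1 hf
    rw [h2 x hP]; exact h g (h2 x hP ▸ h1 x hP)

theorem eq_of_mk_pPrimeCore {S : Subgroup G} (hS : IsPGroup p S) {a b : G} (ha : a ∈ S) (hb : b ∈ S)
    (h : a⁻¹ * b ∈ pPrimeCore p G) : a = b := by
  have h1 : a⁻¹ * b ∈ S ⊓ pPrimeCore p G := ⟨S.mul_mem (S.inv_mem ha) hb, h⟩
  have h2 : S ⊓ pPrimeCore p G = ⊥ := by
    obtain ⟨k, hk⟩ := IsPGroup.iff_card.1 hS
    exact Subgroup.inf_eq_bot_of_coprime (hk ▸ ((Solv.coprime_card_pPrimeCore (G := G) p).symm.pow_left k))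
  rw [h2, Subgroup.mem_bot] at h1
  exact inv_mul_eq_one.1 h1

theorem normal_pPrimePCore (S : Sylow p G) :
    (groupFusionSystem (S : Subgroup G)).IsNormal ((S : Subgroup G) ⊓ pPrimePCore p G) := by
  set H := pPrimeCore p G
  set Q := (S : Subgroup G) ⊓ pPrimePCore p G
  have hle : pCore p (G ⧸ H) ≤ (S : Subgroup G).map (QuotientGroup.mk' H) :=
    Solv.pCore_le_sylow (S.mapSurjective (QuotientGroup.mk'_surjective H))
  have hn : (pPrimePCore p G).Normal := by unfold pPrimePCore; infer_instance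
  refine isNormal_iff.2 ⟨inf_le_left, fun P f hf => ?_⟩
  obtain ⟨hP, h1, g, h2⟩ := mor_group_iff.1 hf
  obtain ⟨k, hk, h3⟩ := exists_lift_conj (sylowIn_top S) H (P := P ⊔ Q) (sup_le hP inf_le_left) g (by
    have : P ⊔ Q ≤ ((S : Subgroup G).map (QuotientGroup.mk' H)).comap
        ((QuotientGroup.mk' H).comp (MulAut.conj g).toMonoidHom) := by
      refine sup_le (fun x hx => ?_) fun x hx => ?_
      · exact ⟨g * x * g⁻¹, h2 x hx ▸ h1 x hx, rfl⟩
      · exact hle (hn.conj_mem x hx.2 g)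
    exact fun x hx => this hx)
  have hm : Mor (groupFusionSystem (S : Subgroup G)) (P ⊔ Q) fun x => k * g * x * (k * g)⁻¹ :=
    mor_group_iff.2 ⟨sup_le hP inf_le_left, h3, k * g, fun _ _ => rfl⟩
  refine ⟨_, hm, fun x hx => ?_, ?_⟩
  · rw [h2 x hx]
    refine (eq_of_mk_pPrimeCore S.isPGroup' (h2 x hx ▸ h1 x hx) (h3 x (Subgroup.mem_sup_left hx)) ?_).symm
    have : (g * x * g⁻¹)⁻¹ * (k * g * x * (k * g)⁻¹) = ((g * x * g⁻¹)⁻¹ * k * (g * x * g⁻¹)⁻¹⁻¹) * k⁻¹ := by group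
    rw [this]
    exact H.mul_mem ((inferInstance : H.Normal).conj_mem _ hk _) (H.inv_mem hk)
  · exact (hm.mono le_sup_right).img_eq_of_card_le
      (fun x hx => ⟨h3 x (Subgroup.mem_sup_right hx), hn.conj_mem x hx.2 _⟩) le_rfl

theorem center_le_pPrimePCore [Group.IsSolvable G] (S : Sylow p G) :
    (S : Subgroup G) ⊓ Subgroup.centralizer ((S : Subgroup G) : Set G) ≤ pPrimePCore p G := by
  intro z hz
  have hle : pCore p (G ⧸ pPrimeCore p G) ≤ (S : Subgroup G).map (QuotientGroup.mk' _) :=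
    Solv.pCore_le_sylow (S.mapSurjective (QuotientGroup.mk'_surjective _))
  refine Solv.centralizer_pCore_le Solv.pPrimeCore_quotient_pPrimeCore fun y hy => ?_
  obtain ⟨s, hs, rfl⟩ := hle hy
  rw [← map_mul, ← map_mul, hz.2 s hs]

end Cfsg.Agent.Fusion
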