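import Cfsg.Agent.Lib.Fusion.Inner
import Cfsg.Agent.Lib.Fusion.CFun2
import Cfsg.Agent.Lib.Fusion.Yosh

/-! Control of transfer and of fusion by families of characteristic functors. -/

set_option autoImplicit false

namespace Cfsg.Agent.Fusion

open Cfsg Cfsg.FusionSystem
open scoped commutatorElement

universe u v

variable {Ω : Type u} [Group Ω] {S : Subgroup Ω} {F : FusionSystem S}
  {P Q R T A U D : Subgroup Ω} {p : ℕ} {f g φ : Ω → Ω}

/-- The focal subgroup of the normalizer system of `U`. -/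
def nFoc (F : FusionSystem S) (U : Subgroup Ω) : Subgroup Ω :=
  Subgroup.closure {y | ∃ P g x, Mor F P g ∧ U ≤ P ∧ img g U = U ∧ x ∈ P ∧ y = x⁻¹ * g x}

theorem Mor.mem_nFoc (hg : Mor F P g) (h1 : U ≤ P) (h2 : img g U = U) {x : Ω} (hx : x ∈ P) :
    x⁻¹ * g x ∈ nFoc F U := Subgroup.subset_closure ⟨P, g, x, hg, h1, h2, hx, rfl⟩

theorem nFoc_le_iff : nFoc F U ≤ D ↔
    ∀ P g, Mor F P g → U ≤ P → img g U = U → ∀ x ∈ P, x⁻¹ * g x ∈ D :=
  ⟨fun h _ _ hg h1 h2 _ hx => h (hg.mem_nFoc h1 h2 hx), fun h => (Subgroup.closure_le _).2 (by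
    rintro _ ⟨P, g, x, hg, h1, h2, hx, rfl⟩; exact h P g hg h1 h2 x hx)⟩

theorem nFoc_le_foc : nFoc F U ≤ F.focalSubgroup :=
  nFoc_le_iff.2 fun _ _ hg _ _ _ hx => hg.mem_foc hx

theorem nFoc_mono {E : FusionSystem T} (h : E.IsSubsystemOf F) : nFoc E U ≤ nFoc F U :=
  nFoc_le_iff.2 fun _ _ hg h1 h2 _ hx => (isSubsystemOf_iff.1 h _ _ hg).mem_nFoc h1 h2 hx

theorem foc_nSys {hQ : U ≤ S} {hn : S ≤ Subgroup.normalizer (U : Set Ω)} :
    (nSys F hQ hn).focalSubgroup = nFoc F U :=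
  le_antisymm (foc_le_iff.2 fun P f hf x hx => by
    obtain ⟨g, hg, e1, e2⟩ := nSys_mor.1 hf
    rw [← e1 x hx]; exact hg.mem_nFoc le_sup_right e2 (Subgroup.mem_sup_left hx))
    (nFoc_le_iff.2 fun _ _ hg h1 h2 _ hx => (nSys_mor_of hg le_rfl h1 h2).mem_foc hx)

theorem foc_normSys {N : FusionSystem (normalizerIn S U)} (hN : F.IsNormalizerSystem U N)
    (hQ : U ≤ S) (hn : S ≤ Subgroup.normalizer (U : Set Ω)) : N.focalSubgroup = nFoc F U :=
  (foc_congr fun _ _ => (nSys_iff (hQ := hQ) (hn := hn) hN).symm).trans foc_nSys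

/-- The join of the local focal subgroups. -/
def famD (𝓦 : Set (∀ (Q : Type u) [Group Q], Subgroup Q)) (F : FusionSystem S) : Subgroup Ω :=
  ⁅S, S⁆ ⊔ ⨆ W ∈ 𝓦, nFoc F (inducedFunctor W S)

variable {𝓦 : Set (∀ (Q : Type u) [Group Q], Subgroup Q)} {W : ∀ (Q : Type u) [Group Q], Subgroup Q}

theorem nFoc_le_famD (hW : W ∈ 𝓦) : nFoc F (inducedFunctor W S) ≤ famD 𝓦 F :=
  le_sup_of_le_right (le_iSup₂_of_le W hW le_rfl)

theorem famD_le_foc : famD 𝓦 F ≤ F.focalSubgroup :=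
  sup_le commutator_le_foc (iSup₂_le fun _ _ => nFoc_le_foc)

theorem famD_mono {E : FusionSystem S} (h : E.IsSubsystemOf F) : famD 𝓦 E ≤ famD 𝓦 F :=
  sup_le_sup_left (iSup₂_mono fun _ _ => nFoc_mono h) _

theorem imageAlong_commutator {Ω' : Type*} [Group Ω'] {θ : S →* Ω'} (hP : P ≤ S) (hQ : Q ≤ S) :
    imageAlong θ ⁅P, Q⁆ = ⁅imageAlong θ P, imageAlong θ Q⁆ := by
  unfold imageAlong
  rw [← Subgroup.map_commutator]
  congr 1
  apply Subgroup.map_injective S.subtype_injective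
  rw [Subgroup.map_commutator, Subgroup.map_subgroupOf_eq_of_le hP,
    Subgroup.map_subgroupOf_eq_of_le hQ, Subgroup.map_subgroupOf_eq_of_le
    ((Subgroup.commutator_mono hP hQ).trans S.commutator_le_self)]

theorem constrained_of_core_eq [Finite S] (hF : F.IsSaturated p) (h : F.core = S) :
    F.IsConstrained p := isConstrained_iff.2 ⟨hF, h.symm ▸ centralizerIn_le⟩

theorem core_ne_bot_of_con [Finite S] (hc : F.IsConstrained p) (h2 : F.core ≠ S) : F.core ≠ ⊥ :=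
  fun h1 => h2 (le_antisymm (core_le F) fun x hx =>
    (isConstrained_iff.1 hc).2 (h1 ▸ mem_centralizerIn.2 ⟨hx, fun y hy => by
      rw [Subgroup.mem_bot.1 hy]; simp⟩))

variable [Fact p.Prime] {Bad : ∀ (H : Type v) [Group H], Prop}

theorem reduce_fam_ind [Finite S] (h𝓦 : ∀ W ∈ 𝓦, IsCharPFunctor p W) (hS : IsPGroup p S)
    (hF : F.IsSaturated p) {E : FusionSystem S} (h0 : ∀ W ∈ 𝓦, HasN F E (inducedFunctor W S))
    (hsub : ∀ {T : Subgroup Ω} (D : FusionSystem T), Loc.{u, v} p F D → ¬ F.IsSubsystemOf D →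
      (∀ W ∈ 𝓦, ∀ P g, Mor D P g → inducedFunctor W T ≤ P →
        img g (inducedFunctor W T) = inducedFunctor W T → Mor E P g) → D.IsSubsystemOf E)
    (hcon : F.IsConstrained p → F.IsSubsystemOf E)
    (hcen : F.core ≠ ⊥ → F.core ≠ S → F.autGroup F.core ≤ autInducedBy S F.core →
      F.IsSubsystemOf E) : F.IsSubsystemOf E := by
  refine reduce_fam hS hF ((fun W => inducedFunctor W) '' 𝓦) ?_ ?_ ?_ ?_
    (fun D h1 h2 h => hsub D h1 h2 fun W hW => h _ ⟨W, hW, rfl⟩) hcon fun h1 h2 => ?_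
  · rintro _ ⟨W, hW, rfl⟩ T hT hc hb
    have : Finite T := finite_of_le hT
    exact ind_ne_bot (h𝓦 W hW) (pgroup_of_le hS hT) fun e =>
      centralizerIn_self_ne_bot hS hb (eq_bot_iff.2 (hc.trans e.le))
  · rintro _ ⟨W, -, rfl⟩ T _; exact ind_le W T
  · rintro _ ⟨W, hW, rfl⟩ T f hf; exact ind_img (h𝓦 W hW) hS hf
  · rintro _ ⟨W, hW, rfl⟩; exact h0 W hW
  · by_cases h : F.core = S
    · exact hcon (constrained_of_core_eq hF h)
    · exact hcen h1 h h2

theorem foc_inf_le_of_aut [Finite S] (hS : IsPGroup p S) (hF : F.IsSaturated p) (hQ : F.IsNormal Q)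
    (h : F.autGroup Q ≤ autInducedBy S Q) : Q ⊓ F.focalSubgroup ≤ ⁅S, S⁆ := fun x hx =>
  mem_of_mem_foc hS hF le_rfl hx.2 fun k f hf => by
    obtain ⟨g, hg, e1, e2⟩ := IsNormal.ext hQ hf
    obtain ⟨α, hα, e⟩ := (hg.mono le_sup_right).exists_aut e2
    obtain ⟨s, hs, es⟩ := mem_autInducedBy.1 (h hα)
    have := Q.pow_mem hx.1 k
    rw [← e1 _ (Subgroup.mem_zpowers _), ← e _ this, es _ this]
    exact conj_mem_of_commutator_le le_rfl hs (hQ.1 this)

/-- Quotient by `O_p(F)`. -/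
theorem exists_quot_core' [Finite S] (hS : IsPGroup p S) (hF : F.IsSaturated p)
    (h1 : F.core ≠ ⊥) (h2 : F.core ≠ S) : ∃ (Ω' : Type u) (_ : Group Ω') (S' : Subgroup Ω')
    (_ : Finite S') (θ : S →* Ω') (F' : FusionSystem S'), Surj F F' θ ∧
      preimageAlong θ ⊥ = F.core ∧ IsPGroup p S' ∧ F'.IsSaturated p ∧ Nat.card S' < Nat.card S ∧
      ∀ W, IsCharPFunctor p W → ∃ hn : S ≤ Subgroup.normalizer
        (preimageAlong θ (inducedFunctor W S') : Set Ω),
        ¬ F.IsSubsystemOf (nSys F preimageAlong_le hn) := by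
  obtain ⟨Ω', _, S', θ, F', h, hk⟩ := exists_quot (core_isNormal F)
  have := h.finite
  have hS' := h.pgroup hS
  refine ⟨Ω', _, S', h.finite, θ, F', h, hk, hS', h.saturated hS hF,
    h.card_lt (hk ▸ h1), fun W hW => ⟨h.preimage_le_normalizer (ind_le_normalizer hW hS'),
      fun hn => ?_⟩⟩
  exact (h.ker_lt (ind_le W S') (ind_ne_bot hW hS' (h.ne_bot (hk ▸ h2)))).not_ge
    (hk ▸ IsNormal.le_core (normal_of_nSys hn))

/-- Control of transfer reduces to the constrained case. -/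
theorem fam_foc (h𝓦 : ∀ W ∈ 𝓦, IsCharPFunctor p W)
    (hbase : ∀ {Ω : Type u} [Group Ω] {S : Subgroup Ω} [Finite S] (F : FusionSystem S),
      IsPGroup p S → F.IsConstrained p → Free p Bad F → F.core ⊓ F.focalSubgroup ≤ famD 𝓦 F)
    [Finite S] (F : FusionSystem S) :
    IsPGroup p S → F.IsSaturated p → Free p Bad F → F.focalSubgroup ≤ famD 𝓦 F := by
  refine sys_induction (C := fun {Ω} _ {S} F => IsPGroup p S → F.IsSaturated p → Free p Bad F →
    F.focalSubgroup ≤ famD 𝓦 F) ?_ F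
  intro Ω _ S _ F ih1 ih2 hS hF hfree
  have hD : ⁅S, S⁆ ≤ famD 𝓦 F := le_sup_left
  have hrefl : F.IsSubsystemOf F := fun _ => le_rfl
  have key : F.core ≠ ⊥ → F.core ≠ S → F.core ⊓ F.focalSubgroup ≤ famD 𝓦 F →
      F.IsSubsystemOf (focSys F hD) := fun h1 h2 h3 => by
    obtain ⟨Ω', _, S', _, θ, F', h, hk, hS', hF', hc, hn⟩ := exists_quot_core' hS hF h1 h2
    have hDS : famD 𝓦 F ≤ S := famD_le_foc.trans foc_le
    have h4 : F'.focalSubgroup ≤ imageAlong θ (famD 𝓦 F) := by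
      refine (ih1 F' hc hS' hF' (hfree.surj hS hF h)).trans (sup_le ?_ (iSup₂_le fun W hW => ?_))
      · rw [← h.range, ← imageAlong_top, ← imageAlong_commutator le_rfl le_rfl]
        exact imageAlong_mono hD
      · obtain ⟨hn1, hn2⟩ := hn W (h𝓦 W hW)
        have hl := loc_nSys.{u, v} hS hF (hQ := preimageAlong_le) (hn := hn1)
        have := (ih2 _ hl.sub hn2 hS hl.sat (hfree.loc hl)).trans (famD_mono hl.sub)
        refine nFoc_le_iff.2 fun P' g' hg' h1 h2 y hy => ?_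
        obtain ⟨g, hg, e1, e2⟩ := h.lift_norm hg' h1 h2
        obtain ⟨x, hx, rfl⟩ := h.pre hg'.le hy
        rw [e2 x hx, ← ap_inv _ (hg.le hx), ← ap_mul _ (S.inv_mem (hg.le hx)) (hg.mem hx)]
        exact ap_mem_imageAlong hDS
          (this ((nSys_mor_of hg le_rfl (preimageAlong_mono h1) e1).mem_foc hx))
    refine (sub_focSys_iff hrefl).2 fun x hx => ?_
    obtain ⟨d, hd, e⟩ := (mem_imageAlong' hDS).1
      (h4 (h.foc_eq ▸ ap_mem_imageAlong foc_le hx))
    have := h3 ⟨hk ▸ (mem_ker_iff (hDS hd) (foc_le hx)).2 e,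
      Subgroup.mul_mem _ (Subgroup.inv_mem _ (famD_le_foc hd)) hx⟩
    simpa using Subgroup.mul_mem _ hd this
  refine (sub_focSys_iff hrefl).1 (reduce_fam_ind.{u, v} h𝓦 hS hF (E := focSys F hD)
    (fun W hW P g hg h1 _ h2 => focSys_mor.2 ⟨hg, fun x hx => nFoc_le_famD hW
      (hg.mem_nFoc h1 h2 hx)⟩) (fun {T} D hl hne h => ?_) (fun hc => ?_) fun h1 h2 h3 =>
      key h1 h2 ((foc_inf_le_of_aut hS hF (core_isNormal F) h3).trans hD))
  · have hT := IsSubsystemOf.le hl.sub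
    refine (sub_focSys_iff hl.sub).2 ((ih2 D hl.sub hne (pgroup_of_le hS hT) hl.sat
      (hfree.loc hl)).trans (sup_le ((Subgroup.commutator_mono hT hT).trans hD)
      (iSup₂_le fun W hW => nFoc_le_iff.2 fun P g hg h1 h2 =>
        (focSys_mor.1 (h W hW P g hg h1 h2)).2)))
  · have hb := hbase F hS hc hfree
    by_cases h : F.core = S
    · exact (sub_focSys_iff hrefl).2 fun x hx => hb ⟨h.symm ▸ foc_le hx, hx⟩
    · exact key (core_ne_bot_of_con hc h) h hb

omit [Fact p.Prime] in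
/-- The intersection of a system over `T ≤ S` with a system over `S`. -/
theorem exists_inter (D : FusionSystem T) (E : FusionSystem S) (hT : T ≤ S) :
    ∃ E' : FusionSystem T, ∀ P f, Mor E' P f ↔ Mor D P f ∧ Mor E P f := by
  have : SysData T fun P f => Mor D P f ∧ Mor E P f := SysData.ofSub D (fun h => h.1)
    (fun h => h.1.le) (fun h _ hx => h.1.mem hx) (fun h e => ⟨h.1.congr e, h.2.congr e⟩)
    (fun h1 h2 => ⟨mor_conj D h1 h2, mor_conj E (h1.trans hT) (hT h2)⟩)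
    (fun h h' e => ⟨h.1.comp h'.1 e, h.2.comp h'.2 e⟩) fun h h' e => ⟨h', by
      obtain ⟨k, hk, e1, -, -, -⟩ := h.2.inv
      refine hk.congr fun y hy => ?_
      obtain ⟨x, hx, rfl⟩ := h.1.mem_img.1 hy
      rw [e x hx, e1 x hx]⟩
  exact ⟨this.sys, fun _ _ => this.mor_iff⟩

theorem mem_Inn_of_mod [Finite S] (hS : IsPGroup p S) (hc : F.IsCentric P) (hr : F.IsRadical p P)
    (hQ : F.IsNormal Q) (hp : IsPGroup p (F.autGroup Q)) {γ : MulAut P} (hγ : γ ∈ F.autGroup P)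
    (h : ∀ x ∈ P, x⁻¹ * afun γ x ∈ Q) : γ ∈ Inn P := by
  have := finite_of_le hc.1
  have hQP := IsNormal.le_of_radical hS hQ hc hr
  have hinv : ∀ α ∈ F.autGroup P, ∀ i : ℕ, ∀ x ∈ P, x ∈ (if i = 0 then Q else ⊤) →
      afun α x ∈ (if i = 0 then Q else ⊤) := fun α hα i x hx hC => by
    split_ifs at hC ⊢
    · exact StronglyClosed.mem (IsNormal.stronglyClosed hQ) ((mem_autGroup hc.1).1 hα) hx hC
    · trivial
  refine ((isRadical_iff hS).1 hr).2 (chainStab (F.autGroup P) _ 1 hinv) (fun _ h => h.1)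
    (chainStab_pgroup (pgroup_of_le hS hc.1) hinv (by simp) fun α hα => ?_)
    (chainStab_conj hinv hinv fun a ha α hα => (F.autGroup P).mul_mem
      ((F.autGroup P).mul_mem ha hα) ((F.autGroup P).inv_mem ha)) ⟨hγ, fun i hi x hx _ => ?_⟩
  · have hm := (mem_autGroup hc.1).1 hα.1
    obtain ⟨γ, hγ, e⟩ := (hm.mono hQP).exists_aut
      (StronglyClosed.img_eq (IsNormal.stronglyClosed hQ) hm hQP)
    obtain ⟨k, hk⟩ := hp ⟨γ, hγ⟩
    refine ⟨k, fun x _ hx => ?_⟩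
    rw [if_pos rfl] at hx
    rw [afun_pow_of_eq hQP (fun x hx => (e x hx).symm) _ x hx,
      show γ ^ p ^ k = 1 from congrArg Subtype.val hk, afun_one]
  · obtain rfl : i = 0 := by omega
    exact h x hx

/-- Lifting an inclusion of systems from a quotient. -/
theorem sub_of_quot [Finite S] (hS : IsPGroup p S) (hF : F.IsSaturated p) (hQ : F.IsNormal Q)
    (hp : IsPGroup p (F.autGroup Q)) {Ω' : Type*} [Group Ω'] {S' : Subgroup Ω'} {θ : S →* Ω'}
    {F' : FusionSystem S'} (h : Surj F F' θ) (hk : preimageAlong θ ⊥ = Q) {E : FusionSystem S}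
    (hE : ∀ E' : FusionSystem S', (∀ P' g' g, P' ≤ S' → Mor F (preimageAlong θ P') g →
      Mor E (preimageAlong θ P') g → (∀ x ∈ preimageAlong θ P', g' (ap θ x) = ap θ (g x)) →
      Mor E' P' g') → F'.IsSubsystemOf E') : F.IsSubsystemOf E := by
  obtain ⟨E₁, h1⟩ := exists_inter F E le_rfl
  have hsub : E₁.IsSubsystemOf F := isSubsystemOf_iff.2 fun _ _ h => ((h1 _ _).1 h).1
  obtain ⟨E', h2⟩ := exists_factor (StronglyClosed.of_sub hsub (IsNormal.stronglyClosed hQ) hQ.1)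
    hk h.range
  have h3 := hE E' fun P' g' g a1 a2 a3 a4 => h2.mor_iff.2 ⟨a1, g, (h1 _ _).2 ⟨a2, a3⟩, a4⟩
  refine isSubsystemOf_iff.2 (le_iff_mor.1 (alperin hS hF fun P hP α hα => ?_))
  obtain ⟨-, hc, hr⟩ := alperin_family hS hF hP
  have := finite_of_le hc.1
  have hQP := IsNormal.le_of_radical hS hQ hc hr
  obtain ⟨f', hf', e⟩ := h.mor ((mem_autGroup hc.1).1 hα)
  obtain ⟨-, b, hb, e'⟩ := h2.mor_iff.1 (isSubsystemOf_iff.1 h3 _ _ hf')
  rw [preimage_image_of_le hc.1 (hk ▸ hQP)] at hb e'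
  have h4 : ∀ x ∈ P, (b x)⁻¹ * afun α x ∈ Q := fun x hx => hk ▸
    (mem_ker_iff (hb.mem hx) (hc.1 (afun_mem α hx))).2 ((e' x hx).symm.trans (e x hx))
  obtain ⟨β, hβ, eβ⟩ := hb.exists_aut (hb.img_eq_self fun x hx => by
    simpa using P.mul_mem (afun_mem α hx) (P.inv_mem (hQP (h4 x hx))))
  have h5 := mem_Inn_of_mod hS hc hr hQ hp (γ := α * β⁻¹) (Subgroup.mul_mem _ hα
    (Subgroup.inv_mem _ (IsSubsystemOf.autGroup_le hsub hc.1 hβ))) fun x hx => by
    have := h4 _ (afun_mem β⁻¹ hx)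
    rwa [← eβ _ (afun_mem β⁻¹ hx), afun_afun_inv _ hx, ← afun_mul _ _ hx] at this
  simpa using Subgroup.mul_mem _ (Inn_le_autGroup E hc.1 h5)
    ((mem_autGroup hc.1).2 ((h1 _ _).1 ((mem_autGroup hc.1).1 hβ)).2)

/-- `F` is generated by the normalizers of the `W S`. -/
def FamGen (𝓦 : Set (∀ (Q : Type u) [Group Q], Subgroup Q)) (F : FusionSystem S) : Prop :=
  ∀ E : FusionSystem S, (∀ W ∈ 𝓦, HasN F E (inducedFunctor W S)) → F.IsSubsystemOf E

/-- Control of fusion reduces to the constrained case. -/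
theorem fam_sf (h𝓦 : ∀ W ∈ 𝓦, IsCharPFunctor p W)
    (hbase : ∀ {Ω : Type u} [Group Ω] {S : Subgroup Ω} [Finite S] (F : FusionSystem S),
      IsPGroup p S → F.IsConstrained p → Free p Bad F → FamGen 𝓦 F)
    [Finite S] (F : FusionSystem S) :
    IsPGroup p S → F.IsSaturated p → Free p Bad F → FamGen 𝓦 F := by
  refine sys_induction (C := fun {Ω} _ {S} F => IsPGroup p S → F.IsSaturated p → Free p Bad F →
    FamGen 𝓦 F) ?_ F
  intro Ω _ S _ F ih1 ih2 hS hF hfree E h0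
  refine reduce_fam_ind.{u, v} h𝓦 hS hF h0 (fun {T} D hl hne h => ?_)
    (fun hc => hbase F hS hc hfree E h0) fun h1 h2 h3 => ?_
  · have hT := IsSubsystemOf.le hl.sub
    obtain ⟨E', h1⟩ := exists_inter D E hT
    exact isSubsystemOf_iff.2 fun P f hf => ((h1 _ _).1 (isSubsystemOf_iff.1 (ih2 D hl.sub hne
      (pgroup_of_le hS hT) hl.sat (hfree.loc hl) E' fun W hW P g hg a1 _ a2 =>
        (h1 _ _).2 ⟨hg, h W hW P g hg a1 a2⟩) _ _ hf)).2
  · obtain ⟨Ω', _, S', _, θ, F', h, hk, hS', hF', hc, hn⟩ := exists_quot_core' hS hF h1 h2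
    refine sub_of_quot hS hF (core_isNormal F) (pgroup_of_le (autInducedBy_pgroup hS _) h3) h hk
      fun E' hE' => ih1 F' hc hS' hF' (hfree.surj hS hF h) E' fun W hW P' g' hg' a1 _ a2 => ?_
    obtain ⟨hn1, hn2⟩ := hn W (h𝓦 W hW)
    have hl := loc_nSys.{u, v} hS hF (hQ := preimageAlong_le) (hn := hn1)
    have := ih2 _ hl.sub hn2 hS hl.sat (hfree.loc hl) E fun W hW => (h0 W hW).mono hl.sub
    obtain ⟨g, hg, e1, e2⟩ := h.lift_norm hg' a1 a2
    exact hE' P' g' g hg'.le hg (isSubsystemOf_iff.1 this _ _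
      (nSys_mor_of hg le_rfl (preimageAlong_mono a1) e1)) e2

theorem commutator_lt [Finite S] (hS : IsPGroup p S) (hb : S ≠ ⊥) : ⁅S, S⁆ < S :=
  lt_of_le_of_ne S.commutator_le_self fun e => hb (eq_of_le_frattini_sup (D := ⊥) bot_le
    (e.ge.trans ((commutator_le_frattini hS).trans le_sup_left))).symm

/-- If `W` controls transfer and `Aut_F(S)` is inner, the focal subgroup is proper. -/
theorem foc_lt (hW : IsCharPFunctor p W)
    (hctl : ∀ {Ω : Type u} [Group Ω] {S : Subgroup Ω} [Finite S] (F : FusionSystem S),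
      IsPGroup p S → F.IsSaturated p → Free p Bad F → F.focalSubgroup ≤ famD {W} F)
    [Finite S] (F : FusionSystem S) : IsPGroup p S → F.IsSaturated p → Free p Bad F → S ≠ ⊥ →
      HasN F (innerFusionSystem S) S → F.focalSubgroup < S := by
  refine sys_induction (C := fun {Ω} _ {S} F => IsPGroup p S → F.IsSaturated p → Free p Bad F →
    S ≠ ⊥ → HasN F (innerFusionSystem S) S → F.focalSubgroup < S) ?_ F
  intro Ω _ S _ F ih1 _ hS hF hfree hb h0
  have hn := ind_le_normalizer hW hS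
  have hl := loc_nSys.{u, v} hS hF (hQ := ind_le W S) (hn := hn)
  refine (hctl F hS hF hfree).trans_lt (lt_of_le_of_lt (b := (nSys F (ind_le W S) hn).focalSubgroup)
    (sup_le commutator_le_foc (iSup₂_le fun _ h => h ▸ foc_nSys.ge)) ?_)
  by_cases h2 : inducedFunctor W S = S
  · refine lt_of_le_of_lt (foc_nSys.le.trans (nFoc_le_iff.2 fun P g hg h1 e x hx => ?_))
      (commutator_lt hS hb)
    rw [h2] at h1 e
    obtain ⟨-, s, hs, es⟩ := mor_inner_iff.1 (h0 P g hg h1 (hg.le.trans (le_normalizerIn le_rfl)) e)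
    rw [es x hx]; exact conj_mem_of_commutator_le le_rfl hs (hg.le hx)
  have hQ : (nSys F (ind_le W S) hn).IsNormal (inducedFunctor W S) := isNormal_iff.2 ⟨ind_le W S,
    fun P f hf => by
      obtain ⟨g, hg, e1, e2⟩ := nSys_mor.1 hf
      exact ⟨g, nSys_mor_of hg le_rfl le_sup_right e2, e1, e2⟩⟩
  obtain ⟨Ω', _, S', θ, F', h, hk⟩ := exists_quot hQ
  have := h.finite
  have e : preimageAlong θ S' = S :=
    le_antisymm preimageAlong_le fun x hx => mem_preimageAlong.2 ⟨hx, h.mem x hx⟩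
  have := ih1 F' (h.card_lt (hk ▸ ind_ne_bot hW hS hb)) (h.pgroup hS) (h.saturated hS hl.sat)
    ((hfree.loc hl).surj hS hl.sat h) (h.ne_bot (hk ▸ h2))
    (h.hasN_inner (by rw [e]; exact h0.mono hl.sub) le_rfl)
  refine lt_of_le_of_ne foc_le fun e' => this.ne ?_
  rw [h.foc_eq, e', imageAlong_top, h.range]

end Cfsg.Agent.Fusion
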