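import Cfsg.Agent.Lib.Fusion.KInf
import Cfsg.Agent.Lib.Transfer.Quad

/-! Chief factors, and Glauberman's theorem on the failure of normality of K-infinity. -/

set_option linter.unusedSectionVars false
set_option linter.unusedVariables false
set_option autoImplicit false

namespace Cfsg.Agent.KInf

open Subgroup Cfsg Cfsg.Agent.MS Cfsg.Agent.Transfer

universe u
variable {G : Type*} [Group G] {A B C H K N P Q R S T U V W X Y Z : Subgroup G} {p : ℕ}

theorem iter_succ (n : ℕ) : iterCommutator U X (n + 1) = ⁅iterCommutator U X n, X⁆ := rfl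
theorem iter_nn (h : X ≤ NN U) (n : ℕ) : X ≤ NN (iterCommutator U X n) := by
  cases n; exacts [h, right_nn_comm _ _]
theorem iter_anti (h : X ≤ NN U) {m n : ℕ} (h1 : m ≤ n) :
    iterCommutator U X n ≤ iterCommutator U X m :=
  antitone_nat_of_succ_le (fun n => comm_le_left (iter_nn h n)) h1
theorem iter_le (h : X ≤ NN U) (n : ℕ) : iterCommutator U X n ≤ U := iter_anti h (Nat.zero_le n)
theorem iter_mono (h : U ≤ V) (h1 : X ≤ Y) (n : ℕ) :
    iterCommutator U X n ≤ iterCommutator V Y n := by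
  induction n with
  | zero => exact h
  | succ n ih => exact commutator_mono ih h1
theorem comm_sup_le [V.Normal] : ⁅V ⊔ W, X⁆ ≤ V ⊔ ⁅W, X⁆ :=
  comm_sup_l (nn_of_le le_sup_left) (nn_sup nn_normal (left_nn_comm _ _))
    ((comm_le_left nn_normal).trans le_sup_left) le_sup_right
theorem iter_sup [V.Normal] (n : ℕ) : iterCommutator (V ⊔ W) X n ≤ V ⊔ iterCommutator W X n := by
  induction n with
  | zero => exact le_rfl
  | succ n ih => exact (commutator_mono ih le_rfl).trans comm_sup_le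
theorem iter_map {G' : Type*} [Group G'] (f : G →* G') (n : ℕ) :
    (iterCommutator U X n).map f = iterCommutator (U.map f) (X.map f) n := by
  induction n with
  | zero => rfl
  | succ n ih => rw [iter_succ, map_commutator, ih]; rfl

theorem comm_le_iff [V.Normal] : ⁅U, B⁆ ≤ V ↔
    B ≤ (CC (U.map (QuotientGroup.mk' V))).comap (QuotientGroup.mk' V) := by
  rw [← map_le_iff_le_comap, ← comm_eq_bot', ← map_commutator, Subgroup.map_eq_bot_iff,
    QuotientGroup.ker_mk']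

theorem comm_normalClosure [U.Normal] [V.Normal] (h : ⁅U, B⁆ ≤ V) :
    ⁅U, normalClosure (B : Set G)⁆ ≤ V := by
  have := Normal.map ‹U.Normal› _ (QuotientGroup.mk'_surjective V)
  rw [comm_le_iff] at h ⊢
  exact normalClosure_le_normal h

theorem chief_inf (h : IsChiefFactor U V) [N.Normal] (h1 : ¬ U ⊓ N ≤ V) :
    IsChiefFactor (U ⊓ N) (V ⊓ N) ∧ V ⊔ U ⊓ N = U := by
  obtain ⟨lt, n1, n2, hm⟩ := h
  refine ⟨⟨lt_of_le_of_ne (inf_le_inf_right _ lt.le) fun e => h1 (e.ge.trans inf_le_left),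
    inferInstance, inferInstance, fun M hM m1 m2 => ?_⟩, ((hm _ inferInstance le_sup_left
      (sup_le lt.le inf_le_left)).resolve_left fun e => h1 (le_sup_right.trans e.le))⟩
  refine (hm (M ⊔ V) inferInstance le_sup_right (sup_le (m2.trans inf_le_left) lt.le)).imp
    (fun e => le_antisymm (le_inf (le_sup_left.trans e.le) (m2.trans inf_le_right)) m1)
    fun e => le_antisymm m2 ?_
  rw [← e, dedekind (m2.trans inf_le_right) nn_normal]
  exact sup_le le_rfl m1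

theorem chief_iter (h : IsChiefFactor U V) [Z.Normal] {n : ℕ} (h1 : iterCommutator U X n ≤ Z)
    (h2 : IsChiefFactor (U ⊓ Z) (V ⊓ Z) → iterCommutator (U ⊓ Z) X n ≤ V) :
    iterCommutator U X n ≤ V := by
  have := h.2.1
  have := h.2.2.1
  by_cases h3 : U ⊓ Z ≤ V
  · exact (le_inf (iter_le nn_normal n) h1).trans h3
  · obtain ⟨c1, c2⟩ := chief_inf h h3
    exact (iter_mono c2.ge le_rfl n).trans ((iter_sup n).trans (sup_le le_rfl (h2 c1)))

variable [Finite G]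

theorem exists_chief [U.Normal] [V.Normal] (h : V < U) : ∃ W, IsChiefFactor U W ∧ V ≤ W := by
  obtain ⟨W, h1, hm⟩ := (Set.toFinite {W : Subgroup G | W.Normal ∧ V ≤ W ∧ W < U}).exists_maximal
    ⟨V, ‹_›, le_rfl, h⟩
  exact ⟨W, ⟨h1.2.2, ‹_›, h1.1, fun N hN n1 n2 => n2.lt_or_eq.imp
    (fun e => le_antisymm (hm ⟨hN, h1.2.1.trans n1, e⟩ n1) n1) id⟩, h1.2.1⟩

theorem exists_chief_up [U.Normal] [V.Normal] (h : V < U) : ∃ W, IsChiefFactor W V ∧ W ≤ U := by
  obtain ⟨W, h1, hm⟩ := (Set.toFinite {W : Subgroup G | W.Normal ∧ W ≤ U ∧ V < W}).exists_minimal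
    ⟨U, ‹_›, le_rfl, h⟩
  exact ⟨W, ⟨h1.2.2, h1.1, ‹_›, fun N hN n1 n2 => n1.eq_or_lt.imp Eq.symm
    (fun e => le_antisymm n2 (hm ⟨hN, n2.trans h1.2.1, e⟩ n2))⟩, h1.2.1⟩

/-- the subgroups minimal over `Y` among the `H`-invariant ones -/
def MinInv (X Y H : Subgroup G) : Set (Subgroup G) :=
  {U | Minimal (fun U => Y < U ∧ U ≤ X ∧ H ≤ NN U) U}

theorem clifford_step [X.Normal] [Y.Normal] (h1 : H ≤ K) (h2 : K ≤ NN H)
    (h : X ≤ sSup (MinInv X Y K)) : X ≤ sSup (MinInv X Y H) := by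
  have key : ∀ k ∈ K, ∀ U, (Y < U ∧ U ≤ X ∧ H ≤ NN U) →
      (Y < cj k U ∧ cj k U ≤ X ∧ H ≤ NN (cj k U)) := fun k hk U h => by
    refine ⟨?_, cj_le h.2.1 (nn_normal hk), nn_cj_of h.2.2 (h2 hk)⟩
    rw [← cj_nn (H := Y) (nn_normal hk)]
    exact (map_lt_map_iff_of_injective (MulAut.conj k).injective).2 h.1
  have hn : K ≤ NN (sSup (MinInv X Y H)) := Fusion.le_normalizer_of_conj_mem fun k hk x hx => by
    have : cj k (sSup (MinInv X Y H)) ≤ sSup (MinInv X Y H) :=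
      map_le_iff_le_comap.2 (sSup_le fun U hU => map_le_iff_le_comap.1 (le_sSup ⟨key k hk U hU.1,
        fun W hW e => by
          have := hU.2 (key k⁻¹ (K.inv_mem hk) W hW) ((cj_mono k⁻¹ e).trans (cj_inv_cj k U).le)
          exact (cj_mono k this).trans (cj_cj_inv k W).le⟩))
    exact this ⟨x, hx, rfl⟩
  refine h.trans (sSup_le fun U hU => ?_)
  obtain ⟨U₀, u1, u2⟩ := (Set.toFinite {U | Y < U ∧ U ≤ X ∧ H ≤ NN U}).exists_le_minimal
    ⟨hU.1.1, hU.1.2.1, h1.trans hU.1.2.2⟩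
  exact (hU.2 (y := U ⊓ sSup (MinInv X Y H)) ⟨u2.1.1.trans_le (le_inf u1 (le_sSup u2)),
    inf_le_left.trans hU.1.2.1, nn_inf hU.1.2.2 hn⟩ inf_le_left).trans inf_le_right

variable [hp : Fact p.Prime]

theorem nn_res (h : A ≤ NN H) : A ≤ NN (res p H) :=
  h.trans (Solv.normalizer_le_normalizer_map_of_characteristic H (pResidual p H))

instance res_normal [N.Normal] : (res p N).Normal :=
  normalizer_eq_top_iff.1 (top_le_iff.1 (nn_res nn_normal))

theorem clifford (h : IsChiefFactor X Y) [N.Normal] (h1 : res p N ≤ H) (h2 : H ≤ N) :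
    X ≤ sSup (MinInv X Y H) := by
  obtain ⟨lt, n1, n2, hm⟩ := h
  induction H using WellFoundedGT.induction with
  | _ H ih =>
  rcases h2.eq_or_lt with rfl | h3
  · refine clifford_step le_top nn_normal (le_sSup ⟨⟨lt, le_rfl, nn_normal⟩, fun U hU e => ?_⟩)
    exact ((hm U (normalizer_eq_top_iff.1 (top_le_iff.1 hU.2.2)) hU.1.le e).resolve_left hU.1.ne').ge
  · let q := QuotientGroup.mk' (res p N)
    have e : (H.map q).comap q = H := comap_map_eq_self (by rwa [QuotientGroup.ker_mk'])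
    have h4 := nil_lt_nn (nil_of_pg ((isPGroup_map_iff_res_le (p := p) q (H := N)).2
      (QuotientGroup.ker_mk' _).ge)) (H := H.map q) (lt_of_le_of_ne (map_mono h2) fun e' =>
        h3.not_ge ((le_comap_map _ _).trans (e' ▸ e).le))
    obtain ⟨_, ⟨⟨x, hx, rfl⟩, hn⟩, hx'⟩ := SetLike.exists_of_lt h4
    have h5 : H < N ⊓ NN H := lt_of_le_of_ne (le_inf h2 (le_nn _)) fun e' =>
      hx' ⟨x, e'.ge ⟨hx, e ▸ le_normalizer_comap q hn⟩, rfl⟩
    exact clifford_step h5.le inf_le_right (ih _ h5 (h1.trans h5.le) inf_le_left)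

theorem chief_comm (h : IsChiefFactor U V) [P.Normal] (hP : IsPGroup p P) (h1 : U ≤ P) :
    ⁅U, P⁆ ≤ V := by
  obtain ⟨lt, n1, n2, hm⟩ := h
  refine le_sup_right.trans ((hm (V ⊔ ⁅U, P⁆) inferInstance le_sup_left
    (sup_le lt.le (comm_le_left nn_normal))).resolve_right fun e => ?_).le
  let q := QuotientGroup.mk' V
  have := Normal.map n1 q (QuotientGroup.mk'_surjective V)
  refine (nil_comm_lt (nil_of_pg (hP.map q)) (map_mono h1) nn_normal fun e' =>
    lt.not_ge (((Subgroup.map_eq_bot_iff _).1 e').trans (QuotientGroup.ker_mk' V).le)).ne ?_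
  rw [← map_commutator]
  conv_rhs => rw [← e, Subgroup.map_sup, (Subgroup.map_eq_bot_iff _).2 (QuotientGroup.ker_mk' V).ge, bot_sup_eq]

theorem res_cc_step (hY : IsPGroup p Y) (h1 : ⁅X, N⁆ ≤ Y) (h2 : res p N ≤ CC Y) :
    res p N ≤ CC X := res_le_iff.2 fun a ha hc => by
  obtain ⟨k, hk⟩ := hY.exists_card_eq
  exact zpowers_le.1 (cop_stable (H := Y) (by rw [hk, Nat.card_zpowers]; exact hc.pow_right k)
    ((commutator_mono le_rfl (zpowers_le.2 ha)).trans h1)
    (zpowers_le.2 (h2 (res_le_iff.1 le_rfl a ha hc))))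

theorem res_cc_of_chief (hA : A.Normal) (hp : IsPGroup p A)
    (h : ∀ U V, IsChiefFactor U V → U ≤ A → ⁅U, N⁆ ≤ V) : res p N ≤ CC A := by
  induction A using WellFoundedLT.induction with
  | _ A ih =>
  rcases eq_or_ne A ⊥ with rfl | h0
  · rw [cc_bot]; exact le_top
  · obtain ⟨W, hW, -⟩ := @exists_chief _ _ _ _ _ hA _ (bot_lt_iff_ne_bot.2 h0)
    exact res_cc_step (hp.to_le hW.1.le) (h A W hW le_rfl) (ih W hW.1 hW.2.2.1
      (hp.to_le hW.1.le) fun U V h1 h2 => h U V h1 (h2.trans hW.1.le))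

theorem le_pCore_of_res [N.Normal] (hC : IsPGroup p C) (h : res p N ≤ C) : N ≤ pCore p G :=
  Fusion.le_pCore ‹_› (isPGroup_iff_res_eq_bot.2 (by
    rw [← res_res]; exact res_eq_bot_of_isPGroup (hC.to_le h)))

theorem exists_chief_nc [A.Normal] (hA : IsPGroup p A) (hC : IsPGroup p (CC A))
    (h : ¬ B ≤ pCore p G) : ∃ U V, IsChiefFactor U V ∧ U ≤ A ∧ ¬ ⁅U, B⁆ ≤ V := by
  by_contra! h1
  exact h (le_normalClosure.trans (le_pCore_of_res hC (res_cc_of_chief ‹_› hA fun U V c u =>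
    have := c.2.1; have := c.2.2.1; comm_normalClosure (h1 U V c u))))

/-- the hard case of Glauberman's theorem: a quadratic chief factor -/
theorem low_quad [A.Normal] [T.Normal] (hT : IsPGroup p T) (hA : A ≤ T) (h3 : ⁅T, A⁆ ≤ A ⊓ CC A)
    (hC : IsPGroup p (CC A)) (hB : B ∈ kLowerStarFamily Q) (hAQ : A ≤ Q) (hBT : ¬ B ≤ pCore p G)
    (hZ : B ⊓ CC B ≤ T) (hc : ∀ U V, IsChiefFactor U V → U ≤ A ⊓ CC A → ⁅U, B⁆ ≤ V) :
    ∃ U V, IsChiefFactor U V ∧ U ≤ A ∧ ⁅⁅U, B⁆, B⁆ ≤ V ∧ ¬ ⁅U, B⁆ ≤ V := by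
  set N := normalClosure (B : Set G)
  have hAB := hAQ.trans hB.2.1
  have hRZ : res p N ≤ CC (A ⊓ CC A : Subgroup G) :=
    res_cc_of_chief inferInstance (hT.to_le (inf_le_left.trans hA)) fun U V c u =>
      have := c.2.1; have := c.2.2.1; comm_normalClosure (hc U V c u)
  obtain ⟨X, x1, ⟨x2, x3⟩, xm⟩ := (Set.toFinite {X : Subgroup G | X.Normal ∧ ¬ res p N ≤ CC X}
    ).exists_le_minimal (a := A) ⟨‹_›, fun e => hBT (le_normalClosure.trans (le_pCore_of_res hC e))⟩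
  have xm' : ∀ W : Subgroup G, W.Normal → W < X → res p N ≤ CC W := fun W h1 h2 =>
    by_contra fun e => h2.not_ge (xm ⟨h1, e⟩ h2.le)
  have hX := hT.to_le (x1.trans hA)
  obtain ⟨Y, hY, -⟩ := exists_chief (U := X) (V := ⊥) (bot_lt_iff_ne_bot.2 fun e => x3 (by
    rw [e, cc_bot]; exact le_top))
  have := hY.2.2.1
  have hnc : ∀ W : Subgroup G, W.Normal → W < X → ¬ ⁅X, res p N⁆ ≤ W := fun W h1 h2 e => x3 (by
    rw [← res_res]; exact res_cc_step (hX.to_le h2.le) e ((res_le _).trans (xm' W h1 h2)))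
  have hXX : ⁅X, X⁆ ≤ A ⊓ CC A := (commutator_mono (x1.trans hA) x1).trans h3
  have hYX : Y ≤ CC X := by
    have e : ⁅X, res p N⁆ = X := by_contra fun e =>
      hnc _ inferInstance (lt_of_le_of_ne (comm_le_left nn_normal) e) le_rfl
    rw [← comm_eq_bot', ← e, eq_bot_iff]
    exact three_sub (A := res p N) nn_bot nn_bot nn_bot (by
      rw [comm_eq_bot.2 (xm' Y this hY.1), commutator_bot_left]) (comm_eq_bot'.2 (hRZ.trans
        (cc_anti ((commutator_mono hY.1.le le_rfl).trans hXX)))).le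
  refine ⟨X, Y, hY, x1, ?_, fun e => hnc Y this hY.1
    ((commutator_mono le_rfl (res_le _)).trans (comm_normalClosure e))⟩
  -- the subgroup `V` of elements pairing into the fixed points of `H = B R`
  set H := B ⊔ res p N
  set D := A ⊓ CC A ⊓ CC H
  have hD : X ≤ NN D := nn_of_cc (x1.trans (cc_symm (inf_le_left.trans inf_le_right)))
  have hHD : H ≤ NN D := nn_inf nn_normal (nn_cc (le_nn _))
  set V := sSup {W | W ≤ X ∧ ⁅W, X⁆ ≤ D}
  have hV : V ≤ X ∧ ⁅V, X⁆ ≤ D := ⟨sSup_le fun _ h => h.1, by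
    obtain ⟨_, _, _, f, q⟩ := exists_qm (N := D ⊓ X) (M := X) inf_le_right (nn_inf hD (le_nn _))
    have : V ≤ pre f (CC (im f X)) := sSup_le fun W h => (le_pre_iff h.1).2
      ((q.cc_iff h.1 le_rfl).2 (le_inf h.2 (comm_le h.1 le_rfl)))
    have h1 := this.trans (pre_le _ _)
    exact ((q.cc_iff h1 le_rfl).1 ((le_pre_iff h1).1 this)).trans inf_le_left⟩
  have hHV : H ≤ NN V := Fusion.le_normalizer_of_conj_mem fun k hk x hx =>
    le_sSup (s := {W | W ≤ X ∧ ⁅W, X⁆ ≤ D}) (a := cj k V) ⟨cj_le hV.1 (nn_normal hk), by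
      rw [← cj_nn (H := X) (nn_normal hk), ← map_commutator]; exact cj_le hV.2 (hHD hk)⟩ ⟨x, hx, rfl⟩
  have hYV : Y ≤ V := le_sSup ⟨hY.1.le, (comm_eq_bot.2 hYX).le.trans bot_le⟩
  have h1 : ⁅⁅X, B⁆, B⁆ ≤ X := (comm_le_left (right_nn_comm _ _)).trans (comm_le_left nn_normal)
  have h2 : ⁅⁅X, B⁆, B⁆ ≤ V := le_sSup ⟨h1, le_inf ((commutator_mono h1 le_rfl).trans hXX)
    (le_cc_sup (((commutator_mono (le_inf (comm_le (comm_le_right (x1.trans hAB)) le_rfl)
      ((commutator_mono (comm_le_right (x1.trans hAB)) le_rfl).trans hB.1)) le_rfl).trans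
      (comm_le_left (nn_inf (x1.trans hAB) (nn_cc (x1.trans hAB))))).trans inf_le_right)
      (((commutator_mono h1 le_rfl).trans hXX).trans (cc_symm hRZ)))⟩
  have hVA := hV.1.trans x1
  have hVV := (commutator_mono le_rfl hV.1).trans hV.2
  have h4 : ⁅⁅V, B⁆, B⁆ ≤ Y := by
    have := hB.2.2 V (hVV.trans (inf_le_left.trans (inf_le_right.trans (cc_anti hVA))))
      (hVA.trans hAQ) (le_sup_left.trans hHV)
      (comm_eq_bot'.2 (hVV.trans (inf_le_right.trans (cc_anti le_sup_left))))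
      (comm_eq_bot.2 ((commutator_mono hZ hVA).trans (h3.trans (inf_le_right.trans (cc_anti hVA)))))
    rw [commutator_comm V]
    exact (comm_eq_bot.2 (this.trans inf_le_right)).le.trans bot_le
  have h5 : ∀ U ∈ MinInv X Y H, ⁅⁅U, B⁆, B⁆ ≤ Y := fun U hU => by
    have hBU := le_sup_left.trans hU.1.2.2
    rcases (le_inf hU.1.1.le hYV).eq_or_lt with e | e
    · exact (le_inf ((comm_le_left (right_nn_comm _ _)).trans (comm_le_left hBU))
        ((commutator_mono (commutator_mono hU.1.2.1 le_rfl) le_rfl).trans h2)).trans e.ge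
    · exact (commutator_mono (commutator_mono ((hU.2 (y := U ⊓ V) ⟨e, inf_le_left.trans hU.1.2.1,
        nn_inf hU.1.2.2 hHV⟩ inf_le_left).trans inf_le_right) le_rfl) le_rfl).trans h4
  have h6 := clifford (p := p) (H := H) (N := N) hY le_sup_right
    (sup_le le_normalClosure (res_le _))
  -- `[X,B] ≤ C_X(B mod Y)`
  set E := X ⊓ (CC (B.map (QuotientGroup.mk' Y))).comap (QuotientGroup.mk' Y)
  have hE : ∀ W ≤ X, ⁅W, B⁆ ≤ Y ↔ W ≤ E := fun W h => by
    rw [commutator_comm, comm_le_iff]; exact ⟨le_inf h, fun h => h.trans inf_le_right⟩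
  have hXY : ⁅X, X⁆ ≤ Y := chief_comm hY hX le_rfl
  have hXE : X ≤ NN E := nn_of_der_le (hXY.trans ((hE Y hY.1.le).1 (comm_le_left nn_normal)))
    inf_le_left
  refine (hE _ (comm_le_left nn_normal)).2 ?_
  have key : ∀ s : Finset (Subgroup G), (∀ U ∈ s, U ∈ MinInv X Y H) →
      s.sup id ≤ X ∧ ⁅s.sup id, B⁆ ≤ E := fun s hs => by
    induction s using Finset.cons_induction with
    | empty => simp
    | cons U s _ ih =>
      have a := hs U (Finset.mem_cons_self _ _)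
      have b := ih fun W hW => hs W (Finset.mem_cons_of_mem hW)
      rw [Finset.sup_cons]
      exact ⟨sup_le a.1.2.1 b.1, comm_sup_l (a.1.2.1.trans hXE) (b.1.trans hXE) ((hE _
        ((commutator_mono a.1.2.1 le_rfl).trans (comm_le_left nn_normal))).1 (h5 U a)) b.2⟩
  exact (commutator_mono (h6.trans (sSup_le fun U hU => Finset.le_sup (f := id)
    ((Set.toFinite _).mem_toFinset.2 hU))) le_rfl).trans
    (key _ fun U hU => (Set.toFinite _).mem_toFinset.1 hU).2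

/-- Glauberman's theorem on `K_∞` and a critical subgroup of `O_p(G)` -/
theorem exists_cubic (hT : T = pCore p G) (hTS : T ≤ S) [A.Normal] (hA : A ≤ T)
    (h3 : ⁅T, A⁆ ≤ A ⊓ CC A) (hK : ¬ ∀ n, kE S n ≤ T ∧ kO S (n + 1) ≤ T) :
    ∃ g ∈ S, g ∉ T ∧ iterCommutator A (zpowers g) 3 ≤ A ⊓ CC A ∧
      ⁅⁅A ⊓ CC A, zpowers g⁆, zpowers g⁆ = ⊥ ∧ (IsPGroup p (CC A) → ∃ U V, IsChiefFactor U V ∧
        U ≤ A ∧ ⁅⁅U, zpowers g⁆, zpowers g⁆ ≤ V ∧ ¬ ⁅U, zpowers g⁆ ≤ V) := by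
  have hTp : IsPGroup p T := hT ▸ Fusion.pCore_pgroup G
  have : T.Normal := hT ▸ Fusion.pCore_normal p G
  have hcl : A ∈ classTwoSubgroups G := (commutator_mono hA le_rfl).trans (h3.trans inf_le_right)
  -- subgroups acting quadratically on both layers
  have easy : ∀ X ≤ S, ¬ X ≤ T → ⁅⁅A, X⁆, X⁆ ≤ A ⊓ CC A → ⁅⁅A ⊓ CC A, X⁆, X⁆ = ⊥ → ∃ g ∈ S, g ∉ T ∧
      iterCommutator A (zpowers g) 3 ≤ A ⊓ CC A ∧
      ⁅⁅A ⊓ CC A, zpowers g⁆, zpowers g⁆ = ⊥ ∧ (IsPGroup p (CC A) → ∃ U V, IsChiefFactor U V ∧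
        U ≤ A ∧ ⁅⁅U, zpowers g⁆, zpowers g⁆ ≤ V ∧ ¬ ⁅U, zpowers g⁆ ≤ V) := fun X h1 h2 h4 h5 => by
    obtain ⟨g, hg, hg'⟩ := SetLike.not_le_iff_exists.1 h2
    have z := zpowers_le.2 hg
    have a : iterCommutator A (zpowers g) 2 ≤ A ⊓ CC A := (iter_mono le_rfl z 2).trans h4
    have b : iterCommutator (A ⊓ CC A) (zpowers g) 2 ≤ ⊥ := (iter_mono le_rfl z 2).trans h5.le
    refine ⟨g, h1 hg, hg', (iter_anti nn_normal (by omega)).trans a, eq_bot_iff.2 b, fun hC => ?_⟩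
    obtain ⟨U, V, c, u, h⟩ := exists_chief_nc (B := zpowers g) (hTp.to_le hA) hC
      (by rwa [zpowers_le, ← hT])
    exact ⟨U, V, c, u, chief_iter (Z := A ⊓ CC A) (n := 2) c ((iter_mono u le_rfl 2).trans a)
      fun _ => (iter_mono inf_le_right le_rfl 2).trans (b.trans bot_le), h⟩
  have easy' : ∀ X ≤ S, ¬ X ≤ T → ⁅A, X⁆ ≤ CC X → _ := fun X h1 h2 h4 =>
    easy X h1 h2 ((comm_eq_bot.2 h4).le.trans bot_le)
      (comm_eq_bot.2 ((commutator_mono inf_le_left le_rfl).trans h4))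
  by_cases h1 : ∀ Q ≤ S, A ∈ kLowerStarFamily Q
  swap
  · push Not at h1
    obtain ⟨Q, hQ, h1⟩ := h1
    simp only [kLowerStarFamily, Set.mem_setOf_eq, hcl, nn_normal, true_and, not_forall] at h1
    obtain ⟨X, x1, x2, x3, x4, x5, x6⟩ := h1
    exact easy X (x2.trans hQ) (fun e => x6 (by
      rw [commutator_comm]; exact (commutator_mono e le_rfl).trans h3)) (le_inf ((comm_le_left
      (right_nn_comm _ _)).trans (comm_le_left nn_normal)) ((commutator_mono (comm_le_right x3)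
        le_rfl).trans (comm_eq_bot'.1 x4))) x5
  by_cases h2 : ∀ n, kO S (n + 1) ≤ T
  swap
  · obtain ⟨n, h2⟩ := not_forall.1 h2
    obtain ⟨B, b1, b2, b3⟩ : ∃ B ≤ S, B ∈ kUpperStarFamily (kE S n) ∧ ¬ B ≤ T := by
      simpa [kO_succ, kU_le_iff] using h2
    exact easy' B b1 b3 (by
      rw [commutator_comm]
      exact (commutator_mono le_rfl (le_kL (hA.trans hTS) (h1 _ (kO_le n)))).trans
        (b2.2.trans inf_le_right))
  have h4 : ∃ n, ¬ kE S n ≤ T := by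
    by_contra! h; exact hK fun n => ⟨h n, h2 n⟩
  classical
  obtain ⟨B, b1, b2, b3⟩ : ∃ B ≤ S, B ∈ kLowerStarFamily (kO S (Nat.find h4)) ∧ ¬ B ≤ T := by
    simpa [kE, kL_le_iff] using Nat.find_spec h4
  have hAQ : A ≤ kO S (Nat.find h4) := by
    rcases e : Nat.find h4 with _ | n
    · exact hA.trans hTS
    · exact le_kU (hA.trans hTS) ⟨hcl, by
        rw [commutator_comm]
        exact (commutator_mono (not_not.1 (Nat.find_min h4 (by omega))) le_rfl).trans h3⟩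
  have hAB := hAQ.trans b2.2.1
  by_cases h5 : B ⊓ CC B ≤ T
  swap
  · exact easy' _ (inf_le_left.trans b1) h5 ((comm_le_right (nn_inf hAB (nn_cc hAB))).trans
      (ab_cc (ab_center B)))
  have hz := ab_cc (ab_center A)
  have h6 : ⁅⁅A ⊓ CC A, B⁆, B⁆ = ⊥ := by
    have := b2.2.2 (A ⊓ CC A) ((der_le _).trans hz) (inf_le_left.trans hAQ) nn_normal
      (by rw [comm_eq_bot.2 hz, commutator_bot_right]) (comm_eq_bot.2 (((commutator_mono h5
        inf_le_left).trans h3).trans hz))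
    rw [commutator_comm (A ⊓ CC A) B]; exact comm_eq_bot.2 (this.trans inf_le_right)
  have h7 : iterCommutator A B 3 ≤ A ⊓ CC A := (comm_eq_bot.2 ((commutator_mono
    (comm_le_right hAB) le_rfl).trans b2.1)).le.trans bot_le
  have fin : ∀ g ∈ B, iterCommutator A (zpowers g) 3 ≤ A ⊓ CC A ∧
      ⁅⁅A ⊓ CC A, zpowers g⁆, zpowers g⁆ = ⊥ := fun g hg =>
    ⟨(iter_mono le_rfl (zpowers_le.2 hg) 3).trans h7,
      eq_bot_iff.2 ((iter_mono le_rfl (zpowers_le.2 hg) 2).trans h6.le)⟩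
  by_cases hC : IsPGroup p (CC A)
  swap
  · obtain ⟨g, hg, hg'⟩ := SetLike.not_le_iff_exists.1 b3
    exact ⟨g, b1 hg, hg', (fin g hg).1, (fin g hg).2, fun h => absurd h hC⟩
  obtain ⟨U, V, c, u, q1, q2⟩ : ∃ U V, IsChiefFactor U V ∧ U ≤ A ∧ ⁅⁅U, B⁆, B⁆ ≤ V ∧
      ¬ ⁅U, B⁆ ≤ V := by
    by_cases hc : ∀ U V, IsChiefFactor U V → U ≤ A ⊓ CC A → ⁅U, B⁆ ≤ V
    · exact low_quad hTp hA h3 hC b2 hAQ (hT ▸ b3) h5 hc
    · push Not at hc
      obtain ⟨U, V, c, u, h⟩ := hc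
      exact ⟨U, V, c, u.trans inf_le_left, (commutator_mono (commutator_mono u le_rfl)
        le_rfl).trans (h6.le.trans bot_le), h⟩
  have := c.2.2.1
  obtain ⟨g, hg, hg'⟩ := SetLike.not_le_iff_exists.1 (mt comm_le_iff.2 q2)
  have q3 : ¬ ⁅U, zpowers g⁆ ≤ V := by rwa [comm_le_iff, zpowers_le]
  exact ⟨g, b1 hg, fun e => q3 ((commutator_mono le_rfl (zpowers_le.2 e)).trans
    (chief_comm c hTp (u.trans hA))), (fin g hg).1, (fin g hg).2,
    fun _ => ⟨U, V, c, u, (iter_mono le_rfl (zpowers_le.2 hg) 2).trans q1, q3⟩⟩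

/-- chief factors of `P` from those of a critical subgroup -/
theorem crit_iter [P.Normal] [Q.Normal] (hP : IsPGroup p P) (hQ : Q ≤ P) (h3 : ⁅P, Q⁆ ≤ Q ⊓ CC Q)
    (h4 : P ⊓ CC Q ≤ Q) {i j : ℕ} (hi : 1 ≤ i)
    (hQi : ∀ U V, IsChiefFactor U V → U ≤ Q → iterCommutator U X i ≤ V)
    (hZj : ∀ U V, IsChiefFactor U V → U ≤ Q ⊓ CC Q → iterCommutator U X j ≤ V)
    (c : IsChiefFactor U V) (u : U ≤ P) : iterCommutator U X (i + j - 1) ≤ V := by
  have := c.2.1
  have := c.2.2.1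
  -- `cm A B`: the elements of `U` mapping `A` into `B`
  let cm : (A B : Subgroup G) → [B.Normal] → Subgroup G := fun A B _ =>
    (CC (A.map (QuotientGroup.mk' B))).comap (QuotientGroup.mk' B)
  have cmn : ∀ (A B : Subgroup G) [A.Normal] [B.Normal], (cm A B).Normal := fun A B _ _ =>
    have := Normal.map ‹A.Normal› _ (QuotientGroup.mk'_surjective B); inferInstance
  have fin : ∀ (E : Subgroup G) [E.Normal], ¬ U ⊓ E ≤ V →
      iterCommutator (U ⊓ E) X (i + j - 1) ≤ V → iterCommutator U X (i + j - 1) ≤ V :=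
    fun E _ h1 h2 => (iter_mono (chief_inf c h1).2.ge le_rfl _).trans
      ((iter_sup _).trans (sup_le le_rfl h2))
  obtain ⟨Z₁, z1, ⟨zn, z2⟩, zm⟩ := (Set.toFinite {Z : Subgroup G | ∃ _ : Z.Normal, ¬ U ⊓ cm Q Z ≤ V}
    ).exists_le_minimal (a := Q ⊓ CC Q) ⟨inferInstance, fun e => c.1.not_ge ((le_inf le_rfl
      (comm_le_iff.1 (by rw [commutator_comm]; exact (commutator_mono u le_rfl).trans h3))).trans e)⟩
  rcases eq_or_ne Z₁ ⊥ with rfl | h0
  · have h5 : U ⊓ cm Q ⊥ ≤ U ⊓ (Q ⊓ CC Q) := by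
      have := comm_eq_bot'.1 (eq_bot_iff.2 ((comm_le_iff (U := Q) (V := ⊥)).2
        (inf_le_right (a := U))))
      exact le_inf inf_le_left (le_inf ((le_inf (inf_le_left.trans u) this).trans h4) this)
    have h6 : ¬ U ⊓ (Q ⊓ CC Q) ≤ V := fun e => z2 (h5.trans e)
    exact fin _ h6 ((iter_anti nn_normal (by omega)).trans
      ((hZj _ _ (chief_inf c h6).1 inf_le_right).trans inf_le_left))
  obtain ⟨Z₀, cz, -⟩ := exists_chief (U := Z₁) (bot_lt_iff_ne_bot.2 h0)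
  have := cz.2.2.1
  have z3 : U ⊓ cm Q Z₀ ≤ V := by_contra fun e => cz.1.not_ge (zm ⟨_, e⟩ cz.1.le)
  obtain ⟨Q₁, -, ⟨q1, q2, q3⟩, qm⟩ := (Set.toFinite {W : Subgroup G | W.Normal ∧ W ≤ Q ∧
    ¬ U ⊓ (cm Q Z₁ ⊓ cm W Z₀) ≤ V}).exists_le_maximal (a := ⊥) ⟨inferInstance, bot_le, fun e =>
      z2 ((inf_le_inf_left _ (le_inf le_rfl (comm_le_iff.1 (by simp)))).trans e)⟩
  obtain ⟨Q₂, cq, q4⟩ := exists_chief_up (U := Q) (V := Q₁) (lt_of_le_of_ne q2 (by
    rintro rfl; exact q3 ((inf_le_inf_left _ inf_le_right).trans z3)))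
  have := cq.2.1
  have q5 : U ⊓ (cm Q Z₁ ⊓ cm Q₂ Z₀) ≤ V := by_contra fun e => cq.1.not_ge (qm ⟨this, q4, e⟩ cq.1.le)
  have := cmn Q Z₁
  have := cmn Q₁ Z₀
  set E := U ⊓ (cm Q Z₁ ⊓ cm Q₁ Z₀)
  have hE := fun c => iter_le (U := E) (X := X) nn_normal c
  have hN : ∀ b, P ≤ NN (Z₀ ⊔ iterCommutator Z₁ X b) := fun b => nn_of_comm_le (K := Z₁)
    ((chief_comm cz hP (z1.trans (inf_le_left.trans hQ))).trans le_sup_left)
    (sup_le cz.1.le (iter_le nn_normal b))
  have hM : ∀ a, Q₁ ⊔ iterCommutator Q₂ X a ≤ Q := fun a =>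
    sup_le q2 ((iter_le nn_normal a).trans q4)
  have key : ∀ c a b, i + b ≤ a + c + 1 → ⁅Q₁ ⊔ iterCommutator Q₂ X a, iterCommutator E X c⁆ ≤
      Z₀ ⊔ iterCommutator Z₁ X b := fun c => by
    have h0 : ∀ c a, ⁅Q₁ ⊔ iterCommutator Q₂ X a, iterCommutator E X c⁆ ≤
        Z₀ ⊔ iterCommutator Z₁ X 0 := fun c a => ((commutator_mono (hM a) le_rfl).trans
      (comm_le_iff.2 ((hE c).trans (inf_le_right.trans inf_le_left)))).trans le_sup_right
    induction c with
    | zero =>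
      rintro a (_ | b) h
      · exact h0 _ _
      · exact ((commutator_mono (sup_le le_rfl ((iter_anti nn_normal (by omega)).trans
          (hQi _ _ cq q4))) le_rfl).trans (comm_le_iff.2 (inf_le_right.trans inf_le_right))).trans
          le_sup_left
    | succ c ih =>
      rintro a (_ | b) h
      · exact h0 _ _
      · rw [commutator_comm, iter_succ c]
        refine three_sub (A := X) (nn_sup nn_normal (iter_nn nn_normal _))
          ((hM a).trans (hQ.trans (hN _))) ((hE c).trans (inf_le_left.trans (u.trans (hN _)))) ?_ ?_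
        · rw [commutator_comm X]
          exact (commutator_mono comm_sup_le le_rfl).trans (ih (a + 1) (b + 1) (by omega))
        · exact (commutator_mono (ih a b (by omega)) le_rfl).trans comm_sup_le
  refine fin _ q3 ((le_inf ((hE _).trans inf_le_left) (le_inf ((hE _).trans
    (inf_le_right.trans inf_le_left)) (comm_le_iff.1 ?_))).trans q5)
  exact (commutator_mono le_sup_right le_rfl).trans ((key _ 0 j (by omega)).trans
    (sup_le le_rfl (hZj _ _ cz z1)))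

theorem cc_pg_of_crit (hT : T = pCore p G) (hC : CC T ≤ T)
    (h : ∀ g, (orderOf g).Coprime p → g ∈ CC A → g ∈ CC T) : IsPGroup p (CC A) :=
  isPGroup_iff_res_eq_bot.2 (eq_bot_iff.2 (res_le_iff.2 fun g hg hc => by
    have := (isPGroup_iff_res_eq_bot (p := p) (H := T)).1 (hT ▸ Fusion.pCore_pgroup G)
    exact this ▸ res_le_iff.1 le_rfl g (hC (h g hc hg)) hc))

theorem exists_seq_not_le {G : Type u} [Group G] [Finite G] (S : Sylow p G)
    (hK : ¬ (inducedFunctor kInfLower (S : Subgroup G)).Normal ∨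
      ¬ (inducedFunctor kInfUpper (S : Subgroup G)).Normal) :
    ¬ ∀ n, kE S.1 n ≤ pCore p G ∧ kO S.1 (n + 1) ≤ pCore p G := fun h => by
  have := Fusion.pCore_normal p G
  obtain ⟨h1, h2⟩ := kinf_eq (Fusion.pCore_le_sylow S) h
  rw [← ind_lower, ← ind_lower] at h1
  rw [← ind_upper, ← ind_upper] at h2
  have key : ∀ W : ∀ (Q : Type u) [Group Q], Subgroup Q, IsCharPFunctor p W →
      (inducedFunctor W (pCore p G)).Normal := fun W hW =>
    have : (W (pCore p G)).Characteristic := characteristic_iff_map_eq.2 fun φ =>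
      hW.2 _ _ (Fusion.pCore_pgroup G) φ
    ConjAct.normal_of_characteristic_of_normal
  exact hK.elim (fun h => h (h1 ▸ key _ lower_char)) fun h => h (h2 ▸ key _ upper_char)

/-- Glauberman's theorem 12.3 -/
theorem exists_quartic {G : Type u} [Group G] [Finite G] (S : Sylow p G)
    (hK : ¬ (inducedFunctor kInfLower (S : Subgroup G)).Normal ∨
      ¬ (inducedFunctor kInfUpper (S : Subgroup G)).Normal) :
    ∃ g ∈ S.1, g ∉ pCore p G ∧ (∀ U V, IsChiefFactor U V → U ≤ pCore p G →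
      iterCommutator U (zpowers g) 4 ≤ V) ∧
      ⁅⁅pCore p G ⊓ CC (pCore p G), zpowers g⁆, zpowers g⁆ = ⊥ ∧ (CC (pCore p G) ≤ pCore p G →
        ∃ U V, IsChiefFactor U V ∧ U ≤ pCore p G ∧ ⁅⁅U, zpowers g⁆, zpowers g⁆ ≤ V ∧
          ¬ ⁅U, zpowers g⁆ ≤ V) := by
  have := Fusion.pCore_normal p G
  have hT := Fusion.pCore_pgroup (p := p) G
  obtain ⟨A, a1, a2, -, a4, a5⟩ := BG.exists_critical hT
  have : A.Normal := normalizer_eq_top_iff.1 (top_le_iff.1 (nn_normal.trans a2))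
  rw [commutator_comm] at a4
  obtain ⟨g, g1, g2, g3, g4, g5⟩ := exists_cubic rfl (Fusion.pCore_le_sylow S) a1 a4
    (exists_seq_not_le S hK)
  have hZ : ∀ U V, U ≤ A ⊓ CC A → iterCommutator U (zpowers g) 2 ≤ V :=
    fun U V u => (iter_mono u le_rfl 2).trans (g4.le.trans bot_le)
  refine ⟨g, g1, g2, fun U V c u => crit_iter (i := 3) (j := 2) hT a1 a4 a5 (by omega)
    (fun U V c u => chief_iter c ((iter_mono u le_rfl 3).trans g3) fun _ =>
      (iter_anti (have := c.2.1; nn_normal) (by omega)).trans (hZ _ _ inf_le_right))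
    (fun U V _ => hZ U V) c u, eq_bot_iff.2 (hZ _ _ (le_inf ((inf_le_inf_left _ (cc_anti a1)).trans
      a5) (inf_le_right.trans (cc_anti a1)))), fun hC => ?_⟩
  obtain ⟨U, V, c, u, h⟩ := g5 (cc_pg_of_crit rfl hC fun x hx h => zpowers_le.1
    (BG.le_Ct_of_critical nn_normal (by
      obtain ⟨k, hk⟩ := hT.exists_card_eq
      rw [hk, Nat.card_zpowers]; exact hx.pow_right k) nn_normal a5 (zpowers_le.2 h)))
  exact ⟨U, V, c, u.trans a1, h⟩

theorem chief_comm' (c : IsChiefFactor U V) [N.Normal] (hU : IsPGroup p U)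
    (h : ⁅U, res p N⁆ ≤ V) : ⁅U, N⁆ ≤ V := by
  have := c.2.1
  have := c.2.2.1
  obtain ⟨P, hP⟩ := exists_isSyl p N
  obtain ⟨x, x1, x2, x3⟩ := exists_fix (Q := P) (X := U) (Y := V) (pg_sup_l hU hP.2 nn_normal)
    le_sup_right le_sup_left nn_normal nn_normal c.1.not_ge
  have := Normal.map ‹N.Normal› _ (QuotientGroup.mk'_surjective V)
  rw [commutator_comm, comm_le_iff]
  refine ((c.2.2.2 (U ⊓ (CC (N.map (QuotientGroup.mk' V))).comap (QuotientGroup.mk' V))
    inferInstance (le_inf c.1.le (comm_le_iff.1 (comm_le_right nn_normal))) inf_le_left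
    ).resolve_left fun e => x2 (e.le ⟨x1, zpowers_le.1 (comm_le_iff.1 ?_)⟩)).ge.trans inf_le_right
  rw [← hP.res_sup, commutator_comm]
  exact comm_sup_r nn_normal nn_normal ((commutator_mono (zpowers_le.2 x1) le_rfl).trans h) x3

/-- a quadratic element acting nontrivially on a chief factor contradicts `p`-stability -/
theorem not_stable [V.Normal] (c : IsChiefFactor U V) (hU : IsPGroup p U) {g : G}
    (h1 : ⁅⁅U, zpowers g⁆, zpowers g⁆ ≤ V) (h2 : ¬ ⁅U, zpowers g⁆ ≤ V) :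
    ¬ IsNormalizerPStable p (G ⧸ V) := fun h => by
  have := c.2.1
  let q := QuotientGroup.mk' V
  have hq := QuotientGroup.mk'_surjective V
  have := Normal.map c.2.1 q hq
  have hn : ∀ x, x ∈ NN (U.map q) := fun x => nn_normal (mem_top x)
  have h3 := h (U.map q) (hU.map q) (q g) (hn _) (by
    rw [← MonoidHom.map_zpowers, ← map_commutator, ← map_commutator, Subgroup.map_eq_bot_iff]
    exact h1.trans (QuotientGroup.ker_mk' V).ge)
  let f := (QuotientGroup.mk' ((CC (U.map q)).subgroupOf (NN (U.map q)))).comp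
    (q.codRestrict _ fun x => hn _)
  have hf : Function.Surjective f := (QuotientGroup.mk'_surjective _).comp fun ⟨y, hy⟩ => by
    obtain ⟨x, rfl⟩ := hq y; exact ⟨x, rfl⟩
  have := Fusion.pCore_normal p (NN (U.map q) ⧸ (CC (U.map q)).subgroupOf (NN (U.map q)))
  let N := (pCore p _).comap f
  have h4 : res p N ≤ f.ker := (isPGroup_map_iff_res_le f).1
    ((Fusion.pCore_pgroup _).to_le (map_comap_le _ _))
  have h5 : ⁅U, res p N⁆ ≤ V := comm_le_iff.2 fun x hx =>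
    (QuotientGroup.eq_one_iff (N := (CC (U.map q)).subgroupOf (NN (U.map q))) _).1 (h4 hx)
  exact h2 ((commutator_mono le_rfl (show zpowers g ≤ N from zpowers_le.2 h3)).trans
    (chief_comm' c hU h5))

end Cfsg.Agent.KInf
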