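import Cfsg.Agent.Lib.Fusion.KFoc
import Cfsg.Agent.Lib.Fusion.KInf2

/-! Control of transfer by families of characteristic functors in groups. -/

set_option autoImplicit false

namespace Cfsg.Agent.Fusion

open Cfsg Cfsg.FusionSystem
open scoped commutatorElement

universe u v

variable {p : ℕ} {𝓦 : Set (∀ (Q : Type u) [Group Q], Subgroup Q)}
  {W : ∀ (Q : Type u) [Group Q], Subgroup Q}

/-- `C_L(O_p(L)) ≤ O_p(L)`. -/
abbrev Con (p : ℕ) (L : Type*) [Group L] : Prop :=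
  Subgroup.centralizer ((pCore p L : Subgroup L) : Set L) ≤ pCore p L

/-- The conjugacy functors induced on `G`. -/
abbrev indF (𝓦 : Set (∀ (Q : Type u) [Group Q], Subgroup Q)) (G : Type u) [Group G] :
    Set (Subgroup G → Subgroup G) := (fun W => inducedFunctor (G := G) W) '' 𝓦

section Sec

variable {G L : Type*} [Group G] [Group L]

theorem involves_sec (K R : Subgroup G) [h : (R.subgroupOf K).Normal] :
    Involves (K ⧸ R.subgroupOf K) G := ⟨K, R, h, ⟨MulEquiv.refl _⟩⟩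

theorem involves_sub (K : Subgroup G) : Involves K G :=
  Involves.of_injective involves_refl _ K.subtype_injective

theorem involves_quot (N : Subgroup G) [N.Normal] : Involves (G ⧸ N) G :=
  Involves.of_surjective involves_refl _ (QuotientGroup.mk'_surjective N)

theorem Involves.equiv_of_card_le [Finite G] (h : Involves L G) (hc : Nat.card G ≤ Nat.card L) :
    Nonempty (G ≃* L) := by
  obtain ⟨K, φ, hφ⟩ := involves_iff.1 h
  have h1 := Nat.card_le_card_of_surjective _ hφ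
  obtain rfl : K = ⊤ := Subgroup.eq_top_of_le_card _ (hc.trans h1)
  exact ⟨Subgroup.topEquiv.symm.trans (MulEquiv.ofBijective φ
    (hφ.bijective_of_nat_card_le ((Subgroup.card_le_card_group ⊤).trans hc)))⟩

theorem Involves.finite [Finite G] (h : Involves L G) : Finite L := by
  obtain ⟨K, φ, hφ⟩ := involves_iff.1 h
  exact Finite.of_surjective _ hφ

theorem Con.equiv (h : Con p G) (e : G ≃* L) : Con p L := by
  unfold Con
  rw [← Solv.map_pCore_equiv e]
  intro x hx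
  obtain ⟨x, rfl⟩ := e.surjective x
  exact ⟨x, h fun y hy => e.injective (by simpa using hx _ ⟨y, hy, rfl⟩), rfl⟩

theorem exists_equiv_sylow [Fact p.Prime] [Finite L] (e : G ≃* L) (S : Sylow p G) (P : Sylow p L) :
    ∃ e' : G ≃* L, (S : Subgroup G).map e'.toMonoidHom = P := by
  have : Finite G := Finite.of_equiv _ e.toEquiv.symm
  have h := (sylowIn_top S).map e.toMonoidHom
  rw [Subgroup.map_top_of_surjective _ e.surjective] at h
  obtain ⟨c, -, hc⟩ := (sylowIn_top P).exists_conj_eq h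
  exact ⟨e.trans (MulAut.conj c), by rw [← hc, Subgroup.map_map]; rfl⟩

end Sec

section Ind

variable {G : Type u} [Group G] {C : ∀ (L : Type u) [Group L], Prop}

theorem sec_all (hC : ∀ (L L' : Type u) [Group L] [Group L'], (L ≃* L') → C L → C L')
    (h : ∀ (K R : Subgroup G) [(R.subgroupOf K).Normal], C (K ⧸ R.subgroupOf K))
    (L : Type u) [Group L] (hL : Involves L G) : C L := by
  obtain ⟨K, R, _, ⟨e⟩⟩ := hL
  exact hC _ _ e (h K R)

theorem sec_lt [Finite G] (hC : ∀ (L L' : Type u) [Group L] [Group L'], (L ≃* L') → C L → C L')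
    (h : ∀ (K R : Subgroup G) [(R.subgroupOf K).Normal], (K = ⊤ → R ≠ ⊥) → C (K ⧸ R.subgroupOf K))
    (L : Type u) [Group L] (hL : Involves L G) (hc : Nat.card L < Nat.card G) : C L := by
  obtain ⟨K, R, _, ⟨e⟩⟩ := hL
  refine hC _ _ e (h K R ?_)
  rintro rfl rfl
  refine hc.ne ?_
  rw [← Nat.card_congr e.toEquiv, ← Subgroup.index_eq_card, Subgroup.bot_subgroupOf,
    Subgroup.index_bot, Subgroup.card_top]

theorem sec_ind [Finite G] (hC : ∀ (L L' : Type u) [Group L] [Group L'], (L ≃* L') → C L → C L')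
    (step : ∀ (K R : Subgroup G) [(R.subgroupOf K).Normal], (∀ (L : Type u) [Group L],
      Involves L (K ⧸ R.subgroupOf K) → Nat.card L < Nat.card (K ⧸ R.subgroupOf K) → C L) →
      C (K ⧸ R.subgroupOf K)) (L : Type u) [Group L] (hL : Involves L G) : C L := by
  induction' h : Nat.card L using Nat.strong_induction_on with n ih generalizing L
  obtain ⟨K, R, _, ⟨e⟩⟩ := hL
  exact hC _ _ e (step K R fun L' _ h1 h2 => ih _ (h ▸ Nat.card_congr e.toEquiv ▸ h2) L'
    (Involves.trans h1 (involves_sec K R)) rfl)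

theorem grp_ind (step : ∀ (G : Type u) [Group G] [Finite G], (∀ (L : Type u) [Group L],
      Involves L G → Nat.card L < Nat.card G → C L) → C G) (L : Type u) [Group L] [Finite L] :
    C L := by
  induction' h : Nat.card L using Nat.strong_induction_on with n ih generalizing L
  exact step L fun L' _ h1 h2 => by
    have := Involves.finite h1
    exact ih _ (h ▸ h2) L' rfl

end Ind

section Grp

variable {G L : Type u} [Group G] [Group L] {H T U : Subgroup G}

theorem ind_map (hW : IsCharPFunctor p W) [Finite T] (hT : IsPGroup p T) {ψ : G →* L}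
    (h : T ⊓ ψ.ker = ⊥) : (inducedFunctor W T).map ψ = inducedFunctor W (T.map ψ) :=
  Transfer.map_functor h fun e => hW.2 _ _ hT e

theorem ind_cf [Finite G] (hW : IsCharPFunctor p W) :
    IsConjugacyFunctor p (inducedFunctor (G := G) W) := fun P hP =>
  ⟨ind_le W P, ind_ne_bot hW hP, fun _ => (ind_map hW hP
    (Transfer.inf_ker_eq_bot_of_injective (MulEquiv.injective _) _)).symm⟩

theorem indF_cf [Finite G] (h𝓦 : ∀ W ∈ 𝓦, IsCharPFunctor p W) :
    ∀ V ∈ indF 𝓦 G, IsConjugacyFunctor p V := by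
  rintro _ ⟨W, hW, rfl⟩; exact ind_cf (h𝓦 W hW)

theorem famFoc_ind : famFoc (indF 𝓦 G) H T = ⨆ W ∈ 𝓦,
    T ⊓ ⁅H ⊓ Subgroup.normalizer (inducedFunctor W T : Set G),
      H ⊓ Subgroup.normalizer (inducedFunctor W T : Set G)⁆ := by
  unfold famFoc; rw [iSup_image]

theorem famFoc_mono {𝓥 : Set (Subgroup G → Subgroup G)} (h : H ≤ U) :
    famFoc 𝓥 H T ≤ famFoc 𝓥 U T := iSup₂_mono fun _ _ => inf_le_inf_left _
  (Subgroup.commutator_mono (inf_le_inf_right _ h) (inf_le_inf_right _ h))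

theorem famFoc_map (h𝓦 : ∀ W ∈ 𝓦, IsCharPFunctor p W) [Finite T] (hT : IsPGroup p T)
    {ψ : G →* L} (h : T ⊓ ψ.ker = ⊥) :
    (famFoc (indF 𝓦 G) H T).map ψ ≤ famFoc (indF 𝓦 L) (H.map ψ) (T.map ψ) := by
  simp only [famFoc_ind, Subgroup.map_iSup]
  refine iSup₂_mono fun W hW => (Subgroup.map_inf_le _ _ _).trans (inf_le_inf_left _ ?_)
  have : (H ⊓ Subgroup.normalizer (inducedFunctor W T : Set G)).map ψ ≤
      H.map ψ ⊓ Subgroup.normalizer (inducedFunctor W (T.map ψ) : Set L) := by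
    rw [← ind_map (h𝓦 W hW) hT h]
    exact (Subgroup.map_inf_le _ _ _).trans (inf_le_inf_left _ (Subgroup.le_normalizer_map _))
  rw [Subgroup.map_commutator]; exact Subgroup.commutator_mono this this

variable [Fact p.Prime]

theorem fct_map [Finite L] (h𝓦 : ∀ W ∈ 𝓦, IsCharPFunctor p W) {ψ : G →* L}
    (hψ : Function.Injective ψ) (h : FamilyControlsTransferIn p (indF 𝓦 G) ⊤) :
    FamilyControlsTransferIn p (indF 𝓦 L) ψ.range := by
  have := Finite.of_injective _ hψ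
  obtain ⟨S⟩ : Nonempty (Sylow p G) := inferInstance
  rw [fct_iff (indF_cf h𝓦) (sylowIn_top S)] at h
  rw [MonoidHom.range_eq_map, fct_iff (indF_cf h𝓦) ((sylowIn_top S).map ψ),
    ← Subgroup.map_commutator, ← Subgroup.map_inf _ _ _ hψ]
  exact (Subgroup.map_mono h).trans (famFoc_map h𝓦 S.isPGroup'
    (Transfer.inf_ker_eq_bot_of_injective hψ _))

/-- The family controls transfer in the finite group `G`. -/
def FCT (p : ℕ) (𝓦 : Set (∀ (Q : Type u) [Group Q], Subgroup Q)) (G : Type u) [Group G] : Prop :=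
  Finite G → FamilyControlsTransferIn p (indF 𝓦 G) ⊤

theorem FCT.equiv (h𝓦 : ∀ W ∈ 𝓦, IsCharPFunctor p W) (L L' : Type u) [Group L] [Group L']
    (e : L ≃* L') (h : FCT p 𝓦 L) : FCT p 𝓦 L' := fun _ => by
  have := fct_map h𝓦 (ψ := e.toMonoidHom) e.injective (h (Finite.of_equiv _ e.toEquiv.symm))
  rwa [MonoidHom.range_eq_top.2 e.surjective] at this

end Grp

section Real

variable {Ω : Type u} [Group Ω] {S U : Subgroup Ω} {F : FusionSystem S} {L : Type*} [Group L]
  {ι : S →* L} [Fact p.Prime] [Finite L]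

theorem IsRealizedBy.image_foc (hL : F.IsRealizedBy ι) (hT : SylowIn p ι.range ⊤) :
    imageAlong ι F.focalSubgroup = ι.range ⊓ commutator L := by
  have hfin : Finite S := Finite.of_injective _ hL.1
  rw [← (isRealizedBy_iff_iso.1 hL).toSurj.foc_eq, groupFusionSystem_eq, (foc_sub hT).1]; rfl

theorem IsRealizedBy.image_nFoc (hL : F.IsRealizedBy ι) (hT : SylowIn p ι.range ⊤) (hU : U ≤ S)
    (hn : S ≤ Subgroup.normalizer (U : Set Ω)) : imageAlong ι (nFoc F U) =
      ι.range ⊓ ⁅Subgroup.normalizer (imageAlong ι U : Set L),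
        Subgroup.normalizer (imageAlong ι U : Set L)⁆ := by
  have hfin : Finite S := Finite.of_injective _ hL.1
  have : Finite U := finite_of_le hU
  have hN : ι.range ≤ Subgroup.normalizer (imageAlong ι U : Set L) := by
    rintro _ ⟨s, rfl⟩
    refine mem_normalizer_of_finite fun y hy => ?_
    obtain ⟨x, hx, rfl⟩ := (mem_imageAlong' hU).1 hy
    rw [← ap_of_mem ι s.2, ← ap_conj _ s.2 (hU hx)]
    exact ap_mem_imageAlong hU (conj_mem_of_mem_normalizer (hn s.2) hx)
  refine le_antisymm (le_inf imageAlong_le_range ((imageAlong_le_iff (nFoc_le_foc.trans foc_le)).2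
    fun x hx => (mem_preimageAlong.1 ((nFoc_le_iff (D := preimageAlong ι _)).2
      (fun P g hg h1 h2 x hx => ?_) hx)).2)) ?_
  · obtain ⟨l, e⟩ := IsRealizedBy.exists_elt hL hg
    refine mem_preimageAlong.2 ⟨S.mul_mem (S.inv_mem (hg.le hx)) (hg.mem hx), ?_⟩
    rw [ap_mul _ (S.inv_mem (hg.le hx)) (hg.mem hx), e x hx, ap_inv _ (hg.le hx)]
    have := Subgroup.commutator_mem_commutator
      (Subgroup.inv_mem _ (hN (ap_mem_range ι (hg.le hx)))) (mem_normalizer_of_finite (g := l)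
        (P := imageAlong ι U) fun y hy => by
          obtain ⟨x, hx, rfl⟩ := (mem_imageAlong' hU).1 hy
          rw [← e x (h1 hx)]; exact ap_mem_imageAlong hU (h2 ▸ subset_img hx))
    simpa [commutatorElement_def, mul_assoc] using this
  · rw [← (foc_sub (hT.of_le hN le_top)).1]
    refine foc_le_iff.2 fun P f hf y hy => ?_
    obtain ⟨h1, h2, l, hl, e⟩ := mor_subgroup_iff.1 hf
    have h3 : preimageAlong ι P ⊔ U ≤ S := sup_le preimageAlong_le hU
    have h4 : ∀ x ∈ U, l * ap ι x * l⁻¹ ∈ imageAlong ι U := fun x hx =>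
      conj_mem_of_mem_normalizer hl (ap_mem_imageAlong hU hx)
    obtain ⟨g, hg, e'⟩ := IsRealizedBy.exists_mor hL h3 l fun x hx => (mem_preimageAlong.1 (sup_le
      (c := preimageAlong ι (ι.range.comap (MulAut.conj l).toMonoidHom))
      (fun x hx => mem_preimageAlong.2 ⟨(mem_preimageAlong.1 hx).1, by
        have := (mem_preimageAlong.1 hx).2
        exact (e _ this ▸ h2 _ this :)⟩)
      (fun x hx => mem_preimageAlong.2 ⟨hU hx, imageAlong_le_range (h4 x hx)⟩) hx)).2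
    obtain ⟨x, hx, rfl⟩ := mem_range_iff.1 (h1 hy)
    have hx' : x ∈ preimageAlong ι P ⊔ U := Subgroup.mem_sup_left (mem_preimageAlong.2 ⟨hx, hy⟩)
    rw [e _ hy, ← e' x hx', ← ap_inv _ hx, ← ap_mul _ (S.inv_mem hx) (hg.mem hx')]
    exact ap_mem_imageAlong (nFoc_le_foc.trans foc_le) (hg.mem_nFoc le_sup_right
      ((hg.mono le_sup_right).img_eq_self fun x hx => (ap_mem_image_iff hL.1 hU
        (hg.mem (Subgroup.mem_sup_right hx))).1 (e' x (Subgroup.mem_sup_right hx) ▸ h4 x hx)) hx')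

theorem imageAlong_iSup₂ {κ : Type*} {A : Set κ} {V : κ → Subgroup Ω} (h : ∀ i ∈ A, V i ≤ S) :
    imageAlong ι (⨆ i ∈ A, V i) = ⨆ i ∈ A, imageAlong ι (V i) :=
  le_antisymm ((imageAlong_le_iff (iSup₂_le h)).2 fun _ hx => (mem_preimageAlong.1 (iSup₂_le
    (a := preimageAlong ι _) (fun i hi => (le_preimage_image (h i hi)).trans
      (preimageAlong_mono (le_iSup₂_of_le i hi le_rfl))) hx)).2)
    (iSup₂_le fun i hi => imageAlong_mono (le_iSup₂_of_le i hi le_rfl))

end Real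

section Real2

variable {Ω : Type u} [Group Ω] {S U : Subgroup Ω} {F : FusionSystem S} {L : Type u} [Group L]
  {ι : S →* L} [Fact p.Prime] [Finite L] {Bad : ∀ (H : Type v) [Group H], Prop}

theorem IsRealizedBy.image_famD (h𝓦 : ∀ W ∈ 𝓦, IsCharPFunctor p W) (hS : IsPGroup p S)
    (hL : F.IsRealizedBy ι) (hT : SylowIn p ι.range ⊤) : imageAlong ι (famD 𝓦 F) =
      ⁅ι.range, ι.range⁆ ⊔ famFoc (indF 𝓦 L) ⊤ ι.range := by
  have hfin : Finite S := Finite.of_injective _ hL.1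
  rw [famD, imageAlong_sup S.commutator_le_self (iSup₂_le fun _ _ => nFoc_le_foc.trans foc_le),
    imageAlong_commutator le_rfl le_rfl, imageAlong_top, famFoc_ind,
    imageAlong_iSup₂ fun _ _ => nFoc_le_foc.trans foc_le]
  congr 1
  refine iSup_congr fun W => iSup_congr fun hW => ?_
  rw [IsRealizedBy.image_nFoc hL hT (ind_le W S) (ind_le_normalizer (h𝓦 W hW) hS),
    ind_image (h𝓦 W hW) hS hL.1 le_rfl, imageAlong_top, top_inf_eq]

omit [Finite L] in
theorem fam_foc' (h𝓦 : ∀ W ∈ 𝓦, IsCharPFunctor p W)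
    (hbase : ∀ (L : Type u) [Group L] [Finite L] (P : Sylow p L), Con p L →
      (∀ (H : Type v) [Group H], Bad H → ¬ Involves H L) →
      pCore p L ⊓ commutator L ≤ ⁅P.1, P.1⁆ ⊔ famFoc (indF 𝓦 L) ⊤ P)
    [Finite S] (F : FusionSystem S) :
    IsPGroup p S → F.IsSaturated p → Free p Bad F → F.focalSubgroup ≤ famD 𝓦 F :=
  fam_foc h𝓦 (fun F hS hc hfree => by
    obtain ⟨L, _, ι, hL⟩ := exists_model hS hc
    have : Finite L := hL.1
    obtain ⟨P, hP⟩ := hL.2.2.1
    have := hbase L P hL.2.2.2 fun H _ hH => IsModel.not_involves hL (hfree H hH)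
    rw [hP, ← IsRealizedBy.image_famD h𝓦 hS hL.2.1 (IsModel.sylowIn hL)] at this
    refine (imageAlong_le_imageAlong_iff hL.2.1.1 (inf_le_left.trans (core_le F))
      (famD_le_foc.trans foc_le)).1 (le_trans (le_inf ?_ ?_) this)
    · rw [← IsModel.image_core hL]; exact imageAlong_mono inf_le_left
    · exact (imageAlong_mono inf_le_right).trans
        ((IsRealizedBy.image_foc hL.2.1 (IsModel.sylowIn hL)).le.trans inf_le_right)) F

theorem grp_foc (h𝓦 : ∀ W ∈ 𝓦, IsCharPFunctor p W) (S : Sylow p L)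
    (h : (groupFusionSystem S.1).focalSubgroup ≤ famD 𝓦 (groupFusionSystem S.1)) :
    S.1 ⊓ commutator L ≤ ⁅S.1, S.1⁆ ⊔ famFoc (indF 𝓦 L) ⊤ S := by
  have h1 : SylowIn p S.1.subtype.range ⊤ := by rw [Subgroup.range_subtype]; exact sylowIn_top S
  have h2 := IsRealizedBy.image_famD h𝓦 S.isPGroup' (group_realizedBy S.1) h1
  have h3 := IsRealizedBy.image_foc (group_realizedBy S.1) h1
  rw [Subgroup.range_subtype] at h2 h3
  rw [← h2, ← h3]; exact imageAlong_mono h

end Real2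

section Trace

open MulAction

theorem prod_eq_of_fix {U X A : Type*} [Group U] [MulAction U X] [Fintype X] [CommGroup A]
    [Finite U] [hp : Fact p.Prime] (hU : IsPGroup p U) (F : X → A) (y₀ : X)
    (h0 : ∀ y, stabilizer U y = ⊤ ↔ y = y₀)
    (h : ∀ R : Subgroup U, R ≠ ⊤ → ∃ z ∉ R, ∀ w, ∏ i ∈ Finset.range p, F (z ^ i • w) = 1) :
    ∏ y, F y = F y₀ := by
  classical
  have h1 : ∀ u : U, u • y₀ = y₀ := fun u => by
    have : u ∈ stabilizer U y₀ := (h0 y₀).2 rfl ▸ Subgroup.mem_top u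
    exact this
  rw [prod_eq_of_orbits U (g := fun y => if y = y₀ then F y else 1) fun y => ?_]
  · simp
  by_cases hy : y = y₀
  · subst hy
    refine finprod_mem_congr rfl ?_
    rintro _ ⟨u, rfl⟩
    exact (if_pos (h1 u)).symm
  rw [finprod_mem_congr (g := fun _ => (1 : A)) rfl (f := fun y => if y = y₀ then F y else 1) (by
    rintro _ ⟨u, rfl⟩
    exact if_neg fun e => hy (by rw [← inv_smul_smul u y, show u • y = y₀ from e, h1])),
    finprod_mem_one]
  obtain ⟨R, hR, hle⟩ := Solv.exists_coatom_ge (mt (h0 y).1 hy)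
  have := hU.isNilpotent
  have := Solv.coatom_normal_of_nilpotent hR
  have hi : R.index = p := by
    obtain ⟨n, hn⟩ := hU.index R
    have h2 := Solv.index_prime_of_coatom_normal hR
    rw [hn] at h2 ⊢
    rw [h2.eq_one_of_pow, pow_one]
  obtain ⟨z, hz, e⟩ := h R hR.1
  have ho : orderOf (z : U ⧸ R) = p := orderOf_eq_prime (by rw [← hi]; exact pow_card_eq_one')
    (mt (QuotientGroup.eq_one_iff z).1 hz)
  rw [← finprod_mem_eq_of_bijOn (s := orbit R y ×ˢ Set.Iio p) (f := fun x => F (z ^ x.2 • x.1))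
    (fun x => z ^ x.2 • x.1) ⟨?_, ?_, ?_⟩ fun _ _ => rfl]
  · rw [← (Set.toFinite (orbit R y)).coe_toFinset, ← Finset.coe_range, ← Finset.coe_product,
      finprod_mem_coe_finset, Finset.prod_product]
    exact Finset.prod_eq_one fun w _ => e w
  · rintro ⟨_, i⟩ ⟨⟨r, rfl⟩, -⟩
    exact ⟨z ^ i * r, mul_smul _ _ _⟩
  · rintro ⟨_, i⟩ ⟨⟨r, rfl⟩, hi⟩ ⟨_, j⟩ ⟨⟨s, rfl⟩, hj⟩ e
    have e' : (z ^ i * r) • y = (z ^ j * s) • y := by rw [mul_smul, mul_smul]; exact e
    have h2 : (z ^ j * s)⁻¹ * (z ^ i * r) ∈ R := hle (by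
      rw [mem_stabilizer_iff, mul_smul, e', inv_smul_smul])
    rw [← QuotientGroup.eq] at h2
    simp only [QuotientGroup.mk_mul, (QuotientGroup.eq_one_iff _).2 r.2,
      (QuotientGroup.eq_one_iff _).2 s.2, mul_one, QuotientGroup.mk_pow] at h2
    obtain rfl : j = i := pow_injOn_Iio_orderOf (ho ▸ hj) (ho ▸ hi) h2
    exact Prod.ext (MulAction.injective (z ^ j) e) rfl
  · rintro _ ⟨u, rfl⟩
    have h2 : (u : U ⧸ R) ∈ Subgroup.zpowers (z : U ⧸ R) := by
      rw [Subgroup.eq_top_of_card_eq (Subgroup.zpowers (z : U ⧸ R)) (by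
        rw [Nat.card_zpowers, ho, ← hi]; rfl)]; trivial
    rw [mem_zpowers_iff_mem_range_orderOf, ho] at h2
    obtain ⟨i, hi, e⟩ := Finset.mem_image.1 h2
    have h3 : (z ^ i)⁻¹ * u ∈ R := QuotientGroup.eq.1 e
    exact ⟨(_, i), ⟨⟨⟨_, h3⟩, rfl⟩, Finset.mem_range.1 hi⟩, by
      simp [Subgroup.smul_def, ← mul_smul]⟩

variable {G : Type*} [Group G] [Finite G] [hp : Fact p.Prime] {M X Y : Subgroup G}

/-- Glauberman's trace lemma. -/
theorem trace_eq (S : Sylow p G) (hM : M ≠ ⊤) (hSM : S.1 ≤ M)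
    (h : ∀ H, S.1 ≤ H → H ≠ ⊤ → H ≤ M) {u : G} (hu : u ∈ S.1) (hu' : u ∉ pCore p G)
    {A : Type*} [CommGroup A] [Fintype (G ⧸ M)] (F : G ⧸ M → A)
    (hF : ∀ g w, ∏ i ∈ Finset.range p, F ((g * u * g⁻¹) ^ i • w) = 1) :
    ∏ y, F y = F (1 : G) := by
  let U := Subgroup.closure {z | z ∈ S.1 ∧ ∃ g, z = g * u * g⁻¹}
  have hUS : U ≤ S := (Subgroup.closure_le _).2 fun _ h => h.1
  have hw : ∀ g, (∀ x ∈ U, g * x * g⁻¹ ∈ S.1) → g ∈ Subgroup.normalizer (U : Set G) := fun g hg =>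
    mem_normalizer_of_finite fun x hx => (Subgroup.closure_le
      (U.comap (MulAut.conj g).toMonoidHom)).2 (fun z hz => by
        obtain ⟨k, rfl⟩ := hz.2
        exact Subgroup.subset_closure ⟨hg _ (Subgroup.subset_closure hz), g * k, by
          simp [mul_assoc]⟩) hx
  have hN : Subgroup.normalizer (U : Set G) ≤ M := h _ (fun s hs => hw s fun x hx =>
    S.1.mul_mem (S.1.mul_mem hs (hUS hx)) (S.1.inv_mem hs)) fun e => hu' (le_pCore
      (Subgroup.normalizer_eq_top_iff.1 e) (pgroup_of_le S.isPGroup' hUS)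
      (Subgroup.subset_closure ⟨hu, 1, by simp⟩))
  refine prod_eq_of_fix (U := U) (pgroup_of_le S.isPGroup' hUS) F _ (fun y => ⟨fun e => ?_, ?_⟩)
    fun R hR => ?_
  · obtain ⟨t, rfl⟩ := QuotientGroup.mk_surjective y
    have h1 : ∀ x ∈ U, t⁻¹ * x * t ∈ M := fun x hx => by
      have : (⟨x, hx⟩ : U) ∈ stabilizer U (t : G ⧸ M) := e ▸ Subgroup.mem_top _
      simpa [mul_assoc] using M.inv_mem (QuotientGroup.eq.1 this)
    obtain ⟨m, hm, e⟩ := ((sylowIn_top S).of_le hSM le_top).conj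
      (D := U.map (MulAut.conj t⁻¹).toMonoidHom) (by
        rintro _ ⟨x, hx, rfl⟩; simpa using h1 x hx) ((pgroup_of_le S.isPGroup' hUS).map _)
    have := hN (hw (m * t⁻¹) fun x hx => by simpa [mul_assoc] using e _ ⟨x, hx, rfl⟩)
    exact QuotientGroup.eq.2 (by simpa using M.mul_mem (M.inv_mem hm) this)
  · rintro rfl
    exact eq_top_iff.2 fun x _ => QuotientGroup.eq.2 (by simpa using hSM (hUS x.2))
  · by_contra! hc
    refine hR (eq_top_iff.2 fun x _ => ?_)
    have : U ≤ R.map U.subtype := (Subgroup.closure_le _).2 fun z hz => by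
      by_contra hz'
      obtain ⟨w, hw⟩ := hc ⟨z, Subgroup.subset_closure hz⟩ fun h => hz' ⟨_, h, rfl⟩
      obtain ⟨g, rfl⟩ := hz.2
      exact hw (hF g w)
    obtain ⟨y, hy, e⟩ := this x.2
    exact Subtype.ext e ▸ hy

omit [Finite G] hp in
theorem itc_mem_iter {z x : G} (hx : x ∈ X) (n : ℕ) :
    itc z n x ∈ iterCommutator X (Subgroup.zpowers z) n := by
  induction n with
  | zero => exact hx
  | succ n ih =>
    have := Subgroup.commutator_mem_commutator (Subgroup.inv_mem _ ih)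
      (Subgroup.inv_mem _ (Subgroup.mem_zpowers z))
    rwa [commutatorElement_def, inv_inv, inv_inv, ← itc_succ] at this

theorem chief_pow (c : IsChiefFactor X Y) (hX : IsPGroup p X) : ∀ x ∈ X, x ^ p ∈ Y := by
  have := c.2.1; have := c.2.2.1
  have h1 := KInf.chief_comm c hX le_rfl
  let Z : Subgroup G :=
    { carrier := {x | x ∈ X ∧ x ^ p ∈ Y}
      one_mem' := ⟨X.one_mem, by simp⟩
      inv_mem' := fun h => ⟨X.inv_mem h.1, by simpa using h.2⟩
      mul_mem' := fun {a b} ha hb => ⟨X.mul_mem ha.1 hb.1, by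
        have : Commute (a : G ⧸ Y) b := commutatorElement_eq_one_iff_commute.1
          ((QuotientGroup.eq_one_iff ⁅a, b⁆).2 (h1 (Subgroup.commutator_mem_commutator ha.1 hb.1)))
        rw [← QuotientGroup.eq_one_iff, QuotientGroup.mk_pow, QuotientGroup.mk_mul, this.mul_pow,
          ← QuotientGroup.mk_pow, ← QuotientGroup.mk_pow, (QuotientGroup.eq_one_iff _).2 ha.2,
          (QuotientGroup.eq_one_iff _).2 hb.2, mul_one]⟩ }
  rcases c.2.2.2 Z ⟨fun x hx g => ⟨c.2.1.conj_mem _ hx.1 g, by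
    rw [conj_pow]; exact c.2.2.1.conj_mem _ hx.2 g⟩⟩ (fun y hy => ⟨c.1.le hy, Y.pow_mem hy p⟩)
    (fun _ h => h.1) with h | h
  · obtain ⟨x, hx, hx'⟩ := SetLike.exists_of_lt c.1
    obtain ⟨k, hk⟩ := hX ⟨x, hx⟩
    have hk' : x ^ p ^ k ∈ Y := by
      rw [show x ^ p ^ k = 1 from congrArg Subtype.val hk]; exact Y.one_mem
    clear hk
    refine absurd ?_ hx'
    induction k with
    | zero => simpa using hk'
    | succ k ih => exact ih (h.le ⟨X.pow_mem hx _, by rwa [← pow_mul, ← pow_succ]⟩)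
  · exact fun x hx => (h.ge hx).2

theorem prod_conj_eq_one (c : IsChiefFactor X Y) (hX : IsPGroup p X) {u : G}
    (hu : iterCommutator X (Subgroup.zpowers u) (p - 1) ≤ Y) {A : Type*} [CommGroup A]
    (μ : X →* A) (hμ : ∀ y : X, y.1 ∈ Y → μ y = 1) (g : G) {x : G} (hx : x ∈ X) :
    ∏ i ∈ Finset.range p, ap μ (((g * u * g⁻¹) ^ i)⁻¹ * x * (g * u * g⁻¹) ^ i) = 1 := by
  have := c.2.1; have := c.2.2.1
  have h1 := prod_conj_eq_itc (A := μ.range) (by
    rintro ⟨_, x, rfl⟩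
    exact Subtype.ext ((map_pow μ x p).symm.trans (hμ _ (chief_pow c hX _ x.2))))
    μ.rangeRestrict (g * u * g⁻¹) hx
  have h2 : ∀ y, ((ap μ.rangeRestrict y : μ.range) : A) = ap μ y := fun y => by
    by_cases hy : y ∈ X
    · rw [ap_of_mem _ hy, ap_of_mem _ hy]; rfl
    · simp [ap, hy]
  have h3 : itc (g * u * g⁻¹) (p - 1) x ∈ Y := by
    have := c.2.2.1.conj_mem _ (hu (itc_mem_iter (c.2.1.conj_mem' _ hx g) _)) g
    have e := map_itc (MulAut.conj g).toMonoidHom u (p - 1) (g⁻¹ * x * g)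
    simp only [MulEquiv.toMonoidHom_eq_coe, MonoidHom.coe_coe, MulAut.conj_apply] at e
    rwa [e, show g * (g⁻¹ * x * g) * g⁻¹ = x by group] at this
  have h4 := congrArg Subtype.val h1
  rw [SubmonoidClass.coe_finset_prod, h2, ap_of_mem _ (c.1.le h3), hμ _ h3] at h4
  simpa only [h2] using h4

end Trace

section MC

variable {G : Type u} [Group G] [Finite G] [hp : Fact p.Prime] {H T : Subgroup G}

/-- All proper sections satisfy control of transfer. -/
def MC (p : ℕ) (𝓦 : Set (∀ (Q : Type u) [Group Q], Subgroup Q)) (G : Type u) [Group G] : Prop :=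
  ∀ (L : Type u) [Group L], Involves L G → Nat.card L < Nat.card G → FCT p 𝓦 L

theorem MC.sub (h𝓦 : ∀ W ∈ 𝓦, IsCharPFunctor p W) (h : MC p 𝓦 G) (hH : H ≠ ⊤)
    (hT : SylowIn p T H) : T ⊓ ⁅H, H⁆ ≤ famFoc (indF 𝓦 G) ⊤ T := by
  have := fct_map h𝓦 H.subtype_injective (h H (involves_sub H) (by
    simpa using card_lt_of_lt hH.lt_top) inferInstance)
  rw [Subgroup.range_subtype, fct_iff (indF_cf h𝓦) hT] at this
  exact this.trans (famFoc_mono le_top)

theorem MC.con (h𝓦 : ∀ W ∈ 𝓦, IsCharPFunctor p W) (h : MC p 𝓦 G) (S : Sylow p G)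
    (hG : ¬ FCT p 𝓦 G) :
    Con p G ∧ ¬ pCore p G ⊓ commutator G ≤ famFoc (indF 𝓦 G) ⊤ S := by
  by_contra hc
  rw [not_and_not_right] at hc
  refine hG fun _ => (fct_iff (indF_cf h𝓦) (sylowIn_top S)).2 ?_
  by_cases hS : S.1 = ⊤
  · have e : pCore p G = ⊤ := eq_top_iff.2 (le_pCore inferInstance (hS ▸ S.isPGroup'))
    exact le_trans (le_inf (le_top.trans e.ge) inf_le_right) (hc (le_top.trans e.ge))
  refine (grp_foc h𝓦 S (fam_foc'.{u, u} h𝓦 (fun L _ _ P h1 h2 => le_sup_of_le_right ?_) _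
    S.isPGroup' (group_saturated S) (group_Free (sylowIn_top S) involves_refl))).trans
    (sup_le (le_trans (le_inf S.1.commutator_le_self le_rfl) (h.sub h𝓦 hS ⟨le_rfl, S.isPGroup',
      fun _ h _ _ => h⟩)) le_rfl)
  have h3 : Involves L G := by_contra fun h' => h2 L h' involves_refl
  rcases lt_or_ge (Nat.card L) (Nat.card G) with h4 | h4
  · exact (inf_le_inf_right _ (pCore_le_sylow P)).trans
      ((fct_iff (indF_cf h𝓦) (sylowIn_top P)).1 (h L h3 h4 inferInstance))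
  · obtain ⟨e⟩ := Involves.equiv_of_card_le h3 h4
    obtain ⟨e, he⟩ := exists_equiv_sylow e S P
    have := (Subgroup.map_mono (hc (Con.equiv h1 e.symm))).trans (famFoc_map h𝓦 S.isPGroup'
      (ψ := e.toMonoidHom) (Transfer.inf_ker_eq_bot_of_injective e.injective _))
    rwa [he, Subgroup.map_inf _ _ _ e.injective, Solv.map_pCore_equiv, commutator,
      Subgroup.map_commutator, Subgroup.map_top_of_surjective _ e.surjective] at this

theorem comm_le_famFoc (h𝓦 : ∀ W ∈ 𝓦, IsCharPFunctor p W) (hW : W ∈ 𝓦) (hT : IsPGroup p T) :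
    ⁅T, T⁆ ≤ famFoc (indF 𝓦 G) ⊤ T := by
  have : T ≤ ⊤ ⊓ Subgroup.normalizer (inducedFunctor W T : Set G) :=
    le_inf le_top (ind_le_normalizer (h𝓦 W hW) hT)
  rw [famFoc_ind]
  exact le_iSup₂_of_le W hW (le_inf T.commutator_le_self (Subgroup.commutator_mono this this))

omit hp in
theorem fct_of_normal (hW : W ∈ 𝓦) (h : (inducedFunctor W T).Normal) :
    T ⊓ commutator G ≤ famFoc (indF 𝓦 G) ⊤ T := by
  rw [famFoc_ind]
  exact le_iSup₂_of_le W hW (by rw [Subgroup.normalizer_eq_top, top_inf_eq]; rfl)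

theorem MC.max (h𝓦 : ∀ W ∈ 𝓦, IsCharPFunctor p W) (hW : W ∈ 𝓦) (h : MC p 𝓦 G) (S : Sylow p G)
    (hG : ¬ FCT p 𝓦 G) {M : Subgroup G}
    (hM : M = Subgroup.normalizer ((famFoc (indF 𝓦 G) ⊤ S ⊓ pCore p G : Subgroup G) : Set G)) :
    S.1 ≠ ⊤ ∧ M ≠ ⊤ ∧ ∀ H : Subgroup G, S.1 ≤ H → H ≠ ⊤ → H ≤ M := by
  have hn := pCore_normal p G
  have hQ := pCore_le_sylow S
  have hc := (h.con h𝓦 S hG).2
  have hNS : Subgroup.normalizer (S.1 : Set G) ≠ ⊤ := fun e => hc
    ((inf_le_inf_right _ hQ).trans (fct_of_normal hW (Subgroup.normalizer_eq_top_iff.1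
      (eq_top_iff.2 (e.ge.trans (cf_normalizer (ind_cf (h𝓦 W hW)) S.isPGroup'))))))
  have h1 : ∀ H : Subgroup G, S.1 ≤ H → H ≠ ⊤ →
      ⁅pCore p G, H⁆ ≤ famFoc (indF 𝓦 G) ⊤ S ⊓ pCore p G := fun H h1 h2 =>
    le_inf (le_trans (le_inf ((Subgroup.commutator_le_left _ _).trans hQ)
      (Subgroup.commutator_mono (hQ.trans h1) le_rfl)) (h.sub h𝓦 h2 ((sylowIn_top S).of_le h1
        le_top))) (Subgroup.commutator_le_left _ _)
  refine ⟨fun e => hNS (eq_top_iff.2 (e.ge.trans Subgroup.le_normalizer)), fun e => hc ?_,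
    fun H h2 h3 => hM ▸ MS.nn_of_comm_le (h1 H h2 h3) inf_le_right⟩
  have := Subgroup.normalizer_eq_top_iff.1 (hM ▸ e)
  have h2 := KInf.comm_normalClosure (h1 _ Subgroup.le_normalizer hNS)
  have h3 : Subgroup.normalClosure (Subgroup.normalizer (S.1 : Set G) : Set G) = ⊤ := by
    have := Sylow.normalizer_sup_eq_top' S (N := Subgroup.normalClosure
      (Subgroup.normalizer (S.1 : Set G) : Set G))
      (Subgroup.le_normalizer.trans Subgroup.le_normalClosure)
    exact (sup_eq_right.2 Subgroup.le_normalClosure).symm.trans this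
  rw [h3] at h2
  intro x hx
  refine mem_of_mem_foc S.isPGroup' (group_saturated S) (comm_le_famFoc h𝓦 hW S.isPGroup')
    ((foc_group S).ge ⟨hQ hx.1, hx.2⟩) fun k f hf => ?_
  obtain ⟨-, -, g, e⟩ := mor_group_iff.1 hf
  have := (h2 (Subgroup.commutator_mem_commutator (Subgroup.inv_mem _ (Subgroup.pow_mem _ hx.1 k))
    (Subgroup.mem_top g))).1
  rw [e _ (Subgroup.mem_zpowers _)]
  simpa [commutatorElement_def, mul_assoc] using this

omit hp in
theorem exists_chief_not_le {X D : Subgroup G} (hX : X.Normal) (h : ¬ X ≤ D) :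
    ∃ U V, IsChiefFactor U V ∧ U ≤ X ∧ V ≤ D ∧ ¬ U ≤ D := by
  obtain ⟨U, ⟨h1, h2, h3⟩, hm⟩ := exists_minimal_of_wellFoundedLT
    (fun U : Subgroup G => U.Normal ∧ U ≤ X ∧ ¬ U ≤ D) ⟨X, hX, le_rfl, h⟩
  obtain ⟨V, c, -⟩ := KInf.exists_chief (U := U) (V := ⊥) (bot_lt_iff_ne_bot.2 fun e =>
    h3 (e ▸ bot_le))
  exact ⟨U, V, c, h2, by_contra fun h' => c.1.not_ge (hm ⟨c.2.2.1, c.1.le.trans h2, h'⟩ c.1.le), h3⟩

theorem MC.chief (h𝓦 : ∀ W ∈ 𝓦, IsCharPFunctor p W) (hW : W ∈ 𝓦) (h : MC p 𝓦 G) (S : Sylow p G)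
    (hG : ¬ FCT p 𝓦 G) {u : G} (hu : u ∈ S.1) (hu' : u ∉ pCore p G) : ∃ U V, IsChiefFactor U V ∧
      U ≤ pCore p G ∧ ¬ iterCommutator U (Subgroup.zpowers u) (p - 1) ≤ V := by
  classical
  obtain ⟨hS, hM, hm⟩ := h.max h𝓦 hW S hG rfl
  set M := Subgroup.normalizer ((famFoc (indF 𝓦 G) ⊤ S ⊓ pCore p G : Subgroup G) : Set G)
  have hSM := hm S le_rfl hS
  have hn := pCore_normal p G
  obtain ⟨X, Y, c, h1, h2, h3⟩ := exists_chief_not_le inferInstance (h.con h𝓦 S hG).2
  refine ⟨X, Y, c, h1.trans inf_le_left, fun h4 => h3 fun x hx => ?_⟩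
  have hXS : X ≤ S := (h1.trans inf_le_left).trans (pCore_le_sylow S)
  have hX := pgroup_of_le S.isPGroup' hXS
  have hXn := c.2.1
  obtain ⟨A, _, φ, -, hφ⟩ := exists_quot_hom (S := M) (D := ⁅M, M⁆ ⊔ Transfer.res p M ⊔ Y)
    (le_sup_of_le_left le_sup_left)
  let := Fintype.ofFinite (G ⧸ M)
  have hact : ∀ y : G ⧸ M, x • y = y := fun y => by
    obtain ⟨t, rfl⟩ := QuotientGroup.mk_surjective y
    exact QuotientGroup.eq.2 (by simpa using hSM (hXS (hXn.conj_mem' _ (X.inv_mem hx) t)))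
  have hF : ∀ t : G, ap φ ((t : G ⧸ M).out⁻¹ * x * (t : G ⧸ M).out) = ap φ (t⁻¹ * x * t) :=
    fun t => by
      obtain ⟨m, hm⟩ := QuotientGroup.mk_out_eq_mul M t
      have := hSM (hXS (hXn.conj_mem' _ hx t))
      rw [hm, show (t * m)⁻¹ * x * (t * m) = m.1⁻¹ * (t⁻¹ * x * t) * m.1⁻¹⁻¹ by group,
        ap_conj _ (M.inv_mem m.2) this, mul_inv_cancel_comm]
  have h5 := trace_eq S hM hSM hm hu hu' (fun y => ap φ (y.out⁻¹ * x * y.out)) fun g w => by
    obtain ⟨t, rfl⟩ := QuotientGroup.mk_surjective w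
    have := prod_conj_eq_one c hX h4 (φ.comp (Subgroup.inclusion (hXS.trans hSM)))
      (fun y hy => (ap_of_mem φ (hSM (hXS y.2))).symm.trans
        ((hφ _ (hSM (hXS y.2))).2 (Subgroup.mem_sup_right hy))) (t⁻¹ * g) (hXn.conj_mem' _ hx t)
    refine (Finset.prod_congr rfl fun i _ => ?_).trans this
    rw [show (g * u * g⁻¹) ^ i • (t : G ⧸ M) = ((g * u * g⁻¹) ^ i * t : G) from rfl, hF,
      ap_of_mem (φ.comp _) (hXn.conj_mem' _ (hXn.conj_mem' _ hx t) _), conj_pow, conj_pow]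
    refine (congrArg _ ?_).trans (ap_of_mem φ (hSM (hXS (hXn.conj_mem' _ (hXn.conj_mem' _ hx t) _))))
    group
  have h6 : MonoidHom.transfer φ x = 1 := Abelianization.commutator_subset_ker _ (h1 hx).2
  rw [transfer_eq_prod φ (t := Quotient.out) Quotient.out_eq'] at h6
  have h7 : ap φ x = 1 := by
    rw [← h6]
    simp only [hF, inv_one, one_mul, mul_one] at h5
    rw [← h5]
    exact Finset.prod_congr rfl fun y _ => by
      rw [ap_of_mem _ (hSM (hXS (hXn.conj_mem' _ hx _)))]; simp only [hact]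
  have := c.2.2.1
  obtain ⟨a, ha, b, hb, rfl⟩ := Subgroup.mem_sup_of_normal_right.1 ((hφ _ (hSM (hXS hx))).1 h7)
  have h8 := foc_sub ((sylowIn_top S).of_le hSM le_top)
  refine Subgroup.mul_mem _ (h.sub h𝓦 hM ((sylowIn_top S).of_le hSM le_top)
    (h8.1.le (h8.2.ge ⟨?_, ha⟩))) (h2 hb)
  exact (S.1.mul_mem_cancel_right (hXS (c.1.le hb))).1 (hXS hx)

theorem fct_single (hW : IsCharPFunctor p W) :
    FCT p {W} G ↔ ControlsTransferIn p (inducedFunctor (G := G) W) ⊤ := by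
  rw [ct_iff_fam, FCT, indF, Set.image_singleton]; exact ⟨fun h => h inferInstance, fun h _ => h⟩

theorem famFoc_single : famFoc (indF {W} G) ⊤ T =
    T ⊓ ⁅Subgroup.normalizer (inducedFunctor W T : Set G),
      Subgroup.normalizer (inducedFunctor W T : Set G)⁆ := by rw [famFoc_ind]; simp

theorem FCT.eq (hW : IsCharPFunctor p W) (h : FCT p {W} G) (S : Sylow p G) :
    S.1 ⊓ commutator G = S.1 ⊓ ⁅Subgroup.normalizer (inducedFunctor W S.1 : Set G),
      Subgroup.normalizer (inducedFunctor W S.1 : Set G)⁆ :=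
  le_antisymm (((fct_iff (indF_cf (𝓦 := {W}) fun _ h => h ▸ hW) (sylowIn_top S)).1
    (h inferInstance)).trans famFoc_single.le)
    (inf_le_inf_left _ (Subgroup.commutator_mono le_top le_top))

theorem fct_of_chief (hW : IsCharPFunctor p W) (h : MC p {W} G)
    (hloc : Con p G → ∀ T : Sylow p G, ¬ (inducedFunctor W T.1).Normal → ∃ g ∈ T.1,
      g ∉ pCore p G ∧ ∀ U V, IsChiefFactor U V → U ≤ pCore p G →
        iterCommutator U (Subgroup.zpowers g) (p - 1) ≤ V) : FCT p {W} G := by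
  by_contra hG
  obtain ⟨S⟩ : Nonempty (Sylow p G) := inferInstance
  have h𝓦 : ∀ V ∈ ({W} : Set _), IsCharPFunctor p V := fun _ h => h ▸ hW
  obtain ⟨h1, h2⟩ := h.con h𝓦 S hG
  obtain ⟨g, a, b, c⟩ := hloc h1 S fun hn => h2 ((inf_le_inf_right _ (pCore_le_sylow S)).trans
    (fct_of_normal rfl hn))
  obtain ⟨U, V, d, e, f⟩ := h.chief h𝓦 rfl S hG a b
  exact f (c U V d e)

/-- Glauberman: the `K`-infinity subgroups control transfer for `p ≥ 5`. -/
theorem fct_kinf (h5 : 5 ≤ p) (hW : W = kInfLower ∨ W = kInfUpper) : FCT p {W} G := by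
  refine grp_ind (C := fun L _ => FCT p {W} L) (fun L _ _ h => fct_of_chief
    (hW.elim (· ▸ KInf.lower_char) (· ▸ KInf.upper_char)) h fun _ T hn => ?_) G
  obtain ⟨g, a, b, c, -⟩ := KInf.exists_quartic T (by rcases hW with rfl | rfl; exacts [.inl hn, .inr hn])
  exact ⟨g, a, b, fun U V d e => (KInf.iter_anti (by have := d.2.1; exact MS.nn_normal)
    (by omega)).trans (c U V d e)⟩

theorem exists_index_of_foc_lt (S : Sylow p G) (h : S.1 ⊓ commutator G < S) :
    ∃ N : Subgroup G, N.Normal ∧ N.index = p := by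
  have h1 : commutator G ⊔ Transfer.res p ⊤ ≠ ⊤ := fun e => h.ne (by
    have := foc_sub (sylowIn_top S)
    rw [commutator, ← this.1, this.2, ← commutator, e, inf_top_eq])
  obtain ⟨M, hM, hle⟩ := Solv.exists_coatom_ge h1
  have hn : M.Normal := Subgroup.Normal.of_commutator_le G (le_sup_left.trans hle)
  refine ⟨M, hn, ?_⟩
  have h2 := Solv.index_prime_of_coatom_normal hM
  have h3 : IsPGroup p ((⊤ : Subgroup G).map (QuotientGroup.mk' M)) :=
    (Transfer.isPGroup_map_iff_res_le _).2 (by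
      rw [QuotientGroup.ker_mk']; exact le_sup_right.trans hle)
  rw [Subgroup.map_top_of_surjective _ (QuotientGroup.mk'_surjective _)] at h3
  obtain ⟨n, hn⟩ := IsPGroup.iff_card.1 h3
  rw [Subgroup.card_top, ← Subgroup.index_eq_card] at hn
  rw [hn] at h2 ⊢
  rw [h2.eq_one_of_pow, pow_one]

theorem hasN_inner_of_aut {Ω : Type*} [Group Ω] {S : Subgroup Ω} [Finite S] {F : FusionSystem S}
    (hS : IsPGroup p S) (hF : F.IsSaturated p) (h : IsPGroup p (F.autGroup S)) :
    HasN F (innerFusionSystem S) S := fun P g hg h1 _ h2 => by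
  obtain rfl := le_antisymm hg.le h1
  obtain ⟨α, hα, e⟩ := hg.exists_aut h2
  have := IsFullyAutomized.sylowIn (IsSaturated.fullyAutomized hS hF (fullyNormalized_top F))
  obtain ⟨s, hs, es⟩ := mem_autInducedBy.1 (this.max _ le_rfl h this.le hα)
  exact mor_inner_iff.2 ⟨le_rfl, s, hs, fun x hx => (e x hx).symm.trans (es x hx)⟩

omit [Finite G] hp in
theorem aut_pgroup_of_cent [Finite G] [Fact p.Prime] {S Q : Subgroup G} (hQ : Q ≤ S)
    (h : ∀ g ∈ Subgroup.normalizer (Q : Set G), (orderOf g).Coprime p →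
      g ∈ Subgroup.centralizer (Q : Set G)) : IsPGroup p ((groupFusionSystem S).autGroup Q) := by
  rw [groupFusionSystem_eq, autGroup_sub hQ, autInducedBy_eq_map, Subgroup.top_subgroupOf]
  refine (Transfer.isPGroup_map_iff_res_le _).2 (Transfer.res_le_iff.2 fun g _ hg => ?_)
  refine aut_ext fun x hx => ?_
  rw [afun_cAut _ hx, afun_one, ← h g g.2 (by simpa using hg) x hx, mul_inv_cancel_right]

theorem famD_single {Ω : Type u} [Group Ω] {S : Subgroup Ω} [Finite S] {F : FusionSystem S}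
    (hW : IsCharPFunctor p W) (hS : IsPGroup p S) : famD {W} F = nFoc F (inducedFunctor W S) := by
  have := foc_nSys (F := F) (hQ := ind_le W S) (hn := ind_le_normalizer hW hS)
  simpa [famD] using commutator_le_foc.trans this.le

omit [Finite G] in
/-- Control of transfer in all sections of `G` passes to systems with models involved in `G`. -/
theorem fam_foc_sec (h𝓦 : ∀ W ∈ 𝓦, IsCharPFunctor p W)
    (h : ∀ (L : Type u) [Group L], Involves L G → FCT p 𝓦 L) {Ω : Type u} [Group Ω]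
    {S : Subgroup Ω} [Finite S] (F : FusionSystem S) : IsPGroup p S → F.IsSaturated p →
      Free p (fun (K : Type u) _ => ¬ Involves K G) F → F.focalSubgroup ≤ famD 𝓦 F :=
  fam_foc' h𝓦 (fun L _ _ P _ h2 => le_sup_of_le_right ((inf_le_inf_right _
    (pCore_le_sylow P)).trans ((fct_iff (indF_cf h𝓦) (sylowIn_top P)).1
      (h L (by_contra fun h' => h2 L h' involves_refl) inferInstance)))) F

theorem foc_kinf (h5 : 5 ≤ p) (hW : W = kInfLower ∨ W = kInfUpper) {Ω : Type u} [Group Ω]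
    {S : Subgroup Ω} [Finite S] (F : FusionSystem S) : IsPGroup p S → F.IsSaturated p →
      Free p (fun (_ : Type u) _ => False) F → F.focalSubgroup ≤ famD {W} F :=
  have h𝓦 : ∀ V ∈ ({W} : Set _), IsCharPFunctor p V := fun _ h => h ▸
    hW.elim (· ▸ KInf.lower_char) (· ▸ KInf.upper_char)
  fam_foc' h𝓦 (fun _ _ _ P _ _ => le_sup_of_le_right ((inf_le_inf_right _
    (pCore_le_sylow P)).trans ((fct_iff (indF_cf h𝓦) (sylowIn_top P)).1
      (fct_kinf h5 hW inferInstance)))) F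

theorem foc_lt_five (h5 : 5 ≤ p) {Ω : Type u} [Group Ω] {S : Subgroup Ω} [Finite S]
    {F : FusionSystem S} (hS : IsPGroup p S) (hF : F.IsSaturated p) (hb : S ≠ ⊥)
    (h : IsPGroup p (F.autGroup S)) : F.focalSubgroup < S :=
  foc_lt KInf.lower_char (foc_kinf h5 (.inl rfl)) F hS hF free_false hb (hasN_inner_of_aut hS hF h)

theorem exists_index_five (h5 : 5 ≤ p) (S : Sylow p G) (hb : S.1 ≠ ⊥)
    (h : ∀ g ∈ Subgroup.normalizer (S.1 : Set G), (orderOf g).Coprime p →
      g ∈ Subgroup.centralizer (S.1 : Set G)) : ∃ N : Subgroup G, N.Normal ∧ N.index = p :=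
  exists_index_of_foc_lt S (foc_group S ▸ foc_lt_five h5 S.isPGroup' (group_saturated S) hb
    (aut_pgroup_of_cent le_rfl h))

end MC

end Cfsg.Agent.Fusion
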