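import Cfsg.Agent.Lib.Fusion.Control
import Cfsg.Prelude.Def_ConjugacyFunctors

/-! The reduction of control theorems to the constrained case. -/

set_option autoImplicit false

namespace Cfsg.Agent.Fusion

open Cfsg Cfsg.FusionSystem
open scoped commutatorElement

universe u v

variable {Ω : Type u} [Group Ω] {S : Subgroup Ω} {F : FusionSystem S} {P Q R T A U : Subgroup Ω}
  {p : ℕ} {f g φ : Ω → Ω}

section Functor

variable {W : ∀ (Q : Type u) [Group Q], Subgroup Q}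

theorem ind_le (W : ∀ (Q : Type u) [Group Q], Subgroup Q) (T : Subgroup Ω) :
    inducedFunctor W T ≤ T := Subgroup.map_subtype_le _

theorem mem_ind {x : Ω} : x ∈ inducedFunctor W T ↔ ∃ h : x ∈ T, (⟨x, h⟩ : T) ∈ W T := by
  constructor
  · rintro ⟨y, hy, rfl⟩; exact ⟨y.2, hy⟩
  · rintro ⟨h, hy⟩; exact ⟨_, hy, rfl⟩

theorem ind_ne_bot (hW : IsCharPFunctor p W) [Finite T] (hT : IsPGroup p T) (h : T ≠ ⊥) :
    inducedFunctor W T ≠ ⊥ := fun e =>
  hW.1 T hT ((Subgroup.nontrivial_iff_ne_bot T).2 h)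
    ((Subgroup.map_eq_bot_iff_of_injective _ T.subtype_injective).1 e)

theorem ind_equiv (hW : IsCharPFunctor p W) [Finite T] (hT : IsPGroup p T) {Ω' : Type u} [Group Ω']
    {T' : Subgroup Ω'} (e : T ≃* T') (x : T) :
    (e x : Ω') ∈ inducedFunctor W T' ↔ (x : Ω) ∈ inducedFunctor W T := by
  rw [mem_ind, mem_ind]
  simp only [SetLike.coe_mem, exists_true_left, Subtype.coe_eta]
  rw [← hW.2 T T' hT e]
  exact Subgroup.mem_map_iff_mem (f := e.toMonoidHom) e.injective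

theorem ind_img (hW : IsCharPFunctor p W) [Finite S] (hS : IsPGroup p S) (hf : Mor F T f) :
    img f (inducedFunctor W T) = inducedFunctor W (img f T) := by
  obtain ⟨e, he⟩ := hf.exists_equiv rfl
  have : Finite T := finite_of_le hf.le
  have h := ind_equiv hW (pgroup_of_le hS hf.le) e
  ext y
  rw [hf.mem_img' (ind_le W T)]
  constructor
  · rintro ⟨x, hx, rfl⟩
    rw [← he ⟨x, ind_le W T hx⟩]; exact (h _).2 hx
  · intro hy
    obtain ⟨x, hx, rfl⟩ := hf.mem_img.1 (ind_le W _ hy)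
    rw [← he ⟨x, hx⟩] at hy
    exact ⟨x, (h _).1 hy, rfl⟩

theorem exists_equiv_image {G : Type*} [Group G] {ι : S →* G} (hι : Function.Injective ι)
    (hT : T ≤ S) : ∃ e : T ≃* imageAlong ι T, ∀ x : T, (e x : G) = ap ι x := by
  let j : T →* imageAlong ι T := (ι.comp (Subgroup.inclusion hT)).codRestrict _ fun x =>
    ap_of_mem ι (hT x.2) ▸ ap_mem_imageAlong hT x.2
  refine ⟨MulEquiv.ofBijective j ⟨fun a b e => Subgroup.inclusion_injective hT (hι
    (congrArg Subtype.val e)), fun y => ?_⟩, fun x => (ap_of_mem ι (hT x.2)).symm⟩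
  obtain ⟨x, hx, e⟩ := (mem_imageAlong' hT).1 y.2
  exact ⟨⟨x, hx⟩, Subtype.ext ((ap_of_mem ι (hT hx)).symm.trans e)⟩

theorem ind_image (hW : IsCharPFunctor p W) [Finite S] (hS : IsPGroup p S) {G : Type u} [Group G]
    {ι : S →* G} (hι : Function.Injective ι) (hT : T ≤ S) :
    imageAlong ι (inducedFunctor W T) = inducedFunctor W (imageAlong ι T) := by
  obtain ⟨e, he⟩ := exists_equiv_image hι hT
  have : Finite T := finite_of_le hT
  have h := ind_equiv hW (pgroup_of_le hS hT) e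
  ext y
  rw [mem_imageAlong' ((ind_le W T).trans hT)]
  constructor
  · rintro ⟨x, hx, rfl⟩
    rw [← he ⟨x, ind_le W T hx⟩]; exact (h _).2 hx
  · intro hy
    obtain ⟨x, hx, rfl⟩ := (mem_imageAlong' hT).1 (ind_le W _ hy)
    rw [← he ⟨x, hx⟩] at hy
    exact ⟨x, (h _).1 hy, rfl⟩

theorem ind_normal (hW : IsCharPFunctor p W) [Finite S] (hS : IsPGroup p S) (hT : F.IsNormal T) :
    F.IsNormal (inducedFunctor W T) :=
  IsNormal.of_invariant hT (ind_le W T) fun α hα x hx => by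
    have := ind_img hW hS ((mem_autGroup hT.1).1 hα)
    rw [img_afun] at this
    exact this ▸ subset_img hx

theorem ind_normalizer (hW : IsCharPFunctor p W) [Finite S] (hS : IsPGroup p S) :
    normalizerIn S (inducedFunctor W S) = S :=
  IsNormal.normalizerIn_eq (ind_normal hW hS (inner_normal_top S))

end Functor

theorem isKNorm_sc (h : S ≤ Subgroup.normalizer (Q : Set Ω)) :
    IsKNorm S Q (autInducedBy S Q) S := fun s =>
  ⟨fun hs => by
    obtain ⟨α, e⟩ := exists_cAut (h hs)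
    exact ⟨hs, α, mem_autInducedBy.2 ⟨s, hs, e⟩, e⟩, fun h => h.1⟩

/-- The system `S C_F(Q)`. -/
def scSys (hQ : F.IsNormal Q) : FusionSystem S :=
  (kSysData F hQ.1 (isKNorm_sc (WeaklyClosed.le_normalizer (IsNormal.weaklyClosed hQ)))).sys

theorem scSys_mor {hQ : F.IsNormal Q} :
    Mor (scSys hQ) P f ↔ KMor F Q (autInducedBy S Q) S P f := SysData.mor_iff _

theorem scSys_sub (hQ : F.IsNormal Q) : (scSys hQ).IsSubsystemOf F :=
  isSubsystemOf_iff.2 fun _ _ h => (scSys_mor.1 h).mor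

theorem scSys_mor_of (hQ : F.IsNormal Q) (hg : Mor F P g) (hQP : Q ≤ P) {s : Ω} (hs : s ∈ S)
    (e : ∀ x ∈ Q, g x = s * x * s⁻¹) : Mor (scSys hQ) P g := by
  have hn := WeaklyClosed.le_normalizer (IsNormal.weaklyClosed hQ)
  obtain ⟨α, e'⟩ := exists_cAut (hn hs)
  exact scSys_mor.2 (KMor.of_ext (isKNorm_sc hn) hg.le hg le_rfl hQP (fun _ _ => rfl)
    (mem_autInducedBy.2 ⟨s, hs, e'⟩) fun x hx => by rw [e x hx, e' x hx])

theorem scSys_autGroup (hQ : F.IsNormal Q) : (scSys hQ).autGroup Q ≤ autInducedBy S Q :=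
  fun α hα => by
    obtain ⟨-, -, g, -, e1, β, hβ, e2⟩ := scSys_mor.1 ((mem_autGroup hQ.1).1 hα)
    rwa [aut_ext (α := α) (β := β) fun x hx => by rw [← e1 x hx, e2 x hx]]

theorem normalizerIn_bot : normalizerIn S ⊥ = S := IsNormal.normalizerIn_eq
  (isNormal_bot (innerFusionSystem S))

/-- `D` is one of the local subsystems used in inductive arguments. -/
structure Loc (p : ℕ) (F : FusionSystem S) (D : FusionSystem T) : Prop where
  sat : D.IsSaturated p
  sub : D.IsSubsystemOf F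
  cen : centralizerIn S S ≤ T
  nrm : ∃ Q, D.IsNormal Q ∧ normalizerIn S Q = T
  free : ∀ (H : Type v) [Group H], F.IsSectionFree p H → D.IsSectionFree p H

theorem Loc.conj {D : FusionSystem T} (hD : Loc.{u, v} p F D)
    {C : Subgroup Ω → (Ω → Ω) → Prop} (hC : ∀ P g Q g', C P g → Mor D Q g' → P ≤ Q →
      (∀ x ∈ P, g' x = g x) → C Q g')
    (h : ∀ P g, Mor D P g → C P g → ∃ s ∈ S, ∀ x ∈ P, g x = s * x * s⁻¹)
    (hg : Mor D P g) (hc : C P g) : ∃ s ∈ T, ∀ x ∈ P, g x = s * x * s⁻¹ := by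
  obtain ⟨Q, hQ, rfl⟩ := hD.nrm
  obtain ⟨k, hk, e1, e2⟩ := IsNormal.ext hQ hg
  obtain ⟨s, hs, e⟩ := h _ k hk (hC _ _ _ _ hc hk le_sup_left e1)
  obtain ⟨α, -, eα⟩ := (hk.mono le_sup_right).exists_aut e2
  exact ⟨s, ⟨hs, mem_normalizer_of_afun fun x hx => by
    rw [eα x hx, e x (Subgroup.mem_sup_right hx)]⟩,
    fun x hx => by rw [← e1 x hx, e x (Subgroup.mem_sup_left hx)]⟩

variable [Fact p.Prime] [Finite S]

theorem scSys_saturated (hS : IsPGroup p S) (hF : F.IsSaturated p) (hQ : F.IsNormal Q) :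
    (scSys hQ).IsSaturated p := by
  refine kSaturated hS hF (IsSaturated.receptive' hS hF (IsNormal.fullyNormalized hQ)) ?_
    (isKNorm_sc (WeaklyClosed.le_normalizer (IsNormal.weaklyClosed hQ))) fun _ _ => scSys_mor
  rw [inf_idem, inf_eq_right.2 (autInducedBy_le_autGroup F hQ.1)]
  exact ⟨le_rfl, autInducedBy_pgroup hS _, fun D h _ _ => h⟩

theorem loc_scSys (hS : IsPGroup p S) (hF : F.IsSaturated p) (hQ : F.IsNormal Q) :
    Loc.{u, v} p F (scSys hQ) :=
  have h := scSys_saturated hS hF hQ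
  ⟨h, scSys_sub hQ, centralizerIn_le, ⟨⊥, isNormal_bot _, normalizerIn_bot⟩, fun _ _ hfree => free_of_sub hS hF hfree h (scSys_sub hQ)
    fun _ hc hr => kSys_centric (IsSaturated.receptive' hS hF (IsNormal.fullyNormalized hQ))
      (isKNorm_sc (WeaklyClosed.le_normalizer (IsNormal.weaklyClosed hQ))) (fun _ _ => scSys_mor)
      (IsNormal.le_of_radical hS (IsNormal.of_sub hS h (scSys_sub hQ) hQ hQ.1) hc hr) hc⟩

theorem loc_normSys (hS : IsPGroup p S) (hF : F.IsSaturated p) (hQ : F.IsFullyNormalized Q)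
    {N : FusionSystem (normalizerIn S Q)} (hN : F.IsNormalizerSystem Q N) :
    Loc.{u, v} p F N :=
  ⟨normalizer_saturated hS hF hQ hN, normSys_sub hN,
    (centralizerIn_anti hQ.1).trans centralizerIn_le_normalizerIn, ⟨Q, normSys_normal hN hQ.1, rfl⟩,
    fun _ _ hfree => free_normSys hS hF hfree hQ hN⟩

theorem reduce_fam (hS : IsPGroup p S) (hF : F.IsSaturated p) {E : FusionSystem S}
    (𝓦 : Set (Subgroup Ω → Subgroup Ω))
    (hw1 : ∀ w ∈ 𝓦, ∀ T, T ≤ S → centralizerIn S S ≤ T → S ≠ ⊥ → w T ≠ ⊥)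
    (hw2 : ∀ w ∈ 𝓦, ∀ T, T ≤ S → w T ≤ T)
    (hw3 : ∀ w ∈ 𝓦, ∀ T f, Mor F T f → img f (w T) = w (img f T))
    (h0 : ∀ w ∈ 𝓦, HasN F E (w S))
    (hsub : ∀ {T : Subgroup Ω} (D : FusionSystem T), Loc.{u, v} p F D → ¬ F.IsSubsystemOf D →
      (∀ w ∈ 𝓦, ∀ P g, Mor D P g → w T ≤ P → img g (w T) = w T → Mor E P g) → D.IsSubsystemOf E)
    (hcon : F.IsConstrained p → F.IsSubsystemOf E)
    (hcen : F.core ≠ ⊥ → F.autGroup F.core ≤ autInducedBy S F.core → F.IsSubsystemOf E) :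
    F.IsSubsystemOf E := by
  have hwS : ∀ w ∈ 𝓦, normalizerIn S (w S) = S := fun w hw => normalizerIn_eq_of_le fun s hs => by
    have : Finite (w S) := finite_of_le (hw2 w hw S le_rfl)
    refine mem_normalizer_of_finite fun x hx => ?_
    have h1 := hw3 w hw S _ (mor_conj F le_rfl hs)
    rw [(mor_conj F le_rfl hs).img_eq_self fun x hx =>
      S.mul_mem (S.mul_mem hs hx) (S.inv_mem hs)] at h1
    exact h1 ▸ subset_img (f := fun x => s * x * s⁻¹) hx
  have h0' : ∀ {T : Subgroup Ω} (D : FusionSystem T), T = S → D.IsSubsystemOf F →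
      ∀ w ∈ 𝓦, ∀ P g, Mor D P g → w T ≤ P → img g (w T) = w T → Mor E P g := by
    rintro T D rfl hD w hw P g hg h1 h2
    exact h0 w hw P g (isSubsystemOf_iff.1 hD _ _ hg) h1 ((hwS w hw).symm ▸ hg.le) h2
  by_cases hQ : F.core = ⊥
  · refine isSubsystemOf_iff.2 fun P f hf => control_fam hS hF 𝓦 (fun w hw Q hQ hb =>
      hw1 w hw _ normalizerIn_le ((centralizerIn_anti hQ).trans centralizerIn_le_normalizerIn)
      (fun h => hb (eq_bot_iff.2 (hQ.trans h.le)))) hw2 hw3 h0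
      (fun Q hb hn h => ?_) hf
    have hN := normSys_spec F hn.1
    refine (hasN_iff hN hn.1).2 (hsub _ (loc_normSys hS hF hn hN) (fun h' => hb ?_)
      fun w hw P g hg h1 h2 => h w hw P g (isSubsystemOf_iff.1 (normSys_sub hN) _ _ hg) h1 hg.le
        (fun x hx => hg.mem hx) h2)
    rw [eq_bot_iff, ← hQ]
    exact IsNormal.le_core (normal_of_normSys hN hn.1 (isSubsystemOf_iff.1 h'))
  have hn := core_isNormal F
  have hsc := stronglyClosed_sup_centralizer hS hF (IsNormal.stronglyClosed hn)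
  have hfn : F.IsFullyNormalized (F.core ⊔ centralizerIn S F.core) :=
    fullyNormalized_of_normal hsc.1 (StronglyClosed.le_normalizer hsc)
  have hN := normSys_spec F hsc.1
  by_cases h1 : F.IsSubsystemOf (normSys F hsc.1)
  · exact hcon (isConstrained_iff.2 ⟨hF, le_sup_right.trans
      (IsNormal.le_core (normal_of_normSys hN hsc.1 (isSubsystemOf_iff.1 h1)))⟩)
  by_cases h2 : F.IsSubsystemOf (scSys hn)
  · exact hcen hQ ((IsSubsystemOf.autGroup_le h2 hn.1).trans (scSys_autGroup hn))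
  have h3 := hsub _ (loc_normSys hS hF hfn hN) h1
    (h0' _ (normalizerIn_eq_of_le (StronglyClosed.le_normalizer hsc)) (normSys_sub hN))
  have h4 := hsub _ (loc_scSys hS hF hn) h2 (h0' _ rfl (scSys_sub hn))
  exact isSubsystemOf_iff.2 fun P f hf => stancu hS hF hn (fun P g hg hQP e =>
    isSubsystemOf_iff.1 h4 _ _ (scSys_mor_of hn hg hQP S.one_mem fun x hx => by simp [e x hx]))
    ((hasN_iff hN hsc.1).2 h3) hf

theorem reduce (hS : IsPGroup p S) (hF : F.IsSaturated p) {E : FusionSystem S}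
    (w : Subgroup Ω → Subgroup Ω) (hw1 : ∀ T, T ≤ S → centralizerIn S S ≤ T → S ≠ ⊥ → w T ≠ ⊥)
    (hw2 : ∀ T, T ≤ S → w T ≤ T) (hw3 : ∀ T f, Mor F T f → img f (w T) = w (img f T))
    (h0 : HasN F E (w S))
    (hsub : ∀ {T : Subgroup Ω} (D : FusionSystem T), Loc.{u, v} p F D → ¬ F.IsSubsystemOf D →
      (∀ P g, Mor D P g → w T ≤ P → img g (w T) = w T → Mor E P g) → D.IsSubsystemOf E)
    (hcon : F.IsConstrained p → F.IsSubsystemOf E)
    (hcen : F.core ≠ ⊥ → F.autGroup F.core ≤ autInducedBy S F.core → F.IsSubsystemOf E) :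
    F.IsSubsystemOf E :=
  reduce_fam hS hF {w} (fun _ h => h ▸ hw1) (fun _ h => h ▸ hw2)
    (fun _ h => h ▸ hw3) (fun _ h => h ▸ h0) (fun D h1 h2 h => hsub D h1 h2 (h w rfl)) hcon hcen

section Quot

variable {Ω' : Type*} [Group Ω'] {S' P' U' : Subgroup Ω'} {θ : S →* Ω'} {F' : FusionSystem S'}

theorem Surj.normal_preimage (hS : IsPGroup p S) (hF : F.IsSaturated p) (h : Surj F F' θ)
    (hQ : F.IsNormal (preimageAlong θ ⊥)) (hp : IsPGroup p (F.autGroup (preimageAlong θ ⊥)))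
    (hU : F'.IsNormal U') : F.IsNormal (preimageAlong θ U') := by
  have := h.finite
  have : Finite U' := finite_of_le hU.1
  obtain ⟨n, hn⟩ := exists_zc_eq (pgroup_of_le (h.pgroup hS) hU.1)
  refine normal_of_chain' hS hF (h.toMorph.preimage_stronglyClosed (IsNormal.stronglyClosed hU))
    (C := fun i => preimageAlong θ (zc U' i)) (n := n) (by rwa [zc_zero]) (by rwa [zc_zero])
    (by rw [hn]) (fun i _ => preimageAlong_mono (zc_le _ _)) (fun i _ =>
      StronglyClosed.weaklyClosed (h.toMorph.preimage_stronglyClosed (IsNormal.stronglyClosed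
        (IsNormal.of_char hU (zc_le _ _) (zc_char _ _))))) fun i _ x hx y hy => ?_
  obtain ⟨hx1, hx2⟩ := mem_preimageAlong.1 hx
  obtain ⟨hy1, hy2⟩ := mem_preimageAlong.1 hy
  refine mem_preimageAlong.2 ⟨S.mul_mem (S.mul_mem (S.mul_mem hx1 hy1) (S.inv_mem hx1)) (S.inv_mem hy1), ?_⟩
  rw [commutatorElement_def, ap_mul _ (S.mul_mem (S.mul_mem hx1 hy1) (S.inv_mem hx1)) (S.inv_mem hy1),
    ap_conj _ hx1 hy1, ap_inv _ hy1, ← commutatorElement_def]
  exact (mem_zc_succ.1 hx2).2 _ hy2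

omit [Fact p.Prime] in
/-- Maps normalizing `U'` lift to maps normalizing its preimage. -/
theorem Surj.lift_norm (h : Surj F F' θ) {g' : Ω' → Ω'} (hg : Mor F' P' g') (hU : U' ≤ P')
    (e : img g' U' = U') : ∃ g, Mor F (preimageAlong θ P') g ∧
      img g (preimageAlong θ U') = preimageAlong θ U' ∧
      ∀ x ∈ preimageAlong θ P', g' (ap θ x) = ap θ (g x) := by
  obtain ⟨g, hg', e'⟩ := h.lift hg
  refine ⟨g, hg', ?_, e'⟩
  rw [h.img_lift (hU.trans hg.le) (hg'.mono (preimageAlong_mono hU))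
    fun x hx => e' x (preimageAlong_mono hU hx), e]

omit [Fact p.Prime] in
theorem Surj.card_lt (h : Surj F F' θ) (hk : preimageAlong θ ⊥ ≠ ⊥) : Nat.card S' < Nat.card S := by
  rw [← h.range]
  refine lt_of_le_of_ne (Nat.card_le_card_of_surjective _ θ.rangeRestrict_surjective) fun e => ?_
  exact hk (preimage_bot_of_inj (MonoidHom.rangeRestrict_injective_iff.1
    (θ.rangeRestrict_surjective.bijective_of_nat_card_le e.ge).1))

omit [Fact p.Prime] [Finite S] in
theorem Surj.ker_lt (h : Surj F F' θ) (hU : U' ≤ S') (hb : U' ≠ ⊥) :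
    preimageAlong θ ⊥ < preimageAlong θ U' := by
  refine lt_of_le_of_ne (preimageAlong_mono bot_le) fun e => hb ?_
  rw [← h.image_preimage hU, ← e, h.image_preimage bot_le]

omit [Fact p.Prime] [Finite S] in
theorem Surj.ne_bot (h : Surj F F' θ) (hk : preimageAlong θ ⊥ ≠ S) : S' ≠ ⊥ := fun e => hk (by
  refine le_antisymm preimageAlong_le fun x hx => mem_preimageAlong.2 ⟨hx, ?_⟩
  exact e ▸ h.mem x hx)

end Quot

theorem exists_quot (hQ : F.IsNormal Q) : ∃ (Ω' : Type u) (_ : Group Ω') (S' : Subgroup Ω')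
    (θ : S →* Ω') (F' : FusionSystem S'), Surj F F' θ ∧ preimageAlong θ ⊥ = Q := by
  have := StronglyClosed.subgroupOf_normal (IsNormal.stronglyClosed hQ)
  obtain ⟨E, hE⟩ := exists_factor_mk (IsNormal.stronglyClosed hQ)
  exact ⟨_, _, _, _, E, hE.surj_of_normal hQ, hE.ker⟩

end Cfsg.Agent.Fusion
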