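import Cfsg.Agent.Lib.MS.Base3
import Cfsg.Agent.Lib.BG.Sec1
import Cfsg.Agent.Lib.Fusion.Reduce

/-! Glauberman's K-infinity subgroups: the sequence and its elementary properties. -/

set_option linter.unusedSectionVars false
set_option linter.unusedVariables false
set_option autoImplicit false

namespace Cfsg.Agent.KInf

open Subgroup Cfsg Cfsg.Agent.MS Cfsg.Agent.Transfer

universe u
variable {G : Type*} [Group G] {A B C Q R S T U V X Y : Subgroup G} {p : ℕ}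

section Map
variable {H : Type*} [Group H] {f : G →* H}

theorem map_cc_iff (hf : Function.Injective f) : A.map f ≤ CC (B.map f) ↔ A ≤ CC B := by
  rw [← comm_eq_bot, ← comm_eq_bot, ← map_commutator, map_eq_bot_iff_of_injective _ hf]

theorem map_nn_iff (hf : Function.Injective f) : A.map f ≤ NN (B.map f) ↔ A ≤ NN B := by
  refine ⟨fun h a ha => ?_, fun h => (map_mono h).trans (le_normalizer_map f)⟩
  rw [mem_normalizer_iff]
  intro b
  have := mem_normalizer_iff.1 (h ⟨a, ha, rfl⟩) (f b)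
  rwa [← map_inv, ← map_mul, ← map_mul, mem_map_iff_mem hf, mem_map_iff_mem hf] at this

theorem map_inf_cc (hf : Function.Injective f) : (A ⊓ CC B).map f = A.map f ⊓ CC (B.map f) := by
  refine le_antisymm (le_inf (map_mono inf_le_left) ((map_cc_iff hf).2 inf_le_right)) ?_
  rintro _ ⟨⟨a, ha, rfl⟩, h⟩
  exact ⟨a, ⟨ha, fun b hb => hf (by rw [map_mul, map_mul]; exact h _ ⟨b, hb, rfl⟩)⟩, rfl⟩

theorem exists_map_eq {A' : Subgroup H} (h : A' ≤ Q.map f) : ∃ A ≤ Q, A.map f = A' :=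
  ⟨A'.comap f ⊓ Q, inf_le_right, le_antisymm ((map_mono inf_le_left).trans (map_comap_le _ _))
    fun x hx => by obtain ⟨a, ha, rfl⟩ := h hx; exact ⟨a, ⟨hx, ha⟩, rfl⟩⟩

theorem map_cl2 (hf : Function.Injective f) :
    B.map f ∈ classTwoSubgroups H ↔ B ∈ classTwoSubgroups G := by
  simp only [classTwoSubgroups, Set.mem_setOf_eq, ← map_commutator, map_cc_iff hf]

theorem map_up (hf : Function.Injective f) :
    B.map f ∈ kUpperStarFamily (Q.map f) ↔ B ∈ kUpperStarFamily Q := by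
  simp only [kUpperStarFamily, Set.mem_setOf_eq, map_cl2 hf, ← map_commutator, ← map_inf_cc hf,
    map_le_map_iff_of_injective hf]

theorem map_low (hf : Function.Injective f) :
    B.map f ∈ kLowerStarFamily (Q.map f) ↔ B ∈ kLowerStarFamily Q := by
  simp only [kLowerStarFamily, Set.mem_setOf_eq, map_cl2 hf, map_nn_iff hf]
  refine and_congr_right' (and_congr_right' ⟨fun h A hA h1 => ?_, fun h A hA h1 => ?_⟩)
  · simpa only [map_nn_iff hf, ← map_commutator, ← map_inf_cc hf, map_eq_bot_iff_of_injective _ hf,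
      map_le_map_iff_of_injective hf] using h _ ((map_cl2 hf).2 hA) (map_mono h1)
  · obtain ⟨A, h2, rfl⟩ := exists_map_eq h1
    simpa only [map_nn_iff hf, ← map_commutator, ← map_inf_cc hf, map_eq_bot_iff_of_injective _ hf,
      map_le_map_iff_of_injective hf] using h _ ((map_cl2 hf).1 hA) h2

end Map

def kL (S Q : Subgroup G) : Subgroup G := sSup {B | B ≤ S ∧ B ∈ kLowerStarFamily Q}
def kU (S Q : Subgroup G) : Subgroup G := sSup {B | B ≤ S ∧ B ∈ kUpperStarFamily Q}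
def kO (S : Subgroup G) : ℕ → Subgroup G
  | 0 => S
  | n + 1 => kU S (kL S (kO S n))
def kE (S : Subgroup G) (n : ℕ) : Subgroup G := kL S (kO S n)

theorem kO_succ (S : Subgroup G) (n : ℕ) : kO S (n + 1) = kU S (kE S n) := rfl
theorem le_kL (h : B ≤ S) (h1 : B ∈ kLowerStarFamily Q) : B ≤ kL S Q := le_sSup ⟨h, h1⟩
theorem le_kU (h : B ≤ S) (h1 : B ∈ kUpperStarFamily Q) : B ≤ kU S Q := le_sSup ⟨h, h1⟩
theorem kL_le_iff : kL S Q ≤ T ↔ ∀ B ≤ S, B ∈ kLowerStarFamily Q → B ≤ T := by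
  simp [kL]
theorem kU_le_iff : kU S Q ≤ T ↔ ∀ B ≤ S, B ∈ kUpperStarFamily Q → B ≤ T := by
  simp [kU]
theorem kL_le : kL S Q ≤ S := kL_le_iff.2 fun _ h _ => h
theorem kU_le : kU S Q ≤ S := kU_le_iff.2 fun _ h _ => h
theorem kO_le (n : ℕ) : kO S n ≤ S := by cases n; exacts [le_rfl, kU_le]
theorem kE_le (n : ℕ) : kE S n ≤ S := kL_le

theorem low_anti (h : Q ≤ R) (h1 : B ∈ kLowerStarFamily R) : B ∈ kLowerStarFamily Q :=
  ⟨h1.1, h.trans h1.2.1, fun A hA h2 => h1.2.2 A hA (h2.trans h)⟩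
theorem up_anti (h : Q ≤ R) (h1 : B ∈ kUpperStarFamily R) : B ∈ kUpperStarFamily Q :=
  ⟨h1.1, (commutator_mono le_rfl h).trans h1.2⟩
theorem kL_mono (h : kL S R ≤ T) (h1 : Q ≤ R) : kL S R ≤ kL T Q :=
  kL_le_iff.2 fun B h2 h3 => le_kL ((le_kL h2 h3).trans h) (low_anti h1 h3)
theorem kU_mono (h : kU S R ≤ T) (h1 : Q ≤ R) : kU S R ≤ kU T Q :=
  kU_le_iff.2 fun B h2 h3 => le_kU ((le_kU h2 h3).trans h) (up_anti h1 h3)

theorem kO_anti (n : ℕ) : kO S (n + 1) ≤ kO S n := by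
  induction n with
  | zero => exact kU_le
  | succ n ih => exact kU_mono kU_le (kL_mono kL_le ih)
theorem kE_mono (n : ℕ) : kE S n ≤ kE S (n + 1) := kL_mono kL_le (kO_anti n)

theorem map_kL {H : Type*} [Group H] {f : G →* H} (hf : Function.Injective f) :
    (kL S Q).map f = kL (S.map f) (Q.map f) := by
  refine le_antisymm (map_le_iff_le_comap.2 (kL_le_iff.2 fun B h h1 => map_le_iff_le_comap.1
    (le_kL (map_mono h) ((map_low hf).2 h1)))) (kL_le_iff.2 fun B h h1 => ?_)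
  obtain ⟨B, h', rfl⟩ := exists_map_eq h
  exact map_mono (le_kL h' ((map_low hf).1 h1))
theorem map_kU {H : Type*} [Group H] {f : G →* H} (hf : Function.Injective f) :
    (kU S Q).map f = kU (S.map f) (Q.map f) := by
  refine le_antisymm (map_le_iff_le_comap.2 (kU_le_iff.2 fun B h h1 => map_le_iff_le_comap.1
    (le_kU (map_mono h) ((map_up hf).2 h1)))) (kU_le_iff.2 fun B h h1 => ?_)
  obtain ⟨B, h', rfl⟩ := exists_map_eq h
  exact map_mono (le_kU h' ((map_up hf).1 h1))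
theorem map_kO {H : Type*} [Group H] {f : G →* H} (hf : Function.Injective f) (n : ℕ) :
    (kO S n).map f = kO (S.map f) n := by
  induction n with
  | zero => rfl
  | succ n ih => rw [kO, kO, map_kU hf, map_kL hf, ih]
theorem map_kE {H : Type*} [Group H] {f : G →* H} (hf : Function.Injective f) (n : ℕ) :
    (kE S n).map f = kE (S.map f) n := by rw [kE, kE, map_kL hf, map_kO hf]

theorem kO_top (n : ℕ) : kO (⊤ : Subgroup G) n = kSeqOdd G n := by
  induction n with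
  | zero => rfl
  | succ n ih => simp [kO, kSeqOdd, kU, kL, ih]
theorem kE_top (n : ℕ) : kE (⊤ : Subgroup G) n = kSeqEven G n := by
  simp [kE, kSeqEven, kL, kO_top]

variable [Finite G]

theorem exists_stable (S : Subgroup G) : ∃ n, ∀ m, n ≤ m → kE S m = ⨆ i, kE S i ∧ kO S m = ⨅ i, kO S i := by
  have h1 := monotone_nat_of_le_succ (kE_mono (S := S))
  have h2 := antitone_nat_of_succ_le (kO_anti (S := S))
  obtain ⟨_, ⟨a, rfl⟩, ha⟩ := (Set.toFinite (Set.range (kE S))).exists_maximal ⟨_, 0, rfl⟩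
  obtain ⟨_, ⟨b, rfl⟩, hb⟩ := (Set.toFinite (Set.range (kO S))).exists_minimal ⟨_, 0, rfl⟩
  refine ⟨max a b, fun m hm => ⟨le_antisymm (le_iSup _ m) (iSup_le fun i => ?_),
    le_antisymm (le_iInf fun i => ?_) (iInf_le _ m)⟩⟩
  · exact (h1 (le_max_left i a)).trans ((ha ⟨_, rfl⟩ (h1 (le_max_right i a))).trans
      (h1 ((le_max_left _ _).trans hm)))
  · exact (h2 ((le_max_right _ _).trans hm)).trans ((hb ⟨_, rfl⟩ (h2 (le_max_right i b))).trans
      (h2 (le_max_left i b)))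

omit [Finite G] in
theorem map_lower {G H : Type u} [Group G] [Group H] {f : G →* H} (hf : Function.Injective f) :
    (kInfLower G).map f = ⨆ i, kE f.range i := by
  simp only [kInfLower, ← kE_top, Subgroup.map_iSup, map_kE hf, ← MonoidHom.range_eq_map]
omit [Finite G] in
theorem map_upper {G H : Type u} [Group G] [Group H] {f : G →* H} (hf : Function.Injective f) :
    (kInfUpper G).map f = ⨅ i, kO f.range i := by
  simp only [kInfUpper, ← kO_top, Subgroup.map_iInf _ hf, map_kO hf, ← MonoidHom.range_eq_map]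
omit [Finite G] in
theorem ind_lower (S : Subgroup G) : inducedFunctor kInfLower S = ⨆ i, kE S i := by
  rw [inducedFunctor, map_lower S.subtype_injective, range_subtype]
omit [Finite G] in
theorem ind_upper (S : Subgroup G) : inducedFunctor kInfUpper S = ⨅ i, kO S i := by
  rw [inducedFunctor, map_upper S.subtype_injective, range_subtype]

theorem kinf_eq (hTS : T ≤ S) (h : ∀ n, kE S n ≤ T ∧ kO S (n + 1) ≤ T) :
    ⨆ i, kE T i = ⨆ i, kE S i ∧ ⨅ i, kO T i = ⨅ i, kO S i := by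
  have h1 : ∀ n, kO T n ≤ kO S n := fun n => by
    induction n with
    | zero => exact hTS
    | succ n ih => exact kU_mono (kU_le.trans hTS) (kL_mono (h n).1 ih)
  have h2 : ∀ n, kO S (n + 1) ≤ kO T n := fun n => by
    induction n with
    | zero => exact (h 0).2
    | succ n ih => exact kU_mono (h (n + 1)).2 (kL_mono (kL_le.trans hTS) ih)
  exact ⟨le_antisymm (iSup_le fun i => (kL_mono (kL_le.trans hTS) (h2 i)).trans (le_iSup (kE S) (i + 1)))
    (iSup_mono fun i => kL_mono (h i).1 (h1 i)), le_antisymm (iInf_mono h1)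
    (le_iInf fun i => (iInf_le _ (i + 1)).trans (h2 i))⟩

omit [Finite G] in
theorem ab_low (hA : A ≤ CC A) (h : Q ≤ NN A) : A ∈ kLowerStarFamily Q :=
  ⟨(der_le A).trans hA, h, fun X _ h1 _ _ _ =>
    (comm_le_left (h1.trans h)).trans (le_inf le_rfl hA)⟩
omit [Finite G] in
theorem ab_up (hA : A ≤ CC A) (h : Q ≤ NN A) : A ∈ kUpperStarFamily Q :=
  ⟨(der_le A).trans hA, (comm_le_left h).trans (le_inf le_rfl hA)⟩

variable [Fact p.Prime]

/-- a fixed point of a p-group on a nontrivial section -/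
theorem exists_fix (hS : IsPGroup p S) (hQ : Q ≤ S) (hX : X ≤ S) (h1 : Q ≤ NN X) (h2 : Q ⊔ X ≤ NN Y)
    (h : ¬ X ≤ Y) : ∃ x ∈ X, x ∉ Y ∧ ⁅zpowers x, Q⁆ ≤ Y := by
  obtain ⟨_, _, _, f, q⟩ := exists_qm (N := Y ⊓ (Q ⊔ X)) (M := Q ⊔ X) inf_le_right
    (nn_inf h2 (le_nn _))
  have h3 := nil_meet (K := im f (Q ⊔ X)) (H := im f X)
    (im_nil (nil_of_pg (hS.to_le (sup_le hQ hX))) le_rfl) (im_mono le_sup_right)
    (im_nn le_rfl le_sup_right (sup_le h1 (le_nn _)))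
    fun e => h (((q.im_eq_bot le_sup_right).1 e).trans inf_le_left)
  obtain ⟨y, ⟨hy, hc⟩, hy1⟩ := exists_ne_one h3
  obtain ⟨⟨x, hx⟩, hxX, rfl⟩ := mem_im.1 hy
  refine ⟨x, hxX, fun hxY => hy1 ((q.eq_one_iff hx).2 ⟨hxY, hx⟩), ?_⟩
  refine ((q.cc_iff (zpowers_le.2 hx) le_sup_left).1 ?_).trans inf_le_left
  rw [im_zpowers hx]
  exact zpowers_le.2 (cc_anti (im_mono le_sup_left) hc)

theorem exists_bigger (hS : IsPGroup p S) (hQ : Q ≤ S) (hQS : Q ≤ NN S) (hB : B ≤ S)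
    (hb : ⁅B, B⁆ ≤ CC B) (h1 : Q ≤ NN B) (h : ¬ S ⊓ CC B ≤ B) :
    ∃ C, C ≤ S ∧ B < C ∧ ⁅C, C⁆ ≤ CC C ∧ Q ≤ NN C ∧ B ⊓ CC B ≤ C ⊓ CC C ∧
      ∀ A ≤ Q, ⁅B, A⁆ ≤ B ⊓ CC B → ⁅C, A⁆ ≤ B ⊓ CC B := by
  obtain ⟨x, hx, hxB, hc⟩ := exists_fix (X := S ⊓ CC B) (Y := B ⊓ CC B) hS hQ inf_le_left
    (nn_inf hQS (nn_cc h1)) (sup_le (nn_inf h1 (nn_cc h1))
      (nn_of_cc (inf_le_right.trans (cc_anti inf_le_left)))) fun e => h (e.trans inf_le_left)
  have hx' : zpowers x ≤ CC B := zpowers_le.2 hx.2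
  have hz : B ⊓ CC B ≤ CC (B ⊔ zpowers x) := le_cc_sup inf_le_right (inf_le_left.trans (cc_symm hx'))
  have n1 : B ≤ NN (B ⊓ CC B) := nn_inf (le_nn _) (nn_cc (le_nn _))
  have n2 : zpowers x ≤ NN (B ⊓ CC B) := nn_of_cc (hx'.trans (cc_anti inf_le_left))
  have hd : ⁅B ⊔ zpowers x, B ⊔ zpowers x⁆ ≤ B ⊓ CC B :=
    comm_sup_l n1 n2 (comm_sup_r n1 n2 (le_inf (der_le _) hb) ((comm_eq_bot'.2 hx').le.trans bot_le))
      (comm_sup_r n1 n2 ((comm_eq_bot.2 hx').le.trans bot_le)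
        ((comm_eq_bot.2 (ab_cc (ab_of_cyc (cyc_zpowers x)))).le.trans bot_le))
  refine ⟨B ⊔ zpowers x, sup_le hB (zpowers_le.2 hx.1), lt_of_le_of_ne le_sup_left fun e =>
    hxB ⟨e.ge (mem_sup_right (mem_zpowers x)), hx.2⟩, hd.trans hz, nn_of_comm_le' (comm_sup_l
      (nn_of_le le_sup_left) (nn_of_le le_sup_right) ((comm_le_left h1).trans le_sup_left)
      (hc.trans (inf_le_left.trans le_sup_left))), le_inf (inf_le_left.trans le_sup_left) hz,
    fun A hA h2 => comm_sup_l n1 n2 h2 ((commutator_mono le_rfl hA).trans hc)⟩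

theorem low_max (hS : IsPGroup p S) (hQ : Q ≤ S) (hB : B ≤ S) (hb : B ∈ kLowerStarFamily Q)
    (h : ∀ C ≤ S, C ∈ kLowerStarFamily Q → B ≤ C → C = B) : S ⊓ CC B ≤ B := by
  by_contra h1
  obtain ⟨C, c1, c2, c3, c4, c5, c6⟩ := exists_bigger hS hQ (nn_of_le hQ) hB hb.1 hb.2.1 h1
  refine c2.ne' (h C c1 ⟨c3, c4, fun A hA a1 a2 a3 a4 => (c6 A a1 (hb.2.2 A hA a1 (c2.le.trans a2)
    ?_ ?_)).trans c5⟩ c2.le)
  · exact eq_bot_iff.2 ((commutator_mono c2.le le_rfl).trans a3.le)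
  · exact eq_bot_iff.2 ((commutator_mono (commutator_mono c5 le_rfl) le_rfl).trans a4.le)

theorem up_max (hS : IsPGroup p S) (hQ : Q ≤ S) (hB : B ≤ S) (hb : B ∈ kUpperStarFamily Q)
    (h : ∀ C ≤ S, C ∈ kUpperStarFamily Q → B ≤ C → C = B) : S ⊓ CC B ≤ B := by
  by_contra h1
  obtain ⟨C, c1, c2, c3, c4, c5, c6⟩ := exists_bigger hS hQ (nn_of_le hQ) hB hb.1
    (nn_of_comm_le' (hb.2.trans inf_le_left)) h1
  exact c2.ne' (h C c1 ⟨c3, (c6 Q le_rfl hb.2).trans c5⟩ c2.le)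

theorem cc_kL (hS : IsPGroup p S) (hQ : Q ≤ S) : S ⊓ CC (kL S Q) ≤ kL S Q := by
  obtain ⟨B, hB, hm⟩ := (Set.toFinite {B | B ≤ S ∧ B ∈ kLowerStarFamily Q}).exists_maximal
    ⟨⊥, bot_le, ab_low bot_le nn_bot⟩
  have := le_kL hB.1 hB.2
  exact (inf_le_inf_left _ (cc_anti this)).trans ((low_max hS hQ hB.1 hB.2
    fun C h1 h2 h3 => le_antisymm (hm ⟨h1, h2⟩ h3) h3).trans this)

theorem cc_kU (hS : IsPGroup p S) (hQ : Q ≤ S) : S ⊓ CC (kU S Q) ≤ kU S Q := by
  obtain ⟨B, hB, hm⟩ := (Set.toFinite {B | B ≤ S ∧ B ∈ kUpperStarFamily Q}).exists_maximal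
    ⟨⊥, bot_le, ab_up bot_le nn_bot⟩
  have := le_kU hB.1 hB.2
  exact (inf_le_inf_left _ (cc_anti this)).trans ((up_max hS hQ hB.1 hB.2
    fun C h1 h2 h3 => le_antisymm (hm ⟨h1, h2⟩ h3) h3).trans this)

theorem cc_lower (hS : IsPGroup p S) : S ⊓ CC (⨆ i, kE S i : Subgroup G) ≤ ⨆ i, kE S i := by
  obtain ⟨n, h⟩ := exists_stable S
  rw [← (h n le_rfl).1]; exact cc_kL hS (kO_le n)

theorem cc_upper (hS : IsPGroup p S) : S ⊓ CC (⨅ i, kO S i : Subgroup G) ≤ ⨅ i, kO S i := by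
  obtain ⟨n, h⟩ := exists_stable S
  rw [← (h (n + 1) (by omega)).2]; exact cc_kU hS (kE_le n)

theorem center_le_lower {Q : Type u} [Group Q] [Finite Q] (h : IsPGroup p Q) :
    CC (kInfLower Q) ≤ kInfLower Q := by
  have := cc_lower (S := ⊤) (h.to_subgroup ⊤)
  simpa only [kE_top, top_inf_eq, kInfLower] using this

theorem center_le_upper {Q : Type u} [Group Q] [Finite Q] (h : IsPGroup p Q) :
    CC (kInfUpper Q) ≤ kInfUpper Q := by
  have := cc_upper (S := ⊤) (h.to_subgroup ⊤)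
  simpa only [kO_top, top_inf_eq, kInfUpper] using this

theorem lower_char : IsCharPFunctor.{u} p kInfLower := by
  refine ⟨fun Q _ _ h _ e => ?_, fun Q R _ _ _ _ φ => ?_⟩
  · have := center_le_lower h
    rw [e, cc_bot] at this
    exact bot_ne_top (top_le_iff.1 this)
  · rw [map_lower φ.injective, MonoidHom.range_eq_top.2 φ.surjective]; simp only [kE_top]; rfl

theorem upper_char : IsCharPFunctor.{u} p kInfUpper := by
  refine ⟨fun Q _ _ h _ e => ?_, fun Q R _ _ _ _ φ => ?_⟩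
  · have := center_le_upper h
    rw [e, cc_bot] at this
    exact bot_ne_top (top_le_iff.1 this)
  · rw [map_upper φ.injective, MonoidHom.range_eq_top.2 φ.surjective]; simp only [kO_top]; rfl

end Cfsg.Agent.KInf
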