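import Cfsg.Agent.Lib.Fusion.Alperin

/-! `K`-normalizer fusion systems and their saturation. -/

set_option autoImplicit false

namespace Cfsg.Agent.Fusion

open Cfsg Cfsg.FusionSystem

variable {Ω : Type*} [Group Ω] {S : Subgroup Ω} {F : FusionSystem S} {P Q R T U : Subgroup Ω}
  {f g : Ω → Ω} {p : ℕ} {K : Subgroup (MulAut Q)}

theorem Mor.mem_of_sup (hg : Mor F (P ⊔ Q) g) (h1 : ∀ x ∈ P, g x ∈ R) (h2 : ∀ x ∈ Q, g x ∈ R) :
    ∀ x ∈ P ⊔ Q, g x ∈ R := by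
  rw [← img_le_iff, hg.img_sup]
  exact sup_le (img_le_iff.2 h1) (img_le_iff.2 h2)

theorem Mor.img_sup' (hg : Mor F (P ⊔ Q) g) (h1 : ∀ x ∈ P, g x = f x) (h2 : img g Q = R) :
    img g (P ⊔ Q) = img f P ⊔ R := by
  rw [hg.img_sup, img_congr h1, h2]

theorem img_eq_of_afun {α : MulAut Q} (h : ∀ x ∈ Q, g x = afun α x) : img g Q = Q := by
  rw [img_congr h, img_afun]

/-- `T` is the `K`-normalizer of `Q` in `S`. -/
def IsKNorm (S Q : Subgroup Ω) (K : Subgroup (MulAut Q)) (T : Subgroup Ω) : Prop :=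
  ∀ s, s ∈ T ↔ s ∈ S ∧ ∃ α ∈ K, ∀ x ∈ Q, afun α x = s * x * s⁻¹

/-- The maps of the `K`-normalizer system. -/
def KMor (F : FusionSystem S) (Q : Subgroup Ω) (K : Subgroup (MulAut Q)) (T P : Subgroup Ω)
    (f : Ω → Ω) : Prop :=
  P ≤ T ∧ (∀ x ∈ P, f x ∈ T) ∧ ∃ g, Mor F (P ⊔ Q) g ∧ (∀ x ∈ P, g x = f x) ∧
    ∃ α ∈ K, ∀ x ∈ Q, g x = afun α x

theorem isKNorm_top : IsKNorm S Q ⊤ (normalizerIn S Q) := by
  intro s
  constructor
  · intro h
    obtain ⟨α, e⟩ := exists_cAut h.2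
    exact ⟨h.1, α, trivial, e⟩
  · rintro ⟨h, α, -, e⟩
    exact ⟨h, mem_normalizer_of_afun e⟩

theorem isKNorm_bot : IsKNorm S Q ⊥ (centralizerIn S Q) := by
  intro s
  rw [mem_centralizerIn]
  refine and_congr_right fun _ => ⟨fun h => ⟨1, Subgroup.one_mem _, fun x hx => ?_⟩, ?_⟩
  · rw [afun_one, h x hx]
  · rintro ⟨α, hα, e⟩ x hx
    rw [Subgroup.mem_bot] at hα
    rw [← e x hx, hα, afun_one]

/-- The `K`-normalizer as a subgroup. -/
def kNorm (S Q : Subgroup Ω) (K : Subgroup (MulAut Q)) : Subgroup Ω :=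
  S ⊓ (K.comap (cAut Q)).map (Subgroup.normalizer (Q : Set Ω)).subtype

theorem isKNorm_kNorm : IsKNorm S Q K (kNorm S Q K) := by
  intro s
  refine and_congr_right fun _ => ⟨?_, ?_⟩
  · rintro ⟨n, hn, rfl⟩
    exact ⟨_, hn, fun x hx => afun_cAut n hx⟩
  · rintro ⟨α, hα, e⟩
    refine ⟨⟨s, mem_normalizer_of_afun e⟩, ?_, rfl⟩
    have : cAut Q ⟨s, mem_normalizer_of_afun e⟩ = α :=
      aut_ext fun x hx => by rw [afun_cAut _ hx, e x hx]
    show cAut Q _ ∈ K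
    rwa [this]

theorem IsKNorm.le (hT : IsKNorm S Q K T) : T ≤ S := fun s hs => ((hT s).1 hs).1

theorem IsKNorm.le_normalizer (hT : IsKNorm S Q K T) : T ≤ Subgroup.normalizer (Q : Set Ω) := by
  intro s hs
  obtain ⟨-, α, -, e⟩ := (hT s).1 hs
  exact mem_normalizer_of_afun e

theorem IsKNorm.centralizerIn_le (hT : IsKNorm S Q K T) : centralizerIn S Q ≤ T := by
  intro s hs
  rw [mem_centralizerIn] at hs
  exact (hT s).2 ⟨hs.1, 1, K.one_mem, fun x hx => by rw [afun_one, hs.2 x hx]⟩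

theorem IsKNorm.mem_of_mor (hT : IsKNorm S Q K T) (hg : Mor F U g) (hQ : Q ≤ U) {α : MulAut Q}
    (hα : α ∈ K) (e : ∀ x ∈ Q, g x = afun α x) {s : Ω} (hs : s ∈ U) (hsT : s ∈ T) : g s ∈ T := by
  obtain ⟨-, β, hβ, e'⟩ := (hT s).1 hsT
  refine (hT _).2 ⟨hg.mem hs, α * β * α⁻¹, K.mul_mem (K.mul_mem hα hβ) (K.inv_mem hα),
    fun x hx => ?_⟩
  have hy := afun_mem α⁻¹ hx
  rw [afun_mul _ _ hx, afun_mul _ _ hy, ← e _ (afun_mem β hy), e' _ hy, hg.map_conj hs (hQ hy),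
    e _ hy, afun_afun_inv _ hx]

theorem KMor.of_ext (hT : IsKNorm S Q K T) (hP : P ≤ T) (hg : Mor F U g) (hPU : P ≤ U)
    (hQU : Q ≤ U) (e : ∀ x ∈ P, g x = f x) {α : MulAut Q} (hα : α ∈ K)
    (e' : ∀ x ∈ Q, g x = afun α x) : KMor F Q K T P f :=
  ⟨hP, fun x hx => e x hx ▸ hT.mem_of_mor hg hQU hα e' (hPU hx) (hP hx), g,
    hg.mono (sup_le hPU hQU), e, α, hα, e'⟩

theorem KMor.mor (h : KMor F Q K T P f) : Mor F P f := by
  obtain ⟨-, -, g, hg, e, -⟩ := h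
  exact (hg.mono le_sup_left).congr e

theorem kSysData (F : FusionSystem S) (hQ : Q ≤ S) (hT : IsKNorm S Q K T) :
    SysData T (KMor F Q K T) := by
  refine SysData.ofSub F KMor.mor (fun h => h.1) (fun h => h.2.1) ?_ ?_ ?_ ?_
  · rintro P f f' ⟨h1, h2, g, hg, e, h⟩ e'
    exact ⟨h1, fun x hx => e' x hx ▸ h2 x hx, g, hg, fun x hx => (e x hx).trans (e' x hx), h⟩
  · intro P s hP hs
    obtain ⟨hsS, α, hα, e⟩ := (hT s).1 hs
    exact KMor.of_ext hT hP (mor_conj F le_rfl hsS) (hP.trans hT.le) hQ (fun _ _ => rfl) hα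
      fun x hx => (e x hx).symm
  · rintro P R f f' ⟨h1, h2, g, hg, e, α, hα, eα⟩ ⟨h1', h2', g', hg', e', β, hβ, eβ⟩ h
    refine KMor.of_ext hT h1 (hg.comp hg' (hg.mem_of_sup (fun x hx => ?_) fun x hx => ?_))
      le_sup_left le_sup_right (fun x hx => ?_) (K.mul_mem hβ hα) fun x hx => ?_
    · rw [e x hx]; exact Subgroup.mem_sup_left (h x hx)
    · rw [eα x hx]; exact Subgroup.mem_sup_right (afun_mem _ hx)
    · rw [e x hx, e' _ (h x hx)]
    · rw [eα x hx, eβ _ (afun_mem _ hx), afun_mul _ _ hx]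
  · rintro P f i ⟨h1, h2, g, hg, e, α, hα, eα⟩ hi ei
    obtain ⟨j, hj, j1, j2, j3, j4⟩ := hg.inv' (hg.img_sup' e (img_eq_of_afun eα))
    have hf : Mor F P f := (hg.mono le_sup_left).congr e
    refine KMor.of_ext hT (img_le_iff.2 h2) hj le_sup_left le_sup_right (fun y hy => ?_)
      (K.inv_mem hα) fun x hx => ?_
    · obtain ⟨x, hx, rfl⟩ := hf.mem_img.1 hy
      rw [ei x hx, ← e x hx, j1 x (Subgroup.mem_sup_left hx)]
    · have hy := afun_mem α⁻¹ hx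
      rw [← j1 _ (Subgroup.mem_sup_right hy), eα _ hy, afun_afun_inv _ hx]

theorem mem_normalizerHom_iff {φ : P →* Ω} :
    φ ∈ F.normalizerHom Q P ↔ KMor F Q ⊤ (normalizerIn S Q) P (hfun φ) := by
  constructor
  · rintro ⟨h1, h2, h3, ψ, hψ, e, e'⟩
    have hm := mor_hfun hψ
    have : img (hfun ψ) Q = Q := by
      rw [img_eq_map le_sup_right (fun x => (hfun_coe ψ x).symm), e']
    obtain ⟨α, -, eα⟩ := (hm.mono le_sup_right).exists_aut this
    refine KMor.of_ext isKNorm_top h2 hm le_sup_left le_sup_right (fun x hx => ?_) trivial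
      fun x hx => (eα x hx).symm
    rw [hfun_of_mem _ hx, ← e, hfun_of_mem _ (Subgroup.mem_sup_left hx)]; rfl
  · intro h
    have hm := h.mor
    obtain ⟨h1, h2, g, ⟨ψ, hψ, eψ⟩, e, α, -, eα⟩ := h
    refine ⟨mem_Hom_iff.2 hm, h1, fun x => by rw [← hfun_coe]; exact h2 x x.2, ψ, hψ,
      fun x => by rw [eψ, ← hfun_coe]; exact e x x.2, ?_⟩
    rw [← img_eq_map le_sup_right eψ]; exact img_eq_of_afun eα

theorem mem_centralizerHom_iff {φ : P →* Ω} :
    φ ∈ F.centralizerHom Q P ↔ KMor F Q ⊥ (centralizerIn S Q) P (hfun φ) := by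
  constructor
  · rintro ⟨h1, h2, h3, ψ, hψ, e, e'⟩
    have hm := mor_hfun hψ
    refine KMor.of_ext isKNorm_bot h2 hm le_sup_left le_sup_right (fun x hx => ?_)
      (Subgroup.one_mem _) fun x hx => ?_
    · rw [hfun_of_mem _ hx, ← e, hfun_of_mem _ (Subgroup.mem_sup_left hx)]; rfl
    · rw [afun_one, hfun_of_mem _ (Subgroup.mem_sup_right hx)]; exact e' ⟨x, hx⟩
  · intro h
    have hm := h.mor
    obtain ⟨h1, h2, g, ⟨ψ, hψ, eψ⟩, e, α, hα, eα⟩ := h
    refine ⟨mem_Hom_iff.2 hm, h1, fun x => by rw [← hfun_coe]; exact h2 x x.2, ψ, hψ,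
      fun x => by rw [eψ, ← hfun_coe]; exact e x x.2, fun x => ?_⟩
    rw [Subgroup.mem_bot] at hα
    rw [eψ]
    have := eα x x.2
    rw [hα, afun_one] at this
    exact this

theorem KMor.congr (h : KMor F Q K T P f) (e' : ∀ x ∈ P, f x = g x) : KMor F Q K T P g := by
  obtain ⟨h1, h2, g, hg, e, h⟩ := h
  exact ⟨h1, fun x hx => e' x hx ▸ h2 x hx, g, hg, fun x hx => (e x hx).trans (e' x hx), h⟩

theorem hom_eq_iff_of_pred {E : FusionSystem T} {H : ∀ P : Subgroup Ω, Set (P →* Ω)}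
    {M : Subgroup Ω → (Ω → Ω) → Prop} (hM : ∀ (P : Subgroup Ω) (φ : P →* Ω), φ ∈ H P ↔ M P (hfun φ))
    (congr : ∀ {P f g}, M P f → (∀ x ∈ P, f x = g x) → M P g)
    (mul : ∀ {P f}, M P f → ∀ x ∈ P, ∀ y ∈ P, f (x * y) = f x * f y) :
    (∀ P, E.Hom P = H P) ↔ ∀ P f, Mor E P f ↔ M P f := by
  constructor
  · intro h P f
    constructor
    · rintro ⟨φ, hφ, e⟩
      rw [h, hM] at hφ
      exact congr hφ fun x hx => by rw [hfun_of_mem _ hx, e]
    · intro hf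
      refine ⟨mkHom P f (mul hf), ?_, fun _ => rfl⟩
      rw [h, hM]
      exact congr hf fun x hx => by rw [hfun_of_mem _ hx]; rfl
  · intro h P
    ext φ
    rw [mem_Hom_iff, h, hM]

theorem isNormalizerSystem_iff {E : FusionSystem (normalizerIn S Q)} :
    F.IsNormalizerSystem Q E ↔ ∀ P f, Mor E P f ↔ KMor F Q ⊤ (normalizerIn S Q) P f :=
  hom_eq_iff_of_pred (fun _ _ => mem_normalizerHom_iff) KMor.congr
    fun h _ hx _ hy => h.mor.map_mul hx hy

theorem isCentralizerSystem_iff {E : FusionSystem (centralizerIn S Q)} :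
    F.IsCentralizerSystem Q E ↔ ∀ P f, Mor E P f ↔ KMor F Q ⊥ (centralizerIn S Q) P f :=
  hom_eq_iff_of_pred (fun _ _ => mem_centralizerHom_iff) KMor.congr
    fun h _ hx _ hy => h.mor.map_mul hx hy

/-- The normalizer system. -/
def normSys (F : FusionSystem S) (hQ : Q ≤ S) : FusionSystem (normalizerIn S Q) :=
  (kSysData F hQ isKNorm_top).sys

/-- The centralizer system. -/
def centSys (F : FusionSystem S) (hQ : Q ≤ S) : FusionSystem (centralizerIn S Q) :=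
  (kSysData F hQ isKNorm_bot).sys

theorem normSys_spec (F : FusionSystem S) (hQ : Q ≤ S) : F.IsNormalizerSystem Q (normSys F hQ) :=
  isNormalizerSystem_iff.2 fun _ _ => SysData.mor_iff _

theorem centSys_spec (F : FusionSystem S) (hQ : Q ≤ S) : F.IsCentralizerSystem Q (centSys F hQ) :=
  isCentralizerSystem_iff.2 fun _ _ => SysData.mor_iff _

/-! ### Saturation -/

/-- Automorphisms of `U` stabilizing `P` and acting on `Q` as an element of `K`. -/
def stabK (U P Q : Subgroup Ω) (hQ : Q ≤ U) (K : Subgroup (MulAut Q)) : Subgroup (MulAut U) where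
  carrier := {β | (∀ x ∈ U, afun β x ∈ P ↔ x ∈ P) ∧ ∃ α ∈ K, ∀ x ∈ Q, afun β x = afun α x}
  one_mem' := ⟨fun x _ => by rw [afun_one], 1, K.one_mem, fun x _ => by rw [afun_one, afun_one]⟩
  mul_mem' := by
    rintro β γ ⟨h1, α, hα, e⟩ ⟨h2, α', hα', e'⟩
    refine ⟨fun x hx => by rw [afun_mul _ _ hx, h1 _ (afun_mem _ hx), h2 x hx], α * α',
      K.mul_mem hα hα', fun x hx => ?_⟩
    rw [afun_mul _ _ (hQ hx), e' x hx, e _ (afun_mem _ hx), afun_mul _ _ hx]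
  inv_mem' := by
    rintro β ⟨h1, α, hα, e⟩
    refine ⟨fun x hx => by rw [← h1 _ (afun_mem _ hx), afun_afun_inv _ hx], α⁻¹, K.inv_mem hα,
      fun x hx => ?_⟩
    have hy := afun_mem α⁻¹ hx
    rw [← afun_inv_afun β (hQ hy), e _ hy, afun_afun_inv _ hx]

/-- Automorphisms of `U` stabilizing `P`. -/
def stabAut (U P : Subgroup Ω) : Subgroup (MulAut U) where
  carrier := {β | ∀ x ∈ U, afun β x ∈ P ↔ x ∈ P}
  one_mem' := fun x _ => by rw [afun_one]
  mul_mem' := by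
    intro β γ h1 h2 x hx
    rw [afun_mul _ _ hx, h1 _ (afun_mem _ hx), h2 x hx]
  inv_mem' := by
    intro β h1 x hx
    rw [← h1 _ (afun_mem _ hx), afun_afun_inv _ hx]

theorem afun_map_mul (β : MulAut U) {x y : Ω} (hx : x ∈ U) (hy : y ∈ U) :
    afun β (x * y) = afun β x * afun β y := by
  rw [afun_of_mem _ hx, afun_of_mem _ hy, afun_of_mem _ (U.mul_mem hx hy), ← Subgroup.coe_mul,
    ← _root_.map_mul]; rfl

theorem afun_inj (β : MulAut U) {x y : Ω} (hx : x ∈ U) (hy : y ∈ U) (h : afun β x = afun β y) :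
    x = y := by
  rw [← afun_inv_afun β hx, h, afun_inv_afun β hy]

theorem mem_stabAut_of_eq (hP : P ≤ U) {β : MulAut U} {α : MulAut P}
    (e : ∀ x ∈ P, afun β x = afun α x) : β ∈ stabAut U P := by
  intro x hx
  refine ⟨fun h => ?_, fun h => e x h ▸ afun_mem α h⟩
  have hy := afun_mem α⁻¹ h
  rwa [afun_inj β hx (hP hy) (by rw [e _ hy, afun_afun_inv _ h])]

theorem mem_stabAut_of_finite [Finite U] (hP : P ≤ U) {β : MulAut U}
    (e : ∀ x ∈ P, afun β x ∈ P) : β ∈ stabAut U P := by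
  intro x hx
  refine ⟨fun h => ?_, e x⟩
  have := finite_of_le hP
  have hs : Function.Surjective (fun y : P => (⟨afun β y, e y y.2⟩ : P)) :=
    Finite.surjective_of_injective fun a b hab =>
      Subtype.ext (afun_inj β (hP a.2) (hP b.2) (congrArg Subtype.val hab))
  obtain ⟨y, hy⟩ := hs ⟨_, h⟩
  rw [← afun_inj β (hP y.2) hx (congrArg Subtype.val hy)]; exact y.2

/-- Restriction of automorphisms. -/
noncomputable def resAut (hP : P ≤ U) : stabAut U P →* MulAut P where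
  toFun β :=
    { toFun := fun x => ⟨afun (β : MulAut U) x, (β.2 _ (hP x.2)).2 x.2⟩
      invFun := fun x => ⟨afun (β : MulAut U)⁻¹ x, ((β⁻¹).2 _ (hP x.2)).2 x.2⟩
      left_inv := fun x => Subtype.ext (afun_inv_afun _ (hP x.2))
      right_inv := fun x => Subtype.ext (afun_afun_inv _ (hP x.2))
      map_mul' := fun x y => Subtype.ext (afun_map_mul _ (hP x.2) (hP y.2)) }
  map_one' := by ext x; exact afun_one _
  map_mul' β γ := by ext x; exact afun_mul _ _ (hP x.2)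

theorem afun_resAut (hP : P ≤ U) (β : stabAut U P) {x : Ω} (hx : x ∈ P) :
    afun (resAut hP β) x = afun (β : MulAut U) x := by
  rw [afun_of_mem _ hx]; rfl

theorem exists_resAut (hP : P ≤ U) {β : MulAut U} (h : β ∈ stabAut U P) :
    ∃ α : MulAut P, ∀ x ∈ P, afun β x = afun α x :=
  ⟨resAut hP ⟨β, h⟩, fun _ hx => (afun_resAut hP ⟨β, h⟩ hx).symm⟩

/-- The restrictions to `P` of the elements of `A` that stabilize `P`. -/
noncomputable def resImg (hP : P ≤ U) (A : Subgroup (MulAut U)) : Subgroup (MulAut P) :=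
  (A.subgroupOf (stabAut U P)).map (resAut hP)

theorem mem_resImg (hP : P ≤ U) {A : Subgroup (MulAut U)} {α : MulAut P} :
    α ∈ resImg hP A ↔ ∃ β ∈ A, ∀ x ∈ P, afun β x = afun α x := by
  constructor
  · rintro ⟨β, hβ, rfl⟩
    exact ⟨β, hβ, fun x hx => (afun_resAut hP β hx).symm⟩
  · rintro ⟨β, hβ, e⟩
    exact ⟨⟨β, mem_stabAut_of_eq hP e⟩, hβ, aut_ext fun x hx => by rw [afun_resAut hP _ hx, e x hx]⟩

/-- The automorphisms of `U` restricting to an element of `B` on `P`. -/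
noncomputable def resPre (hP : P ≤ U) (B : Subgroup (MulAut P)) : Subgroup (MulAut U) :=
  (B.comap (resAut hP)).map (stabAut U P).subtype

theorem mem_resPre (hP : P ≤ U) {B : Subgroup (MulAut P)} {β : MulAut U} :
    β ∈ resPre hP B ↔ ∃ α ∈ B, ∀ x ∈ P, afun β x = afun α x := by
  constructor
  · rintro ⟨β, hβ, rfl⟩
    exact ⟨_, hβ, fun x hx => (afun_resAut hP β hx).symm⟩
  · rintro ⟨α, hα, e⟩
    refine ⟨⟨β, mem_stabAut_of_eq hP e⟩, ?_, rfl⟩
    have : resAut hP ⟨β, mem_stabAut_of_eq hP e⟩ = α :=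
      aut_ext fun x hx => by rw [afun_resAut hP _ hx, e x hx]
    show resAut hP _ ∈ B
    rwa [this]

theorem SylowIn.subgroupOf {Γ : Type*} [Group Γ] {B C L : Subgroup Γ} (h : SylowIn p B C)
    (hC : C ≤ L) : SylowIn p (B.subgroupOf L) (C.subgroupOf L) := by
  refine ⟨fun x hx => h.le hx, pgroup_subgroupOf h.pgroup, fun D hD hp hB x hx => ?_⟩
  refine h.max (D.map L.subtype) ?_ (hp.map _) (fun b hb => ⟨⟨b, hC (h.le hb)⟩, hB hb, rfl⟩)
    ⟨x, hx, rfl⟩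
  rintro _ ⟨y, hy, rfl⟩
  exact hD hy

theorem SylowIn.resImg [Fact p.Prime] [Finite U] (hP : P ≤ U) {A B : Subgroup (MulAut U)}
    (h : SylowIn p B A) (hA : A ≤ stabAut U P) : SylowIn p (resImg hP B) (resImg hP A) := by
  have := finite_mulAut U
  exact (h.subgroupOf hA).map _

/-- The automorphisms of `U` that become `S`-conjugations through `φ`. -/
def pullAut (S U : Subgroup Ω) (φ : Ω → Ω) : Subgroup (MulAut U) where
  carrier := {β | ∃ s ∈ S, ∀ x ∈ U, φ (afun β x) = s * φ x * s⁻¹}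
  one_mem' := ⟨1, S.one_mem, fun x _ => by rw [afun_one]; simp⟩
  mul_mem' := by
    rintro β γ ⟨s, hs, e⟩ ⟨t, ht, e'⟩
    refine ⟨s * t, S.mul_mem hs ht, fun x hx => ?_⟩
    rw [afun_mul _ _ hx, e _ (afun_mem _ hx), e' x hx]; group
  inv_mem' := by
    rintro β ⟨s, hs, e⟩
    refine ⟨s⁻¹, S.inv_mem hs, fun x hx => ?_⟩
    have := e _ (afun_mem β⁻¹ hx)
    rw [afun_afun_inv _ hx] at this
    rw [this]; group

theorem transport_mem_autInducedBy {τ : MulAut P ≃* MulAut Q} (hf : Mor F P f) (hQ : img f P = Q)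
    (hτ : ∀ α, ∀ x ∈ P, afun (τ α) (f x) = f (afun α x)) {α : MulAut P} :
    τ α ∈ autInducedBy S Q ↔ α ∈ pullAut S P f := by
  rw [mem_autInducedBy]
  refine exists_congr fun s => and_congr_right fun _ => ⟨fun h x hx => ?_, fun h y hy => ?_⟩
  · rw [← hτ α x hx, h _ (hQ ▸ subset_img hx)]
  · obtain ⟨x, hx, rfl⟩ := hf.mem_img.1 (hQ ▸ hy)
    rw [hτ α x hx, h x hx]

variable [Fact p.Prime] [Finite S]

theorem pullAut_pgroup (hS : IsPGroup p S) (hf : Mor F P f) : IsPGroup p (pullAut S P f) := by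
  obtain ⟨τ, hτ, -⟩ := hf.exists_transport rfl
  have : (pullAut S P f).map τ.toMonoidHom = autInducedBy S (img f P) :=
    map_transport fun α => transport_mem_autInducedBy hf rfl hτ
  have h2 := autInducedBy_pgroup hS (img f P)
  rw [← this] at h2
  exact h2.of_equiv ((pullAut S P f).equivMapOfInjective τ.toMonoidHom τ.injective).symm

theorem pullAut_le (hf : Mor F P f) : pullAut S P f ≤ F.autGroup P := by
  obtain ⟨τ, hτ, h2, -⟩ := hf.exists_transport rfl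
  intro α hα
  exact (h2 α).1 (autInducedBy_le_autGroup F hf.img_le
    ((transport_mem_autInducedBy hf rfl hτ).2 hα))

/-- A `p`-subgroup of `Aut_F(U)` becomes a group of `S`-conjugations on a suitable conjugate. -/
theorem exists_pullAut_ge (hS : IsPGroup p S) (hA : F.IsFullyAutomized p R) (hU : F.IsConj U R)
    {B : Subgroup (MulAut U)} (hB : B ≤ F.autGroup U) (hp : IsPGroup p B) :
    ∃ φ, Mor F U φ ∧ img φ U = R ∧ B ≤ pullAut S U φ := by
  obtain ⟨f, hf, e⟩ := isConj_iff.1 hU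
  obtain ⟨τ, hτ, h2, -⟩ := hf.exists_transport e
  have := finite_autGroup F hA.1
  obtain ⟨c, hc, hc'⟩ := (IsFullyAutomized.sylowIn hA).conj (D := B.map τ.toMonoidHom)
    (by rintro _ ⟨b, hb, rfl⟩; exact (h2 b).2 (hB hb)) (hp.map _)
  have hfR : ∀ x ∈ U, f x ∈ R := fun x hx => e ▸ subset_img hx
  have hm := hf.comp ((mem_autGroup hA.1).1 hc) hfR
  refine ⟨_, hm, by rw [hf.img_comp', e, img_afun], fun b hb => ?_⟩
  obtain ⟨s, hs, es⟩ := mem_autInducedBy.1 (hc' _ ⟨b, hb, rfl⟩)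
  refine ⟨s, hs, fun x hx => ?_⟩
  rw [← es _ (afun_mem c (hfR x hx)), afun_mul _ _ (afun_mem c (hfR x hx)),
    afun_inv_afun _ (hfR x hx), afun_mul _ _ (hfR x hx)]
  exact congrArg (afun c) (hτ b x hx).symm

/-- Moving back to a "fully `K`-normalized" subgroup. -/
theorem exists_back (hS : IsPGroup p S) (hr : F.IsReceptive Q)
    (hK : SylowIn p (autInducedBy S Q ⊓ K) (F.autGroup Q ⊓ K)) (hf : Mor F Q f) :
    ∃ (N : Subgroup Ω) (ψ : Ω → Ω) (χ : MulAut Q), Mor F N ψ ∧ χ ∈ K ∧ img f Q ≤ N ∧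
      (∀ x ∈ Q, ψ (f x) = afun χ x) ∧
      ∀ s ∈ S, ∀ α ∈ K, (∀ x ∈ Q, f (afun α x) = s * f x * s⁻¹) → s ∈ N := by
  have := finite_autGroup F hr.1
  have : Finite (F.autGroup Q ⊓ K : Subgroup _) := finite_of_le inf_le_left
  obtain ⟨c, hc, hc'⟩ := hK.conj (D := pullAut S Q f ⊓ K) (inf_le_inf_right _ (pullAut_le hf))
    (pgroup_of_le (pullAut_pgroup hS hf) inf_le_left)
  obtain ⟨i, hi, i1, i2, i3, i4⟩ := hf.inv
  have hm := hi.comp ((mem_autGroup hr.1).1 hc.1) i2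
  obtain ⟨ψ, hψ, e⟩ := IsReceptive.ext hr hm (by rw [hi.img_comp', i4, img_afun])
  refine ⟨_, ψ, c, hψ, hc.2, hm.le_Next, fun x hx => by rw [e _ (subset_img hx), i1 x hx],
    fun s hs α hα es => ?_⟩
  obtain ⟨t, ht, et⟩ := mem_autInducedBy.1 (hc' α ⟨⟨s, hs, es⟩, hα⟩).1
  have := finite_of_le hf.img_le
  refine ⟨⟨hs, mem_normalizer_of_finite fun y hy => ?_⟩, t, ht, fun y hy => ?_⟩
  · obtain ⟨x, hx, rfl⟩ := hf.mem_img.1 hy
    rw [← es x hx]; exact subset_img (afun_mem _ hx)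
  · obtain ⟨x, hx, rfl⟩ := hf.mem_img.1 hy
    rw [← es x hx]
    beta_reduce
    rw [i1 _ (afun_mem _ hx), i1 x hx, ← et _ (afun_mem c hx),
      afun_mul _ _ (afun_mem c hx), afun_inv_afun _ hx, afun_mul _ _ hx]

omit [Fact p.Prime] [Finite S] in
theorem transport_stabK {U' : Subgroup Ω} {τ : MulAut U ≃* MulAut U'} (hf : Mor F U f)
    (hU : img f U = U') (hτ : ∀ α, ∀ x ∈ U, afun (τ α) (f x) = f (afun α x)) (hP : P ≤ U)
    (hQ : Q ≤ U) (hQ' : Q ≤ U') {χ : MulAut Q} (hχ : χ ∈ K) (eχ : ∀ x ∈ Q, f x = afun χ x)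
    (β : MulAut U) : τ β ∈ stabK U' (img f P) Q hQ' K ↔ β ∈ stabK U P Q hQ K := by
  refine and_congr ⟨fun h x hx => ?_, fun h y hy => ?_⟩ ⟨?_, ?_⟩
  · rw [← hf.apply_mem_img_iff hP hx, ← hf.apply_mem_img_iff hP (afun_mem _ hx), ← hτ β x hx]
    exact h _ (hU ▸ subset_img hx)
  · obtain ⟨x, hx, rfl⟩ := hf.mem_img.1 (hU ▸ hy)
    rw [hτ β x hx, hf.apply_mem_img_iff hP hx, hf.apply_mem_img_iff hP (afun_mem _ hx)]
    exact h x hx
  · rintro ⟨α, hα, e⟩
    refine ⟨χ⁻¹ * α * χ, K.mul_mem (K.mul_mem (K.inv_mem hχ) hα) hχ, fun x hx => ?_⟩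
    refine hf.inj (afun_mem _ (hQ hx)) (hQ (afun_mem _ hx)) ?_
    rw [← hτ β x (hQ hx), eχ x hx, e _ (afun_mem _ hx), eχ _ (afun_mem _ hx), ← afun_mul _ _ hx,
      ← afun_mul _ _ hx]
    congr 1; group
  · rintro ⟨α, hα, e⟩
    refine ⟨χ * α * χ⁻¹, K.mul_mem (K.mul_mem hχ hα) (K.inv_mem hχ), fun x hx => ?_⟩
    have hy := afun_mem χ⁻¹ hx
    conv_lhs => rw [← afun_afun_inv χ hx, ← eχ _ hy, hτ β _ (hQ hy), e _ hy, eχ _ (afun_mem _ hy)]
    rw [afun_mul _ _ hx, afun_mul _ _ hy]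

/-- Every subgroup of the `K`-normalizer has a good conjugate. -/
theorem exists_good_conj (hS : IsPGroup p S) (hF : F.IsSaturated p) (hr : F.IsReceptive Q)
    (hK : SylowIn p (autInducedBy S Q ⊓ K) (F.autGroup Q ⊓ K)) (hT : IsKNorm S Q K T)
    (hP : P ≤ T) : ∃ θ, KMor F Q K T P θ ∧ F.IsReceptive (img θ P ⊔ Q) ∧
      SylowIn p (autInducedBy S (img θ P ⊔ Q) ⊓ stabK _ (img θ P) Q le_sup_right K)
        (F.autGroup (img θ P ⊔ Q) ⊓ stabK _ (img θ P) Q le_sup_right K) := by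
  have hU : P ⊔ Q ≤ S := sup_le (hP.trans hT.le) hr.1
  obtain ⟨B, hB, -⟩ := exists_sylowIn_ge (p := p)
    (bot_le : ⊥ ≤ F.autGroup (P ⊔ Q) ⊓ stabK _ P Q le_sup_right K) IsPGroup.of_bot
  obtain ⟨R, hR, hRn⟩ := exists_fullyNormalized F hU
  obtain ⟨φ, hφ, eφ, hBφ⟩ := exists_pullAut_ge hS (IsSaturated.fullyAutomized hS hF hRn) hR
    (hB.le.trans inf_le_left) hB.pgroup
  obtain ⟨N, ψ, χ, hψ, hχ, hN, eχ, hN'⟩ := exists_back hS hr hK (hφ.mono le_sup_right)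
  have hPN : ∀ x ∈ P, φ x ∈ N := by
    intro s hs
    obtain ⟨-, α, hα, e⟩ := (hT s).1 (hP hs)
    refine hN' _ (hφ.mem (Subgroup.mem_sup_left hs)) α hα fun x hx => ?_
    rw [e x hx, hφ.map_conj (Subgroup.mem_sup_left hs) (Subgroup.mem_sup_right hx)]
  have hUN : ∀ x ∈ P ⊔ Q, φ x ∈ N := hφ.mem_of_sup hPN fun x hx => hN (subset_img hx)
  have hθ := hφ.comp hψ hUN
  have eθ : img (fun x => ψ (φ x)) (P ⊔ Q) = img (fun x => ψ (φ x)) P ⊔ Q :=
    hθ.img_sup' (fun _ _ => rfl) (img_eq_of_afun eχ)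
  refine ⟨_, KMor.of_ext hT hP hθ le_sup_left le_sup_right (fun _ _ => rfl) hχ eχ, ?_, ?_⟩
  · have hRN : R ≤ N := eφ ▸ img_le_iff.2 hUN
    have hCN : centralizerIn S R ≤ N := by
      intro s hs
      rw [mem_centralizerIn] at hs
      refine hN' s hs.1 1 K.one_mem fun x hx => ?_
      rw [afun_one, hs.2 _ (eφ ▸ subset_img (Subgroup.mem_sup_right hx))]
    have hc := IsSaturated.fullyCentralized hS hF hRn
    have e2 : img ψ R = img (fun x => ψ (φ x)) P ⊔ Q := by rw [← eθ, hφ.img_comp', eφ]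
    refine IsSaturated.receptive hS hF ⟨e2 ▸ (hψ.mono hRN).img_le, fun W hW => ?_⟩
    rw [← e2, ← hψ.img_centralizerIn hRN hCN hc, (hψ.mono hCN).card_img]
    exact hc.2 W (isConj_trans (e2 ▸ (hψ.mono hRN).isConj) hW)
  · obtain ⟨τ, hτ, h2, -⟩ := hθ.exists_transport eθ
    have := finite_autGroup F hU
    have : Finite (F.autGroup (P ⊔ Q) ⊓ stabK _ P Q le_sup_right K : Subgroup _) :=
      finite_of_le inf_le_left
    have h3 := hB.map τ.toMonoidHom
    have h4 := transport_stabK hθ eθ hτ le_sup_left le_sup_right le_sup_right hχ eχ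
    rw [map_transport (A := F.autGroup _ ⊓ stabK _ P Q le_sup_right K) (B := F.autGroup _ ⊓ stabK _ (img (fun x => ψ (φ x)) P) Q le_sup_right K)
      fun α => and_congr (h2 α) (h4 α)] at h3
    have hle : B.map τ.toMonoidHom ≤ autInducedBy S (img (fun x => ψ (φ x)) P ⊔ Q) ⊓
        stabK _ (img (fun x => ψ (φ x)) P) Q le_sup_right K := by
      refine le_inf ?_ (h3.le.trans inf_le_right)
      rintro _ ⟨b, hb, rfl⟩
      refine (transport_mem_autInducedBy hθ eθ hτ).2 ?_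
      obtain ⟨s, hs, es⟩ := hBφ hb
      obtain ⟨-, α, hα, eα⟩ := (hB.le hb).2
      have hsN : s ∈ N := hN' s hs α hα fun x hx => by
        rw [← eα x hx, es x (Subgroup.mem_sup_right hx)]
      exact ⟨ψ s, hψ.mem hsN, fun x hx => by
        beta_reduce; rw [es x hx, hψ.map_conj hsN (hUN x hx)]⟩
    have hle' := inf_le_inf_right (stabK _ (img (fun x => ψ (φ x)) P) Q le_sup_right K)
      (autInducedBy_le_autGroup F (eθ ▸ hθ.img_le))
    have hpg := pgroup_of_le (autInducedBy_pgroup hS _) (inf_le_left :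
      autInducedBy S (img (fun x => ψ (φ x)) P ⊔ Q) ⊓
        stabK _ (img (fun x => ψ (φ x)) P) Q le_sup_right K ≤ _)
    rwa [le_antisymm hle (h3.max _ hle' hpg hle)] at h3

theorem good_automized (hT : IsKNorm S Q K T) (hQ : Q ≤ S) {E : FusionSystem T}
    (hE : ∀ P f, Mor E P f ↔ KMor F Q K T P f) (hP : P ≤ T)
    (h : SylowIn p (autInducedBy S (P ⊔ Q) ⊓ stabK _ P Q le_sup_right K)
        (F.autGroup (P ⊔ Q) ⊓ stabK _ P Q le_sup_right K)) : E.IsFullyAutomized p P := by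
  have hU : P ⊔ Q ≤ S := sup_le (hP.trans hT.le) hQ
  have := finite_of_le hU
  have h2 := h.resImg (le_sup_left : P ≤ P ⊔ Q) fun β hβ => hβ.2.1
  rw [isFullyAutomized_iff]
  refine ⟨hP, ?_⟩
  convert h2 using 1
  · ext α
    rw [mem_resImg, mem_autInducedBy]
    constructor
    · rintro ⟨t, ht, e⟩
      obtain ⟨htS, γ, hγ, eγ⟩ := (hT t).1 ht
      obtain ⟨β, -, eβ⟩ := (mor_conj F hU htS).exists_aut ((mor_conj F hU htS).img_sup'
        (fun _ _ => rfl) (img_eq_of_afun fun x hx => (eγ x hx).symm) |>.trans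
          (by rw [img_eq_of_afun fun x hx => (e x hx).symm]))
      have e1 : ∀ x ∈ P, afun β x = afun α x := fun x hx => by
        rw [eβ x (Subgroup.mem_sup_left hx), e x hx]
      exact ⟨β, ⟨mem_autInducedBy.2 ⟨t, htS, eβ⟩, mem_stabAut_of_eq le_sup_left e1, γ, hγ,
        fun x hx => by rw [eβ x (Subgroup.mem_sup_right hx), eγ x hx]⟩, e1⟩
    · rintro ⟨β, ⟨h1, -, γ, hγ, eγ⟩, e⟩
      obtain ⟨t, ht, et⟩ := mem_autInducedBy.1 h1
      exact ⟨t, (hT t).2 ⟨ht, γ, hγ, fun x hx => by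
        rw [← eγ x hx, et x (Subgroup.mem_sup_right hx)]⟩,
        fun x hx => by rw [← e x hx, et x (Subgroup.mem_sup_left hx)]⟩
  · ext α
    rw [mem_resImg, mem_autGroup hP, hE]
    constructor
    · rintro ⟨-, -, g, hg, e, γ, hγ, eγ⟩
      obtain ⟨β, hβ, eβ⟩ := hg.exists_aut (hg.img_sup' e (img_eq_of_afun eγ) |>.trans
          (by rw [img_afun]))
      have e1 : ∀ x ∈ P, afun β x = afun α x := fun x hx => by
        rw [eβ x (Subgroup.mem_sup_left hx), e x hx]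
      exact ⟨β, ⟨hβ, mem_stabAut_of_eq le_sup_left e1, γ, hγ,
        fun x hx => by rw [eβ x (Subgroup.mem_sup_right hx), eγ x hx]⟩, e1⟩
    · rintro ⟨β, ⟨h1, -, γ, hγ, eγ⟩, e⟩
      exact KMor.of_ext hT hP ((mem_autGroup hU).1 h1) le_sup_left le_sup_right e hγ eγ

theorem good_receptive (hS : IsPGroup p S) (hT : IsKNorm S Q K T) (hQ : Q ≤ S) {E : FusionSystem T}
    (hE : ∀ P f, Mor E P f ↔ KMor F Q K T P f) (hP : P ≤ T) (hr : F.IsReceptive (P ⊔ Q))
    (h : SylowIn p (autInducedBy S (P ⊔ Q) ⊓ stabK _ P Q le_sup_right K)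
        (F.autGroup (P ⊔ Q) ⊓ stabK _ P Q le_sup_right K)) : E.IsReceptive P := by
  have hU : P ⊔ Q ≤ S := hr.1
  rw [isReceptive_iff]
  refine ⟨hP, fun R f hf e => ?_⟩
  obtain ⟨hR, -, g, hg, eg, α, hα, eα⟩ := (hE R f).1 hf
  have hgU : img g (R ⊔ Q) = P ⊔ Q := by rw [hg.img_sup' eg (img_eq_of_afun eα), e]
  have hgP : img g R = P := by rw [img_congr eg, e]
  obtain ⟨τ, hτ, h2, -⟩ := hg.exists_transport hgU
  have h4 := transport_stabK hg hgU hτ le_sup_left le_sup_right le_sup_right hα eα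
  rw [hgP] at h4
  set N := Next T R f with hN
  have hNT : N ≤ T := Next_le
  have hNn : ∀ n ∈ N, ∀ x ∈ R ⊔ Q, n * x * n⁻¹ ∈ R ⊔ Q := fun n hn =>
    (mor_conj F hg.le (hT.le (hNT hn))).mem_of_sup
      (fun x hx => Subgroup.mem_sup_left (conj_mem_of_mem_normalizerIn hn.1 hx))
      fun x hx => Subgroup.mem_sup_right (conj_mem_of_mem_normalizer (hT.le_normalizer (hNT hn)) hx)
  have := finite_autGroup F hU
  have := finite_of_le hg.le
  set M := (F.autGroup (P ⊔ Q) ⊓ stabK _ P Q le_sup_right K) ⊓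
    resPre (le_sup_left : P ≤ P ⊔ Q) (autInducedBy T P) with hM
  have : Finite M := finite_of_le (inf_le_left.trans inf_le_left)
  have hBM : SylowIn p (autInducedBy S (P ⊔ Q) ⊓ stabK _ P Q le_sup_right K) M := by
    refine h.of_le (le_inf h.le ?_) inf_le_left
    rintro β ⟨h1, h1', γ, hγ, eγ⟩
    obtain ⟨t, ht, et⟩ := mem_autInducedBy.1 h1
    obtain ⟨δ, eδ⟩ := exists_resAut (le_sup_left : P ≤ P ⊔ Q) h1'
    exact (mem_resPre _).2 ⟨δ, mem_autInducedBy.2 ⟨t, (hT t).2 ⟨ht, γ, hγ, fun x hx => by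
        rw [← eγ x hx, et x (Subgroup.mem_sup_right hx)]⟩,
        fun x hx => by rw [← eδ x hx, et x (Subgroup.mem_sup_left hx)]⟩, eδ⟩
  obtain ⟨c, ⟨⟨hc1, hc2⟩, hc3⟩, hc⟩ := hBM.conj (D := (autInducedBy N (R ⊔ Q)).map τ.toMonoidHom)
    (by
      rintro _ ⟨β, hβ, rfl⟩
      obtain ⟨n, hn, en⟩ := mem_autInducedBy.1 hβ
      obtain ⟨hnS, γ, hγ, eγ⟩ := (hT n).1 (hNT hn)
      have hst : β ∈ stabK (R ⊔ Q) R Q le_sup_right K :=
        ⟨fun x hx => by rw [en x hx]; exact ((mem_normalizerIn.1 hn.1).2 x).symm, γ, hγ,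
          fun x hx => by rw [en x (Subgroup.mem_sup_right hx), eγ x hx]⟩
      refine ⟨⟨(h2 β).2 (autInducedBy_le_autGroup F hg.le
        (autInducedBy_mono (hNT.trans hT.le) hβ)), (h4 β).2 hst⟩, ?_⟩
      obtain ⟨δ, eδ⟩ := exists_resAut (le_sup_left : P ≤ P ⊔ Q) ((h4 β).2 hst).1
      obtain ⟨t, ht, et⟩ := hn.2
      refine (mem_resPre _).2 ⟨δ, mem_autInducedBy.2 ⟨t, ht, fun y hy => ?_⟩, eδ⟩
      obtain ⟨x, hx, rfl⟩ := hf.mem_img.1 (e ▸ hy)
      rw [← eδ _ hy, ← et x hx, ← eg x hx, hτ β x (Subgroup.mem_sup_left hx),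
        en x (Subgroup.mem_sup_left hx), eg _ (conj_mem_of_mem_normalizerIn hn.1 hx)])
    ((autInducedBy_pgroup (pgroup_of_le hS (hNT.trans hT.le)) _).map _)
  have hgm : ∀ x ∈ R ⊔ Q, g x ∈ P ⊔ Q := fun x hx => hgU ▸ subset_img hx
  have hm := hg.comp ((mem_autGroup hU).1 hc1) hgm
  obtain ⟨ψ, hψ, eψ⟩ := IsReceptive.ext hr hm (by rw [hg.img_comp', hgU, img_afun])
  have hNle : N ≤ Next S (R ⊔ Q) fun x => afun c (g x) := by
    intro n hn
    have hn' := mem_normalizer_of_finite (hNn n hn)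
    obtain ⟨β, eβ⟩ := exists_cAut hn'
    obtain ⟨s, hs, es⟩ := mem_autInducedBy.1 (hc _ ⟨β, mem_autInducedBy.2 ⟨n, hn, eβ⟩, rfl⟩).1
    refine ⟨⟨hT.le (hNT hn), hn'⟩, s, hs, fun x hx => ?_⟩
    rw [← es _ (afun_mem c (hgm x hx)), afun_mul _ _ (afun_mem c (hgm x hx)),
      afun_inv_afun _ (hgm x hx), afun_mul _ _ (hgm x hx), ← eβ x hx]
    exact congrArg (afun c) (hτ β x hx).symm
  obtain ⟨δ, hδ, eδ⟩ := (mem_resPre _).1 hc3
  obtain ⟨t, ht, et⟩ := mem_autInducedBy.1 hδ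
  obtain ⟨htS, γ, hγ, eγ⟩ := (hT _).1 (T.inv_mem ht)
  obtain ⟨-, γ', hγ', eγ'⟩ := hc2
  have hψ' := hψ.comp (mor_conj F le_rfl htS) fun x hx => hψ.mem hx
  refine ⟨_, (hE _ _).2 (KMor.of_ext hT hNT hψ' hNle (le_sup_right.trans hm.le_Next)
    (fun _ _ => rfl) (K.mul_mem hγ (K.mul_mem hγ' hα)) fun x hx => ?_), fun x hx => ?_⟩
  · rw [eψ x (Subgroup.mem_sup_right hx), eα x hx, eγ' _ (afun_mem _ hx), afun_mul _ _ hx,
      afun_mul _ _ hx, eγ _ (afun_mem _ (afun_mem _ hx))]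
  · have hfx : f x ∈ P := e ▸ subset_img hx
    beta_reduce
    rw [eψ x (Subgroup.mem_sup_left hx), eg x hx, eδ _ hfx, et _ hfx]; group

/-- Saturation of `K`-normalizer systems. -/
theorem kSaturated (hS : IsPGroup p S) (hF : F.IsSaturated p) (hr : F.IsReceptive Q)
    (hK : SylowIn p (autInducedBy S Q ⊓ K) (F.autGroup Q ⊓ K)) (hT : IsKNorm S Q K T)
    {E : FusionSystem T} (hE : ∀ P f, Mor E P f ↔ KMor F Q K T P f) : E.IsSaturated p := by
  intro P hP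
  obtain ⟨θ, hθ, h1, h2⟩ := exists_good_conj hS hF hr hK hT hP
  have hm := (hE _ _).2 hθ
  exact ⟨_, hm.isConj, good_automized hT hr.1 hE hm.img_le h2,
    good_receptive hS hT hr.1 hE hm.img_le h1 h2⟩

theorem normalizer_saturated (hS : IsPGroup p S) (hF : F.IsSaturated p)
    (hQ : F.IsFullyNormalized Q) {E : FusionSystem (normalizerIn S Q)}
    (hE : F.IsNormalizerSystem Q E) : E.IsSaturated p :=
  kSaturated hS hF (IsSaturated.receptive' hS hF hQ)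
    (by simpa using IsFullyAutomized.sylowIn (IsSaturated.fullyAutomized hS hF hQ))
    isKNorm_top (isNormalizerSystem_iff.1 hE)

theorem centralizer_saturated (hS : IsPGroup p S) (hF : F.IsSaturated p)
    (hQ : F.IsFullyCentralized Q) {E : FusionSystem (centralizerIn S Q)}
    (hE : F.IsCentralizerSystem Q E) : E.IsSaturated p :=
  kSaturated hS hF (IsSaturated.receptive hS hF hQ)
    (by simpa using ⟨le_rfl, IsPGroup.of_bot, fun D h _ _ => h⟩)
    isKNorm_bot (isCentralizerSystem_iff.1 hE)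

end Cfsg.Agent.Fusion
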