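import Cfsg.Agent.Lib.Solv.KPi
import Cfsg.Agent.Lib.Transfer.Alperin
import Cfsg.Agent.Lib.Transfer.Hall
import Mathlib.Data.Set.Card.Arithmetic

/-!
Counting conjugacy classes of a subgroup that meet a given set.
-/

set_option autoImplicit false
set_option linter.unusedSectionVars false
set_option linter.unusedVariables false
set_option linter.style.haveILetI false
set_option linter.unusedSimpArgs false

namespace Cfsg.Agent.Kc

open Subgroup Cfsg.Agent.Solv Cfsg.Agent.Transfer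

theorem factor {α β γ : Type*} {S : Set α} (hS : S.Finite) (φ : α → β) (ψ : α → γ)
    (h : ∀ x ∈ S, ∀ y ∈ S, φ x = φ y → ψ x = ψ y) : (ψ '' S).ncard ≤ (φ '' S).ncard := by
  classical
  rcases S.eq_empty_or_nonempty with rfl | ⟨x0, hx0⟩
  · simp
  haveI : Nonempty α := ⟨x0⟩
  have h1 : ψ '' S ⊆ (fun b => ψ (Function.invFunOn φ S b)) '' (φ '' S) := by
    rintro _ ⟨x, hx, rfl⟩
    refine ⟨φ x, ⟨x, hx, rfl⟩, ?_⟩
    have h2 : ∃ a ∈ S, φ a = φ x := ⟨x, hx, rfl⟩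
    exact h _ (Function.invFunOn_mem h2) _ hx (Function.invFunOn_eq h2)
  exact (Set.ncard_le_ncard h1 ((hS.image _).image _)).trans (Set.ncard_image_le (hS.image _))

variable {G : Type*} [Group G]

/-- conjugacy under `D` -/
def R (D : Subgroup G) (x y : G) : Prop := ∃ d ∈ D, d * x * d⁻¹ = y

theorem R.refl (D : Subgroup G) (x : G) : R D x x := ⟨1, one_mem _, by simp⟩

theorem R.symm {D : Subgroup G} {x y : G} (h : R D x y) : R D y x := by
  obtain ⟨d, hd, rfl⟩ := h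
  exact ⟨d⁻¹, inv_mem hd, by group⟩

theorem R.trans {D : Subgroup G} {x y z : G} (h : R D x y) (h' : R D y z) : R D x z := by
  obtain ⟨d, hd, rfl⟩ := h
  obtain ⟨e, he, rfl⟩ := h'
  exact ⟨e * d, mul_mem he hd, by group⟩

theorem R.mono {D E : Subgroup G} {x y : G} (h : R D x y) (hDE : D ≤ E) : R E x y := by
  obtain ⟨d, hd, rfl⟩ := h
  exact ⟨d, hDE hd, rfl⟩

/-- the `D`-class of `x` -/
def cc (D : Subgroup G) (x : G) : Set G := {y | R D x y}

theorem cc_eq_iff {D : Subgroup G} {x y : G} : cc D x = cc D y ↔ R D x y := by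
  constructor
  · intro h
    have : y ∈ cc D y := R.refl D y
    rw [← h] at this
    exact this
  · intro h
    ext z
    exact ⟨fun h1 => h.symm.trans h1, fun h1 => h.trans h1⟩

/-- number of `D`-classes meeting `S` -/
noncomputable def cl (D : Subgroup G) (S : Set G) : ℕ := (cc D '' S).ncard

/-- number of classes of `π`-elements of `D` -/
noncomputable def kp (π : Set ℕ) (D : Subgroup G) : ℕ := cl D {x | x ∈ D ∧ PiE π x}

variable [Finite G]

theorem cl_le_of {D : Subgroup G} {S T : Set G} (h : ∀ x ∈ S, ∃ y ∈ T, R D x y) : cl D S ≤ cl D T := by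
  refine Set.ncard_le_ncard ?_ (Set.toFinite _)
  rintro _ ⟨x, hx, rfl⟩
  obtain ⟨y, hy, hr⟩ := h x hx
  exact ⟨y, hy, (cc_eq_iff.2 hr).symm⟩

theorem cl_mono {D : Subgroup G} {S T : Set G} (h : S ⊆ T) : cl D S ≤ cl D T :=
  cl_le_of fun x hx => ⟨x, h hx, R.refl D x⟩

theorem cl_anti {D E : Subgroup G} (h : D ≤ E) (S : Set G) : cl E S ≤ cl D S :=
  factor (Set.toFinite _) _ _ fun x _ y _ h1 => cc_eq_iff.2 ((cc_eq_iff.1 h1).mono h)

theorem cl_union_le (D : Subgroup G) (S T : Set G) : cl D (S ∪ T) ≤ cl D S + cl D T := by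
  unfold cl
  rw [Set.image_union]
  exact Set.ncard_union_le _ _

theorem cl_le_add {D : Subgroup G} {U S T : Set G} (h : ∀ x ∈ U, (∃ y ∈ S, R D x y) ∨ ∃ y ∈ T, R D x y) :
    cl D U ≤ cl D S + cl D T := by
  refine le_trans (cl_le_of fun x hx => ?_) (cl_union_le D S T)
  rcases h x hx with ⟨y, hy, hr⟩ | ⟨y, hy, hr⟩
  · exact ⟨y, Or.inl hy, hr⟩
  · exact ⟨y, Or.inr hy, hr⟩

theorem cl_add_le {D : Subgroup G} {U S T : Set G} (hS : S ⊆ U) (hT : T ⊆ U)
    (h : ∀ x ∈ S, ∀ y ∈ T, ¬ R D y x) : cl D S + cl D T ≤ cl D U := by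
  unfold cl
  rw [← Set.ncard_union_eq ?_ (Set.toFinite _) (Set.toFinite _), ← Set.image_union]
  · exact Set.ncard_le_ncard (Set.image_mono (Set.union_subset hS hT)) (Set.toFinite _)
  · rw [Set.disjoint_left]
    rintro _ ⟨x, hx, rfl⟩ ⟨y, hy, h1⟩
    exact h x hx y hy (cc_eq_iff.1 h1)

theorem cl_le_ncard (D : Subgroup G) (S : Set G) : cl D S ≤ S.ncard :=
  Set.ncard_image_le (Set.toFinite _)

theorem cl_le_card (D H : Subgroup G) : cl D (H : Set G) ≤ Nat.card H :=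
  cl_le_ncard D (H : Set G)

theorem mul_cl_le {D : Subgroup G} {S : Set G} {n : ℕ}
    (h : ∀ x ∈ S, n ≤ {y | y ∈ S ∧ R D x y}.ncard) : n * cl D S ≤ S.ncard := by
  classical
  have hS := Set.toFinite S
  have h1 : cl D S = (hS.toFinset.image (cc D)).card := by
    unfold cl
    rw [← Set.ncard_coe_finset]
    simp
  rw [h1, Set.ncard_eq_toFinset_card S hS]
  refine Finset.mul_card_image_le_card _ _ fun c hc => ?_
  obtain ⟨x, hx, rfl⟩ := Finset.mem_image.1 hc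
  have hx' : x ∈ S := by simpa using hx
  refine (h x hx').trans (le_of_eq ?_)
  rw [← Set.ncard_coe_finset]
  congr 1
  ext y
  simp only [Set.mem_setOf_eq, Finset.coe_filter, Set.Finite.mem_toFinset, cc_eq_iff]
  exact and_congr_right fun _ => ⟨R.symm, R.symm⟩

/-- if `S` is invariant under `E ≤ D` and no element is centralized by a subgroup of small index -/
theorem mul_cl_le' {D E : Subgroup G} (hE : E ≤ D) {S : Set G} {n : ℕ}
    (hS : ∀ e ∈ E, ∀ x ∈ S, e * x * e⁻¹ ∈ S)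
    (h : ∀ x ∈ S, n ≤ (centralizer ({x} : Set G)).relIndex E) : n * cl D S ≤ S.ncard := by
  refine mul_cl_le fun x hx => (h x hx).trans ?_
  rw [← card_class_eq_relIndex]
  change Set.ncard {y | ∃ h ∈ E, h * x * h⁻¹ = y} ≤ _
  refine Set.ncard_le_ncard ?_ (Set.toFinite _)
  rintro _ ⟨e, he, rfl⟩
  exact ⟨hS e he x hx, e, hE he, rfl⟩

theorem cl_eq_ncard {D : Subgroup G} {S : Set G} (h : ∀ x ∈ S, ∀ y ∈ S, R D x y → x = y) :
    cl D S = S.ncard :=
  Set.ncard_image_of_injOn fun x hx y hy h1 => h x hx y hy (cc_eq_iff.1 h1)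

theorem cl_eq_mk {H : Type*} [Group H] [Finite H] (f : H →* G) (hf : Function.Injective f) (S : Set H) :
    cl f.range (f '' S) = (ConjClasses.mk '' S).ncard := by
  unfold cl
  rw [Set.image_image]
  have key : ∀ x y : H, cc f.range (f x) = cc f.range (f y) ↔ ConjClasses.mk x = ConjClasses.mk y := by
    intro x y
    rw [cc_eq_iff, ConjClasses.mk_eq_mk_iff_isConj, isConj_iff]
    constructor
    · rintro ⟨_, ⟨d, rfl⟩, h⟩
      exact ⟨d, hf (by simpa using h)⟩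
    · rintro ⟨d, rfl⟩
      exact ⟨f d, ⟨d, rfl⟩, by simp⟩
  exact le_antisymm (factor (Set.toFinite _) _ _ fun x _ y _ h => (key x y).2 h)
    (factor (Set.toFinite _) _ _ fun x _ y _ h => (key x y).1 h)

theorem cl_top (S : Set G) : cl ⊤ S = (ConjClasses.mk '' S).ncard := by
  have := cl_eq_mk (MonoidHom.id G) Function.injective_id S
  simpa [MonoidHom.range_eq_top.2 (show Function.Surjective (MonoidHom.id G) from Function.surjective_id)]
    using this

theorem cl_self (D : Subgroup G) : cl D (D : Set G) = Nat.card (ConjClasses D) := by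
  have := cl_eq_mk D.subtype D.subtype_injective Set.univ
  rw [range_subtype, Set.image_univ, Set.image_univ, ConjClasses.mk_surjective.range_eq,
    Set.ncard_univ] at this
  rw [← this]
  congr 1
  ext x
  simp

theorem kPi_eq_ncard (π : Set ℕ) : kPi π G = (ConjClasses.mk '' {x : G | PiE π x}).ncard := by
  unfold kPi
  rw [← Nat.card_coe_set_eq]
  refine Nat.card_congr (Equiv.subtypeEquivRight fun C => ?_)
  obtain ⟨x, rfl⟩ := ConjClasses.mk_surjective C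
  constructor
  · intro h
    exact ⟨x, fun q hq h1 => h q hq ⟨x, rfl, h1⟩, rfl⟩
  · rintro ⟨y, hy, h1⟩ q hq ⟨g, h2, h3⟩
    obtain ⟨c, rfl⟩ := isConj_iff.1 (ConjClasses.mk_eq_mk_iff_isConj.1 (h1.trans h2.symm))
    exact hy.conj c q hq h3

theorem kp_top (π : Set ℕ) : kp π (⊤ : Subgroup G) = kPi π G := by
  rw [kPi_eq_ncard, kp, cl_top]
  simp

theorem kp_eq_kPi (π : Set ℕ) (D : Subgroup G) : kp π D = kPi π D := by
  rw [kPi_eq_ncard, ← cl_eq_mk D.subtype D.subtype_injective, range_subtype, kp]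
  congr 1
  ext x
  constructor
  · rintro ⟨h1, h2⟩
    exact ⟨⟨x, h1⟩, piE_coe.1 h2, rfl⟩
  · rintro ⟨y, hy, rfl⟩
    exact ⟨y.2, piE_coe.2 hy⟩

theorem cl_le_mul (D : Subgroup G) (σ : Set ℕ) (S : Set G) (a : ℚ)
    (ha : ∀ x ∈ S, (kp σ (D ⊓ centralizer ({x} : Set G)) : ℚ) ≤ a) :
    (cl D {z | ∃ x' y, (∃ x ∈ S, R D x' x) ∧ y ∈ D ∧ PiE σ y ∧ Commute x' y ∧ z = x' * y} : ℚ)
      ≤ cl D S * a := by
  classical
  have hr : ∀ c ∈ cc D '' S, ∃ x ∈ S, cc D x = c := fun c hc => hc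
  choose! r hr1 hr2 using hr
  have hf : (cc D '' S).Finite := Set.toFinite _
  have h1 : cl D {z | ∃ x' y, (∃ x ∈ S, R D x' x) ∧ y ∈ D ∧ PiE σ y ∧ Commute x' y ∧ z = x' * y} ≤
      (⋃ c ∈ hf.toFinset, (fun y => cc D (r c * y)) ''
        {y | y ∈ D ⊓ centralizer ({r c} : Set G) ∧ PiE σ y}).ncard := by
    refine Set.ncard_le_ncard ?_ (Set.toFinite _)
    rintro _ ⟨_, ⟨x', y, ⟨x, hx, h2⟩, hy, hp, hc, rfl⟩, rfl⟩
    have hc' : cc D x ∈ cc D '' S := ⟨x, hx, rfl⟩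
    obtain ⟨d, hd, h3⟩ := h2.trans (cc_eq_iff.1 (hr2 _ hc')).symm
    simp only [Set.mem_iUnion]
    refine ⟨cc D x, by simpa using hc', d * y * d⁻¹,
      ⟨mem_inf.2 ⟨D.mul_mem (D.mul_mem hd hy) (D.inv_mem hd), ?_⟩, hp.conj d⟩, ?_⟩
    · rw [mem_centralizer_singleton_iff, ← h3]
      have := hc.eq
      calc d * y * d⁻¹ * (d * x' * d⁻¹) = d * (y * x') * d⁻¹ := by group
        _ = d * (x' * y) * d⁻¹ := by rw [this]
        _ = _ := by group
    · refine cc_eq_iff.2 (R.symm ⟨d, hd, ?_⟩)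
      rw [← h3]; group
  have h2 := h1.trans (Finset.set_ncard_biUnion_le _ _)
  have h3 : (∑ c ∈ hf.toFinset, (((fun y => cc D (r c * y)) ''
        {y | y ∈ D ⊓ centralizer ({r c} : Set G) ∧ PiE σ y}).ncard : ℚ)) ≤ ∑ c ∈ hf.toFinset, a := by
    refine Finset.sum_le_sum fun c hc => le_trans ?_ (ha _ (hr1 c (by simpa using hc)))
    refine Nat.cast_le.2 (factor (Set.toFinite _) _ _ fun x hx y hy h4 => ?_)
    obtain ⟨d, hd, rfl⟩ := cc_eq_iff.1 h4
    refine cc_eq_iff.2 ⟨d, hd.1, ?_⟩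
    have := mem_centralizer_singleton_iff.1 hd.2
    calc d * (r c * x) * d⁻¹ = (d * r c) * x * d⁻¹ := by group
      _ = _ := by rw [this]; group
  rw [Finset.sum_const, nsmul_eq_mul, ← Set.ncard_eq_toFinset_card _ hf] at h3
  refine le_trans ?_ h3
  exact_mod_cast h2

theorem kp_split {D : Subgroup G} {π ρ σ : Set ℕ} (hπ : ∀ q ∈ π, q ∉ ρ → q ∈ σ) (S T : Set G) (a b : ℚ)
    (hST : ∀ x ∈ D, PiE ρ x → PiE π x → (∃ y ∈ S, R D x y) ∨ ∃ y ∈ T, R D x y)
    (ha : ∀ x ∈ S, (kp σ (D ⊓ centralizer ({x} : Set G)) : ℚ) ≤ a)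
    (hb : ∀ x ∈ T, (kp σ (D ⊓ centralizer ({x} : Set G)) : ℚ) ≤ b) :
    (kp π D : ℚ) ≤ cl D S * a + cl D T * b := by
  refine le_trans ?_ (add_le_add (cl_le_mul D σ S a ha) (cl_le_mul D σ T b hb))
  rw [← Nat.cast_add, Nat.cast_le]
  refine cl_le_add fun z hz => ?_
  obtain ⟨u, hu, v, hv, h1, h2, h3⟩ := exists_piPart ρ z
  have hu' := zpowers_le.2 hz.1 hu
  have hv' := zpowers_le.2 hz.1 hv
  have hc : Commute u v := by
    obtain ⟨i, rfl⟩ := hu
    obtain ⟨j, rfl⟩ := hv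
    exact Commute.zpow_zpow_self _ _ _
  have hσ : PiE σ v := fun q hq h4 => hπ q (hz.2.of_mem_zpowers hv q hq h4) (h3 q hq h4)
  rcases hST u hu' h2 (hz.2.of_mem_zpowers hu) with h4 | h4
  · exact Or.inl ⟨z, ⟨u, v, h4, hv', hσ, hc, h1⟩, R.refl D z⟩
  · exact Or.inr ⟨z, ⟨u, v, h4, hv', hσ, hc, h1⟩, R.refl D z⟩

end Cfsg.Agent.Kc
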