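import Cfsg.Agent.Lib.Fusion.Kc1
import Cfsg.Agent.Lib.Char.Degree
import Cfsg.Agent.Lib.Char.Integral

/-!
Arithmetic of `π`-parts and first class-number bounds.
-/

set_option autoImplicit false
set_option linter.unusedSectionVars false
set_option linter.unusedVariables false
set_option linter.style.haveILetI false
set_option linter.unusedSimpArgs false

namespace Cfsg.Agent.Kc

open Subgroup Cfsg.Agent.Solv Cfsg.Agent.Transfer

/-- the `s`-part of `n` -/
def pt (s : Finset ℕ) (n : ℕ) : ℕ := ∏ r ∈ s, r ^ n.factorization r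

section
variable {s : Finset ℕ} (hs : ∀ r ∈ s, r.Prime)
include hs

theorem pt_ne (n : ℕ) : pt s n ≠ 0 :=
  Finset.prod_ne_zero_iff.2 fun r hr => pow_ne_zero _ (hs r hr).ne_zero

theorem fact_pt (n r : ℕ) : (pt s n).factorization r = if r ∈ s then n.factorization r else 0 := by
  unfold pt
  rw [Nat.factorization_prod fun r hr => pow_ne_zero _ (hs r hr).ne_zero, Finsupp.finset_sum_apply,
    Finset.sum_congr rfl (g := fun q => if q = r then n.factorization q else 0) fun q hq => by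
      rw [(hs q hq).factorization_pow, Finsupp.single_apply]]
  simp

theorem pt_dvd {n : ℕ} (hn : n ≠ 0) : pt s n ∣ n := by
  refine (Nat.factorization_le_iff_dvd (pt_ne hs n) hn).1 fun r => ?_
  rw [fact_pt hs]
  split_ifs <;> simp

theorem mem_of_dvd_pt {n r : ℕ} (hr : r.Prime) (h : r ∣ pt s n) : r ∈ s := by
  have := (hr.dvd_iff_one_le_factorization (pt_ne hs n)).1 h
  rw [fact_pt hs] at this
  by_contra h1
  simp [h1] at this

theorem dvd_pt {n d : ℕ} (hn : n ≠ 0) (hd : d ∣ n) (h : ∀ r : ℕ, r.Prime → r ∣ d → r ∈ s) :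
    d ∣ pt s n := by
  have h0 := ne_zero_of_dvd_ne_zero hn hd
  refine (Nat.factorization_le_iff_dvd h0 (pt_ne hs n)).1 fun r => ?_
  rw [fact_pt hs]
  split_ifs with h1
  · exact (Nat.factorization_le_iff_dvd h0 hn).2 hd r
  · by_contra h2
    have h3 : r ∈ d.factorization.support := Finsupp.mem_support_iff.2 (by omega)
    rw [Nat.support_factorization] at h3
    exact h1 (h r (Nat.prime_of_mem_primeFactors h3) (Nat.dvd_of_mem_primeFactors h3))

theorem pt_mono {n m : ℕ} (hm : m ≠ 0) (h : n ∣ m) : pt s n ∣ pt s m :=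
  dvd_pt hs hm ((pt_dvd hs (ne_zero_of_dvd_ne_zero hm h)).trans h) fun r hr => mem_of_dvd_pt hs hr

theorem not_dvd_of_pt {n k r : ℕ} (hn : n ≠ 0) (h : pt s n * k = n) (hr : r ∈ s) : ¬ r ∣ k := by
  intro h1
  have h2 : pt s n * r ∣ pt s n := by
    refine dvd_pt hs hn ((mul_dvd_mul_left _ h1).trans h.dvd) fun q hq h3 => ?_
    rcases (Nat.Prime.dvd_mul hq).1 h3 with h4 | h4
    · exact mem_of_dvd_pt hs hq h4
    · rwa [(Nat.prime_dvd_prime_iff_eq hq (hs r hr)).1 h4]
  have h3 := Nat.le_of_dvd (Nat.pos_of_ne_zero (pt_ne hs n)) h2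
  have := (hs r hr).two_le
  have := Nat.pos_of_ne_zero (pt_ne hs n)
  nlinarith

theorem eq_pt {n a b : ℕ} (hn : n ≠ 0) (h : a * b = n) (ha : ∀ r : ℕ, r.Prime → r ∣ a → r ∈ s)
    (hb : ∀ r ∈ s, ¬ r ∣ b) : a = pt s n := by
  refine Nat.dvd_antisymm (dvd_pt hs hn ⟨b, h.symm⟩ ha) ?_
  have h1 : (pt s n).Coprime b :=
    Nat.coprime_of_dvd fun r hr h2 => hb r (mem_of_dvd_pt hs hr h2)
  refine h1.dvd_of_dvd_mul_right ?_
  rw [h]
  exact pt_dvd hs hn

end

theorem pt_insert {s : Finset ℕ} {p : ℕ} (hp : p ∉ s) (n : ℕ) :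
    pt (insert p s) n = p ^ n.factorization p * pt s n := Finset.prod_insert hp

theorem mul_le_of_dvd {a b u : ℕ} (hb : b ≠ 0) (h : a ∣ b) (hne : a ≠ b)
    (hu : ∀ r : ℕ, r.Prime → r ∣ b → u ≤ r) : u * a ≤ b := by
  obtain ⟨k, rfl⟩ := h
  have h1 : k ≠ 1 := by rintro rfl; simp at hne
  have h2 : k ≠ 0 := by rintro rfl; simp at hb
  have h3 := hu _ (Nat.minFac_prime h1) ((Nat.minFac_dvd k).mul_left a)
  rw [mul_comm a]
  exact Nat.mul_le_mul_right _ (h3.trans (Nat.minFac_le (Nat.pos_of_ne_zero h2)))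

theorem le_of_dvd_ne {a b u : ℕ} (hb : b ≠ 0) (h : a ∣ b) (hne : a ≠ 1)
    (hu : ∀ r : ℕ, r.Prime → r ∣ b → u ≤ r) : u ≤ a := by
  have := mul_le_of_dvd (u := u) (ne_zero_of_dvd_ne_zero hb h) (one_dvd a) hne.symm
    fun r hr h1 => hu r hr (h1.trans h)
  simpa using this

variable {G : Type*} [Group G] [Finite G]

theorem kp_le_pt {s : Finset ℕ} (hs : ∀ r ∈ s, r.Prime) (D : Subgroup G) :
    kp s D ≤ pt s (Nat.card D) := by
  rw [kp_eq_kPi]
  refine Nat.le_of_mul_le_mul_right ?_ (Nat.card_pos (α := D))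
  rw [kPi_mul_sub, mul_comm]
  exact pairs_le_mul s hs D _ (pt_ne hs _) fun q hq => Finset.dvd_prod_of_mem _ hq

theorem card_syl {p : ℕ} [Fact p.Prime] {P D : Subgroup G} (hP : IsSyl p P D) :
    Nat.card P = p ^ (Nat.card D).factorization p := by
  obtain ⟨S, hS⟩ := hP.exists_sylow_sub
  rw [← S.card_eq_multiplicity, hS]
  exact (Nat.card_congr (subgroupOfEquivOfLe hP.le).toEquiv).symm

theorem mul_card_le_of_lt {A B : Subgroup G} (h : A ≤ B) (hne : A ≠ B) {u : ℕ}
    (hu : ∀ r : ℕ, r.Prime → r ∣ Nat.card B → u ≤ r) : u * Nat.card A ≤ Nat.card B :=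
  mul_le_of_dvd Nat.card_pos.ne' (card_dvd_of_le h) (Transfer.card_lt_of_lt (lt_of_le_of_ne h hne)).ne hu

theorem le_relIndex {A B : Subgroup G} (h : ¬ B ≤ A) {u : ℕ}
    (hu : ∀ r : ℕ, r.Prime → r ∣ Nat.card B → u ≤ r) : u ≤ A.relIndex B :=
  le_of_dvd_ne Nat.card_pos.ne' (relIndex_dvd_card _ _) (mt relIndex_eq_one.1 h) hu

theorem prime_pgroup {p : ℕ} [hp : Fact p.Prime] {P : Subgroup G} (hP : IsPGroup p P) (r : ℕ)
    (hr : r.Prime) (h : r ∣ Nat.card P) : p ≤ r := by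
  obtain ⟨n, hn⟩ := hP.exists_card_eq
  rw [hn] at h
  exact ((Nat.prime_dvd_prime_iff_eq hr hp.out).1 (hr.dvd_of_dvd_pow h)).ge

theorem ncard_diff {A B : Subgroup G} (h : A ≤ B) :
    (((B : Set G) \ A).ncard : ℚ) = Nat.card B - Nat.card A := by
  have h1 := Set.ncard_diff_add_ncard_of_subset (s := (A : Set G)) (t := (B : Set G)) h
  have h2 : Nat.card B = (B : Set G).ncard := rfl
  have h3 : Nat.card A = (A : Set G).ncard := rfl
  rw [h2, h3, ← h1]
  push_cast
  ring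

/-- elements of order with large prime divisors centralize a `p`-group once they centralize a
subgroup of index `p` -/
theorem cent_of_index {p : ℕ} [hp : Fact p.Prime] {Q F E : Subgroup G} (hQ : IsPGroup p Q) (hF : F ≤ Q)
    (hc : Nat.card Q = p * Nat.card F) (hE : E ≤ normalizer (Q : Set G))
    (hEF : E ≤ centralizer (F : Set G)) (hr : ∀ r : ℕ, r.Prime → r ∣ Nat.card E → p < r) :
    E ≤ centralizer (Q : Set G) := by
  by_contra h
  have h1 : (centralizer (Q : Set G)).relIndex E ≠ 1 := mt relIndex_eq_one.1 h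
  obtain ⟨r, hr1, hr2⟩ := Nat.exists_prime_and_dvd h1
  haveI := Fact.mk hr1
  have hpr := hr r hr1 (hr2.trans (relIndex_dvd_card _ _))
  obtain ⟨T, hT⟩ := exists_isSyl r E
  have h2 : ¬ T ≤ centralizer (Q : Set G) := fun h3 =>
    hT.not_dvd (hr2.trans (relIndex_dvd_of_le_left _ h3))
  have h3 := card_modEq_card_inf_centralizer hT.pgroup (hT.le.trans hE)
  have h4 : F ≤ Q ⊓ centralizer (T : Set G) :=
    le_inf hF (le_centralizer_iff.1 (hT.le.trans hEF))
  have h5 : Q ⊓ centralizer (T : Set G) ≠ Q := fun h6 =>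
    h2 (le_centralizer_iff.1 (inf_eq_left.1 h6))
  have h6 := mul_card_le_of_lt inf_le_left h5 (prime_pgroup hQ)
  have h7 : Nat.card (Q ⊓ centralizer (T : Set G) : Subgroup G) = Nat.card F := by
    refine le_antisymm ?_ (card_le_of_le h4)
    rw [hc] at h6
    exact Nat.le_of_mul_le_mul_left h6 hp.out.pos
  rw [h7, hc] at h3
  have h8 : r ∣ (p - 1) * Nat.card F := by
    rw [Nat.sub_mul, one_mul]
    exact (Nat.modEq_iff_dvd' (Nat.le_mul_of_pos_left _ hp.out.pos)).1 h3.symm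
  rcases (Nat.Prime.dvd_mul hr1).1 h8 with h9 | h9
  · have := Nat.le_of_dvd (by have := hp.out.two_le; omega) h9
    omega
  · obtain ⟨n, hn⟩ := (hQ.to_le hF).exists_card_eq
    rw [hn] at h9
    have := (Nat.prime_dvd_prime_iff_eq hr1 hp.out).1 (hr1.dvd_of_dvd_pow h9)
    omega

/-- classes meeting a subgroup `Q` acted on nontrivially by `E` -/
theorem cl_act {D E Q : Subgroup G} (hED : E ≤ D) (hE : E ≤ normalizer (Q : Set G)) {n : ℕ} (hn : 0 < n)
    (hr : ∀ r : ℕ, r.Prime → r ∣ Nat.card E → n ≤ r) :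
    (cl D (Q : Set G) : ℚ) ≤ Nat.card (Q ⊓ centralizer (E : Set G) : Subgroup G) +
      (Nat.card Q - Nat.card (Q ⊓ centralizer (E : Set G) : Subgroup G)) / n ∧
    (cl D ((Q : Set G) \ (Q ⊓ centralizer (E : Set G) : Subgroup G)) : ℚ) ≤
      (Nat.card Q - Nat.card (Q ⊓ centralizer (E : Set G) : Subgroup G)) / n := by
  set F := Q ⊓ centralizer (E : Set G) with hF
  have h2 : n * cl D ((Q : Set G) \ F) ≤ ((Q : Set G) \ F).ncard := by
    refine mul_cl_le' hED (fun e he x hx => ⟨Transfer.conj_mem_of_mem_normalizer (hE he) hx.1, fun h => hx.2 ?_⟩)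
      fun x hx => le_relIndex (fun h => hx.2 ?_) hr
    · have h1 : e⁻¹ ∈ normalizer (F : Set G) :=
        mem_normalizer_inf (inv_mem (hE he)) (mem_normalizer_centralizer (le_normalizer (inv_mem he)))
      simpa [mul_assoc] using Transfer.conj_mem_of_mem_normalizer h1 h
    · exact mem_inf.2 ⟨hx.1, fun e he => (mem_centralizer_singleton_iff.1 (h he))⟩
  have h3 : (cl D ((Q : Set G) \ F) : ℚ) ≤ (Nat.card Q - Nat.card F) / n := by
    rw [le_div_iff₀ (by exact_mod_cast hn), ← ncard_diff (inf_le_left : F ≤ Q), mul_comm]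
    exact_mod_cast h2
  refine ⟨?_, h3⟩
  have h1 : cl D (Q : Set G) ≤ cl D (F : Set G) + cl D ((Q : Set G) \ F) :=
    cl_le_add fun x hx => by
      by_cases h : x ∈ F
      · exact Or.inl ⟨x, h, R.refl _ _⟩
      · exact Or.inr ⟨x, ⟨hx, h⟩, R.refl _ _⟩
  have h4 : (cl D (F : Set G) : ℚ) ≤ Nat.card F := by exact_mod_cast cl_le_card D F
  have h5 : (cl D (Q : Set G) : ℚ) ≤ cl D (F : Set G) + cl D ((Q : Set G) \ F) := by exact_mod_cast h1
  linarith

theorem cl_noncomm {H : Subgroup G} {u : ℕ} (hu2 : 0 < u)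
    (hu : ∀ r : ℕ, r.Prime → r ∣ Nat.card H → u ≤ r) (h : ¬ H ≤ centralizer (H : Set G)) :
    (cl H (H : Set G) : ℚ) * u ^ 3 ≤ (u ^ 2 + u - 1) * Nat.card H := by
  have h1 := (cl_act le_rfl (le_normalizer (H := H)) hu2 hu).1
  set Z := H ⊓ centralizer (H : Set G) with hZ
  have h2 : u * (u * Nat.card Z) ≤ Nat.card H := by
    obtain ⟨x, hx, hx2⟩ := SetLike.not_le_iff_exists.1 h
    have h3 : Z ≤ H ⊓ centralizer ({x} : Set G) :=
      inf_le_inf_left _ (centralizer_le (Set.singleton_subset_iff.2 hx))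
    have h4 : Z ≠ H ⊓ centralizer ({x} : Set G) := fun h5 => hx2 (by
      have : x ∈ H ⊓ centralizer ({x} : Set G) := mem_inf.2 ⟨hx, mem_centralizer_singleton_iff.2 rfl⟩
      rw [← h5] at this
      exact this.2)
    have h5 : H ⊓ centralizer ({x} : Set G) ≠ H := fun h6 => hx2 fun y hy =>
      mem_centralizer_singleton_iff.1 ((inf_eq_left.1 h6) hy)
    exact (Nat.mul_le_mul_left _ (mul_card_le_of_lt h3 h4 fun r hr h6 =>
      hu r hr (h6.trans (card_dvd_of_le inf_le_left)))).trans (mul_card_le_of_lt inf_le_left h5 hu)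
  have h3 : (u : ℚ) * (u * Nat.card Z) ≤ Nat.card H := by exact_mod_cast h2
  have h4 : (1 : ℚ) ≤ u := by exact_mod_cast hu2
  have h5 : (cl H (H : Set G) : ℚ) * u ≤ Nat.card Z * u + (Nat.card H - Nat.card Z) := by
    have := mul_le_mul_of_nonneg_right h1 (by linarith : (0 : ℚ) ≤ u)
    rwa [add_mul, div_mul_cancel₀ _ (by linarith)] at this
  have h6 := mul_le_mul_of_nonneg_right h5 (by positivity : (0 : ℚ) ≤ u ^ 2)
  have h7 := mul_le_mul_of_nonneg_left h3 (by linarith : (0 : ℚ) ≤ u - 1)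
  nlinarith

open Cfsg.Agent.Char in
theorem card_commutator_le {H : Type*} [Group H] [Finite H] {u : ℕ} (hu2 : 0 < u)
    (hu : ∀ r : ℕ, r.Prime → r ∣ Nat.card H → u ≤ r)
    (h : Nat.card H < u * Nat.card (ConjClasses H)) : Nat.card (commutator H) ≤ u := by
  classical
  by_contra h1
  have h2 := index_add_sum_nonlinear (G := H)
  have h3 : (Finset.univ.filter fun χ : IrrCharacter H => χ.1 1 ≠ 1).card * u ^ 2 ≤
      ∑ χ : IrrCharacter H with χ.1 1 ≠ 1, charDegree χ.1 ^ 2 := by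
    rw [← smul_eq_mul]
    refine Finset.card_nsmul_le_sum _ _ _ fun χ hχ => Nat.pow_le_pow_left ?_ 2
    have h4 := χ.2.isCharacter.cast_charDegree
    refine le_of_dvd_ne Nat.card_pos.ne' (IsIrrCharacter.degree_dvd_card χ.2 h4.symm) (fun h5 => ?_) hu
    rw [h5] at h4
    exact (Finset.mem_filter.1 hχ).2 (by simpa using h4.symm)
  have h4 : (commutator H).index + (Finset.univ.filter fun χ : IrrCharacter H => χ.1 1 ≠ 1).card =
      Nat.card (ConjClasses H) := by
    rw [← card_irr_eq_card_conjClasses, ← card_linear, Nat.card_eq_fintype_card, Fintype.card_subtype,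
      Nat.card_eq_fintype_card]
    exact Finset.card_filter_add_card_filter_not _
  have h5 := (commutator H).card_mul_index
  rw [← h4] at h
  generalize (Finset.univ.filter fun χ : IrrCharacter H => χ.1 1 ≠ 1).card = b at *
  generalize (∑ χ : IrrCharacter H with χ.1 1 ≠ 1, charDegree χ.1 ^ 2) = c at *
  generalize (commutator H).index = a at *
  generalize Nat.card (commutator H) = n at *
  generalize Nat.card H = m at *
  have h6 : (u + 1) * a ≤ m := by rw [← h5]; exact Nat.mul_le_mul_right _ (by omega)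
  have h7 : u * (u - 1) * ((u + 1) * a) ≤ u * (u - 1) * m := Nat.mul_le_mul_left _ h6
  obtain ⟨v, rfl⟩ : ∃ v, u = v + 1 := ⟨u - 1, by omega⟩
  simp only [Nat.add_sub_cancel] at h7
  have h8 : (v + 1) * (m + 1) ≤ (v + 1) * ((v + 1) * (a + b)) := Nat.mul_le_mul_left _ h
  have h9 : v * ((v + 1 + 1) * a) ≤ v * m := Nat.mul_le_mul_left _ h6
  nlinarith

end Cfsg.Agent.Kc
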