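import Cfsg.Agent.Lib.Fusion.Kc2
import Cfsg.Agent.Lib.Solv.SZ
import Cfsg.Agent.Lib.Solv.Cores
import Cfsg.Agent.Lib.Solv.PCyc
import Cfsg.Agent.S0581
import Cfsg.Agent.S0079

/-!
Class numbers of `p`-elements without a normal `p`-complement; nilpotent Hall subgroups of subgroups.
-/

set_option autoImplicit false
set_option linter.unusedSectionVars false
set_option linter.unusedVariables false
set_option linter.style.haveILetI false
set_option linter.unusedSimpArgs false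

namespace Cfsg.Agent.Kc

open Subgroup Cfsg.Agent.Solv Cfsg.Agent.Transfer

variable {G : Type*} [Group G] [Finite G]

theorem cl_outside {p : ℕ} [hp : Fact p.Prime] {P Q : Subgroup G} (hP : IsPGroup p P) (hQ : Q ≤ P)
    (hc : P ⊓ centralizer (Q : Set G) ≤ Q) :
    (cl ⊤ (P : Set G) : ℚ) ≤ cl ⊤ (Q : Set G) + (Nat.card P - Nat.card Q) / p := by
  set T : Set G := {x | x ∈ P ∧ ∀ y ∈ Q, ¬ R ⊤ x y} with hT
  have h1 : cl ⊤ (P : Set G) ≤ cl ⊤ (Q : Set G) + cl ⊤ T := cl_le_add fun x hx => by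
    by_cases h : ∃ y ∈ Q, R ⊤ x y
    · exact Or.inl h
    · push Not at h
      exact Or.inr ⟨x, ⟨hx, h⟩, R.refl _ _⟩
  have h2 : p * cl ⊤ T ≤ T.ncard := by
    refine mul_cl_le' (E := P) le_top (fun e he x hx => ⟨P.mul_mem (P.mul_mem he hx.1) (P.inv_mem he),
      fun y hy h => hx.2 y hy (R.trans ⟨e, trivial, rfl⟩ h)⟩) fun x hx =>
        le_relIndex (fun h => hx.2 x (hc (mem_inf.2 ⟨hx.1, fun y hy => ?_⟩)) (R.refl _ _)) (prime_pgroup hP)
    exact mem_centralizer_singleton_iff.1 (h (hQ hy))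
  have h3 : T.ncard ≤ ((P : Set G) \ Q).ncard :=
    Set.ncard_le_ncard (fun x hx => ⟨hx.1, fun h => hx.2 x h (R.refl _ _)⟩) (Set.toFinite _)
  have h4 : (cl ⊤ T : ℚ) ≤ (Nat.card P - Nat.card Q) / p := by
    rw [le_div_iff₀ (by exact_mod_cast hp.out.pos), ← ncard_diff hQ, mul_comm]
    exact_mod_cast h2.trans h3
  have h5 : (cl ⊤ (P : Set G) : ℚ) ≤ cl ⊤ (Q : Set G) + cl ⊤ T := by exact_mod_cast h1
  linarith

theorem exists_act {p : ℕ} [hp : Fact p.Prime] {P : Subgroup G} (hP : IsSyl p P ⊤)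
    (h : ¬ HasNormalPComplement p G) : ∃ Q E : Subgroup G, Q ≤ P ∧ P ⊓ centralizer (Q : Set G) ≤ Q ∧
      E ≤ normalizer (Q : Set G) ∧ ¬ E ≤ centralizer (Q : Set G) ∧ ¬ p ∣ Nat.card E := by
  obtain ⟨S, rfl⟩ := hP.exists_sylow
  by_contra h1
  refine h (hasNPC_of_res_normalizer_le' S fun B h2 _ h3 => res_le_iff.2 fun g hg hc => ?_)
  by_contra h4
  refine h1 ⟨B, zpowers g, h2, h3, zpowers_le.2 hg, fun h5 => h4 (h5 (mem_zpowers g)), ?_⟩
  rw [Nat.card_zpowers]
  exact (Nat.Prime.coprime_iff_not_dvd hp.out).1 hc.symm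

theorem cl_syl {p : ℕ} [hp : Fact p.Prime] {P : Subgroup G} (hP : IsSyl p P ⊤)
    (h : ¬ HasNormalPComplement p G) : (cl ⊤ (P : Set G) : ℚ) * (2 * p) ≤ (p + 1) * Nat.card P := by
  obtain ⟨Q, E, h1, h2, h3, h4, h5⟩ := exists_act hP h
  have h6 := cl_outside hP.pgroup h1 h2
  have h7 := (cl_act (D := ⊤) le_top h3 two_pos fun r hr _ => hr.two_le).1
  have h8 : Q ⊓ centralizer (E : Set G) ≠ Q := fun h9 => h4 (le_centralizer_iff.1 (inf_eq_left.1 h9))
  have h9 : (p : ℚ) * Nat.card (Q ⊓ centralizer (E : Set G) : Subgroup G) ≤ Nat.card Q := by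
    exact_mod_cast mul_card_le_of_lt inf_le_left h8 (prime_pgroup (hP.pgroup.to_le h1))
  have h10 : (Nat.card Q : ℚ) ≤ Nat.card P := by exact_mod_cast card_le_of_le h1
  have h11 : (2 : ℚ) ≤ p := by exact_mod_cast hp.out.two_le
  have h12 : ((Nat.card P : ℚ) - Nat.card Q) / p * (2 * p) = 2 * (Nat.card P - Nat.card Q) := by
    field_simp
  have h13 := mul_le_mul_of_nonneg_right (h6.trans (add_le_add_left h7 _)) (by linarith : (0 : ℚ) ≤ 2 * p)
  rw [add_mul, h12] at h13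
  push_cast at h13
  nlinarith

theorem cl_syl_two {P : Subgroup G} (hP : IsSyl 2 P ⊤)
    (h : ¬ HasNormalPComplement 2 G) : (cl ⊤ (P : Set G) : ℚ) * 2 ≤ Nat.card P := by
  obtain ⟨Q, E, h1, h2, h3, h4, h5⟩ := exists_act hP h
  have h6 := cl_outside hP.pgroup h1 h2
  have hr : ∀ r : ℕ, r.Prime → r ∣ Nat.card E → 2 < r := fun r hr h7 =>
    lt_of_le_of_ne hr.two_le fun h8 => h5 (h8 ▸ h7)
  have h7 := (cl_act (D := ⊤) (n := 3) le_top h3 (by norm_num) hr).1
  set F := Q ⊓ centralizer (E : Set G) with hF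
  have hQ := hP.pgroup.to_le h1
  have h8 : F ≠ Q := fun h9 => h4 (le_centralizer_iff.1 (inf_eq_left.1 h9))
  have h9 : 2 * (2 * Nat.card F) ≤ Nat.card Q := by
    refine mul_le_of_dvd Nat.card_pos.ne' ?_ (fun h9 => h4 (cent_of_index hQ inf_le_left h9.symm h3
      (le_centralizer_iff.1 inf_le_right) hr)) (prime_pgroup hQ)
    obtain ⟨a, ha⟩ := hQ.exists_card_eq
    obtain ⟨b, hb⟩ := (hQ.to_le (inf_le_left : F ≤ Q)).exists_card_eq
    have h10 := Transfer.card_lt_of_lt (lt_of_le_of_ne (inf_le_left : F ≤ Q) h8)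
    rw [ha, hb] at h10 ⊢
    rw [← pow_succ']
    exact pow_dvd_pow _ ((Nat.pow_lt_pow_iff_right (by norm_num)).1 h10)
  have h10 : (2 : ℚ) * (2 * Nat.card F) ≤ Nat.card Q := by exact_mod_cast h9
  push_cast at h6 h7
  linarith

/-- `H` is a Hall `s`-subgroup of `D` -/
structure IsH (s : Finset ℕ) (H D : Subgroup G) : Prop where
  le : H ≤ D
  card : Nat.card H = pt s (Nat.card D)

section
variable {s : Finset ℕ} (hs : ∀ r ∈ s, r.Prime)
include hs

theorem IsH.mem {H D : Subgroup G} (h : IsH s H D) {r : ℕ} (hr : r.Prime) (h1 : r ∣ Nat.card H) : r ∈ s :=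
  mem_of_dvd_pt hs hr (h.card ▸ h1)

theorem IsH.not_dvd {H D : Subgroup G} (h : IsH s H D) {r : ℕ} (hr : r ∈ s) : ¬ r ∣ H.relIndex D :=
  not_dvd_of_pt hs Nat.card_pos.ne' (by rw [← h.card]; exact Transfer.card_mul_relIndex h.le) hr

theorem IsH.coprime {H D : Subgroup G} (h : IsH s H D) : (Nat.card H).Coprime (H.relIndex D) :=
  Nat.coprime_of_dvd fun r hr h1 => h.not_dvd hs (h.mem hs hr h1)

theorem IsH.mono {H D E : Subgroup G} (h : IsH s H D) (h1 : H ≤ E) (h2 : E ≤ D) : IsH s H E :=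
  ⟨h1, Nat.dvd_antisymm (dvd_pt hs Nat.card_pos.ne' (card_dvd_of_le h1) fun r hr => h.mem hs hr)
    (h.card ▸ pt_mono hs Nat.card_pos.ne' (card_dvd_of_le h2))⟩

open scoped Pointwise in
theorem IsH.exists_le_cj {H D K : Subgroup G} (h : IsH s H D) (hn : Group.IsNilpotent H) (hK : K ≤ D)
    (hr : ∀ r : ℕ, r.Prime → r ∣ Nat.card K → r ∈ s) : ∃ d ∈ D, K ≤ cj d H := by
  have e := subgroupOfEquivOfLe h.le
  have e' := subgroupOfEquivOfLe hK
  obtain ⟨x, hx⟩ := S0581.result (H.subgroupOf D) (K.subgroupOf D)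
    (nilpotent_of_mulEquiv e.symm) (by rw [Nat.card_congr e.toEquiv]; exact h.coprime hs) fun r hr' h1 => by
      rw [Nat.card_congr e'.toEquiv] at h1
      rw [Nat.card_congr e.toEquiv, h.card]
      exact dvd_pt hs Nat.card_pos.ne' (h1.trans (card_dvd_of_le hK)) fun q hq h2 =>
        hr q hq (h2.trans h1)
  refine ⟨x, x.2, fun k hk => mem_cj.2 ?_⟩
  have := hx (show (⟨k, hK hk⟩ : D) ∈ K.subgroupOf D from hk)
  rw [← cj_eq_smul, mem_cj] at this
  exact this

theorem IsH.exists_eq_cj {H D K : Subgroup G} (h : IsH s H D) (hn : Group.IsNilpotent H) (hK : K ≤ D)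
    (hc : Nat.card K = Nat.card H) : ∃ d ∈ D, K = cj d H := by
  obtain ⟨d, hd, h1⟩ := h.exists_le_cj hs hn hK fun r hr h1 => h.mem hs hr (hc ▸ h1)
  exact ⟨d, hd, eq_of_le_of_card_ge h1 (by rw [card_cj, hc])⟩

theorem IsH.kp_le {H D : Subgroup G} (h : IsH s H D) (hn : Group.IsNilpotent H) :
    ∀ x ∈ D, PiE s x → ∃ y ∈ H, R D x y := by
  intro x hx h1
  obtain ⟨d, hd, h2⟩ := h.exists_le_cj hs hn (zpowers_le.2 hx) fun r hr h2 =>
    h1 r hr (by rwa [Nat.card_zpowers] at h2)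
  exact ⟨_, mem_cj.1 (h2 (mem_zpowers x)), d⁻¹, inv_mem hd, by simp⟩

theorem IsH.frattini {H D K : Subgroup G} (h : IsH s H D) (hn : Group.IsNilpotent H) (hK : K ≤ D)
    (hD : D ≤ normalizer (K : Set G)) (hHK : H ≤ K) {p : ℕ} [hp : Fact p.Prime] (hpK : ¬ p ∣ Nat.card K) :
    ∃ P, IsSyl p P D ∧ P ≤ normalizer (H : Set G) := by
  set M := D ⊓ normalizer (H : Set G) with hM
  have h1 : M ⊔ K = D := by
    refine le_antisymm (sup_le inf_le_left hK) fun d hd => ?_
    obtain ⟨k, hk, h2⟩ := (h.mono hs hHK hK).exists_eq_cj hs hn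
      ((cj_mono d hHK).trans (cj_eq_of_mem_normalizer (hD hd)).le) (card_cj d H)
    have h3 : k⁻¹ * d ∈ M := mem_inf.2 ⟨mul_mem (inv_mem (hK hk)) hd, by
      rw [mem_normalizer_iff_cj, ← cj_cj, h2, cj_inv_cj]⟩
    have := mul_mem (mem_sup_right (S := M) hk) (mem_sup_left (T := K) h3)
    simpa using this
  obtain ⟨P, hP⟩ := exists_isSyl p M
  refine ⟨P, hP.trans inf_le_left fun h2 => hpK ?_, hP.le.trans inf_le_right⟩
  have h3 := Transfer.card_sup_mul_card_inf (H := M) (N := K) (inf_le_left.trans hD)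
  rw [h1, ← Transfer.card_mul_relIndex (inf_le_left : M ≤ D), mul_assoc] at h3
  rw [← Nat.eq_of_mul_eq_mul_left Nat.card_pos h3]
  exact h2.mul_right _

theorem nil_of_comm {H : Subgroup G} (h : H ≤ centralizer (H : Set G)) : Group.IsNilpotent H := by
  haveI : IsMulCommutative H := le_centralizer_iff_isMulCommutative.1 h
  open scoped IsMulCommutative in exact CommGroup.isNilpotent

theorem IsH.dich {H D : Subgroup G} (h : IsH s H D) (hc : H ≤ centralizer (H : Set G)) :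
    (∃ n ∈ D, n ∈ normalizer (H : Set G) ∧ n ∉ centralizer (H : Set G)) ∨
      ∃ K ≤ D, D ≤ normalizer (K : Set G) ∧ K ⊔ H = D ∧ K.relIndex D = Nat.card H := by
  by_cases h1 : ∃ n ∈ D, n ∈ normalizer (H : Set G) ∧ n ∉ centralizer (H : Set G)
  · exact Or.inl h1
  push Not at h1
  right
  have hn := nil_of_comm hs hc
  have e := subgroupOfEquivOfLe h.le
  obtain ⟨N, hN, hN2⟩ := (S0079.result (H.subgroupOf D) (nilpotent_of_mulEquiv e.symm)
    (by rw [Nat.card_congr e.toEquiv]; exact h.coprime hs)).2 fun (x : D) hx (y : D) hy ⟨d, hd⟩ => by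
      refine ⟨1, one_mem _, Subtype.ext ?_⟩
      have hd' : (d : G) * x * (d : G)⁻¹ = y := congrArg Subtype.val hd
      have h2 : H ≤ D ⊓ (centralizer ({(y : G)} : Set G) : Subgroup G) :=
        le_inf h.le (hc.trans (centralizer_le (Set.singleton_subset_iff.2 hy)))
      have h3 : cj (d : G) H ≤ D ⊓ (centralizer ({(y : G)} : Set G) : Subgroup G) := by
        refine le_inf ((cj_mono _ h.le).trans (cj_eq_of_mem d.2).le) ?_
        rw [← hd', ← cj_centralizer_singleton]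
        exact cj_mono _ (hc.trans (centralizer_le (Set.singleton_subset_iff.2 hx)))
      obtain ⟨k, hk, h4⟩ := (h.mono hs h2 inf_le_left).exists_eq_cj hs hn h3 (card_cj _ H)
      have h5 := h1 (k⁻¹ * d) (mul_mem (inv_mem hk.1) d.2) (by
        rw [mem_normalizer_iff_cj, ← cj_cj, h4, cj_inv_cj]) x hx
      have h6 := mem_centralizer_singleton_iff.1 hk.2
      have h7 : k⁻¹ * y * k = x := by
        rw [← hd']
        calc k⁻¹ * (d * x * (d : G)⁻¹) * k = (k⁻¹ * d * x) * (k⁻¹ * d)⁻¹ := by group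
          _ = x := by rw [← h5]; group
      simp only [one_mul, inv_one, mul_one]
      rw [← h7, mul_assoc, ← h6]
      group
  refine ⟨N.map D.subtype, map_subtype_le N, ?_, ?_, ?_⟩
  · rw [← normal_subgroupOf_iff_le_normalizer (map_subtype_le N)]
    rwa [subgroupOf, comap_map_eq_self_of_injective D.subtype_injective]
  · have := congrArg (Subgroup.map D.subtype) hN2.sup_eq_top
    rwa [Subgroup.map_sup, subgroupOf_map_subtype, inf_of_le_left h.le,
      ← MonoidHom.range_eq_map, range_subtype] at this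
  · rw [relIndex, subgroupOf, comap_map_eq_self_of_injective D.subtype_injective, hN2.symm.index_eq_card,
      Nat.card_congr e.toEquiv]

end

end Cfsg.Agent.Kc
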