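import Cfsg.Agent.Lib.Fusion.Kc3

/-!
Many classes of `π`-elements force a nilpotent Hall `π`-subgroup.
-/

set_option autoImplicit false
set_option linter.unusedSectionVars false
set_option linter.unusedVariables false
set_option linter.style.haveILetI false
set_option linter.unusedSimpArgs false

namespace Cfsg.Agent.Kc

open Subgroup Cfsg.Agent.Solv Cfsg.Agent.Transfer

universe u

variable {G : Type u} [Group G] [Finite G]

theorem kp_single_le {p : ℕ} [hp : Fact p.Prime] {P D : Subgroup G} (hP : IsSyl p P D) :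
    kp {p} D ≤ Nat.card P := by
  have := kp_le_pt (s := {p}) (by simpa using hp.out) D
  rw [card_syl hP]
  simpa [pt] using this

theorem syl_conj {p : ℕ} [hp : Fact p.Prime] {P D : Subgroup G} (hP : IsSyl p P D) {x : G} (hx : x ∈ D)
    (h : PiE {p} x) : ∃ y ∈ P, R D x y := by
  obtain ⟨k, hk⟩ := (piE_singleton hp.out).1 h
  obtain ⟨d, hd, h1⟩ := hP.exists_cj_le (Q := zpowers x) (IsPGroup.of_card (by rw [Nat.card_zpowers, hk]))
    (zpowers_le.2 hx)
  exact ⟨_, h1 (conj_mem_cj (mem_zpowers x)), d, hd, rfl⟩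

theorem piE_of_mem {p : ℕ} [hp : Fact p.Prime] {P : Subgroup G} (hP : IsPGroup p P) {x : G} (hx : x ∈ P) :
    PiE {p} x := by
  obtain ⟨k, hk⟩ := hP ⟨x, hx⟩
  exact (piE_singleton' hp.out).2 ⟨k, congrArg Subtype.val hk⟩

theorem kp_single_eq {p : ℕ} [hp : Fact p.Prime] {P D : Subgroup G} (hP : IsSyl p P D) :
    kp {p} D = cl D (P : Set G) :=
  le_antisymm (cl_le_of fun x hx => syl_conj hP hx.1 hx.2)
    (cl_mono fun x hx => ⟨hP.le hx, piE_of_mem hP.pgroup hx⟩)

section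
variable {σ : Finset ℕ} (hs : ∀ r ∈ σ, r.Prime) {p : ℕ} [hp : Fact p.Prime] {π : Set ℕ}
  (hπ : ∀ q ∈ π, q ≠ p → q ∈ σ)
include hs hπ

theorem kp_le1 {P : Subgroup G} (hP : IsSyl p P ⊤) : kp π (⊤ : Subgroup G) ≤ kp σ (⊤ : Subgroup G) * Nat.card P := by
  have := kp_split (D := (⊤ : Subgroup G)) (π := π) (ρ := σ) (σ := {p})
    (fun q hq h => by by_contra h1; exact h (hπ q hq h1)) {x | x ∈ (⊤ : Subgroup G) ∧ PiE σ x} ∅
    (Nat.card P) 0 (fun x hx h _ => Or.inl ⟨x, ⟨hx, h⟩, R.refl _ _⟩) (fun x _ => by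
      obtain ⟨Q, hQ⟩ := exists_isSyl p (⊤ ⊓ centralizer ({x} : Set G))
      exact_mod_cast (kp_single_le hQ).trans (hP.card_le hQ.pgroup le_top)) (by simp)
  rw [mul_zero, add_zero] at this
  exact_mod_cast this

theorem kp_cent_le (D : Subgroup G) : (kp σ D : ℚ) ≤ pt σ (Nat.card G) := by
  exact_mod_cast (kp_le_pt hs D).trans (Nat.le_of_dvd (Nat.pos_of_ne_zero (pt_ne hs _))
    (pt_mono hs Nat.card_pos.ne' (card_subgroup_dvd_card D)))

theorem kp_le2 {P : Subgroup G} (hP : IsSyl p P ⊤) :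
    (kp π (⊤ : Subgroup G) : ℚ) ≤ cl ⊤ (P : Set G) * pt σ (Nat.card G) := by
  have := kp_split (D := (⊤ : Subgroup G)) (π := π) (ρ := {p}) (σ := σ) hπ P ∅
    (pt σ (Nat.card G)) 0 (fun x hx h _ => Or.inl (syl_conj hP hx h)) (fun x _ => kp_cent_le hs hπ _) (by simp)
  rwa [mul_zero, add_zero] at this

theorem step_npc (hσ : ∀ r ∈ σ, p < r) {H : Subgroup G} (hH : IsH σ H ⊤) (hc : H ≤ centralizer (H : Set G))
    (hN : HasNormalPComplement p G)
    (hk : p ^ (Nat.card G).factorization p * pt σ (Nat.card G) < p * kp π (⊤ : Subgroup G)) :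
    ∃ P, IsSyl p P ⊤ ∧ P ≤ centralizer (H : Set G) := by
  have hn := nil_of_comm hs hc
  have hK := hasNPC_iff_not_dvd.1 hN
  have hHK : H ≤ pResidual p G := fun x hx => mem_pResidual_of_coprime (by
    refine (Nat.coprime_comm.1 ((Nat.Prime.coprime_iff_not_dvd hp.out).2 fun h => ?_))
    exact (hσ p (hH.mem hs hp.out (h.trans (H.orderOf_dvd_natCard hx)))).false)
  have hF : ∀ D : Subgroup G, H ≤ D → ∃ P, IsSyl p P D ∧ P ≤ normalizer (H : Set G) := fun D hD =>
    (hH.mono hs hD le_top).frattini hs hn (K := D ⊓ pResidual p G) inf_le_left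
      (fun d hd => mem_normalizer_inf (le_normalizer hd) (by rw [normalizer_eq_top]; trivial))
      (le_inf hD hHK) fun h => hK (h.trans (card_dvd_of_le inf_le_right))
  obtain ⟨P, hP, hPN⟩ := hF ⊤ le_top
  refine ⟨P, hP, ?_⟩
  by_contra h1
  set F := H ⊓ centralizer (P : Set G) with hF'
  have h2 : F ≠ H := fun h => h1 (le_centralizer_iff.1 (inf_eq_left.1 h))
  have h3 : ((p + 1 : ℕ) : ℚ) * Nat.card F ≤ Nat.card H := by
    exact_mod_cast mul_card_le_of_lt inf_le_left h2 fun r hr h => hσ r (hH.mem hs hr h)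
  have h4 := (cl_act (D := ⊤) le_top hPN hp.out.pos (prime_pgroup hP.pgroup)).2
  have hp0 : (0 : ℚ) < p := by exact_mod_cast hp.out.pos
  have h5 := kp_split (D := (⊤ : Subgroup G)) (π := π) (ρ := σ) (σ := {p})
    (fun q hq h => by by_contra h1; exact h (hπ q hq h1)) F {y | y ∈ H ∧ ∀ z ∈ F, ¬ R ⊤ y z}
    (Nat.card P) (Nat.card P / p) (fun x hx h _ => by
      obtain ⟨y, hy, h6⟩ := hH.kp_le hs hn x hx h
      by_cases h7 : ∃ z ∈ F, R ⊤ y z
      · obtain ⟨z, hz, h8⟩ := h7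
        exact Or.inl ⟨z, hz, h6.trans h8⟩
      · push Not at h7
        exact Or.inr ⟨y, ⟨hy, h7⟩, h6⟩) (fun x _ => by
      obtain ⟨Q, hQ⟩ := exists_isSyl p (⊤ ⊓ centralizer ({x} : Set G))
      exact_mod_cast (kp_single_le hQ).trans (hP.card_le hQ.pgroup le_top)) (fun y hy => by
      obtain ⟨Q, hQ, hQN⟩ := hF (⊤ ⊓ centralizer ({y} : Set G))
        (le_inf le_top (hc.trans (centralizer_le (Set.singleton_subset_iff.2 hy.1))))
      have h6 : Nat.card Q ≠ Nat.card P := fun h7 => by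
        obtain ⟨n, hn', h8⟩ := (hP.mono hPN le_top).exists_cj_le hQ.pgroup hQN
        have h9 : cj n Q = P := eq_of_le_of_card_ge h8 (by rw [card_cj, h7])
        refine hy.2 _ (mem_inf.2 ⟨Transfer.conj_mem_of_mem_normalizer hn' hy.1, ?_⟩) ⟨n, trivial, rfl⟩
        rw [← h9, ← cj_centralizer]
        exact conj_mem_cj fun z hz => mem_centralizer_singleton_iff.1 (hQ.le hz).2
      have h7 := mul_le_of_dvd Nat.card_pos.ne' (hP.card_dvd hQ.pgroup le_top) h6 (prime_pgroup hP.pgroup)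
      rw [le_div_iff₀ hp0, mul_comm]
      exact_mod_cast (Nat.mul_le_mul_left _ (kp_single_le hQ)).trans h7)
  have h6 : (cl ⊤ {y | y ∈ H ∧ ∀ z ∈ F, ¬ R ⊤ y z} : ℚ) ≤ cl ⊤ ((H : Set G) \ F) := by
    exact Nat.cast_le.2 (cl_mono fun y hy => ⟨hy.1, fun h => hy.2 y h (R.refl _ _)⟩)
  have h7 : (cl ⊤ (F : Set G) : ℚ) ≤ Nat.card F := by exact_mod_cast cl_le_card _ _
  rw [← card_top, ← card_syl hP, ← hH.card] at hk
  have h8 : (Nat.card P : ℚ) * Nat.card H < p * kp π (⊤ : Subgroup G) := by exact_mod_cast hk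
  have hP0 : (0 : ℚ) < Nat.card P := by exact_mod_cast Nat.card_pos
  have h9 := h5.trans (add_le_add (mul_le_mul_of_nonneg_right h7 hP0.le)
    (mul_le_mul_of_nonneg_right (h6.trans h4) (by positivity)))
  have h10 := h8.trans_le (mul_le_mul_of_nonneg_left h9 hp0.le)
  have h11 : (p : ℚ) * (Nat.card F * Nat.card P + (Nat.card H - Nat.card F) / p * (Nat.card P / p)) =
      Nat.card P * ((p ^ 2 * Nat.card F + (Nat.card H - Nat.card F)) / p) := by field_simp
  rw [h11, mul_lt_mul_iff_right₀ hP0, lt_div_iff₀ hp0] at h10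
  have h12 : (1 : ℚ) ≤ p := by exact_mod_cast hp.out.pos
  push_cast at h3
  nlinarith [mul_le_mul_of_nonneg_left h3 (by linarith : (0 : ℚ) ≤ p - 1)]

theorem compl_case (hσ : ∀ r ∈ σ, p < r) {H P P0 D K : Subgroup G} (hH : IsH σ H ⊤)
    (hc : H ≤ centralizer (H : Set G)) (hP : IsSyl p P ⊤) (h0 : P0 ≤ P) (h1 : Nat.card P = p * Nat.card P0)
    (h2 : P ≤ centralizer (P0 : Set G)) (h3 : H ≤ centralizer (P0 : Set G))
    (hD : centralizer (P0 : Set G) ≤ D) (hK : K ≤ D) (hDK : D ≤ normalizer (K : Set G)) (h4 : K ⊔ H = D)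
    (h5 : K.relIndex D = Nat.card H) : ∃ P, IsSyl p P ⊤ ∧ P ≤ centralizer (H : Set G) := by
  have hn := nil_of_comm hs hc
  have hpH : ¬ p ∣ Nat.card H := fun h => (hσ p (hH.mem hs hp.out h)).false
  have hPK : P ≤ K := by
    obtain ⟨P', hP'⟩ := exists_isSyl p K
    obtain ⟨d, hd, h6⟩ := (hP'.trans hK (h5 ▸ hpH)).exists_cj_le hP.pgroup (h2.trans hD)
    rw [cj_le_iff_le_cj_inv] at h6
    exact h6.trans ((cj_mono _ hP'.le).trans (cj_eq_of_mem_normalizer (hDK (inv_mem hd))).le)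
  set E := centralizer (P0 : Set G) with hE
  set N := E ⊓ normalizer (P : Set G) with hN
  have hND : N ≤ D := inf_le_left.trans hD
  have h6 : N ⊔ K = D := by
    refine le_antisymm (sup_le hND hK) (h4 ▸ sup_le le_sup_right fun x hx => ?_)
    obtain ⟨n, hn', k, hk, h7⟩ := (hP.mono (le_inf hPK h2) le_top).frattini' (g := x)
      (mem_normalizer_inf (hDK (hD (h3 hx))) (le_normalizer (h3 hx)))
    have h8 : n ∈ E := by
      have := E.mul_mem (h3 hx) (E.inv_mem hk.2)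
      rwa [h7, mul_inv_cancel_right] at this
    rw [h7]
    exact mul_mem (mem_sup_left (mem_inf.2 ⟨h8, hn'⟩)) (mem_sup_right hk.1)
  have h7 : (N ⊓ K).relIndex N = Nat.card H := by
    rw [inf_relIndex_left, ← Transfer.relIndex_sup_of_le_normalizer (hND.trans hDK), h6, h5]
  have h8 : (Nat.card K).Coprime (Nat.card H) := by
    have h9 := (hH.mono hs (h3.trans hD) le_top)
    have h10 : Nat.card K = H.relIndex D := by
      have h11 := Transfer.card_mul_relIndex hK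
      rw [h5, ← Transfer.card_mul_relIndex h9.le, mul_comm] at h11
      exact Nat.eq_of_mul_eq_mul_left Nat.card_pos h11
    rw [h10]
    exact (h9.coprime hs).symm
  obtain ⟨B, hB, -, -, hB2⟩ := sz_exists_internal (K := N ⊓ K) (S := N) inf_le_left
    (fun d hd => mem_normalizer_inf (le_normalizer hd) (hDK (hND hd)))
    (by rw [h7]; exact h8.coprime_dvd_left (card_dvd_of_le inf_le_right))
  rw [h7] at hB2
  have h9 := cent_of_index hP.pgroup h0 h1 (hB.trans inf_le_right) (hB.trans inf_le_left)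
    fun r hr h => hσ r (hH.mem hs hr (hB2 ▸ h))
  obtain ⟨g, -, h10⟩ := hH.exists_eq_cj hs hn (le_top (a := B)) hB2
  refine ⟨cj g⁻¹ P, by simpa using hP.cj g⁻¹, ?_⟩
  rw [← le_cj_iff_cj_inv_le, cj_centralizer, ← h10]
  exact le_centralizer_iff.1 h9

theorem step_odd (hσ : ∀ r ∈ σ, p + 1 < r) {H : Subgroup G} (hH : IsH σ H ⊤)
    (hc : H ≤ centralizer (H : Set G)) (hN : ¬ HasNormalPComplement p G)
    (ih : ∀ D : Subgroup G, pt σ (Nat.card D) < (p + 1) * kp σ D →
      ∃ H', IsH σ H' D ∧ H' ≤ centralizer (H' : Set G))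
    (hk : p ^ (Nat.card G).factorization p * pt σ (Nat.card G) < p * kp π (⊤ : Subgroup G)) :
    ∃ P, IsSyl p P ⊤ ∧ P ≤ centralizer (H : Set G) := by
  have hn := nil_of_comm hs hc
  have hσ' : ∀ r ∈ σ, p < r := fun r hr => by have := hσ r hr; omega
  obtain ⟨P0, hP0⟩ := exists_isSyl p (centralizer (H : Set G))
  obtain ⟨P, hP, h0⟩ := exists_isSyl_ge hP0.pgroup le_top
  by_contra hgoal
  have hne : P0 ≠ P := fun h => hgoal ⟨P, hP, h ▸ hP0.le⟩
  have hh : pt σ (Nat.card G) = Nat.card H := by rw [hH.card, card_top]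
  have hp0 : (0 : ℚ) < p := by exact_mod_cast hp.out.pos
  have hp2 : (2 : ℚ) ≤ p := by exact_mod_cast hp.out.two_le
  set T : Set G := {x | x ∈ P ∧ ∀ y ∈ P0, ¬ R ⊤ y x} with hT
  have hb : ∀ x ∈ T, (kp σ (⊤ ⊓ centralizer ({x} : Set G)) : ℚ) ≤ Nat.card H / (p + 1) := by
    intro x hx
    set D := ⊤ ⊓ centralizer ({x} : Set G) with hD
    rw [le_div_iff₀ (by linarith), mul_comm]
    suffices (p + 1) * kp σ D ≤ Nat.card H by exact_mod_cast this
    by_cases h1 : pt σ (Nat.card D) = Nat.card H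
    · by_contra h2
      obtain ⟨H', h3, h4⟩ := ih D (by omega)
      obtain ⟨g, -, h5⟩ := hH.exists_eq_cj hs hn (le_top (a := H')) (by rw [h3.card, h1])
      have h6 : g⁻¹ * x * g ∈ centralizer (H : Set G) := by
        rw [← mem_cj, cj_centralizer, ← h5]
        exact fun z hz => mem_centralizer_singleton_iff.1 (h3.le hz).2
      obtain ⟨y, hy, h7⟩ := syl_conj hP0 h6 (by simpa using (piE_of_mem hP.pgroup hx.1).conj g⁻¹)
      exact hx.2 y hy ((h7.mono le_top).symm.trans ⟨g, trivial, by group⟩)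
    · refine (Nat.mul_le_mul_left _ (kp_le_pt hs D)).trans (mul_le_of_dvd Nat.card_pos.ne' ?_ h1
        fun r hr h => hσ' r (hH.mem hs hr h))
      rw [← hh]
      exact pt_mono hs Nat.card_pos.ne' (card_subgroup_dvd_card D)
  have hsplit : ∀ a : ℚ, (∀ x ∈ P0, (kp σ (⊤ ⊓ centralizer ({x} : Set G)) : ℚ) ≤ a) →
      (kp π (⊤ : Subgroup G) : ℚ) ≤ cl ⊤ (P0 : Set G) * a + cl ⊤ T * (Nat.card H / (p + 1)) := fun a ha =>
    kp_split (ρ := {p}) hπ _ _ _ _ (fun x hx h _ => by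
      obtain ⟨y, hy, h6⟩ := syl_conj hP hx h
      by_cases h7 : ∃ z ∈ P0, R ⊤ z y
      · obtain ⟨z, hz, h8⟩ := h7
        exact Or.inl ⟨z, hz, h6.trans h8.symm⟩
      · push Not at h7
        exact Or.inr ⟨y, ⟨hy, h7⟩, h6⟩) ha hb
  have hadd : (cl ⊤ (P0 : Set G) : ℚ) + cl ⊤ T ≤ cl ⊤ (P : Set G) := by
    rw [← Nat.cast_add]
    exact Nat.cast_le.2 (cl_add_le h0 (fun x hx => hx.1) fun x hx y hy h => hy.2 x hx h.symm)
  have hα := cl_syl hP hN
  have hβ : (cl ⊤ (P0 : Set G) : ℚ) ≤ Nat.card P0 := by exact_mod_cast cl_le_card _ _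
  rw [← card_top, ← card_syl hP, ← hH.card] at hk
  have h8 : (Nat.card P : ℚ) * Nat.card H < p * kp π (⊤ : Subgroup G) := by exact_mod_cast hk
  have hH0 : (0 : ℚ) < Nat.card H := by exact_mod_cast Nat.card_pos
  have hP00 : (0 : ℚ) < Nat.card P0 := by exact_mod_cast Nat.card_pos
  have key : ∀ e : ℚ, (∀ x ∈ P0, (kp σ (⊤ ⊓ centralizer ({x} : Set G)) : ℚ) ≤ Nat.card H * e) →
      (Nat.card P : ℚ) * (p + 1) < p * (cl ⊤ (P0 : Set G) * e * (p + 1) + cl ⊤ T) := fun e he => by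
    have h1 := h8.trans_le (mul_le_mul_of_nonneg_left (hsplit _ he) hp0.le)
    have h2 : (p : ℚ) * (cl ⊤ (P0 : Set G) * (Nat.card H * e) + cl ⊤ T * (Nat.card H / (p + 1))) =
        p * (cl ⊤ (P0 : Set G) * e * (p + 1) + cl ⊤ T) / (p + 1) * Nat.card H := by field_simp
    rwa [h2, mul_lt_mul_iff_left₀ hH0, lt_div_iff₀ (by linarith)] at h1
  have key1 := key 1 fun x _ => by rw [mul_one, ← hh]; exact kp_cent_le hs hπ _
  have hdvd : p * Nat.card P0 ∣ Nat.card P := by
    obtain ⟨a, ha⟩ := hP.pgroup.exists_card_eq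
    obtain ⟨b, hb⟩ := hP0.pgroup.exists_card_eq
    have h10 := Transfer.card_lt_of_lt (lt_of_le_of_ne h0 hne)
    rw [ha, hb] at h10 ⊢
    rw [← pow_succ']
    exact pow_dvd_pow _ ((Nat.pow_lt_pow_iff_right hp.out.one_lt).1 h10)
  generalize cl ⊤ T = t at *
  by_cases h1 : p * Nat.card P0 = Nat.card P
  swap
  · have h2 : (p : ℚ) * (p * Nat.card P0) ≤ Nat.card P := by
      exact_mod_cast mul_le_of_dvd Nat.card_pos.ne' hdvd h1 (prime_pgroup hP.pgroup)
    have h3 : (cl ⊤ (P : Set G) : ℚ) ≤ Nat.card P := by exact_mod_cast cl_le_card _ _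
    have h4 := mul_le_mul_of_nonneg_left hβ (by positivity : (0 : ℚ) ≤ p * p)
    have h5 := mul_le_mul_of_nonneg_left (hadd.trans h3) hp0.le
    nlinarith
  have h1' : (p : ℚ) * Nat.card P0 = Nat.card P := by exact_mod_cast h1
  have h5 := mul_le_mul_of_nonneg_left hadd (by positivity : (0 : ℚ) ≤ 2 * p)
  by_cases h2 : P ≤ centralizer (P0 : Set G)
  · have h3 := key (1 / 2 + 1 / (2 * (p + 1))) fun x hx => by
      set D := ⊤ ⊓ centralizer ({x} : Set G) with hD
      have hD' : centralizer (P0 : Set G) ≤ D := le_inf le_top (centralizer_le (Set.singleton_subset_iff.2 hx))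
      have h3 := le_centralizer_iff.1 hP0.le
      have hHD := hH.mono hs (h3.trans hD') le_top
      rcases hHD.dich hs hc with ⟨n, hn1, hn2, hn3⟩ | ⟨K, hK1, hK2, hK3, hK4⟩
      · have h4 : (kp σ D : ℚ) ≤ cl D (H : Set G) := by
          exact Nat.cast_le.2 (cl_le_of fun y hy => hHD.kp_le hs hn y hy.1 hy.2)
        have h6 := (cl_act (zpowers_le.2 hn1) (zpowers_le.2 hn2) two_pos fun r hr _ => hr.two_le).1
        have h7 : ((p + 1 : ℕ) : ℚ) * Nat.card (H ⊓ centralizer (zpowers n : Set G) : Subgroup G) ≤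
            Nat.card H := by
          exact_mod_cast mul_card_le_of_lt inf_le_left (fun h => hn3 (le_centralizer_iff.1
            (inf_eq_left.1 h) (mem_zpowers n))) fun r hr h => hσ' r (hH.mem hs hr h)
        have h9 : (Nat.card (H ⊓ centralizer (zpowers n : Set G) : Subgroup G) : ℚ) ≤
            Nat.card H / (p + 1) := by
          rw [le_div_iff₀ (by linarith), mul_comm]
          exact_mod_cast h7
        have h10 : (Nat.card H : ℚ) * (1 / 2 + 1 / (2 * (p + 1))) =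
            Nat.card H / 2 + Nat.card H / (p + 1) / 2 := by field_simp
        rw [Nat.cast_ofNat] at h6
        linarith
      · exact absurd (compl_case hs hπ hσ' hH hc hP h0 h1.symm h2 h3 hD' hK1 hK2 hK3 hK4) hgoal
    have h4 : (cl ⊤ (P0 : Set G) : ℚ) * (1 / 2 + 1 / (2 * (p + 1))) * (p + 1) =
        cl ⊤ (P0 : Set G) * (p + 2) / 2 := by field_simp; ring
    rw [h4] at h3
    have h6 := mul_le_mul_of_nonneg_left hβ (by positivity : (0 : ℚ) ≤ p * p)
    nlinarith
  · have h3 : P ≤ normalizer (P0 : Set G) := le_normalizer_of_relIndex_prime hP.pgroup h0 (by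
      have := Transfer.card_mul_relIndex h0
      rw [← h1, mul_comm p] at this
      exact Nat.eq_of_mul_eq_mul_left Nat.card_pos this)
    have h4 := (cl_act (D := ⊤) le_top h3 hp.out.pos (prime_pgroup hP.pgroup)).1
    have h6 : (p : ℚ) * Nat.card (P0 ⊓ centralizer (P : Set G) : Subgroup G) ≤ Nat.card P0 := by
      exact_mod_cast mul_card_le_of_lt inf_le_left (fun h => h2 (le_centralizer_iff.1 (inf_eq_left.1 h)))
        (prime_pgroup hP0.pgroup)
    generalize (Nat.card (P0 ⊓ centralizer (P : Set G) : Subgroup G) : ℚ) = f at *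
    have h7 : (cl ⊤ (P0 : Set G) : ℚ) * p ≤ f * p + (Nat.card P0 - f) := by
      have := mul_le_mul_of_nonneg_right h4 hp0.le
      rwa [add_mul, div_mul_cancel₀ _ hp0.ne'] at this
    have h9 := mul_le_mul_of_nonneg_left h7 hp0.le
    have h10 := mul_le_mul_of_nonneg_left h6 (by linarith : (0 : ℚ) ≤ p - 1)
    have h11 : (0 : ℚ) ≤ (p - 1) * (p - 2) * Nat.card P0 :=
      mul_nonneg (mul_nonneg (by linarith) (by linarith)) hP00.le
    nlinarith

end

end Cfsg.Agent.Kc
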