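import Cfsg.Agent.Lib.Fusion.Kc4

/-!
The main results on the proportion of classes of `π`-elements.
-/

set_option autoImplicit false
set_option linter.unusedSectionVars false
set_option linter.unusedVariables false
set_option linter.style.haveILetI false
set_option linter.unusedSimpArgs false

namespace Cfsg.Agent.Kc

open Subgroup Cfsg.Agent.Solv Cfsg.Agent.Transfer

universe u

/-- the statement proved by induction on `s` -/
def Main (s : Finset ℕ) : Prop := ∀ (G : Type u) [Group G] [Finite G] (p : ℕ), (∀ r ∈ s, p ≤ r) →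
  pt s (Nat.card G) < p * kp s (⊤ : Subgroup G) → ∃ H : Subgroup G, IsH s H ⊤ ∧ Group.IsNilpotent H

variable {G : Type u} [Group G] [Finite G]

theorem Main.rel {s : Finset ℕ} (h : Main.{u} s) {p : ℕ} (hp : ∀ r ∈ s, p ≤ r) (D : Subgroup G)
    (hk : pt s (Nat.card D) < p * kp s D) : ∃ H, IsH s H D ∧ Group.IsNilpotent H := by
  rw [kp_eq_kPi, ← kp_top] at hk
  obtain ⟨H, h1, h2⟩ := h D p hp hk
  refine ⟨H.map D.subtype, ⟨map_subtype_le H, ?_⟩,
    nilpotent_of_mulEquiv (H.equivMapOfInjective _ D.subtype_injective)⟩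
  rw [card_subtype, h1.card, card_top]

theorem kp_le_cl {s : Finset ℕ} (hs : ∀ r ∈ s, r.Prime) {H D : Subgroup G} (h : IsH s H D)
    (hn : Group.IsNilpotent H) : kp s D ≤ cl D (H : Set G) :=
  cl_le_of fun y hy => h.kp_le hs hn y hy.1 hy.2

theorem Main.ab {s : Finset ℕ} (h : Main.{u} s) (hs : ∀ r ∈ s, r.Prime) {t : ℕ} (ht : ∀ r ∈ s, t < r)
    (D : Subgroup G) (hk : pt s (Nat.card D) < t * kp s D) :
    ∃ H, IsH s H D ∧ H ≤ centralizer (H : Set G) := by
  obtain ⟨H, h1, h2⟩ := h.rel (fun r hr => (ht r hr).le) D hk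
  refine ⟨H, h1, ?_⟩
  by_contra h3
  have h4 := cl_noncomm (u := t + 1) (by omega) (fun r hr h => ht r (h1.mem hs hr h)) h3
  have h5 : (Nat.card H : ℚ) < t * cl H (H : Set G) := by
    rw [h1.card]
    exact_mod_cast hk.trans_le (Nat.mul_le_mul_left _ ((kp_le_cl hs h1 h2).trans (cl_anti h1.le _)))
  push_cast at h4
  have h6 : (0 : ℚ) ≤ t := by positivity
  have h7 : (0 : ℚ) < Nat.card H := by exact_mod_cast Nat.card_pos
  have h8 := mul_lt_mul_of_pos_right h5 (by positivity : (0 : ℚ) < (t + 1) ^ 3)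
  have h9 := mul_le_mul_of_nonneg_left h4 h6
  nlinarith [mul_nonneg h6 h7.le]

theorem npc_two {σ : Finset ℕ} (hs : ∀ r ∈ σ, r.Prime) {π : Set ℕ} (hπ : ∀ q ∈ π, q ≠ 2 → q ∈ σ)
    (hk : 2 ^ (Nat.card G).factorization 2 * pt σ (Nat.card G) < 2 * kp π (⊤ : Subgroup G)) :
    HasNormalPComplement 2 G := by
  by_contra h
  obtain ⟨P, hP⟩ := exists_isSyl 2 (⊤ : Subgroup G)
  have h1 := cl_syl_two hP h
  have h2 := kp_le2 hs hπ hP
  rw [← card_top (G := G), ← card_syl hP, card_top] at hk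
  have h3 : (Nat.card P : ℚ) * pt σ (Nat.card G) < 2 * kp π (⊤ : Subgroup G) := by exact_mod_cast hk
  have h4 : (0 : ℚ) ≤ pt σ (Nat.card G) := by positivity
  nlinarith [mul_le_mul_of_nonneg_right h1 h4]

theorem kp_sigma {σ : Finset ℕ} (hs : ∀ r ∈ σ, r.Prime) {p : ℕ} [Fact p.Prime] {π : Set ℕ}
    (hπ : ∀ q ∈ π, q ≠ p → q ∈ σ) {a b : ℕ}
    (hk : a * (p ^ (Nat.card G).factorization p * pt σ (Nat.card G)) < b * kp π (⊤ : Subgroup G)) :
    a * pt σ (Nat.card (⊤ : Subgroup G)) < b * kp σ (⊤ : Subgroup G) := by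
  obtain ⟨P, hP⟩ := exists_isSyl p (⊤ : Subgroup G)
  have h1 := hk.trans_le (Nat.mul_le_mul_left _ (kp_le1 hs hπ hP))
  rw [card_syl hP, card_top] at h1
  rw [card_top]
  refine Nat.lt_of_mul_lt_mul_right (a := p ^ (Nat.card G).factorization p) ?_
  nlinarith

theorem main (s : Finset ℕ) (hs : ∀ r ∈ s, r.Prime) : Main.{u} s := by
  classical
  induction s using Finset.induction_on_min with
  | empty =>
    intro G _ _ p _ _
    exact ⟨⊥, ⟨bot_le, by simp [pt]⟩, inferInstance⟩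
  | insert p σ hσ ih =>
    intro G _ _ p0 hp0 hk
    have hs' : ∀ r ∈ σ, r.Prime := fun r hr => hs r (Finset.mem_insert_of_mem hr)
    haveI hp : Fact p.Prime := ⟨hs p (Finset.mem_insert_self _ _)⟩
    have ih := ih hs'
    have hpσ : p ∉ σ := fun h => (hσ p h).false
    have hπ : ∀ q ∈ ((insert p σ : Finset ℕ) : Set ℕ), q ≠ p → q ∈ σ := fun q hq h =>
      (Finset.mem_insert.1 hq).resolve_left h
    replace hk := hk.trans_le (Nat.mul_le_mul_right _ (hp0 p (Finset.mem_insert_self _ _)))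
    rw [pt_insert hpσ] at hk
    obtain ⟨H, hH, hc⟩ := ih.ab hs' hσ (⊤ : Subgroup G) (by
      simpa using kp_sigma hs' hπ (a := 1) (b := p) (by simpa using hk))
    obtain ⟨P, hP, hPH⟩ : ∃ P, IsSyl p P ⊤ ∧ P ≤ centralizer (H : Set G) := by
      by_cases hN : HasNormalPComplement p G
      · exact step_npc hs' hπ hσ hH hc hN hk
      · have h2 : p ≠ 2 := by
          rintro rfl
          exact hN (npc_two hs' hπ hk)
        have h3 : ∀ r ∈ σ, p + 1 < r := fun r hr => by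
          have h4 := hσ r hr
          have h5 := hp.out.eq_two_or_odd.resolve_left h2
          have h6 := (hs' r hr).eq_two_or_odd.resolve_left (by have := hp.out.two_le; omega)
          omega
        exact step_odd hs' hπ h3 hH hc hN (fun D => ih.ab hs' h3 D) hk
    have h1 := hPH.trans (centralizer_le_normalizer _)
    refine ⟨P ⊔ H, ⟨le_top, ?_⟩, isNilpotent_sup hP.pgroup.isNilpotent (nil_of_comm hs' hc) h1
      ((le_centralizer_iff.1 hPH).trans (centralizer_le_normalizer _))⟩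
    have h2 := Transfer.card_sup_mul_card_inf h1
    have h3 : P ⊓ H = ⊥ := inf_eq_bot_of_coprime (coprime_card_of_isPGroup hP.pgroup fun h =>
      hpσ (hH.mem hs' hp.out h))
    rw [h3, card_bot, mul_one] at h2
    rw [h2, pt_insert hpσ, card_syl hP, hH.card]

theorem card_eq_kp (π : Set ℕ) : Nat.card {c : ConjClasses G // ∀ x ∈ c.carrier, ∀ r : ℕ, r.Prime →
    r ∣ orderOf x → r ∈ π} = kp π (⊤ : Subgroup G) := by
  rw [kp_top]
  refine Nat.card_congr (Equiv.subtypeEquivRight fun C => ?_)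
  exact ⟨fun h q hq ⟨g, h1, h2⟩ => h g (ConjClasses.mem_carrier_iff_mk_eq.2 h1) q hq h2,
    fun h x hx q hq h2 => h q hq ⟨x, ConjClasses.mem_carrier_iff_mk_eq.1 hx, h2⟩⟩

theorem card_eq_cl {p : ℕ} [hp : Fact p.Prime] (P : Sylow p G) :
    Nat.card {c : ConjClasses G // ∀ x ∈ c.carrier, ∃ k : ℕ, orderOf x = p ^ k} =
      cl ⊤ ((P : Subgroup G) : Set G) := by
  rw [← kp_single_eq (isSyl_top P), ← card_eq_kp]
  refine Nat.card_congr (Equiv.subtypeEquivRight fun C => forall₂_congr fun x _ => ?_)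
  exact (piE_singleton hp.out).symm

theorem cl_eq_of_npc {p : ℕ} [hp : Fact p.Prime] {P : Subgroup G} (hP : IsSyl p P ⊤)
    (h : HasNormalPComplement p G) : cl ⊤ (P : Set G) = cl P (P : Set G) := by
  refine le_antisymm (cl_anti le_top _) (factor (Set.toFinite _) _ _ fun x hx y hy h1 => ?_)
  obtain ⟨g, -, rfl⟩ := cc_eq_iff.1 h1
  obtain ⟨s, hs, h2⟩ := hP.exists_conj_of_hasNPC (hasNPC_top.2 h) (mem_top g)
  exact cc_eq_iff.2 ⟨s, hs, h2 x hx hy⟩

theorem isPiHall_of {s : Finset ℕ} (hs : ∀ r ∈ s, r.Prime) {H : Subgroup G} (h : IsH s H ⊤) :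
    IsPiHall (s : Set ℕ) H :=
  ⟨fun r hr h1 => h.mem hs hr h1, fun r _ h1 => by simpa using h.not_dvd hs h1⟩

theorem compl_of {s : Finset ℕ} (hs : ∀ r ∈ s, r.Prime) {H K : Subgroup G} (h : IsH s H ⊤)
    (h1 : K.relIndex ⊤ = Nat.card H) : (∀ r : ℕ, r.Prime → r ∣ Nat.card K → r ∉ s) ∧
      ∀ r : ℕ, r.Prime → r ∣ K.index → r ∈ s := by
  rw [relIndex_top_right] at h1
  refine ⟨fun r hr h2 h3 => h.not_dvd hs h3 ?_, fun r hr h2 => h.mem hs hr (h1 ▸ h2)⟩
  have h4 := K.card_mul_index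
  rw [h1, ← H.card_mul_index, mul_comm] at h4
  rwa [relIndex_top_right, ← Nat.eq_of_mul_eq_mul_left Nat.card_pos h4]

theorem reduce {π : Set ℕ} {m : ℕ} (hm : m ∣ Nat.card G) (hmπ : ∀ q : ℕ, q.Prime → q ∣ m → q ∈ π)
    (hm' : ∀ q ∈ π, ¬ q ∣ Nat.card G / m) :
    m = pt m.primeFactors (Nat.card G) ∧ kPi π G ≤ kp m.primeFactors (⊤ : Subgroup G) := by
  have h0 : Nat.card G ≠ 0 := Nat.card_pos.ne'
  have hm0 := ne_zero_of_dvd_ne_zero h0 hm
  have h1 := Nat.mul_div_cancel' hm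
  refine ⟨eq_pt (fun r hr => Nat.prime_of_mem_primeFactors hr) h0 h1
    (fun r hr h => Nat.mem_primeFactors.2 ⟨hr, h, hm0⟩) fun r hr =>
      hm' r (hmπ r (Nat.prime_of_mem_primeFactors hr) (Nat.dvd_of_mem_primeFactors hr)), ?_⟩
  rw [← kp_top]
  refine cl_mono fun x hx => ⟨trivial, fun q hq h2 => ?_⟩
  have h3 := h2.trans (orderOf_dvd_natCard x)
  rw [← h1] at h3
  exact Nat.mem_primeFactors.2 ⟨hq, ((Nat.Prime.dvd_mul hq).1 h3).resolve_right (hm' q (hx.2 q hq h2)), hm0⟩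

end Cfsg.Agent.Kc
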