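import Mathlib

/-!
Graded Lie rings with trivial zero component: the theorems of Kreknin and Kostrikin.
-/

set_option autoImplicit false
set_option linter.unusedSectionVars false
set_option linter.unusedVariables false

namespace Cfsg.Agent.Kr

universe u

variable {L : Type u} [LieRing L] {p : ℕ}

/-- the bracket of two graded families -/
def bf (X Y : ZMod p → AddSubgroup L) (u : ZMod p) : AddSubgroup L :=
  AddSubgroup.closure {z | ∃ i j, i + j = u ∧ ∃ x ∈ X i, ∃ y ∈ Y j, ⁅x, y⁆ = z}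

/-- right multiplication -/
def radd (m : L) : L →+ L := AddMonoidHom.mk' (fun x => ⁅x, m⁆) fun a b => add_lie a b m

variable {X Y X' Y' M S V W : ZMod p → AddSubgroup L}

theorem mem_bf {i j u : ZMod p} {x y : L} (hx : x ∈ X i) (hy : y ∈ Y j) (e : i + j = u) :
    ⁅x, y⁆ ∈ bf X Y u := AddSubgroup.subset_closure ⟨i, j, e, x, hx, y, hy, rfl⟩

theorem bf_le {u : ZMod p} {K : AddSubgroup L}
    (h : ∀ i j, i + j = u → ∀ x ∈ X i, ∀ y ∈ Y j, ⁅x, y⁆ ∈ K) : bf X Y u ≤ K := by
  rw [bf, AddSubgroup.closure_le]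
  rintro _ ⟨i, j, e, x, hx, y, hy, rfl⟩
  exact h i j e x hx y hy

theorem bf_mono (h1 : X ≤ X') (h2 : Y ≤ Y') : bf X Y ≤ bf X' Y' := fun u =>
  bf_le fun i j e x hx y hy => mem_bf (h1 i hx) (h2 j hy) e

theorem mem_of (h : bf X Y ≤ W) {i j u : ZMod p} {x y : L} (hx : x ∈ X i) (hy : y ∈ Y j)
    (e : i + j = u) : ⁅x, y⁆ ∈ W u := h u (mem_bf hx hy e)

/-- graded subrings with trivial zero component -/
structure Gd (M : ZMod p → AddSubgroup L) : Prop where
  cl : bf M M ≤ M
  z : M 0 = ⊥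

theorem Gd.der (h : Gd M) : Gd (bf M M) :=
  ⟨bf_mono h.cl h.cl, eq_bot_iff.2 ((h.cl 0).trans h.z.le)⟩

/-- the graded subring generated by a family -/
def gen (S : ZMod p → AddSubgroup L) : ZMod p → AddSubgroup L := sInf {N | S ≤ N ∧ bf N N ≤ N}

theorem le_gen : S ≤ gen S := le_sInf fun _ h => h.1

theorem gen_le (h1 : S ≤ M) (h2 : bf M M ≤ M) : gen S ≤ M := sInf_le ⟨h1, h2⟩

theorem bf_gen : bf (gen S) (gen S) ≤ gen S :=
  le_sInf fun _ h => (bf_mono (gen_le h.1 h.2) (gen_le h.1 h.2)).trans h.2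

theorem bf_gen_le : bf (gen S) (gen S) ≤ bf (gen S) S := by
  let N : ZMod p → AddSubgroup L := fun j =>
    { carrier := {y | y ∈ gen S j ∧ ∀ i u, i + j = u → ∀ x ∈ gen S i, ⁅x, y⁆ ∈ bf (gen S) S u}
      zero_mem' := ⟨zero_mem _, fun i u e x hx => by simp⟩
      add_mem' := fun {a b} ha hb => ⟨add_mem ha.1 hb.1, fun i u e x hx => by
        rw [lie_add]; exact add_mem (ha.2 i u e x hx) (hb.2 i u e x hx)⟩
      neg_mem' := fun {a} ha => ⟨neg_mem ha.1, fun i u e x hx => by
        rw [lie_neg]; exact neg_mem (ha.2 i u e x hx)⟩ }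
  have h : gen S ≤ N := by
    refine gen_le (fun j y hy => ⟨le_gen (S := S) j hy, fun i u e x hx => mem_bf hx hy e⟩) fun v =>
      bf_le fun j k e y hy z hz => ⟨mem_of bf_gen hy.1 hz.1 e, fun i u e' x hx => ?_⟩
    have : ⁅x, ⁅y, z⁆⁆ = ⁅⁅x, y⁆, z⁆ - ⁅⁅x, z⁆, y⁆ := by
      rw [leibniz_lie x y z, sub_eq_add_neg, lie_skew]
    rw [this]
    exact sub_mem (hz.2 (i + j) u (by rw [← e', ← e]; ring) _ (mem_of bf_gen hx hy.1 rfl))
      (hy.2 (i + k) u (by rw [← e', ← e]; ring) _ (mem_of bf_gen hx hz.1 rfl))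
  exact fun u => bf_le fun i j e x hx y hy => (h j hy).2 i u e x hx

/-- the components of degree at least `k` -/
def up (k : ℕ) (M : ZMod p → AddSubgroup L) (i : ZMod p) : AddSubgroup L :=
  if k ≤ i.val then M i else ⊥

theorem up_le (k : ℕ) : up k M ≤ M := fun i => by
  unfold up; split_ifs
  exacts [le_rfl, bot_le]

theorem mem_up {k : ℕ} {i : ZMod p} {x : L} (h : k ≤ i.val) (hx : x ∈ M i) : x ∈ up k M i := by
  unfold up; rwa [if_pos h]

/-- the derived series -/
def der (s : ℕ) (M : ZMod p → AddSubgroup L) : ZMod p → AddSubgroup L := (fun X => bf X X)^[s] M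

theorem der_succ' (s : ℕ) : der (s + 1) M = bf (der s M) (der s M) := Function.iterate_succ_apply' _ _ _

theorem der_succ (s : ℕ) : der (s + 1) M = der s (bf M M) := rfl

theorem der_add (s t : ℕ) : der (s + t) M = der s (der t M) := Function.iterate_add_apply _ _ _ _

theorem Gd.der' (h : Gd M) (s : ℕ) : Gd (Kr.der s M) ∧ Kr.der s M ≤ M := by
  induction s with
  | zero => exact ⟨h, le_rfl⟩
  | succ s ih => rw [der_succ']; exact ⟨ih.1.der, ih.1.cl.trans ih.2⟩

theorem kreknin_aux [NeZero p] (k : ℕ) : ∀ M : ZMod p → AddSubgroup L, Gd M →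
    der (2 ^ k - 1) M ≤ gen (up (k + 1) M) := by
  induction k with
  | zero =>
    intro M h u x hx
    by_cases e : u = 0
    · subst e
      have : x = 0 := by simpa [der, h.z] using hx
      rw [this]; exact zero_mem _
    · exact le_gen (S := up 1 M) u (mem_up (Nat.pos_of_ne_zero fun h => e ((ZMod.val_eq_zero u).1 h)) hx)
  | succ k ih =>
    intro M h
    have h1 : 1 ≤ 2 ^ k := Nat.one_le_two_pow
    have e1 : 2 ^ (k + 1) - 1 = (2 ^ k - 1) + (2 ^ k - 1 + 1) := by rw [pow_succ]; omega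
    have hM' := h.der' (2 ^ k - 1 + 1)
    rw [e1, der_add]
    refine (ih _ hM'.1).trans (gen_le (fun u x hx => ?_) bf_gen)
    unfold up at hx
    split_ifs at hx with hu
    swap
    · rw [AddSubgroup.mem_bot.1 hx]; exact zero_mem _
    rcases hu.lt_or_eq with hu | hu
    · exact le_gen (S := up (k + 1 + 1) M) u (mem_up hu (hM'.2 u hx))
    rw [der_succ'] at hx
    have hH : gen (up (k + 1) M) ≤ M := gen_le (up_le _) h.cl
    refine bf_le (fun i j e a ha b hb => ?_) (bf_gen_le u (bf_mono (ih M h) (ih M h) u hx))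
    unfold up at hb
    split_ifs at hb with hj
    swap
    · rw [AddSubgroup.mem_bot.1 hb, lie_zero]; exact zero_mem _
    rcases hj.lt_or_eq with hj | hj
    · refine mem_of bf_gen (le_gen (S := up (k + 1 + 1) M) i (mem_up ?_ (hH i ha)))
        (le_gen (S := up (k + 1 + 1) M) j (mem_up hj hb)) e
      have h2 := ZMod.val_add i j
      have h3 := ZMod.val_lt j
      have h4 := ZMod.val_lt i
      rw [e, ← hu] at h2
      by_cases h5 : i.val + j.val < p
      · rw [Nat.mod_eq_of_lt h5] at h2; omega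
      · rw [Nat.mod_eq_sub_mod (by omega), Nat.mod_eq_of_lt (by omega)] at h2; omega
    · have : j = u := ZMod.val_injective p (hj.symm.trans hu)
      have hi : i = 0 := by rw [this] at e; simpa using e
      have := hH i ha
      rw [hi, h.z, AddSubgroup.mem_bot] at this
      rw [this, zero_lie]; exact zero_mem _

theorem kreknin [NeZero p] (h : Gd M) : der (2 ^ (p - 1) - 1) M = ⊥ := by
  refine eq_bot_iff.2 ((kreknin_aux _ M h).trans (gen_le (fun u => ?_) fun u => bf_le ?_))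
  · have := ZMod.val_lt u
    unfold up; rw [if_neg (by omega)]; exact le_rfl
  · intro i j e x hx y hy
    rw [AddSubgroup.mem_bot.1 hx, zero_lie]; exact zero_mem _

/-- iterated brackets with `M` -/
def it (M : ZMod p → AddSubgroup L) (n : ℕ) (V : ZMod p → AddSubgroup L) : ZMod p → AddSubgroup L :=
  (fun X => bf X M)^[n] V

theorem it_succ' (n : ℕ) : it M (n + 1) V = bf (it M n V) M := Function.iterate_succ_apply' _ _ _

theorem it_add (s t : ℕ) : it M (s + t) V = it M s (it M t V) := Function.iterate_add_apply _ _ _ _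

theorem it_mono (n : ℕ) (h : V ≤ W) : it M n V ≤ it M n W := by
  induction n with
  | zero => exact h
  | succ n ih => rw [it_succ', it_succ']; exact bf_mono ih le_rfl

theorem it_le (n : ℕ) (h : bf V M ≤ V) : it M n V ≤ V := by
  induction n with
  | zero => exact le_rfl
  | succ n ih => rw [it_succ']; exact (bf_mono ih le_rfl).trans h

theorem exists_new [hp : Fact p.Prime] {T : Finset (ZMod p)} (h1 : T.Nonempty) (h2 : T ≠ Finset.univ)
    {i : ZMod p} (hi : i ≠ 0) : ∃ u, u ∉ T ∧ u + i ∈ T := by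
  by_contra hc
  push Not at hc
  obtain ⟨s, hs⟩ := h1
  have : ∀ n : ℕ, ∀ u, u + n * i ∈ T → u ∈ T := by
    intro n
    induction n with
    | zero => intro u h; simpa using h
    | succ n ih =>
      intro u h
      by_contra h3
      refine hc u h3 (ih _ ?_)
      convert h using 1; push_cast; ring
  refine h2 (Finset.eq_univ_of_forall fun u => this ((s - u) / i).val u ?_)
  rw [ZMod.natCast_zmod_val, div_mul_cancel₀ _ hi]; simpa using hs

theorem kill [hp : Fact p.Prime] (hM : M 0 = ⊥) (hV : bf V M ≤ V) (hW : bf W M ≤ W)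
    (hVW : bf V (bf M M) ≤ W) (n : ℕ) : ∀ (T : Finset (ZMod p)) (d : ZMod p) (f : L →+ L), T.Nonempty →
      p ≤ T.card + n → (∀ u w, u + d = w → ∀ x ∈ W u, f x ∈ W w) →
      (∀ u i w, u + i + d = w → ∀ x ∈ V u, ∀ a ∈ M i, f ⁅x, a⁆ - ⁅f x, a⁆ ∈ W w) →
      (∀ u ∈ T, ∀ x ∈ V u, f x ∈ W (u + d)) → ∀ u, ∀ x ∈ it M n V u, f x ∈ W (u + d) := by
  induction n with
  | zero =>
    intro T d f h1 h2 h3 h4 h5 u x hx
    have : T = Finset.univ := (Finset.card_eq_iff_eq_univ T).1
      (le_antisymm (Finset.card_le_univ T) (by simpa using h2))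
    exact h5 u (this ▸ Finset.mem_univ u) x hx
  | succ n ih =>
    intro T d f h1 h2 h3 h4 h5 u x hx
    by_cases hT : T = Finset.univ
    · exact h5 u (hT ▸ Finset.mem_univ u) x (it_le _ hV u hx)
    rw [it_succ'] at hx
    refine bf_le (K := (W (u + d)).comap f) (fun v i e y hy a ha => ?_) hx
    by_cases hi : i = 0
    · rw [hi, hM, AddSubgroup.mem_bot] at ha
      rw [ha, lie_zero]; exact zero_mem _
    obtain ⟨u₀, h6, h7⟩ := exists_new h1 hT hi
    have := ih (insert u₀ T) (i + d) (f.comp (radd a)) (Finset.insert_nonempty _ _)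
      (by rw [Finset.card_insert_of_notMem h6]; omega)
      (fun u w e x hx => h3 (u + i) w (by rw [← e]; ring) _ (mem_of hW hx ha rfl))
      (fun u j w e x hx b hb => ?_) (fun u hu x hx => ?_) v y hy
    · rw [← add_assoc, e] at this; exact this
    · have e1 : ⁅⁅x, b⁆, a⁆ = ⁅⁅x, a⁆, b⁆ + ⁅x, ⁅b, a⁆⁆ := by
        rw [leibniz_lie x b a, ← lie_skew b]; abel
      show f ⁅⁅x, b⁆, a⁆ - ⁅f ⁅x, a⁆, b⁆ ∈ W w
      rw [e1, map_add, add_sub_right_comm]
      exact add_mem (h4 (u + i) j w (by rw [← e]; ring) _ (mem_of hV hx ha rfl) b hb)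
        (h3 (u + (j + i)) w (by rw [← e]; ring) _ (mem_of hVW hx (mem_bf hb ha rfl) rfl))
    · show f ⁅x, a⁆ ∈ W (u + (i + d))
      rcases Finset.mem_insert.1 hu with rfl | hu
      · rw [← add_assoc]; exact h5 _ h7 _ (mem_of hV hx ha rfl)
      · have := add_mem (h4 u i (u + (i + d)) (by ring) x hx a ha)
          (mem_of hW (h5 u hu x hx) ha (by ring))
        simpa using this

theorem kill' [hp : Fact p.Prime] (hM : M 0 = ⊥) (hV : bf V M ≤ V) (hV0 : V 0 = ⊥) (hW : bf W M ≤ W)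
    (hVW : bf V (bf M M) ≤ W) : it M (p - 1) V ≤ W := fun u x hx => by
  have := hp.out.pos
  have := kill hM hV hW hVW (p - 1) {0} 0 (AddMonoidHom.id L) (Finset.singleton_nonempty _)
    (by simp; omega) (fun u w e x hx => by simpa [← e] using hx) (fun u i w e x hx a ha => by simp)
    (fun u hu x hx => by
      rw [Finset.mem_singleton.1 hu, hV0, AddSubgroup.mem_bot] at hx
      simp [hx]) u x hx
  simpa using this

theorem ideal_it (h : Gd M) (k : ℕ) : bf (it (bf M M) k (bf M M)) M ≤ it (bf M M) k (bf M M) := by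
  induction k with
  | zero => exact bf_mono h.cl le_rfl
  | succ k ih =>
    rw [it_succ']
    refine fun u => bf_le fun i j e x hx m hm => ?_
    refine bf_le (K := AddSubgroup.comap (radd m) (bf (it (bf M M) k (bf M M)) (bf M M) u))
      (fun a b e' w hw d hd => ?_) hx
    show ⁅⁅w, d⁆, m⁆ ∈ bf (it (bf M M) k (bf M M)) (bf M M) u
    have e1 : ⁅⁅w, d⁆, m⁆ = ⁅⁅w, m⁆, d⁆ + ⁅w, ⁅d, m⁆⁆ := by
      rw [leibniz_lie w d m, ← lie_skew d]; abel
    rw [e1]
    exact add_mem (mem_bf (mem_of ih hw hm rfl) hd (by rw [← e, ← e']; ring))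
      (mem_bf hw (mem_bf (h.cl b hd) hm rfl) (by rw [← e, ← e']; ring))

theorem lcs_step [hp : Fact p.Prime] (h : Gd M) (k : ℕ) :
    it M ((p - 1) * k + 1) M ≤ it (bf M M) k (bf M M) := by
  induction k with
  | zero => simp only [mul_zero, zero_add]; exact le_rfl
  | succ k ih =>
    rw [show (p - 1) * (k + 1) + 1 = (p - 1) + ((p - 1) * k + 1) by ring, it_add]
    refine (it_mono _ ih).trans (kill' h.z (ideal_it h k) ?_ (ideal_it h (k + 1)) (by rw [it_succ']))
    exact eq_bot_iff.2 ((it_le k h.der.cl 0).trans h.der.z.le)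

theorem lcs_der [hp : Fact p.Prime] (s : ℕ) : ∀ M : ZMod p → AddSubgroup L, Gd M →
    it M (∑ i ∈ Finset.range s, (p - 1) ^ i) M ≤ der s M := by
  induction s with
  | zero => intro M h; exact le_rfl
  | succ s ih =>
    intro M h
    rw [geom_sum_succ, der_succ]
    exact (lcs_step h _).trans (ih _ h.der)

theorem kk [hp : Fact p.Prime] (h : Gd M) :
    it M (∑ i ∈ Finset.range (2 ^ (p - 1) - 1), (p - 1) ^ i) M = ⊥ :=
  eq_bot_iff.2 ((lcs_der _ M h).trans (kreknin h).le)

theorem kk3 {M : ZMod 3 → AddSubgroup L} (h : Gd M) : it M 2 M = ⊥ := by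
  refine eq_bot_iff.2 fun u => bf_le fun v k e x hx c hc => ?_
  refine bf_le (K := AddSubgroup.comap (radd c) ⊥) (fun i j e' a ha b hb => ?_) hx
  have z : ∀ {x : L} {i : ZMod 3}, x ∈ M i → i = 0 → x = 0 := fun hx e => by
    rwa [e, h.z, AddSubgroup.mem_bot] at hx
  show ⁅⁅a, b⁆, c⁆ = 0
  have : ∀ i j k : ZMod 3, i = 0 ∨ j = 0 ∨ k = 0 ∨ i + j = 0 ∨ i + j + k = 0 ∨ (j + k = 0 ∧ i + k = 0) := by
    decide
  rcases this i j k with e1 | e1 | e1 | e1 | e1 | ⟨e1, e2⟩
  · simp [z ha e1]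
  · simp [z hb e1]
  · simp [z hc e1]
  · simp [z (mem_of h.cl ha hb rfl) e1]
  · exact z (mem_of h.cl (mem_of h.cl ha hb rfl) hc rfl) e1
  · rw [lie_lie, z (mem_of h.cl hb hc rfl) e1, z (mem_of h.cl ha hc rfl) e2]; simp

end Cfsg.Agent.Kr
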