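import Cfsg.Agent.Lib.Fusion.Kr1

/-!
Lie rings with an automorphism of prime order.
-/

set_option autoImplicit false
set_option linter.unusedSectionVars false
set_option linter.unusedVariables false
set_option linter.style.haveILetI false

namespace Cfsg.Agent.Kr

open TensorProduct

universe u

/-- the lower central series -/
def Gam (L : Type u) [LieRing L] : ℕ → AddSubgroup L
  | 0 => ⊤
  | c + 1 => AddSubgroup.closure {z | ∃ x ∈ Gam L c, ∃ y, ⁅x, y⁆ = z}

/-- `c` bounds the class of all graded Lie rings with trivial zero component -/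
def Nil (p c : ℕ) : Prop :=
  ∀ (L : Type u) [LieRing L] (M : ZMod p → AddSubgroup L), Gd M → it M c M = ⊥

variable {L Q : Type u} [LieRing L] [LieRing Q] {p : ℕ}

theorem lie_mem_iSup {X Y : ZMod p → AddSubgroup Q} {a b : Q} (ha : a ∈ ⨆ i, X i) (hb : b ∈ ⨆ i, Y i) :
    ⁅a, b⁆ ∈ ⨆ u, bf X Y u := by
  refine AddSubgroup.iSup_induction (C := fun a => ⁅a, b⁆ ∈ ⨆ u, bf X Y u) _ ha (fun i a ha => ?_)
    (by simp) (fun x y h1 h2 => by rw [add_lie]; exact add_mem h1 h2)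
  refine AddSubgroup.iSup_induction (C := fun b => ⁅a, b⁆ ∈ ⨆ u, bf X Y u) _ hb (fun j b hb => ?_)
    (by simp) (fun x y h1 h2 => by rw [lie_add]; exact add_mem h1 h2)
  exact AddSubgroup.mem_iSup_of_mem (i + j) (mem_bf ha hb rfl)

theorem gam_transfer (ι : L →+ Q) (hι : ∀ x y, ι ⁅x, y⁆ = ⁅ι x, ι y⁆) (M : ZMod p → AddSubgroup Q)
    (h : ∀ x, p • ι x ∈ ⨆ i, M i) (c : ℕ) : ∀ x ∈ Gam L c, p ^ (c + 1) • ι x ∈ ⨆ u, it M c M u := by
  induction c with
  | zero => intro x _; rw [zero_add, pow_one]; exact h x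
  | succ c ih =>
    intro x hx
    induction hx using AddSubgroup.closure_induction with
    | mem z hz =>
      obtain ⟨x, hx, y, rfl⟩ := hz
      have := lie_mem_iSup (ih x hx) (h y)
      rw [nsmul_lie, lie_nsmul, smul_smul, ← pow_succ, ← hι] at this
      simpa only [it_succ'] using this
    | zero => simp
    | add x y _ _ h1 h2 => rw [map_add, nsmul_add]; exact add_mem h1 h2
    | neg x _ h1 => rw [map_neg, neg_nsmul]; exact neg_mem h1

theorem lie_main_abs [hp : Fact p.Prime] {A : Type} [CommRing A] [IsDomain A] {ω : A}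
    (hω : IsPrimitiveRoot ω p) {B : Type u} [LieRing B] [LieAlgebra A B] (Φ : Module.End A B)
    (hΦ : ∀ x y, Φ ⁅x, y⁆ = ⁅Φ x, Φ y⁆) (hΦp : Φ ^ p = 1) {e c : ℕ} (hfix : ∀ x, Φ x = x → e • x = 0)
    (hc : Nil.{u} p c) (ι : L →+ B) (hι : ∀ x y, ι ⁅x, y⁆ = ⁅ι x, ι y⁆) (hι0 : ∀ x, ι x = 0 → x = 0) :
    ∀ x ∈ Gam L c, (e * p ^ (c + 1)) • x = 0 := by
  classical
  haveI : NeZero p := ⟨hp.out.ne_zero⟩
  let χ : AddChar (ZMod p) A := AddChar.zmodChar p hω.pow_eq_one
  have hχ : χ.IsPrimitive := AddChar.zmodChar_primitive_of_primitive_root p hω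
  let M : ZMod p → AddSubgroup B := fun i =>
    { carrier := {x | Φ x = χ i • x}
      zero_mem' := by simp
      add_mem' := fun {a b} ha hb => by
        simp only [Set.mem_setOf_eq] at *; rw [map_add, ha, hb, smul_add]
      neg_mem' := fun {a} ha => by
        simp only [Set.mem_setOf_eq] at *; rw [map_neg, ha, smul_neg] }
  have hM : ∀ x : B, p • x ∈ ⨆ i, M i := by
    intro x
    have h1 : ∀ k : ZMod p, (Φ ^ (k + 1).val) x = Φ ((Φ ^ k.val) x) := fun k => by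
      haveI : Fact (1 < p) := ⟨hp.out.one_lt⟩
      rw [ZMod.val_add, ← pow_eq_pow_mod _ hΦp, ZMod.val_one, pow_succ']; rfl
    have h2 : p • x = ∑ i : ZMod p, ∑ k : ZMod p, χ (i * -k) • (Φ ^ k.val) x := by
      rw [Finset.sum_comm]
      simp only [← Finset.sum_smul, AddChar.sum_mulShift _ hχ, neg_eq_zero]
      rw [Finset.sum_eq_single 0 (fun b _ hb => by simp [hb]) (by simp)]
      simp [Nat.cast_smul_eq_nsmul]
    rw [h2]
    refine sum_mem fun i _ => AddSubgroup.mem_iSup_of_mem i ?_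
    show Φ _ = χ i • _
    rw [map_sum, ← Equiv.sum_comp (Equiv.addRight (1 : ZMod p)) fun k => χ (i * -k) • (Φ ^ k.val) x,
      Finset.smul_sum]
    refine Finset.sum_congr rfl fun k _ => ?_
    rw [map_smul, Equiv.coe_addRight, h1, smul_smul, ← AddChar.map_add_eq_mul]
    congr 2; ring
  let T : LieIdeal A B :=
    { carrier := {x | e • x = 0}
      zero_mem' := by simp
      add_mem' := fun {a b} ha hb => by
        simp only [Set.mem_setOf_eq] at *; rw [nsmul_add, ha, hb, add_zero]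
      smul_mem' := fun a x hx => by
        simp only [Set.mem_setOf_eq] at *; rw [smul_comm, hx, smul_zero]
      lie_mem := fun {a b} hb => by
        simp only [Set.mem_setOf_eq] at *; rw [← lie_nsmul, hb, lie_zero] }
  let π : B →+ B ⧸ T := T.toSubmodule.mkQ.toAddMonoidHom
  have hπ : ∀ x y, π ⁅x, y⁆ = ⁅π x, π y⁆ := fun _ _ => rfl
  have hπ0 : ∀ x, π x = 0 ↔ e • x = 0 := fun x => Submodule.Quotient.mk_eq_zero _
  have hG : Gd fun i => (M i).map π := by
    refine ⟨fun u => bf_le ?_, eq_bot_iff.2 ?_⟩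
    · rintro i j rfl _ ⟨x, hx, rfl⟩ _ ⟨y, hy, rfl⟩
      refine ⟨⁅x, y⁆, ?_, hπ x y⟩
      show Φ _ = χ _ • _
      rw [hΦ, show Φ x = χ i • x from hx, show Φ y = χ j • y from hy, smul_lie, lie_smul, smul_smul,
        AddChar.map_add_eq_mul]
    · rintro _ ⟨x, hx, rfl⟩
      exact (hπ0 x).2 (hfix x (by simpa using (show Φ x = χ 0 • x from hx)))
  intro x hx
  have := gam_transfer (π.comp ι) (fun x y => by
    show π (ι ⁅x, y⁆) = ⁅π (ι x), π (ι y)⁆
    rw [← hπ, hι]) (fun i => (M i).map π) (fun x => by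
    rw [← AddSubgroup.map_iSup, AddMonoidHom.comp_apply, ← map_nsmul]
    exact AddSubgroup.mem_map_of_mem _ (hM _)) c x hx
  rw [hc _ _ hG] at this
  simp only [Pi.bot_apply, iSup_bot, AddSubgroup.mem_bot] at this
  rw [AddMonoidHom.comp_apply, ← map_nsmul, hπ0, smul_smul, ← map_nsmul] at this
  exact hι0 _ this

theorem lie_main_aux [hp : Fact p.Prime] {A : Type} [CommRing A] [IsDomain A] [Module.Free ℤ A] {ω : A}
    (hω : IsPrimitiveRoot ω p) (φ : Module.End ℤ L) (hφ : ∀ x y, φ ⁅x, y⁆ = ⁅φ x, φ y⁆) (hφp : φ ^ p = 1)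
    {e c : ℕ} (he : ∀ x, φ x = x → e • x = 0) (hc : Nil.{u} p c) :
    ∀ x ∈ Gam L c, (e * p ^ (c + 1)) • x = 0 := by
  let φ' : L →ₗ⁅ℤ⁆ L := { φ with map_lie' := hφ _ _ }
  refine lie_main_abs hω (B := A ⊗[ℤ] L) (φ.baseChange A)
    (LieAlgebra.ExtendScalars.map (AlgHom.id ℤ A) φ').map_lie ?_ (fun x hx => ?_) hc
    (TensorProduct.mk ℤ A L 1).toAddMonoidHom (fun x y => ?_)
    fun x h => (Module.FaithfullyFlat.one_tmul_eq_zero_iff ℤ L (A := A) _).1 h
  · rw [← LinearMap.baseChange_pow, hφp]; exact LinearMap.baseChange_one _ _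
  · have h1 := Module.Flat.lTensor_exact A (LinearMap.exact_subtype_ker_map (φ - 1))
    obtain ⟨y, rfl⟩ := (h1 x).1 (by
      rw [LinearMap.lTensor_sub, LinearMap.sub_apply, sub_eq_zero]
      exact hx.trans (by simp [Module.End.one_eq_id]))
    clear hx
    induction y using TensorProduct.induction_on with
    | zero => simp
    | add a b h1 h2 => rw [map_add, nsmul_add, h1, h2, add_zero]
    | tmul a z =>
      rw [LinearMap.lTensor_tmul, ← natCast_zsmul, ← TensorProduct.tmul_smul, natCast_zsmul,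
        he ((φ - 1).ker.subtype z) (sub_eq_zero.1 (LinearMap.mem_ker.1 z.2)), tmul_zero]
  · show (1 : A) ⊗ₜ[ℤ] ⁅x, y⁆ = ⁅(1 : A) ⊗ₜ[ℤ] x, (1 : A) ⊗ₜ[ℤ] y⁆
    rw [LieAlgebra.ExtendScalars.bracket_tmul, one_mul]

theorem lie_main [hp : Fact p.Prime] (φ : L →+ L) (hφ : ∀ x y, φ ⁅x, y⁆ = ⁅φ x, φ y⁆)
    (hφp : ∀ x, φ^[p] x = x) {e c : ℕ} (he : ∀ x, φ x = x → e • x = 0) (hc : Nil.{u} p c) :
    ∀ x ∈ Gam L c, (e * p ^ (c + 1)) • x = 0 := by
  have hζ := Complex.isPrimitiveRoot_exp p hp.out.ne_zero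
  set ζ := Complex.exp (2 * Real.pi * Complex.I / p)
  haveI : Module.Finite ℤ (Algebra.adjoin ℤ {ζ}) :=
    Algebra.finite_adjoin_simple_of_isIntegral (hζ.isIntegral hp.out.pos)
  have hω : IsPrimitiveRoot (⟨ζ, Algebra.self_mem_adjoin_singleton ℤ ζ⟩ : Algebra.adjoin ℤ {ζ}) p :=
    IsPrimitiveRoot.coe_submonoidClass_iff.1 hζ
  exact lie_main_aux hω φ.toIntLinearMap hφ (LinearMap.ext fun x => by
    rw [Module.End.pow_apply]; exact hφp x) he hc

end Cfsg.Agent.Kr
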