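import Cfsg.Agent.Lib.Fusion.Kr2
import Cfsg.Agent.Lib.BG.Petr

/-!
The Lie ring associated with the lower central series of a group.
-/

set_option autoImplicit false
set_option linter.unusedSectionVars false
set_option linter.unusedVariables false
set_option linter.style.haveILetI false

namespace Cfsg.Agent.Kr

open Subgroup
open scoped commutatorElement DirectSum

universe u

variable {G : Type u} [Group G]

/-- the lower central series -/
abbrev gm (G : Type u) [Group G] (i : ℕ) : Subgroup G := (⊤ : Subgroup G).lowerCentralSeries i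

theorem gm_comm {i j : ℕ} {x y : G} (hx : x ∈ gm G i) (hy : y ∈ gm G j) : ⁅x, y⁆ ∈ gm G (i + j + 1) :=
  Petr.lcs_comm ⊤ j i (commutator_mem_commutator hx hy)

theorem gm_succ {i : ℕ} {x : G} (hx : x ∈ gm G (i + 1)) : x ∈ gm G i :=
  (⊤ : Subgroup G).lowerCentralSeries_antitone (Nat.le_succ i) hx

theorem gm_conj {i : ℕ} {x : G} (hx : x ∈ gm G i) (g : G) : g * x * g⁻¹ ∈ gm G i :=
  Normal.conj_mem inferInstance x hx g

/-- the factors of the lower central series -/
def Sec (G : Type u) [Group G] (i : ℕ) : Type u := gm G i ⧸ (gm G (i + 1)).subgroupOf (gm G i)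

instance (i : ℕ) : CommGroup (Sec G i) :=
  { QuotientGroup.Quotient.group ((gm G (i + 1)).subgroupOf (gm G i)) with
    mul_comm := by
      rintro ⟨a⟩ ⟨b⟩
      refine QuotientGroup.eq.2 ?_
      have : ⁅((b : G))⁻¹, (a : G)⁻¹⁆ ∈ gm G (i + 1) := commutator_mem_commutator (inv_mem b.2) (mem_top _)
      simpa [mem_subgroupOf, commutatorElement_def, mul_assoc] using this }

/-- the projection onto a factor -/
def smk (i : ℕ) : gm G i →* Sec G i := QuotientGroup.mk' _

theorem smk_eq_one {i : ℕ} {x : gm G i} : smk i x = 1 ↔ (x : G) ∈ gm G (i + 1) :=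
  QuotientGroup.eq_one_iff x

theorem smk_surj (i : ℕ) : Function.Surjective (smk (G := G) i) := QuotientGroup.mk'_surjective _

/-- the associated graded group -/
def Gr (G : Type u) [Group G] : Type u := ⨁ i, Additive (Sec G i)

instance : AddCommGroup (Gr G) := inferInstanceAs (AddCommGroup (⨁ i, Additive (Sec G i)))

/-- the inclusion of a component -/
def gof (i : ℕ) : Additive (Sec G i) →+ Gr G := DirectSum.of (fun i => Additive (Sec G i)) i

theorem gof_inj (i : ℕ) : Function.Injective (gof (G := G) i) :=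
  DirectSum.of_injective (β := fun i => Additive (Sec G i)) i

open Classical in
/-- the class of an element -/
noncomputable def cls (i : ℕ) (g : G) : Gr G :=
  if h : g ∈ gm G i then gof i (Additive.ofMul (smk i ⟨g, h⟩)) else 0

theorem cls_def {i : ℕ} {x : G} (hx : x ∈ gm G i) : cls i x = gof i (Additive.ofMul (smk i ⟨x, hx⟩)) :=
  dif_pos hx

theorem cls_mul {i : ℕ} {x y : G} (hx : x ∈ gm G i) (hy : y ∈ gm G i) :
    cls i (x * y) = cls i x + cls i y := by
  rw [cls_def hx, cls_def hy, cls_def (mul_mem hx hy), ← map_add, ← ofMul_mul, ← map_mul]; rfl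

theorem cls_eq_zero {i : ℕ} {x : G} (hx : x ∈ gm G i) : cls i x = 0 ↔ x ∈ gm G (i + 1) := by
  rw [cls_def hx, map_eq_zero_iff _ (gof_inj i), ofMul_eq_zero, smk_eq_one]

theorem cls_zero {i : ℕ} {x : G} (hx : x ∈ gm G (i + 1)) : cls i x = 0 := (cls_eq_zero (gm_succ hx)).2 hx

theorem cls_one (i : ℕ) : cls i (1 : G) = 0 := cls_zero (one_mem _)

theorem cls_inv {i : ℕ} {x : G} (hx : x ∈ gm G i) : cls i x⁻¹ = -cls i x := by
  rw [eq_neg_iff_add_eq_zero, ← cls_mul (inv_mem hx) hx, inv_mul_cancel, cls_one]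

theorem cls_pow {i : ℕ} {x : G} (hx : x ∈ gm G i) (n : ℕ) : cls i (x ^ n) = n • cls i x := by
  induction n with
  | zero => simp [cls_one]
  | succ n ih => rw [pow_succ, cls_mul (pow_mem hx n) hx, ih, succ_nsmul]

theorem cls_conj {i : ℕ} {x : G} (hx : x ∈ gm G i) (g : G) : cls i (g * x * g⁻¹) = cls i x := by
  have h : ⁅x⁻¹, g⁆ ∈ gm G (i + 1) := commutator_mem_commutator (inv_mem hx) (mem_top _)
  rw [show g * x * g⁻¹ = x * ⁅x⁻¹, g⁆ by simp [commutatorElement_def, mul_assoc],
    cls_mul hx (gm_succ h), cls_zero h, add_zero]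

theorem gr_ind {C : Gr G → Prop} (h0 : C 0) (h1 : ∀ i, ∀ x ∈ gm G i, C (cls i x))
    (h2 : ∀ a b, C a → C b → C (a + b)) (a : Gr G) : C a := by
  refine DirectSum.induction_on (β := fun i => Additive (Sec G i)) a h0 (fun i x => ?_) h2
  obtain ⟨y, hy⟩ := smk_surj i (Additive.toMul x)
  have := h1 i y y.2
  rw [cls_def y.2, hy] at this
  exact this

theorem gr_ext {B : Type*} [AddCommGroup B] {F F' : Gr G →+ B}
    (h : ∀ i, ∀ x ∈ gm G i, F (cls i x) = F' (cls i x)) : F = F' :=
  AddMonoidHom.ext (gr_ind (by simp) h fun a b h1 h2 => by simp [h1, h2])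

theorem exists_lift {B : Type*} [AddCommGroup B] (f : ℕ → G → B)
    (h1 : ∀ i, ∀ x ∈ gm G i, ∀ y ∈ gm G i, f i (x * y) = f i x + f i y)
    (h2 : ∀ i, ∀ x ∈ gm G (i + 1), f i x = 0) :
    ∃ F : Gr G →+ B, ∀ i, ∀ x ∈ gm G i, F (cls i x) = f i x := by
  let g : ∀ i, Sec G i →* Multiplicative B := fun i =>
    QuotientGroup.lift ((gm G (i + 1)).subgroupOf (gm G i))
      (MonoidHom.mk' (fun x : gm G i => Multiplicative.ofAdd (f i x)) fun a b =>
        congrArg Multiplicative.ofAdd (h1 i a a.2 b b.2))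
      fun x hx => congrArg Multiplicative.ofAdd (h2 i x hx)
  refine ⟨DirectSum.toAddMonoid (β := fun i => Additive (Sec G i)) fun i =>
    MonoidHom.toAdditiveLeft (g i), fun i x hx => ?_⟩
  rw [cls_def hx]
  exact DirectSum.toAddMonoid_of (β := fun i => Additive (Sec G i)) _ _ _

theorem exists_br : ∃ B : Gr G →+ Gr G →+ Gr G, ∀ i, ∀ x ∈ gm G i, ∀ j, ∀ y ∈ gm G j,
    B (cls i x) (cls j y) = cls (i + j + 1) ⁅x, y⁆ := by
  have h : ∀ (i : ℕ) (x : G), ∃ F : Gr G →+ Gr G, x ∈ gm G i → ∀ j, ∀ y ∈ gm G j,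
      F (cls j y) = cls (i + j + 1) ⁅x, y⁆ := by
    intro i x
    by_cases hx : x ∈ gm G i
    swap
    · exact ⟨0, fun h => absurd h hx⟩
    obtain ⟨F, hF⟩ := exists_lift (fun j y => cls (i + j + 1) ⁅x, y⁆) (fun j y hy z hz => by
      rw [commutatorElement_mul_right_eq_mul_conj, mul_assoc, mul_assoc, ← mul_assoc y,
        cls_mul (gm_comm hx hy) (gm_conj (gm_comm hx hz) y), cls_conj (gm_comm hx hz)])
      fun j y hy => cls_zero (i := i + j + 1) (gm_comm (i := i) (j := j + 1) hx hy)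
    exact ⟨F, fun _ => hF⟩
  choose F hF using h
  obtain ⟨B, hB⟩ := exists_lift F (fun i x hx y hy => gr_ext fun j z hz => by
    rw [AddMonoidHom.add_apply, hF i _ (mul_mem hx hy) j z hz, hF i x hx j z hz, hF i y hy j z hz,
      commutatorElement_mul_left_eq_conj_mul, cls_mul (gm_conj (gm_comm hy hz) x) (gm_comm hx hz),
      cls_conj (gm_comm hy hz), add_comm]) fun i x hx => gr_ext fun j z hz => by
    rw [hF i x (gm_succ hx) j z hz, AddMonoidHom.zero_apply]
    exact cls_zero (by have := gm_comm hx hz; rwa [add_right_comm i 1 j] at this)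
  exact ⟨B, fun i x hx j y hy => by rw [hB i x hx, hF i x hx j y hy]⟩

/-- the bracket -/
noncomputable def gbr : Gr G →+ Gr G →+ Gr G := Classical.choose exists_br

theorem gbr_cls {i j : ℕ} {x y : G} (hx : x ∈ gm G i) (hy : y ∈ gm G j) :
    gbr (cls i x) (cls j y) = cls (i + j + 1) ⁅x, y⁆ := Classical.choose_spec exists_br i x hx j y hy

theorem gbr_skew (a b : Gr G) : gbr a b = -gbr b a := by
  refine gr_ind (C := fun a => gbr a b = -gbr b a) (by simp) (fun i x hx => ?_)
    (fun a a' h1 h2 => by simp [h1, h2, add_comm]) a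
  refine gr_ind (C := fun b => gbr (cls i x) b = -gbr b (cls i x)) (by simp) (fun j y hy => ?_)
    (fun a a' h1 h2 => by simp [h1, h2, add_comm]) b
  rw [gbr_cls hx hy, gbr_cls hy hx, ← cls_inv (gm_comm hy hx), commutatorElement_inv, add_comm j i]

theorem gbr_jacobi (a b c : Gr G) : gbr (gbr a b) c + gbr (gbr b c) a + gbr (gbr c a) b = 0 := by
  refine gr_ind (C := fun a => gbr (gbr a b) c + gbr (gbr b c) a + gbr (gbr c a) b = 0) (by simp)
    (fun i x hx => ?_) (fun a a' h1 h2 => by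
      simp only [map_add, AddMonoidHom.add_apply]; linear_combination (norm := abel) h1 + h2) a
  refine gr_ind (C := fun b => gbr (gbr (cls i x) b) c + gbr (gbr b c) (cls i x) +
    gbr (gbr c (cls i x)) b = 0) (by simp) (fun j y hy => ?_) (fun a a' h1 h2 => by
      simp only [map_add, AddMonoidHom.add_apply]; linear_combination (norm := abel) h1 + h2) b
  refine gr_ind (C := fun c => gbr (gbr (cls i x) (cls j y)) c + gbr (gbr (cls j y) c) (cls i x) +
    gbr (gbr c (cls i x)) (cls j y) = 0) (by simp) (fun k z hz => ?_) (fun a a' h1 h2 => by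
      simp only [map_add, AddMonoidHom.add_apply]; linear_combination (norm := abel) h1 + h2) c
  have h1 := gm_comm (gm_comm hx hy) (gm_conj hz y)
  have h2 := gm_comm (gm_comm hy hz) (gm_conj hx z)
  have h3 := gm_comm (gm_comm hz hx) (gm_conj hy x)
  have e2 : j + k + 1 + i + 1 = i + j + 1 + k + 1 := by ring
  have e3 : k + i + 1 + j + 1 = i + j + 1 + k + 1 := by ring
  have e1 : gbr (gbr (cls i x) (cls j y)) (cls k z) = cls (i + j + 1 + k + 1) ⁅⁅x, y⁆, y * z * y⁻¹⁆ := by
    rw [gbr_cls hx hy, ← cls_conj hz y, gbr_cls (gm_comm hx hy) (gm_conj hz y)]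
  have e4 : gbr (gbr (cls j y) (cls k z)) (cls i x) = cls (i + j + 1 + k + 1) ⁅⁅y, z⁆, z * x * z⁻¹⁆ := by
    rw [gbr_cls hy hz, ← cls_conj hx z, gbr_cls (gm_comm hy hz) (gm_conj hx z), e2]
  have e5 : gbr (gbr (cls k z) (cls i x)) (cls j y) = cls (i + j + 1 + k + 1) ⁅⁅z, x⁆, x * y * x⁻¹⁆ := by
    rw [gbr_cls hz hx, ← cls_conj hy x, gbr_cls (gm_comm hz hx) (gm_conj hy x), e3]
  rw [e2] at h2
  rw [e3] at h3
  rw [e1, e4, e5, ← cls_mul h1 h2, ← cls_mul (mul_mem h1 h2) h3,
    commutatorElement_commutatorElement_conj_mul, cls_one]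

noncomputable instance : LieRing (Gr G) where
  bracket a b := gbr a b
  add_lie a b c := by simp
  lie_add a b c := map_add _ _ _
  lie_self a := by
    refine gr_ind (C := fun a => gbr a a = 0) (by simp) (fun i x hx => ?_) (fun a b h1 h2 => ?_) a
    · rw [gbr_cls hx hx, commutatorElement_self, cls_one]
    · simp only [map_add, AddMonoidHom.add_apply, h1, h2, gbr_skew a b]; simp
  leibniz_lie a b c := by
    show gbr a (gbr b c) = gbr (gbr a b) c + gbr b (gbr a c)
    have := gbr_jacobi a b c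
    rw [gbr_skew (gbr b c) a, gbr_skew (gbr c a) b, gbr_skew c a, map_neg] at this
    linear_combination (norm := abel) -this

theorem lie_cls {i j : ℕ} {x y : G} (hx : x ∈ gm G i) (hy : y ∈ gm G j) :
    ⁅cls i x, cls j y⁆ = cls (i + j + 1) ⁅x, y⁆ := gbr_cls hx hy

theorem cls_mem_Gam (c : ℕ) : ∀ x ∈ gm G c, cls c x ∈ Gam (Gr G) c := by
  induction c with
  | zero => intro x _; trivial
  | succ c ih =>
    intro x hx
    induction hx using closure_induction with
    | mem z hz =>
      obtain ⟨x, hx, y, hy, rfl⟩ := hz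
      exact AddSubgroup.subset_closure ⟨_, ih x hx, _, lie_cls (j := 0) hx hy⟩
    | one => rw [cls_one]; exact zero_mem _
    | mul x y hx hy h1 h2 => rw [cls_mul hx hy]; exact add_mem h1 h2
    | inv x hx h1 => rw [cls_inv hx]; exact neg_mem h1

/-- the projection onto a component -/
def prj (i : ℕ) : Gr G →+ Gr G :=
  (gof i).comp (DFinsupp.evalAddMonoidHom (β := fun i => Additive (Sec G i)) i)

theorem prj_cls (i : ℕ) {j : ℕ} {x : G} (hx : x ∈ gm G j) :
    prj i (cls j x) = if j = i then cls j x else 0 := by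
  rw [cls_def hx]
  split_ifs with e
  · subst e
    exact congrArg (gof j) (DirectSum.of_eq_same (β := fun i => Additive (Sec G i)) j _)
  · exact (congrArg (gof i) (DirectSum.of_eq_of_ne (β := fun i => Additive (Sec G i)) j i _
      (Ne.symm e))).trans (map_zero _)

theorem prj_eq (i : ℕ) (a : Gr G) : ∃ x ∈ gm G i, prj i a = cls i x := by
  obtain ⟨y, hy⟩ := smk_surj i (Additive.toMul (DFinsupp.evalAddMonoidHom (β := fun i => Additive (Sec G i)) i a))
  exact ⟨y, y.2, by rw [cls_def y.2, hy]; rfl⟩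

theorem eq_zero_of_prj {a : Gr G} (h : ∀ i, prj i a = 0) : a = 0 :=
  DFinsupp.ext (β := fun i => Additive (Sec G i)) fun i =>
    (map_eq_zero_iff _ (DirectSum.of_injective (β := fun i => Additive (Sec G i)) i)).1 (h i)

theorem gm_map (α : G →* G) {i : ℕ} {x : G} (hx : x ∈ gm G i) : α x ∈ gm G i := by
  have := mem_map_of_mem α hx
  rw [map_lowerCentralSeries] at this
  exact lowerCentralSeries_mono i le_top this

theorem group_main {p : ℕ} [hp : Fact p.Prime] (α : G →* G) (hα : ∀ x, α^[p] x = x) {e c : ℕ}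
    (he : ∀ i, ∀ x ∈ gm G i, α x * x⁻¹ ∈ gm G (i + 1) → x ^ e ∈ gm G (i + 1)) (hc : Nil.{u} p c) :
    ∀ x ∈ gm G c, x ^ (e * p ^ (c + 1)) ∈ gm G (c + 1) := by
  obtain ⟨φ, hφ⟩ := exists_lift (fun i x => cls i (α x))
    (fun i x hx y hy => by rw [map_mul, cls_mul (gm_map α hx) (gm_map α hy)])
    fun i x hx => cls_zero (gm_map α hx)
  intro x hx
  rw [← cls_eq_zero (pow_mem hx _), cls_pow hx]
  refine lie_main φ (fun a b => ?_) (fun a => ?_) (fun a ha => eq_zero_of_prj fun i => ?_) hc _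
    (cls_mem_Gam c x hx)
  · refine gr_ind (C := fun a => φ ⁅a, b⁆ = ⁅φ a, φ b⁆) (by simp) (fun i x hx => ?_)
      (fun a a' h1 h2 => by simp [h1, h2]) a
    refine gr_ind (C := fun b => φ ⁅cls i x, b⁆ = ⁅φ (cls i x), φ b⁆) (by simp) (fun j y hy => ?_)
      (fun a a' h1 h2 => by simp [h1, h2]) b
    rw [lie_cls hx hy, hφ _ _ (gm_comm hx hy), hφ _ _ hx, hφ _ _ hy,
      lie_cls (gm_map α hx) (gm_map α hy), map_commutatorElement]
  · refine gr_ind (C := fun a => φ^[p] a = a) (iterate_map_zero φ p) (fun i x hx => ?_)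
      (fun a a' h1 h2 => by rw [iterate_map_add, h1, h2]) a
    have : ∀ n, α^[n] x ∈ gm G i ∧ φ^[n] (cls i x) = cls i (α^[n] x) := by
      intro n
      induction n with
      | zero => exact ⟨hx, rfl⟩
      | succ n ih =>
        rw [Function.iterate_succ_apply', Function.iterate_succ_apply', ih.2]
        exact ⟨gm_map α ih.1, hφ _ _ ih.1⟩
    rw [(this p).2, hα]
  · have h1 : φ.comp (prj i) = (prj i).comp φ := gr_ext fun j y hy => by
      rw [AddMonoidHom.comp_apply, AddMonoidHom.comp_apply, hφ _ _ hy, prj_cls i hy,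
        prj_cls i (gm_map α hy)]
      split_ifs
      exacts [hφ _ _ hy, map_zero _]
    have h2 : φ (prj i a) = prj i a := (DFunLike.congr_fun h1 a).trans (congrArg (prj i) ha)
    obtain ⟨y, hy, e1⟩ := prj_eq i a
    rw [e1, hφ _ _ hy] at h2
    rw [map_nsmul, e1, ← cls_pow hy]
    refine cls_zero (he i y hy ((cls_eq_zero (mul_mem (gm_map α hy) (inv_mem hy))).1 ?_))
    rw [cls_mul (gm_map α hy) (inv_mem hy), cls_inv hy, h2, add_neg_cancel]

end Cfsg.Agent.Kr
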