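import Cfsg.Agent.Lib.Fusion.Kr3
import Cfsg.Agent.Lib.Solv.Frattini
import Cfsg.Agent.S0033
import Cfsg.Agent.S3781

/-!
Groups with an automorphism of prime order having few fixed points.
-/

set_option autoImplicit false
set_option linter.unusedSectionVars false
set_option linter.unusedVariables false
set_option linter.style.haveILetI false

namespace Cfsg.Agent.Kr

open Subgroup
open scoped commutatorElement

universe u

variable {G : Type u} [Group G] [Finite G] {p m : ℕ} [hp : Fact p.Prime]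

/-- the fixed points -/
abbrev Fx (α : G →* G) : Subgroup G := α.eqLocus (MonoidHom.id G)

/-- an automorphism of order dividing `p` with at most `m` fixed points -/
def Ok (p m : ℕ) (α : G →* G) : Prop := (∀ x, α^[p] x = x) ∧ Nat.card (Fx α) ≤ m

theorem iter_comm {H : Type*} [Group H] {α : G →* G} {β : H →* H} {f : H → G} (h : ∀ x, f (β x) = α (f x))
    (n : ℕ) (x : H) : f (β^[n] x) = α^[n] (f x) := (Function.Semiconj.iterate_right h n) x

theorem Ok.sub {α : G →* G} (h : Ok p m α) (N : Subgroup G) (hN : ∀ x ∈ N, α x ∈ N) :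
    ∃ β : N →* N, Ok p m β ∧ (∀ x, (β x : G) = α x) ∧ Nat.card (Fx β) ∣ Nat.card (Fx α) := by
  let β : N →* N := (α.comp N.subtype).codRestrict N fun x => hN x x.2
  have hd : Nat.card (Fx β) ∣ Nat.card (Fx α) :=
    card_dvd_of_injective ((N.subtype.comp (Fx β).subtype).codRestrict (Fx α)
      fun x => congrArg Subtype.val x.2) fun x y e => Subtype.ext (Subtype.ext (congrArg (Subtype.val : Fx α → G) e))
  exact ⟨β, ⟨fun x => Subtype.ext ((iter_comm (f := Subtype.val) (fun _ => rfl) p x).trans (h.1 _)),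
    (Nat.le_of_dvd Nat.card_pos hd).trans h.2⟩, fun _ => rfl, hd⟩

theorem Ok.quot {α : G →* G} (h : Ok p m α) (N : Subgroup G) [N.Normal] (hN : ∀ x ∈ N, α x ∈ N) :
    ∃ β : G ⧸ N →* G ⧸ N, Ok p m β ∧ ∀ x : G, β x = α x := by
  let β : G ⧸ N →* G ⧸ N := QuotientGroup.map N N α hN
  refine ⟨β, ⟨fun x => ?_, le_trans ?_ h.2⟩, fun _ => rfl⟩
  · obtain ⟨x, rfl⟩ := QuotientGroup.mk_surjective x
    exact ((Function.Semiconj.iterate_right (f := QuotientGroup.mk) (ga := α) (gb := β) (fun _ => rfl) p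
      x).symm).trans (congrArg _ (h.1 x))
  · set S := (Fx β).comap (QuotientGroup.mk' N)
    have h1 : Nat.card S = Nat.card (Fx β) * Nat.card N := Solv.card_comap_mk N _
    have h2 : Fx α ≤ S := fun x hx => congrArg QuotientGroup.mk hx
    have h3 := card_eq_card_quotient_mul_card_subgroup ((Fx α).subgroupOf S)
    rw [Solv.card_subgroupOf_of_le h2] at h3
    have h4 : Nat.card (S ⧸ (Fx α).subgroupOf S) ≤ Nat.card N := by
      refine Nat.card_le_card_of_injective (fun q => ⟨α q.out * (q.out : G)⁻¹, by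
        rw [← div_eq_mul_inv]; exact QuotientGroup.eq_iff_div_mem.1 q.out.2⟩) fun a b e => ?_
      rw [← a.out_eq, ← b.out_eq]
      refine QuotientGroup.eq.2 ?_
      have e' : α a.out * (a.out : G)⁻¹ = α b.out * (b.out : G)⁻¹ := congrArg Subtype.val e
      show α ((a.out : G)⁻¹ * b.out) = (a.out : G)⁻¹ * b.out
      rw [map_mul, map_inv, mul_inv_eq_iff_eq_mul.1 e'.symm]; group
    have := Nat.mul_le_mul_right (Nat.card (Fx α)) h4
    rw [← h3, h1, mul_comm] at this
    exact Nat.le_of_mul_le_mul_left this Nat.card_pos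

/-- the automorphism -/
noncomputable def Ok.aut {α : G →* G} (h : Ok p m α) : G ≃* G :=
  MulEquiv.ofBijective α ((Finite.injective_iff_bijective).1 (Function.Injective.of_comp
    (f := α^[p - 1]) (g := α) fun x y e => by
      have := hp.out.pos
      have e2 : ∀ z, (α^[p - 1] ∘ α) z = z := fun z => by
        rw [← Function.iterate_succ, show (p - 1).succ = p by omega, h.1]
      rwa [e2, e2] at e))

theorem Ok.char {α : G →* G} (h : Ok p m α) (N : Subgroup G) [hN : N.Characteristic] :
    ∀ x ∈ N, α x ∈ N := fun _ hx => characteristic_iff_le_comap.1 hN h.aut hx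

theorem Ok.sec {α : G →* G} (h : Ok p m α) (i : ℕ) : ∃ β : Sec G i →* Sec G i, Ok p m β ∧
    ∀ x (hx : x ∈ gm G i), β (smk i ⟨x, hx⟩) = smk i ⟨α x, gm_map α hx⟩ := by
  obtain ⟨β, h1, h2, -⟩ := h.sub (gm G i) fun x hx => gm_map α hx
  obtain ⟨γ, h3, h4⟩ := h1.quot ((gm G (i + 1)).subgroupOf (gm G i)) fun x hx => by
    rw [mem_subgroupOf, h2]; exact gm_map α hx
  exact ⟨γ, h3, fun x hx => (h4 _).trans (congrArg _ (Subtype.ext (h2 _)))⟩

instance (i : ℕ) : Finite (Sec G i) := Finite.of_surjective _ (smk_surj i)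

theorem Ok.sec_fix {α : G →* G} (h : Ok p m α) {i : ℕ} {x : G} (hx : x ∈ gm G i)
    (h1 : α x * x⁻¹ ∈ gm G (i + 1)) : ∃ k, k ≤ m ∧ k ∣ Nat.card G ∧ x ^ k ∈ gm G (i + 1) := by
  obtain ⟨β, h2, h3⟩ := h.sec i
  refine ⟨_, h2.2, (card_subgroup_dvd_card _).trans ((card_dvd_of_surjective _ (smk_surj i)).trans
    (card_subgroup_dvd_card _)), ?_⟩
  have h4 : smk i ⟨x, hx⟩ ∈ Fx β := by
    show β _ = smk i _
    rw [h3, ← mul_inv_eq_one, ← map_inv, ← map_mul, smk_eq_one]; exact h1
  have h5 := congrArg Subtype.val (pow_card_eq_one' (x := (⟨_, h4⟩ : Fx β)))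
  rw [SubmonoidClass.coe_pow, ← map_pow] at h5
  exact smk_eq_one.1 h5

theorem card_ker_pow {A : Type*} [AddCommGroup A] [Finite A] (g : Module.End ℤ A) (k : ℕ) :
    Nat.card (LinearMap.ker (g ^ k)) ≤ Nat.card (LinearMap.ker g) ^ k := by
  induction k with
  | zero =>
    rw [pow_zero, pow_zero, Module.End.one_eq_id, LinearMap.ker_id]; simp
  | succ k ih =>
    let h := (g.comp (LinearMap.ker (g ^ (k + 1))).subtype).toAddMonoidHom
    rw [← h.ker.card_mul_index, AddSubgroup.index_ker, pow_succ' (Nat.card _)]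
    refine Nat.mul_le_mul (Nat.card_le_card_of_injective (fun x => ⟨x.1.1, x.2⟩)
      fun x y e => Subtype.ext (Subtype.ext (congrArg (Subtype.val : LinearMap.ker g → A) e)))
      (le_trans ?_ ih)
    refine AddSubgroup.card_le_of_le (K := (LinearMap.ker (g ^ k)).toAddSubgroup) ?_
    rintro _ ⟨⟨x, hx⟩, rfl⟩
    rw [pow_succ] at hx
    exact hx

theorem Ok.card_le {V : Type u} [CommGroup V] [Finite V] {β : V →* V} (h : Ok p m β) {E : ℕ}
    (hE : ∀ v : V, v ^ p ^ E = 1) : Nat.card V ≤ m ^ (p * E) := by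
  let b : Module.End ℤ (Additive V) := (MonoidHom.toAdditive β).toIntLinearMap
  have hb : b ^ p = 1 := LinearMap.ext fun x => by
    rw [Module.End.pow_apply]; exact h.1 x
  obtain ⟨r, hr⟩ := Commute.exists_add_pow_prime_eq hp.out (Commute.one_right (b - 1))
  rw [sub_add_cancel, hb, one_pow, mul_one] at hr
  have h1 : (b - 1) ^ p = p * (-((b - 1) * r)) := by
    rw [mul_neg, ← mul_assoc, eq_neg_iff_add_eq_zero]
    linear_combination (norm := abel) -hr
  have h2 : (b - 1) ^ (p * E) = 0 := by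
    rw [pow_mul, h1, (Nat.cast_commute p _).mul_pow, ← Nat.cast_pow]
    refine LinearMap.ext fun x => ?_
    rw [← nsmul_eq_mul]
    exact hE _
  have h3 := card_ker_pow (b - 1) (p * E)
  rw [h2, LinearMap.ker_zero, Nat.card_congr (Submodule.topEquiv).toEquiv] at h3
  refine h3.trans (Nat.pow_le_pow_left (le_trans (le_of_eq ?_) h.2) _)
  exact Nat.card_congr (Equiv.subtypeEquiv Additive.toMul fun x => sub_eq_zero)

theorem Ok.card_sec {α : G →* G} (h : Ok p m α) {n c : ℕ} (hc : Nil.{u} p c)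
    (hn : ∀ k, k ≤ m → k ∣ Nat.card G → k ∣ p ^ n) : Nat.card (Sec G c) ≤ m ^ (p * (n + (c + 1))) := by
  obtain ⟨β, h2, -⟩ := h.sec c
  refine h2.card_le fun v => ?_
  obtain ⟨x, rfl⟩ := smk_surj c v
  rw [← map_pow, smk_eq_one, pow_add]
  refine group_main α h.1 (fun i y hy h1 => ?_) hc x x.2
  obtain ⟨k, a, b, d⟩ := h.sec_fix hy h1
  obtain ⟨l, hl⟩ := hn k a b
  rw [hl, pow_mul]; exact pow_mem d l

theorem Ok.fpf {α : G →* G} (h : Ok p 1 α) {c : ℕ} (hc : Nil.{u} p c) : gm G c = ⊥ := by
  have hf : Fx α = ⊥ := card_eq_one.1 (le_antisymm h.2 Nat.card_pos)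
  have hfp : ∀ x, α x = x → x = 1 := fun x hx => mem_bot.1 (hf ▸ (show x ∈ Fx α from hx))
  have hn : Group.IsNilpotent G := by
    by_cases e : h.aut = 1
    · haveI : Subsingleton G := subsingleton_of_forall_eq 1 fun x => hfp x (DFunLike.congr_fun e x)
      infer_instance
    · refine S0033.result h.aut (fun x hx => hfp x hx) p hp.out (orderOf_eq_prime ?_ e)
      ext x
      have : ∀ n, (h.aut ^ n) x = α^[n] x := fun n => by
        induction n with
        | zero => rfl
        | succ n ih => rw [pow_succ', Function.iterate_succ_apply', ← ih]; rfl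
      exact (this p).trans (h.1 x)
  have h1 := h.card_sec (n := 0) hc fun k h1 h2 => by
    have := Nat.pos_of_dvd_of_pos h2 Nat.card_pos
    rw [show k = 1 by omega]; exact one_dvd _
  rw [one_pow] at h1
  haveI := (Nat.card_eq_one_iff_unique.1 (le_antisymm h1 Nat.card_pos)).1
  have h2 : gm G c ≤ gm G (c + 1) := fun x hx => smk_eq_one.1 (Subsingleton.elim (smk c ⟨x, hx⟩) 1)
  have h3 : ∀ k, gm G c ≤ gm G (c + k) := fun k => by
    induction k with
    | zero => exact le_rfl
    | succ k ih => exact h2.trans (commutator_mono ih le_rfl)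
  obtain ⟨n, hn⟩ := Subgroup.nilpotent_iff_lowerCentralSeries.1 hn
  exact eq_bot_iff.2 ((h3 n).trans ((Subgroup.lowerCentralSeries_antitone ⊤ (Nat.le_add_left n c)).trans hn.le))

theorem ds_ext {G H : Type*} [Group G] [Group H] (f : G →* H) {N : Subgroup G} (hN : f.ker ≤ N) {a b : ℕ}
    (ha : derivedSeries H a = ⊥) (hb : derivedSeries N b = ⊥) : derivedSeries G (a + b) = ⊥ := by
  have h1 : derivedSeries G a ≤ N :=
    ((Subgroup.map_eq_bot_iff _).1 (eq_bot_iff.2 ((map_derivedSeries_le_derivedSeries f a).trans ha.le))).trans hN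
  have h2 : ∀ k, derivedSeries G (a + k) ≤ (derivedSeries N k).map N.subtype := fun k => by
    induction k with
    | zero => rwa [derivedSeries_zero, ← MonoidHom.range_eq_map, range_subtype]
    | succ k ih => rw [derivedSeries_succ N, Subgroup.map_commutator]; exact commutator_mono ih ih
  have := h2 b
  rwa [hb, Subgroup.map_bot, le_bot_iff] at this

theorem ds_card {X : Type*} [Group X] [Finite X] [Group.IsSolvable X] {k : ℕ} (h : Nat.card X ≤ k) :
    derivedSeries X k = ⊥ := by
  have : ∀ j, derivedSeries X j = ⊥ ∨ Nat.card (derivedSeries X j) + j ≤ Nat.card X := fun j => by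
    induction j with
    | zero => right; simp
    | succ j ih =>
      by_cases e : derivedSeries X j = ⊥
      · left; rw [derivedSeries_succ, e]; simp
      · have h1 := Solv.card_lt_of_lt (Group.IsSolvable.commutator_lt_of_ne_bot e)
        have := ih.resolve_left e
        right; rw [derivedSeries_succ]; omega
  refine (this k).resolve_right fun h1 => ?_
  have : 0 < Nat.card (derivedSeries X k) := Nat.card_pos
  omega

theorem ds_le (G : Type*) [Group G] (n : ℕ) : derivedSeries G n ≤ (⊤ : Subgroup G).lowerCentralSeries n := by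
  induction n with
  | zero => exact le_rfl
  | succ n ih => exact commutator_mono ih le_top

theorem Ok.pgroup {α : G →* G} {n c : ℕ} (h : Ok p (p ^ n) α) (hG : IsPGroup p G) (hc : Nil.{u} p c)
    (hc0 : 0 < c) : derivedSeries G (n * (p * (n + (c + 1))) + (c + 1)) = ⊥ := by
  set f := n * (p * (n + (c + 1)))
  obtain ⟨β, h1, -⟩ := h.sub (gm G f) fun x hx => gm_map α hx
  have h2 := h1.card_sec (n := n) hc fun k a b => by
    obtain ⟨l, hl⟩ := (hG.to_subgroup (gm G f)).exists_card_eq
    obtain ⟨j, -, rfl⟩ := (Nat.dvd_prime_pow hp.out).1 (hl ▸ b)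
    exact pow_dvd_pow _ ((Nat.pow_le_pow_iff_right hp.out.one_lt).1 a)
  have h3 : (gm G f).lowerCentralSeries (c + 1) = ⊥ := by
    by_contra hne
    have h4 := S3781.result hG (f + 1) (by omega) (gm G f) le_rfl (c + 1) (by omega) hne
    rw [Nat.add_sub_cancel, ← top_subtype_lowerCentralSeries (gm G f) c,
      ← top_subtype_lowerCentralSeries (gm G f) (c + 1),
      relIndex_map_map_of_injective _ _ (subtype_injective _)] at h4
    have h5 := h4.trans h2
    rw [← pow_mul, Nat.pow_le_pow_iff_right hp.out.one_lt] at h5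
    omega
  refine ds_ext (QuotientGroup.mk' (gm G f)) (QuotientGroup.ker_mk' _).le ?_ ?_
  · rw [← map_derivedSeries_eq (QuotientGroup.mk'_surjective _), Subgroup.map_eq_bot_iff, QuotientGroup.ker_mk']
    exact ds_le G f
  · rw [← top_subtype_lowerCentralSeries, map_eq_bot_iff_of_injective _ (subtype_injective _)] at h3
    exact eq_bot_iff.2 ((ds_le _ _).trans h3.le)

theorem Ok.core {α : G →* G} {n c : ℕ} [Group.IsSolvable G] (h : Ok p (p ^ n) α)
    (hG : pPrimeCore p G = ⊥) (hc : Nil.{u} p c) (hc0 : 0 < c) :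
    derivedSeries G ((((p ^ n) ^ (p * 1)).factorial + 1) + (n * (p * (n + (c + 1))) + (c + 1))) = ⊥ := by
  have hF : IsPGroup p (fittingSubgroup G) := by
    rw [Solv.fitting_eq_pCore hG]; exact Solv.isPGroup_pCore p G
  obtain ⟨β, h1, -⟩ := h.sub (frattini G) (h.char _)
  refine ds_ext (QuotientGroup.mk' (frattini G)) (QuotientGroup.ker_mk' _).le ?_
    (h1.pgroup (hF.to_le Solv.frattini_le_fitting) hc hc0)
  obtain ⟨γ, h2, -⟩ := h.quot (frattini G) (h.char _)
  set V := fittingSubgroup (G ⧸ frattini G) with hV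
  obtain ⟨δ, h3, -⟩ := h2.sub V (h2.char _)
  haveI := Solv.isMulCommutative_fitting_of_frattini_eq_bot (Solv.frattini_quotient_frattini (G := G))
  letI : CommGroup V := { (inferInstance : Group V) with mul_comm := fun a b => mul_comm' a b }
  have h4 : Nat.card V ≤ (p ^ n) ^ (p * 1) := Ok.card_le h3 fun v => by
    obtain ⟨x, hx, e⟩ := (Solv.fitting_quotient_of_le_frattini le_rfl).le v.2
    apply Subtype.ext
    rw [pow_one, SubmonoidClass.coe_pow, ← e, ← map_pow]
    exact (QuotientGroup.eq_one_iff _).2 (Solv.map_frattini_le_frattini _ (Solv.pow_mem_map_frattini hF hx))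
  let ρ : G ⧸ frattini G →* MulAut V := MulAut.conjNormal
  haveI : Group.IsSolvable ρ.range := Group.isSolvable_of_surjective ρ.rangeRestrict_surjective
  refine ds_ext ρ.rangeRestrict (N := V) ?_ (ds_card ?_) ?_
  · rw [MonoidHom.ker_rangeRestrict]
    refine le_trans (fun x hx => ?_) Solv.centralizer_fitting_le
    intro y hy
    have := congrArg Subtype.val (DFunLike.congr_fun (MonoidHom.mem_ker.1 hx) ⟨y, hy⟩)
    exact (mul_inv_eq_iff_eq_mul.1 this).symm
  · refine (card_le_card_group _).trans ((Nat.card_le_card_of_injective (fun x : MulAut V => x.toEquiv)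
      MulEquiv.toEquiv_injective).trans ?_)
    exact (Nat.card_perm (α := V)).le.trans (Nat.factorial_le h4)
  · exact (commutator_eq_bot_iff _).2 inferInstance

theorem nil_kk : Nil.{u} p (∑ i ∈ Finset.range (2 ^ (p - 1) - 1), (p - 1) ^ i) := fun _ _ _ h => kk h

theorem nil_kk3 : Nil.{u} 3 2 := fun _ _ _ h => kk3 h

end Cfsg.Agent.Kr
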