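import Cfsg.Agent.Lib.Fusion.MCyc
import Cfsg.Agent.Lib.Solv.Super

/-! Strongly closed generalized extraspecial subgroups. -/

set_option autoImplicit false
set_option linter.unusedSectionVars false
set_option linter.unusedVariables false
open Cfsg

namespace Cfsg.Agent.MCyc

open Subgroup Cfsg.Agent.BG Cfsg.Agent.Fusion
open scoped commutatorElement

universe u
variable {G : Type u} [Group G] [Finite G] {p : ℕ} [hp : Fact p.Prime]

omit [Finite G] in
theorem iso_prod {A B : Subgroup G} (h1 : ∀ a ∈ A, ∀ b ∈ B, Commute a b) (h2 : A ⊓ B = ⊥)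
    (h3 : A ⊔ B = ⊤) : Nonempty (G ≃* A × B) := by
  have hc : ∀ (a : A) (b : B), Commute (A.subtype a) (B.subtype b) := fun a b => h1 a a.2 b b.2
  refine ⟨(MulEquiv.ofBijective (A.subtype.noncommCoprod B.subtype hc) ⟨
    (MonoidHom.noncommCoprod_injective _ _ hc).2 ⟨subtype_injective _, subtype_injective _, by
      rw [range_subtype, range_subtype, disjoint_iff, h2]⟩, MonoidHom.range_eq_top.1 (by
      rw [MonoidHom.noncommCoprod_range, range_subtype, range_subtype, h3])⟩).symm⟩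

omit [Finite G] in
theorem nm_top (N : Subgroup G) [N.Normal] (g : G) : g ∈ Nm(N) := by
  rw [normalizer_eq_top]; trivial

theorem LM.ges (hp2 : p ≠ 2) {S T : Subgroup G} (h : LM p S T) {z : G} (zT : z ∈ T)
    (zS : ∀ s ∈ S, Commute s z) (zp : z ^ p = 1) (cz : ∀ x ∈ T, ∀ y ∈ T, ⁅x, y⁆ ∈ zpowers z)
    (pz : ∀ x ∈ T, x ^ p ∈ zpowers z)
    (hx : (∀ a ∈ T ⊓ pCore p G, a ^ p = 1) → ∀ x ∈ T, x ∉ pCore p G → x ^ p ≠ 1) : False := by
  have hAn := h.normal
  set A := T ⊓ pCore p G with hA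
  have := actKer_normal A (pCore p G)
  have zA : z ∈ A := ⟨zT, h.con fun r hr => (zS r (h.core hr)).eq⟩
  obtain ⟨x, xT, xR⟩ := SetLike.not_le_iff_exists.1 h.nle
  have zc : ∀ s ∈ S, ∀ w ∈ zpowers z, Commute s w := fun s hs w hw =>
    Solv.Commute.of_mem_zpowers (zS s hs) (mem_zpowers s) hw
  obtain ⟨g, hg⟩ : ∃ g, g * z * g⁻¹ ∉ zpowers z := by_contra fun e => by
    push Not at e
    have : (zpowers z).Normal := ⟨fun n hn g => zpowers_le.2
      (show z ∈ (zpowers z).comap (MulAut.conj g).toMonoidHom from e g) hn⟩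
    exact xR (h.mem (U := zpowers z) xT (fun r hr => cz x xT r hr.1) fun r hr => by
      rw [commutatorElement_eq_one_iff_commute.2 (zc x (h.sc.1 xT) r hr)]; exact one_mem _)
  have dis := Solv.zpowers_inf_eq_bot_of_prime hp.out (by rw [conj_pow, zp]; simp) hg
  have one : ∀ {a}, a ∈ zpowers z → g⁻¹ * a * g⁻¹⁻¹ ∈ zpowers z → a = 1 := fun {a} h1 ⟨k, hk⟩ =>
    mem_bot.1 (dis ▸ ⟨h1, k, by simp only [conj_zpow] at hk ⊢; rw [hk]; group⟩)
  have hexp : ∀ a ∈ A, a ^ p = 1 := fun a ha => one (pz a ha.1) (by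
    rw [← conj_pow]; exact pz _ (hAn.conj_mem a ha _).1)
  have x1 := hx hexp x xT xR
  have e : zpowers (x ^ p) = zpowers z :=
    le_antisymm (zpowers_le.2 (pz x xT)) (zpowers_le.2 (mem_zp zp (pz x xT) x1))
  have top : ∀ (N : Subgroup G) [N.Normal] (g : G), g ∈ Nm(N) := fun N _ g => by
    rw [normalizer_eq_top]; trivial
  refine sl2 hp2 (A := A) (N := Comp.actKer A (pCore p G)) (x := x) (fun a ha b hb =>
    commutatorElement_eq_one_iff_commute.1 (one (cz a ha.1 b hb.1) (by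
      convert cz _ (hAn.conj_mem a ha g⁻¹).1 _ (hAn.conj_mem b hb g⁻¹).1 using 1
      simp only [commutatorElement_def]; group))) hexp ⟨top _ _, fun r hr => h.comm xT hr⟩
    (zpowers_le.2 zA (pz x xT)) x1 (fun a ha => e ▸ cz x xT a ha.1) (fun g hg hc => hg ?_)
    ⟨g, fun hg' => hg ?_⟩ fun g hg hc => h.comm' xT (mem_core (A := A) (U := A) h.con inf_le_right
      (fun r hr => ?_) (fun r hr => ?_) fun r hr => ?_)
  · set w := x ^ p with hw
    obtain ⟨d, hd, e1⟩ := (h.syl.of_le (D := C1(w)) (fun s hs => mem_centralizer_singleton_iff.2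
      (zc s hs w (pz x xT)).eq) le_top).conj (D := zpowers (g⁻¹ * x * g⁻¹⁻¹)) (zpowers_le.2
        (mem_centralizer_singleton_iff.2 (by
          calc _ = g⁻¹ * (x * (g * w * g⁻¹)) * g := by group
            _ = _ := by rw [hc.eq]; group))) (by
      have := (h.pT.to_le (zpowers_le.2 xT)).map (MulAut.conj g⁻¹).toMonoidHom
      rwa [MonoidHom.map_zpowers] at this)
    have e2 := pz _ (h.sc.2 x xT (d * g⁻¹) (by simpa [mul_assoc] using e1 _ (mem_zpowers _)))
    rw [conj_pow, ← hw, ← e] at e2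
    have e3 := inv_mem (Solv.mem_normalizer_zpowers e2)
    have e4 : d ∈ Nm(zpowers w) := Solv.mem_normalizer_zpowers (by
      rw [mem_centralizer_singleton_iff.1 hd]; simp)
    exact conj_mem_of_mem_normalizer (by simpa using mul_mem e3 e4) (mem_zpowers w)
  · exact conj_mem_of_mem_normalizer (e ▸ Solv.mem_normalizer_zpowers hg') (mem_zpowers z)
  · have := (inferInstance : (Comp.actKer A (pCore p G)).Normal).conj_mem _ (inv_mem hg) x
    exact (mul_mem hg this).2 r hr |> fun x => by simpa [commutatorElement_def, mul_assoc] using x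
  · simpa [commutatorElement_def, mul_assoc] using mul_mem (hAn.conj_mem r hr ⁅g, x⁆) (inv_mem hr)
  · rw [commutatorElement_eq_one_iff_commute.2 (hc r hr)]; exact one_mem _

/-- A group of class two with an elementary abelian centralizer. -/
structure GE (p : ℕ) {G : Type*} [Group G] (z w : G) : Prop where
  cz : ∀ x y : G, ⁅x, y⁆ ∈ zpowers z
  pz : ∀ x : G, x ^ p ∈ zpowers z
  cen : ∀ x : G, Commute x z
  ab : ∀ a b : G, Commute a w → Commute b w → Commute a b
  ex : ∀ a : G, Commute a w → a ^ p = 1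

omit [Finite G] hp in
theorem GE.equiv {z w : G} (h : GE p z w) {H : Type*} [Group H] (e : G ≃* H) : GE p (e z) (e w) := by
  have k : ∀ {a}, a ∈ zpowers z → e a ∈ zpowers (e z) := by
    rintro _ ⟨k, rfl⟩; exact ⟨k, (map_zpow _ _ _).symm⟩
  have c : ∀ {a b}, Commute (e a) (e b) → Commute a b := fun h => by
    simpa using h.map e.symm
  refine ⟨fun x y => ?_, fun x => ?_, fun x => ?_, fun x y => ?_, fun x => ?_⟩ <;>
    obtain ⟨x, rfl⟩ := e.surjective x
  · obtain ⟨y, rfl⟩ := e.surjective y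
    simpa using k (h.cz x y)
  · simpa using k (h.pz x)
  · exact (h.cen x).map e
  · obtain ⟨y, rfl⟩ := e.surjective y
    exact fun a b => (h.ab x y (c a) (c b)).map e
  · exact fun a => by rw [← map_pow, h.ex x (c a), map_one]

namespace GE

variable {z w x : G} (h : GE p z w) (hx : ¬ Commute x w)
include h

theorem zp : z ^ p = 1 := h.ex z (h.cen w).symm

theorem cen' {s : G} (hs : s ∈ zpowers z) (y : G) : Commute s y :=
  Solv.Commute.of_mem_zpowers (h.cen y).symm hs (mem_zpowers y)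

theorem pgroup : IsPGroup p G := fun y => ⟨2, by
  rw [sq, pow_mul]; exact Solv.pow_eq_one_of_mem_zpowers h.zp (h.pz y)⟩

theorem tr {x w : G} (hx : ¬ Commute x w) (a : G) : ∃ i : ℤ, Commute x (a * w ^ i) := by
  have cj : ∀ a b : G, a * b * a⁻¹ = ⁅a, b⁆ * b := fun a b => by
    simp only [commutatorElement_def]; group
  obtain ⟨i, hi⟩ := zpowers_le.2 (mem_zp h.zp (h.cz x w) fun e =>
    hx (commutatorElement_eq_one_iff_commute.1 e)) (h.cz x a)
  exact ⟨_, transv (i := i) (by rw [cj, ← hi]) (cj x w) (h.cen' (h.cz x w) _) (h.cen' (h.cz x w) _)⟩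

include hx

theorem central {c : G} (h1 : Commute c w) (h2 : Commute x c) : c ∈ center G :=
  mem_center_iff.2 fun y => by
    obtain ⟨i, hi⟩ := h.tr (fun e => hx e.symm) y
    have := (h.ab _ _ hi.symm h1).mul_left (h2.zpow_left (-i))
    simpa [mul_assoc] using this.eq

theorem normal {N : Subgroup G} (hz : z ∈ N) : N.Normal := ⟨fun n hn g => by
  simpa [commutatorElement_def] using mul_mem (zpowers_le.2 hz (h.cz g n)) hn⟩

theorem mem_z {e : G} (he : e ∈ zpowers z ⊔ zpowers w ⊔ zpowers x) (hc : e ∈ center G) :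
    e ∈ zpowers z := by
  have := h.normal hx (mem_zpowers z)
  have := h.normal hx (mem_sup_left (T := zpowers w) (mem_zpowers z))
  obtain ⟨t, ht, s, hs, rfl⟩ := (Solv.mem_sup_of_le_normalizer' fun _ _ => nm_top _ _).1 he
  obtain ⟨a, ha, b, hb, rfl⟩ := (Solv.mem_sup_of_le_normalizer' fun _ _ => nm_top _ _).1 ht
  have c1 : Commute (a * b) w := (h.cen' ha w).mul_left (Solv.commute_of_mem_zpowers hb)
  have s1 : s ∈ zpowers z := zpowers_le.2 (h.pz x) (mem_pow (h.pgroup.to_subgroup _) hs (H := C1(w))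
    (mem_centralizer_singleton_iff.2 (by
      have := c1.inv_left.mul_left (Commute.symm (mem_center_iff.1 hc w))
      rw [inv_mul_cancel_left] at this
      exact this.eq))
    fun e => hx (mem_centralizer_singleton_iff.1 e))
  have b1 := mem_pow (h.pgroup.to_subgroup _) hb (H := center G) (by
    have := mul_mem (mul_mem (inv_mem (mem_center_iff.2 fun y => (h.cen' ha y).symm.eq)) hc)
      (inv_mem (mem_center_iff.2 fun y => (h.cen' s1 y).symm.eq))
    simpa [mul_assoc] using this) fun e => hx (mem_center_iff.1 e x)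
  rw [h.ex w (Commute.refl w), zpowers_one_eq_bot, mem_bot] at b1
  simpa [b1] using mul_mem ha s1

theorem z_mem : z ∈ zpowers ⁅x, w⁆ :=
  mem_zp h.zp (h.cz x w) fun e => hx (commutatorElement_eq_one_iff_commute.1 e)

theorem z_ne : z ≠ 1 := fun e => hx (commutatorElement_eq_one_iff_commute.1 (by
  simpa [e] using h.cz x w))

theorem decomp : ∃ A : Subgroup G, IsElementaryAbelian p A ∧
    Nonempty (G ≃* (zpowers z ⊔ zpowers w ⊔ zpowers x : Subgroup G) × A) := by
  have hV : IsElementaryAbelian p (center G) :=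
    ⟨inferInstance, fun a ha => h.ex a (Commute.symm (mem_center_iff.1 ha w))⟩
  obtain ⟨A, h1, h2⟩ := exists_compl_of_elem hV (U := zpowers z)
    fun s hs => mem_center_iff.2 fun y => (h.cen' hs y).symm.eq
  have hA : A ≤ center G := h2 ▸ le_sup_right
  refine ⟨A, ⟨⟨⟨fun a b => Subtype.ext (mem_center_iff.1 (hA b.2) a)⟩⟩, fun a ha => hV.2 a (hA ha)⟩,
    iso_prod (fun a _ b hb => mem_center_iff.1 (hA hb) a) (eq_bot_iff.2 fun e he =>
      h1.le ⟨he.2, h.mem_z hx he.1 (hA he.2)⟩) ((eq_top_iff' _).2 fun y => ?_)⟩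
  obtain ⟨i, hi⟩ := h.tr (fun e => hx e.symm) y
  obtain ⟨j, hj⟩ := h.tr hx (y * x ^ i)
  have h3 := h.central hx (hi.symm.mul_left ((Commute.refl w).zpow_left j)) hj
  have h4 : center G ≤ zpowers z ⊔ zpowers w ⊔ zpowers x ⊔ A :=
    h2 ▸ sup_le_sup_right (le_sup_of_le_left le_sup_left) A
  simpa [mul_assoc] using mul_mem (mul_mem (h4 h3) (mem_sup_left (mem_sup_left (mem_sup_right
    (zpow_mem (mem_zpowers w) (-j)))))) (mem_sup_left (mem_sup_right (zpow_mem (mem_zpowers x) (-i))))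

theorem card : Nat.card (zpowers z ⊔ zpowers w ⊔ zpowers x : Subgroup G) = p ^ 3 := by
  have := h.normal hx (mem_zpowers z)
  have := h.normal hx (mem_sup_left (T := zpowers w) (mem_zpowers z))
  rw [← Comp.relIndex_mul_card le_sup_left, ← Comp.relIndex_mul_card (le_sup_left (b := zpowers w)),
    Solv.relIndex_sup_zpowers_of_prime hp.out (nm_top _ _) (fun e => hx (mem_centralizer_singleton_iff.1
      (sup_le (c := C1(w)) (zpowers_le.2 (mem_centralizer_singleton_iff.2 (h.cen w).symm.eq))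
      (zpowers_le.2 (mem_centralizer_singleton_iff.2 rfl)) e))) (mem_sup_left (h.pz x)),
    Solv.relIndex_sup_zpowers_of_prime hp.out (nm_top _ _) (fun e => hx (h.cen' e x).symm) (h.pz w),
    Nat.card_zpowers, orderOf_eq_prime h.zp (h.z_ne hx)]
  ring

theorem extra : IsExtraspecial p (zpowers z ⊔ zpowers w ⊔ zpowers x : Subgroup G) := by
  set E := zpowers z ⊔ zpowers w ⊔ zpowers x
  have zE : zpowers z ≤ E := le_sup_of_le_left le_sup_left
  have wE : w ∈ E := mem_sup_left (mem_sup_right (mem_zpowers w))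
  have xE : x ∈ E := mem_sup_right (mem_zpowers x)
  have a : center E = (zpowers z).subgroupOf E := le_antisymm (fun (e : E) he => h.mem_z hx e.2
    (h.central hx (c := e.1) (show e.1 * w = w * e.1 from
      (congrArg Subtype.val (mem_center_iff.1 he ⟨w, wE⟩)).symm) (show x * e.1 = e.1 * x from
      congrArg Subtype.val (mem_center_iff.1 he ⟨x, xE⟩)))) fun e he =>
    mem_center_iff.2 fun y => Subtype.ext (h.cen' he y).symm.eq
  have b : _root_.commutator E ≤ center E := a ▸ commutator_le.2 fun x _ y _ => h.cz x y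
  have c : center E ≤ _root_.commutator E := a ▸ fun e he => by
    obtain ⟨k, hk⟩ := zpowers_le.2 (h.z_mem hx) he
    have : e = ⁅(⟨x, xE⟩ : E), ⟨w, wE⟩⁆ ^ k := Subtype.ext hk.symm
    exact this ▸ zpow_mem (commutator_mem_commutator (mem_top _) (mem_top _)) k
  refine ⟨⟨h.pgroup.to_subgroup _, le_antisymm (Solv.frattini_le_of_commutator_le_of_pow_mem
    (p := p) b fun y => a ▸ h.pz y) (c.trans (Solv.commutator_le_frattini_of_isPGroup
      (h.pgroup.to_subgroup _))), le_antisymm b c⟩, ?_⟩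
  rw [a, Comp.card_subgroupOf zE, Nat.card_zpowers, orderOf_eq_prime h.zp (h.z_ne hx)]

theorem odd (hp2 : p ≠ 2) (h1 : x ^ p = 1) : ∃ (E : Subgroup G) (A : Subgroup G),
    IsExtraspecial p E ∧ Nat.card E = p ^ 3 ∧ Monoid.exponent E = p ∧ IsElementaryAbelian p A ∧
      Nonempty (G ≃* E × A) := by
  obtain ⟨A, h2, h3⟩ := h.decomp hx
  refine ⟨_, A, h.extra hx, h.card hx, ?_, h2, h3⟩
  let K : Subgroup G :=
    { carrier := {y | y ^ p = 1}
      one_mem' := one_pow p
      inv_mem' := fun {y} (hy : y ^ p = 1) => show y⁻¹ ^ p = 1 by rw [inv_pow, hy, inv_one]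
      mul_mem' := fun {a b} (ha : a ^ p = 1) (hb : b ^ p = 1) => show (a * b) ^ p = 1 by
        rw [mul_pow_of_class2 hp2 (h.cen' (h.cz _ _) _) (h.cen' (h.cz _ _) _)
          (Solv.pow_eq_one_of_mem_zpowers h.zp (h.cz _ _)), ha, hb, mul_one] }
  have hK : zpowers z ⊔ zpowers w ⊔ zpowers x ≤ K := sup_le (sup_le (zpowers_le.2 h.zp)
    (zpowers_le.2 (h.ex w (Commute.refl w)))) (zpowers_le.2 h1)
  have : Nontrivial (zpowers z ⊔ zpowers w ⊔ zpowers x : Subgroup G) :=
    Finite.one_lt_card_iff_nontrivial.1 (h.card hx ▸ Nat.one_lt_pow (by omega) hp.out.one_lt)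
  exact (Monoid.exponent_eq_prime_iff hp.out).2 fun g hg =>
    orderOf_eq_prime (Subtype.ext (hK g.2)) hg

end GE

theorem GE.two {z w x : G} (h : GE 2 z w) (hx : ¬ Commute x w) : ∃ A : Subgroup G,
    IsElementaryAbelian 2 A ∧ Nonempty (G ≃* DihedralGroup 4 × A) := by
  have w2 := h.ex w (Commute.refl w)
  have zz : ∀ {s}, s ∈ zpowers z → s ≠ 1 → s = z := fun a b =>
    ((Transfer.mem_zpowers_iff_of_sq (by rw [← sq, h.zp])).1 a).resolve_left b
  wlog x2 : x ^ 2 ≠ 1 generalizing x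
  · push Not at x2
    refine this (x := x * w) (fun e => hx (by simpa using e.mul_left (Commute.refl w).inv_left))
      fun e => hx ?_
    rw [sq] at e x2 w2
    calc x * w = (x * w)⁻¹ := eq_inv_of_mul_eq_one_left e
      _ = w * x := by rw [mul_inv_rev, inv_eq_of_mul_eq_one_left x2, inv_eq_of_mul_eq_one_left w2]
  obtain ⟨A, h2, ⟨e⟩⟩ := h.decomp hx
  have e1 := zz (h.pz x) x2
  have e2 := zz (h.cz w x) fun e => hx (commutatorElement_eq_one_iff_commute.1 e).symm
  have o : orderOf x = 4 := orderOf_eq_prime_pow (p := 2) (n := 1) (by simpa using x2) (by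
    rw [show 2 ^ (1 + 1) = 2 * 2 by rfl, pow_mul, e1, h.zp])
  obtain ⟨f⟩ := Solv.nonempty_dihedral_of_gens (S := zpowers z ⊔ zpowers w ⊔ zpowers x) (a := x)
    (b := w) (fun e => hx (Solv.commute_of_mem_zpowers e).symm) (by
      rw [sup_comm (zpowers z), sup_assoc, sup_eq_right.2 (show zpowers z ≤ zpowers x from
        zpowers_le.2 (e1 ▸ pow_mem (mem_zpowers x) 2)), sup_comm]) w2 (by
      calc w * x * w⁻¹ = ⁅w, x⁆ * x := by simp only [commutatorElement_def]; group
        _ = x ^ 4 * x⁻¹ := by rw [e2, ← e1]; group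
        _ = _ := by rw [← o, pow_orderOf_eq_one, one_mul])
  exact ⟨A, h2, ⟨e.trans ((o ▸ f).prodCongr (MulEquiv.refl _))⟩⟩

section Sys

open Cfsg.FusionSystem

variable {Ω : Type u} [Group Ω] {S : Subgroup Ω} [Finite S] {F : FusionSystem S} {P : Subgroup Ω}

theorem ge_of_not_normal (hS : IsPGroup p S) (hF : F.IsSaturated p) (hP : F.StronglyClosed P)
    (h1 : frattini P = _root_.commutator P) (h2 : Nat.card (_root_.commutator P) = p)
    (hn : ¬ F.IsNormal P) : ∃ z w x : P, GE p z w ∧ ¬ Commute x w ∧ ∀ s ∈ S, Commute s z := by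
  have := finite_of_le hP.1
  have pP := pgroup_of_le hS hP.1
  obtain ⟨z, hz⟩ := (Subgroup.isCyclic_iff_exists_zpowers_eq_top _).1 (isCyclic_of_prime_card h2)
  have cz : ∀ x y : P, ⁅x, y⁆ ∈ zpowers z := fun x y => hz ▸ commutator_mem_commutator (mem_top _) (mem_top _)
  have pz : ∀ x : P, x ^ p ∈ zpowers z := fun x => hz ▸ h1 ▸ Solv.pow_mem_frattini pP x
  have oz : orderOf z = p := by rw [← Nat.card_zpowers, hz, h2]
  have co : ∀ {a : P}, a ∈ zpowers z → (a : Ω) ∈ zpowers (z : Ω) := by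
    rintro _ ⟨k, rfl⟩; exact ⟨k, by simp⟩
  have eZ : zpowers (z : Ω) = ⁅P, P⁆ := by
    rw [← map_subtype_commutator, ← hz, MonoidHom.map_zpowers]; rfl
  have ZS : zpowers (z : Ω) ≤ S := zpowers_le.2 (hP.1 z.2)
  have nZ : S ≤ Nm(zpowers (z : Ω)) := eZ ▸ Solv.le_normalizer_commutator
    (StronglyClosed.le_normalizer hP) (StronglyClosed.le_normalizer hP)
  have zS : ∀ s ∈ S, Commute s z := fun s hs => by
    obtain ⟨n, hn⟩ := IsPGroup.iff_card.1 hS
    exact (Solv.le_centralizer_of_card_prime_of_coprime hp.out (by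
      rw [Nat.card_zpowers, orderOf_coe, oz]) nZ (hn ▸ Nat.Coprime.pow_left n (by
        have := hp.out.pos
        simpa using (Nat.coprime_self_sub_right (m := 1) this).2 (Nat.coprime_one_right p))) hs _
      (mem_zpowers _)).symm
  have hw : ¬ F.WeaklyClosed (zpowers (z : Ω)) := fun hw => hn (normal_of_chain hS hF hP (n := 2)
    (C := fun i => match i with
      | 0 => ⊥
      | 1 => zpowers (z : Ω)
      | _ => P) rfl le_rfl (by
      rintro (_ | _ | i) _; exacts [bot_le, zpowers_le.2 z.2, le_rfl]) (by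
      rintro (_ | _ | i) _
      exacts [StronglyClosed.weaklyClosed (stronglyClosed_bot F), hw,
        StronglyClosed.weaklyClosed hP]) (by
      rintro (_ | _ | i) hi x hx y hy
      · exact mem_bot.2 (commutatorElement_eq_one_iff_commute.2
          (Solv.Commute.of_mem_zpowers (zS y (hP.1 hy)).symm hx (mem_zpowers y)))
      · exact co (cz ⟨x, hx⟩ ⟨y, hy⟩)
      · omega))
  have := finite_of_le ZS
  obtain ⟨f, hf, hz'⟩ : ∃ f, Mor F (zpowers (z : Ω)) f ∧ f z ∉ zpowers (z : Ω) := by_contra fun e =>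
    hw (weaklyClosed_iff.2 ⟨ZS, fun f hf => hf.img_eq_self (by
      rintro _ ⟨k, rfl⟩
      rw [hf.map_zpow (mem_zpowers _)]
      exact zpow_mem (by_contra fun d => e ⟨f, hf, d⟩) k)⟩)
  let w : P := ⟨f z, StronglyClosed.mem hP hf (mem_zpowers _) z.2⟩
  have hW : ∀ c ∈ img f (zpowers (z : Ω)), ∃ k : ℤ, c = (w ^ k : P) := fun c hc => by
    obtain ⟨_, ⟨k, rfl⟩, rfl⟩ := hf.mem_img.1 hc
    exact ⟨k, hf.map_zpow (mem_zpowers _) k⟩
  obtain ⟨g, hg, eg⟩ := IsSaturated.exists_normalizer_mor hS hF (fullyNormalized_of_normal ZS nZ)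
    (isConj_symm hf.isConj)
  have dis := Solv.zpowers_inf_eq_bot_of_prime (b := w) hp.out (Subtype.ext (by
    change f z ^ p = 1
    rw [← hf.map_pow (mem_zpowers _), ← oz, ← orderOf_coe, pow_orderOf_eq_one, hf.map_one]))
    fun e => hz' (co e)
  have mN : ∀ a : P, Commute a w → (a : Ω) ∈ normalizerIn S (img f (zpowers (z : Ω))) := fun a ha =>
    ⟨hP.1 a.2, centralizer_le_normalizer _ fun c hc => by
      obtain ⟨k, rfl⟩ := hW c hc
      exact congrArg Subtype.val (ha.zpow_right k).symm.eq⟩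
  have one : ∀ c : P, c ∈ zpowers z → g c ∈ zpowers (z : Ω) → c = 1 := fun c h1 h2 => by
    obtain ⟨k, hk⟩ := hW c ((hg.apply_mem_img_iff (le_normalizerIn hf.img_le) (mN c
      (Solv.Commute.of_mem_zpowers (Subtype.ext (zS w (hP.1 w.2)).symm.eq) h1
        (mem_zpowers w)))).1 (eg.ge h2))
    exact mem_bot.1 (dis.le ⟨h1, k, Subtype.ext hk.symm⟩)
  have gP : ∀ a : P, Commute a w → g a ∈ P := fun a ha => StronglyClosed.mem hP hg (mN a ha) a.2
  have ge : GE p z w := ⟨cz, pz, fun x => Subtype.ext (zS x (hP.1 x.2)).eq, fun a b ha hb =>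
    commutatorElement_eq_one_iff_commute.1 (one _ (cz a b) (by
      change g ⁅(a : Ω), (b : Ω)⁆ ∈ _
      rw [hg.map_commutator (mN a ha) (mN b hb)]
      exact co (cz ⟨_, gP a ha⟩ ⟨_, gP b hb⟩))), fun a ha => one _ (pz a) (by
      rw [coe_pow, hg.map_pow (mN a ha)]
      exact co (pz ⟨_, gP a ha⟩))⟩
  obtain ⟨x, hx⟩ : ∃ x, ¬ Commute x w := by_contra fun e => by
    push Not at e
    have : _root_.commutator P ≤ ⊥ := commutator_le.2 fun a _ b _ =>
      mem_bot.2 (commutatorElement_eq_one_iff_commute.2 (ge.ab a b (e a) (e b)))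
    rw [le_bot_iff.1 this, card_bot] at h2
    exact hp.out.ne_one h2.symm
  exact ⟨z, w, x, ge, hx, zS⟩

theorem normal_ges (hS : IsPGroup p S) (hF : F.IsSaturated p) (hP : F.StronglyClosed P)
    (h1 : frattini P = _root_.commutator P) (h2 : Nat.card (_root_.commutator P) = p)
    (h3 : p = 2 → ¬ ∃ (A : Type) (_ : CommGroup A), (∀ a : A, a ^ 2 = 1) ∧
      Nonempty (P ≃* DihedralGroup 4 × A))
    (h4 : p ≠ 2 → ¬ ∃ (E : Type) (_ : Group E) (A : Type) (_ : CommGroup A), IsExtraspecial p E ∧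
      Nat.card E = p ^ 3 ∧ Monoid.exponent E = p ∧ (∀ a : A, a ^ p = 1) ∧ Nonempty (P ≃* E × A)) :
    F.IsNormal P := by_contra fun hn => by
  obtain ⟨z, w, x, ge, hx, zS⟩ := ge_of_not_normal hS hF hP h1 h2 hn
  have := finite_of_le hP.1
  let e : P ≃* Shrink.{0} P := Shrink.mulEquiv.symm
  have := Finite.of_equiv _ e.toEquiv
  have c : ∀ {a b}, ¬ Commute a b → ¬ Commute (e a) (e b) := fun h h' => h (by
    simpa using h'.map e.symm)
  by_cases hp2 : p = 2
  · subst hp2
    obtain ⟨A, ⟨h5, h6⟩, ⟨φ⟩⟩ := (ge.equiv e).two (c hx)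
    exact h3 rfl ⟨A, { (inferInstance : Group A) with mul_comm := h5.is_comm.comm },
      fun a => Subtype.ext (h6 a a.2), ⟨e.trans φ⟩⟩
  have k : ∀ y : P, y ^ p = 1 → Commute y w := fun y hy => by_contra fun d => by
    obtain ⟨E, A, a1, a2, a3, ⟨h5, h6⟩, ⟨φ⟩⟩ := (ge.equiv e).odd (c d) hp2 (by
      rw [← map_pow, hy, map_one])
    exact h4 hp2 ⟨E, inferInstance, A, { (inferInstance : Group A) with mul_comm := h5.is_comm.comm },
      a1, a2, a3, fun a => Subtype.ext (h6 a a.2), ⟨e.trans φ⟩⟩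
  obtain ⟨R, L, _, _, ι, hR, -, hi, lm, e1, e2, hC, hC'⟩ := local_model hS hF hP hn
  have hN := le_normalizerIn hR
  have zN := hN (hC' ⟨hP.1 z.2, fun y hy => (zS y (hR hy)).eq⟩)
  have pw : ∀ {y} (hy : y ∈ normalizerIn S R) (n : ℕ), ap ι (y ^ n) = ap ι y ^ n := fun hy n => by
    rw [ap_of_mem _ hy, ap_of_mem _ (pow_mem hy n), ← map_pow]; rfl
  have co : ∀ {a : P}, a ∈ zpowers z → ap ι a ∈ zpowers (ap ι z) := by
    rintro _ ⟨k, rfl⟩
    refine ⟨k, ?_⟩
    simp only [SubgroupClass.coe_zpow]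
    rw [ap_of_mem _ zN, ap_of_mem _ (zpow_mem zN k), ← map_zpow]; rfl
  have k' : ∀ y : P, (y : Ω) ∈ normalizerIn S R → ap ι y ^ p = 1 → Commute y w := fun y hy d =>
    k y (Subtype.ext (ap_inj hi (pow_mem hy p) (one_mem _) (by
      rw [coe_pow, pw hy, d, coe_one, ap_of_mem _ (one_mem _)]; exact (map_one ι).symm)))
  refine lm.ges hp2 (z := ap ι z) (ap_mem_imageAlong inf_le_right ⟨z.2, zN⟩) ?_ ?_ ?_ ?_ ?_
  · rintro _ ⟨s, rfl⟩
    rw [ap_of_mem _ zN]
    exact Commute.map (Subtype.ext (zS s s.2.1).eq) ι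
  · rw [← pw zN, ← coe_pow, ge.zp, coe_one, ap_of_mem _ (one_mem _)]; exact map_one ι
  · intro a' ha' b' hb'
    obtain ⟨a, ha, rfl⟩ := (mem_imageAlong' inf_le_right).1 ha'
    obtain ⟨b, hb, rfl⟩ := (mem_imageAlong' inf_le_right).1 hb'
    have := co (ge.cz ⟨a, ha.1⟩ ⟨b, hb.1⟩)
    rw [ap_of_mem _ ha.2, ap_of_mem _ hb.2, ← map_commutatorElement]
    exact ap_of_mem ι (⁅(⟨a, ha.2⟩ : normalizerIn S R), (⟨b, hb.2⟩ : normalizerIn S R)⁆).2 ▸ this
  · intro a' ha'
    obtain ⟨a, ha, rfl⟩ := (mem_imageAlong' inf_le_right).1 ha'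
    rw [← pw ha.2]
    exact co (ge.pz ⟨a, ha.1⟩)
  · intro hA t ht htR d
    obtain ⟨y, hy, rfl⟩ := (mem_imageAlong' inf_le_right).1 ht
    refine htR (e2 ▸ ap_mem_imageAlong hN (hC ⟨hy.1, fun q hq => congrArg Subtype.val
      (ge.ab ⟨q, hq.1⟩ ⟨y, hy.1⟩ (k' _ (hN hq.2) (hA _ (e1 ▸ ap_mem_imageAlong
        (inf_le_right.trans hN) hq))) (k' _ hy.2 d)).eq⟩))

end Sys

end Cfsg.Agent.MCyc
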