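import Cfsg.Agent.Lib.Fusion.MCyc2
import Cfsg.Agent.Lib.Transfer.Hol

/-! Automorphisms of odd order of metacyclic `2`-groups. -/

set_option autoImplicit false
set_option linter.unusedSectionVars false
set_option linter.unusedVariables false
open Cfsg

namespace Cfsg.Agent.MCyc

open Subgroup Cfsg.Agent.BG Cfsg.Agent.Fusion
open scoped commutatorElement

universe u
variable {G : Type u} [Group G] [Finite G] {p : ℕ} [hp : Fact p.Prime]

theorem cent_of_chain {A U : Subgroup G} [A.Normal] (hA : IsPGroup p A) {g : G}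
    (hg : (orderOf g).Coprime p) (h1 : ⁅A, zpowers g⁆ ≤ U) (h2 : ⁅U, zpowers g⁆ ≤ Ph A) :
    g ∈ Ct(A) := by
  have cop : ∀ B : Subgroup G, B ≤ A → (Nat.card (zpowers g)).Coprime (Nat.card B) := fun B hB => by
    obtain ⟨n, hn⟩ := IsPGroup.iff_card.1 (hA.to_le hB)
    rw [hn, Nat.card_zpowers]; exact hg.pow_right n
  refine Solv.coprime_frattini_le_centralizer (A := zpowers g) (K := A) (by
    have := cop (Ph A) (map_subtype_le _)
    rwa [Comp.card_map_subtype] at this) ?_ (fun y _ => nm_top A y) (mem_zpowers g)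
  rw [← Solv.coprime_commutator_commutator (fun y _ => nm_top A y) (cop A le_rfl)
    (.inr (haveI := hA.isNilpotent; inferInstance))]
  exact (commutator_mono h1 le_rfl).trans h2

theorem step_two {U : Subgroup G} {b g : G} (hg : g ∈ Nm(U)) (hb : b ∈ Nm(U)) (h2 : b ^ 2 ∈ U)
    (h : g * b * g⁻¹ ∈ U ⊔ zpowers b) : ⁅g, b⁆ ∈ U := by
  rcases (Transfer.mem_sup_zpowers_iff hb h2).1 h with h | h
  · exact mul_mem h (inv_mem (((mem_normalizer_iff.1 hg) b).2 h))
  · exact h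

theorem comm_le_of {U X : Subgroup G} {b g : G} (hg : g ∈ Nm(X)) (hU : U ≤ Nm(X)) (hb : b ∈ Nm(X))
    (h1 : ∀ u ∈ U, ⁅g, u⁆ ∈ X) (h2 : ⁅g, b⁆ ∈ X) : ⁅U ⊔ zpowers b, zpowers g⁆ ≤ X := by
  have k : ∀ {u}, u ∈ Nm(X) → ⁅g, u⁆ ∈ X → u ∈ Comp.actKer X (zpowers g) := fun {u} a c => by
    have : g ∈ Comp.actKer X (zpowers u) := ⟨hg, fun y hy => by
      have : u ∈ Comp.actKer X ⊥ := ⟨a, by simp⟩
      refine zpowers_le.2 (show u ∈ ({ carrier := {y | y ∈ Nm(X) ∧ ⁅g, y⁆ ∈ X}, one_mem' := ⟨one_mem _, by simp⟩, mul_mem' := ?_, inv_mem' := ?_ } : Subgroup G) from ⟨a, c⟩) hy |>.2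
      · rintro x y ⟨a1, a2⟩ ⟨b1, b2⟩
        refine ⟨mul_mem a1 b1, ?_⟩
        convert mul_mem a2 (conj_mem_of_mem_normalizer a1 b2) using 1
        simp only [commutatorElement_def]; group
      · rintro x ⟨a1, a2⟩
        refine ⟨inv_mem a1, ?_⟩
        convert conj_mem_of_mem_normalizer (inv_mem a1) (inv_mem a2) using 1
        simp only [commutatorElement_def]; group⟩
    exact ⟨a, fun y hy => by
      rw [← commutatorElement_inv]; exact inv_mem ((zpowers_le.2 this hy).2 u (mem_zpowers u))⟩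
  exact (Comp.le_actKer_iff.1 (sup_le (fun u hu => k (hU hu) (h1 u hu)) (zpowers_le.2 (k hb h2)))).2

theorem moves {A : Subgroup G} [hn : A.Normal] (hA : IsPGroup 2 A) {a b g : G}
    (e : zpowers a ⊔ zpowers b = A) (hg : (orderOf g).Coprime 2) (h : g ∉ Ct(A)) :
    g * a * g⁻¹ ∉ Ph A ⊔ zpowers a := fun x => h (by
  have aA : a ∈ A := e ▸ mem_sup_left (mem_zpowers a)
  have bA : b ∈ A := e ▸ mem_sup_right (mem_zpowers b)
  have c1 := step_two (nm_top _ g) (nm_top _ a) (Solv.pow_mem_map_frattini hA aA) x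
  have c2 := comm_le_of (U := Ph A) (nm_top _ g) (fun y _ => nm_top _ y) (nm_top _ a)
    (fun u hu => mul_mem ((inferInstance : (Ph A).Normal).conj_mem u hu g) (inv_mem hu)) c1
  have n1 : zpowers g ≤ Nm(Ph A ⊔ zpowers a) :=
    le_normalizer_iff_commutator_le_left.2 (c2.trans le_sup_left)
  have n2 : A ≤ Nm(Ph A ⊔ zpowers a) := le_normalizer_iff_commutator_le_left.2
    ((commutator_mono (sup_le (map_subtype_le _) (zpowers_le.2 aA)) le_rfl).trans
      ((Solv.commutator_le_map_frattini hA.isNilpotent).trans le_sup_left))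
  have e2 : Ph A ⊔ zpowers a ⊔ zpowers b = A := by
    rw [sup_assoc, e]; exact sup_eq_right.2 (map_subtype_le _)
  refine cent_of_chain hA hg (U := Ph A ⊔ zpowers a) ?_ c2
  nth_rw 1 [← e2]
  exact comm_le_of (n1 (mem_zpowers g)) le_normalizer (n2 bA)
    (fun u hu => mul_mem (conj_mem_of_mem_normalizer (n1 (mem_zpowers g)) hu) (inv_mem hu))
    (step_two (n1 (mem_zpowers g)) (n2 bA) (mem_sup_left (Solv.pow_mem_map_frattini hA bA))
      (e2.symm ▸ hn.conj_mem b bA g)))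

theorem meta_aut {A : Subgroup G} [hn : A.Normal] (hA : IsPGroup 2 A) (hm : Meta A) {g : G}
    (hg : (orderOf g).Coprime 2) (h : g ∉ Ct(A)) : Nonempty (A ≃* QuaternionGroup 2) ∨
      ∃ n : ℕ, Nonempty (A ≃* Multiplicative (ZMod (2 ^ (n + 1))) ×
        Multiplicative (ZMod (2 ^ (n + 1)))) := by
  obtain ⟨a, b₀, hb₀, e₀⟩ := hm
  have aA : a ∈ A := e₀ ▸ mem_sup_left (mem_zpowers a)
  have na : A ≤ Nm(zpowers a) := e₀ ▸ sup_le le_normalizer (zpowers_le.2 hb₀)
  have pw : ∀ r ∈ A, r ^ 2 ∈ Ph A := fun r hr => Solv.pow_mem_map_frattini hA hr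
  have m1 := moves hA e₀ hg h
  have m2 := moves hA e₀ (g := g ^ 2) (hg.coprime_dvd_left (orderOf_pow_dvd 2)) fun x =>
    h (Solv.mem_of_pow_mem_of_coprime_orderOf x hg)
  set b := g * a * g⁻¹ with hb
  have bA : b ∈ A := hn.conj_mem a aA g
  have e : zpowers a ⊔ zpowers b = A := by
    have b0A : b₀ ∈ A := e₀ ▸ mem_sup_right (mem_zpowers b₀)
    refine Solv.eq_of_sup_map_frattini (sup_le (zpowers_le.2 aA) (zpowers_le.2 bA)) ?_
    obtain ⟨s, hs, t, ht, e1⟩ := (Solv.mem_sup_of_le_normalizer' (zpowers_le.2 hb₀)).1 (e₀.ge bA)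
    nth_rw 1 [← e₀]
    refine sup_le (le_sup_of_le_left le_sup_left) (zpowers_le.2 (mem_sup_left (by_contra fun x => ?_)))
    have := zpowers_le.2 (pw b₀ b0A) (mem_pow (hA.to_le (zpowers_le.2 b0A)) ht (by
      simpa [e1] using mul_mem_sup (inv_mem hs) (mem_zpowers b)) x)
    exact m1 (e1 ▸ mul_mem (mem_sup_right hs) (mem_sup_left this))
  have nb : A ≤ Nm(zpowers b) := fun r hr => Solv.mem_normalizer_zpowers (by
    obtain ⟨k, hk⟩ := conj_mem_of_mem_normalizer (na (hn.conj_mem r hr g⁻¹)) (mem_zpowers a)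
    exact ⟨k, by simp only [hb, conj_zpow] at hk ⊢; rw [hk]; group⟩)
  have m3 := moves hA (a := b) (b := a) (sup_comm (zpowers a) _ ▸ e) hg h
  set d := g * b * g⁻¹ with hd
  replace m2 : d ∉ Ph A ⊔ zpowers a := by
    rwa [show d = g ^ 2 * a * (g ^ 2)⁻¹ by rw [hd, hb, sq]; group]
  have dA : d ∈ A := hn.conj_mem b bA g
  have aP : a ∉ Ph A := fun x => m1 (mem_sup_left ((inferInstance : (Ph A).Normal).conj_mem a x g))
  obtain ⟨n, ha⟩ : ∃ n, orderOf a = 2 ^ (n + 1) := by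
    obtain ⟨_ | n, hn⟩ := IsPGroup.iff_card.1 (hA.to_le (zpowers_le.2 aA)) <;>
      rw [Nat.card_zpowers] at hn
    · exact absurd (by rw [orderOf_eq_one_iff.1 hn]; exact one_mem _) aP
    · exact ⟨n, hn⟩
  have ob : orderOf b = 2 ^ (n + 1) := by
    rw [← ha]; exact orderOf_injective (MulAut.conj g).toMonoidHom (MulAut.conj g).injective a
  have od : orderOf d = 2 ^ (n + 1) := by
    rw [← ob]; exact orderOf_injective (MulAut.conj g).toMonoidHom (MulAut.conj g).injective b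
  have ne : ∀ {x : G}, orderOf x = 2 ^ (n + 1) → x ^ 2 ^ n ≠ 1 := fun {x} hx e => by
    have := orderOf_dvd_of_pow_eq_one e
    rw [hx, Nat.pow_dvd_pow_iff_le_right one_lt_two] at this
    omega
  have D1 : ⁅A, A⁆ ≤ zpowers a := der_le_zpowers (na bA) e
  have D2 : ⁅A, A⁆ ≤ zpowers b := der_le_zpowers (nb aA) (sup_comm (zpowers a) _ ▸ e)
  have DC : ∀ w ∈ ⁅A, A⁆, ∀ x ∈ A, Commute x w := fun w hw x hx =>
    mem_centralizer_singleton_iff.1 ((e.ge.trans (sup_le (c := C1(w)) (zpowers_le.2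
      (mem_centralizer_singleton_iff.2 (Solv.commute_of_mem_zpowers (D1 hw)).symm.eq)) (zpowers_le.2
      (mem_centralizer_singleton_iff.2 (Solv.commute_of_mem_zpowers (D2 hw)).symm.eq)))) hx)
  have DP : ⁅A, A⁆ ≤ Ph A := Solv.commutator_le_map_frattini hA.isNilpotent
  have Dsq : ⁅A, A⁆ ≤ zpowers (a ^ 2) := fun w hw =>
    mem_pow (hA.to_le (zpowers_le.2 aA)) (D1 hw) (DP hw) aP
  have DN : ∀ w ∈ ⁅A, A⁆, w ^ 2 ^ n = 1 := fun w hw => Solv.pow_eq_one_of_mem_zpowers (by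
    rw [← pow_mul, ← pow_succ', ← ha, pow_orderOf_eq_one]) (Dsq hw)
  have mp : ∀ x ∈ A, ∀ y ∈ A, ∀ k, (x * y) ^ k = x ^ k * y ^ k * ⁅y⁻¹, x⁻¹⁆ ^ k.choose 2 :=
    fun x hx y hy k =>
      have := commutator_mem_commutator (inv_mem hy) (inv_mem hx)
      Solv.mul_pow_of_comm (DC _ this x hx) (DC _ this y hy)
        (by simp only [commutatorElement_def]; group) k
  have sub : ∀ k : ℕ, (∀ w ∈ ⁅A, A⁆, w ^ k.choose 2 = 1) → ∃ K : Subgroup G,
      ∀ x, x ∈ K ↔ x ∈ A ∧ x ^ k = 1 := fun k hk => ⟨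
    { carrier := {x | x ∈ A ∧ x ^ k = 1}
      one_mem' := ⟨one_mem _, one_pow k⟩
      inv_mem' := fun {x} hx => ⟨inv_mem hx.1, by rw [inv_pow, hx.2, inv_one]⟩
      mul_mem' := fun {x y} hx hy => ⟨mul_mem hx.1 hy.1, by
        rw [mp x hx.1 y hy.1, hx.2, hy.2, hk _ (commutator_mem_commutator (inv_mem hy.1)
          (inv_mem hx.1))]; simp⟩ }, fun _ => Iff.rfl⟩
  by_cases H : ∀ w ∈ ⁅A, A⁆, w ^ (2 ^ n).choose 2 = 1
  · obtain ⟨K, hK⟩ := sub _ H
    obtain ⟨K2, hK2⟩ := sub (2 ^ (n + 1)) fun w hw => by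
      rw [Nat.choose_two_right, pow_succ', mul_assoc, Nat.mul_div_cancel_left _ two_pos, pow_mul,
        DN w hw, one_pow]
    have AK : A ≤ K2 := e ▸ sup_le (zpowers_le.2 ((hK2 a).2 ⟨aA, ha ▸ pow_orderOf_eq_one a⟩))
      (zpowers_le.2 ((hK2 b).2 ⟨bA, ob ▸ pow_orderOf_eq_one b⟩))
    have PK : Ph A ≤ K := Solv.map_frattini_le_of_commutator_le_of_pow_mem (p := 2)
      (fun w hw => (hK w).2 ⟨commutator_le_self _ hw, DN w hw⟩) fun x hx => (hK _).2
        ⟨pow_mem hx 2, by rw [← pow_mul, ← pow_succ']; exact ((hK2 x).1 (AK hx)).2⟩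
    have dis : zpowers a ⊓ zpowers b = ⊥ := by_contra fun x => by
      obtain ⟨t, ht, ot⟩ := Transfer.exists_invol_mem_of_isPGroup
        (hA.to_le (inf_le_left.trans (zpowers_le.2 aA))) x
      have t2 : t ^ 2 = 1 := ot ▸ pow_orderOf_eq_one t
      have t1 : t ≠ 1 := fun e => by simp [e] at ot
      have e1 := (Solv.eq_one_or_eq_of_sq ha ht.1 t2).resolve_left t1
      have e2 := (Solv.eq_one_or_eq_of_sq ob ht.2 t2).resolve_left t1
      have abK : a * b ∈ K := (hK _).2 ⟨mul_mem aA bA, by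
        rw [mp a aA b bA, H _ (commutator_mem_commutator (inv_mem bA) (inv_mem aA)), ← e1, ← e2,
          ← sq, t2, one_mul]⟩
      obtain ⟨s, hs, t, ht, e3⟩ := (Solv.mem_sup_of_le_normalizer' (zpowers_le.2 (na bA))).1 (e.ge dA)
      have s1 := ((Transfer.mem_sup_zpowers_iff (nm_top _ a) (pw a aA)).1
        (mem_sup_right hs)).resolve_left fun x => m3 (e3 ▸ mul_mem_sup x ht)
      have t1 := ((Transfer.mem_sup_zpowers_iff (nm_top _ b) (pw b bA)).1
        (mem_sup_right ht)).resolve_left fun x => m2 (e3 ▸ mul_mem (mem_sup_right hs) (mem_sup_left x))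
      refine ne od ((hK d).1 ?_).2
      convert mul_mem (mul_mem (PK s1) (PK ((inferInstance : (Ph A).Normal).conj_mem _ t1 a))) abK
        using 1
      rw [e3]; group
    have c : Commute a b := commutatorElement_eq_one_iff_commute.1 (mem_bot.1 (dis.le
      ⟨D1 (commutator_mem_commutator aA bA), D2 (commutator_mem_commutator aA bA)⟩))
    have hc : ∀ (x : zpowers a) (y : zpowers b),
        Commute ((zpowers a).subtype x) ((zpowers b).subtype y) :=
      fun x y => Solv.Commute.of_mem_zpowers c x.2 y.2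
    have φ := MonoidHom.ofInjective ((MonoidHom.noncommCoprod_injective _ _ hc).2
      ⟨subtype_injective _, subtype_injective _, by
        rw [range_subtype, range_subtype, disjoint_iff, dis]⟩)
    rw [MonoidHom.noncommCoprod_range, range_subtype, range_subtype, e] at φ
    have key : ∀ a : G, orderOf a = 2 ^ (n + 1) →
        Nonempty (zpowers a ≃* Multiplicative (ZMod (2 ^ (n + 1)))) :=
      fun a ha => ⟨mulEquivOfCyclicCardEq (by simp [ha])⟩
    exact .inr ⟨n, ⟨φ.symm.trans ((key a ha).some.prodCongr (key b ob).some)⟩⟩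
  push Not at H
  obtain ⟨w, hw, w1⟩ := H
  rcases n with _ | n
  · simp at w1
  replace w1 : w ^ 2 ^ n ≠ 1 := fun x => w1 (by
    rw [Nat.choose_two_right, pow_succ', mul_assoc, Nat.mul_div_cancel_left _ two_pos, pow_mul, x,
      one_pow])
  have gen : ∀ {x : G}, x ∈ A → orderOf x = 2 ^ (n + 2) → w ∈ zpowers x → x ∉ Ph A →
      x ^ 2 ∈ zpowers w := fun {x} hx ox h1 h2 => by_contra fun y => w1
    (Solv.pow_eq_one_of_mem_zpowers (by
      rw [← pow_mul, ← pow_mul, ← pow_succ', ← pow_succ', ← ox, pow_orderOf_eq_one])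
      (mem_pow (hA.to_le (zpowers_le.2 (pow_mem hx 2))) (mem_pow (hA.to_le (zpowers_le.2 hx)) h1
        (DP hw) h2) (mem_zpowers w) y))
  have a2 := gen aA ha (D1 hw) aP
  have b2 := gen bA ob (D2 hw) fun x => m1 (mem_sup_left x)
  set c := ⁅b, a⁆ with hc
  have cD : c ∈ ⁅A, A⁆ := commutator_mem_commutator bA aA
  have e1 : b * a * b⁻¹ = c * a := by simp only [hc, commutatorElement_def]; group
  have c2 : c ^ 2 = 1 := by
    have : b * a ^ 2 * b⁻¹ = c ^ 2 * a ^ 2 := by rw [← conj_pow, e1, (DC c cD a aA).symm.mul_pow]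
    rw [(DC _ (zpowers_le.2 hw a2) b bA).eq, mul_inv_cancel_right] at this
    simpa using this
  have Dc : ⁅A, A⁆ ≤ zpowers c := der_le_of_gen2 (Z := ⊥) (a := b) (b := a) (fun r hr =>
    Solv.mem_normalizer_zpowers (by rw [(DC c cD r hr).eq]; simp)) (by rw [bot_sup_eq, sup_comm, e])
    (by simp) (mem_zpowers c)
  have w2 := Solv.pow_eq_one_of_mem_zpowers c2 (Dc hw)
  rcases n with _ | n
  swap
  · exact absurd (by rw [pow_succ', pow_mul, w2, one_pow]) w1
  have eqc : ∀ {x}, x ∈ ⁅A, A⁆ → x ≠ 1 → x = c := fun h1 h2 =>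
    ((Transfer.mem_zpowers_iff_of_sq (by rw [← sq, c2])).1 (Dc h1)).resolve_left h2
  have e2 := eqc (zpowers_le.2 hw a2) (by simpa using ne ha)
  have e3 := eqc (zpowers_le.2 hw b2) (by simpa using ne ob)
  obtain ⟨φ⟩ := Transfer.nonempty_quaternion_closure (a := a) (s := b) (n := 2) ha (by
    rw [e1, ← e2, eq_inv_iff_mul_eq_one, ← pow_succ, ← pow_succ]
    exact (congrArg (a ^ ·) ha).symm.trans (pow_orderOf_eq_one a)) (e3.trans e2.symm) fun x => m1 (mem_sup_right x)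
  rw [Transfer.closure_pair_eq, e] at φ
  exact .inl ⟨φ⟩

theorem meta_not_pgroup {X : Type u} [Group X] [Finite X] (hX : IsPGroup 2 X) (hm : IsMetacyclic X)
    (hA : ¬ IsPGroup 2 (MulAut X)) : Nonempty (X ≃* QuaternionGroup 2) ∨
      ∃ n : ℕ, Nonempty (X ≃* Multiplicative (ZMod (2 ^ (n + 1))) ×
        Multiplicative (ZMod (2 ^ (n + 1)))) := by
  obtain ⟨α, h1, h2⟩ : ∃ α : MulAut X, (orderOf α).Coprime 2 ∧ α ≠ 1 := by_contra fun h =>
    hA ((pgroup_of_coprime (K := ⊤) fun g _ a => by_contra fun b => h ⟨g, a, b⟩).of_equiv topEquiv)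
  have e : ((⊤ : Subgroup X).map Transfer.hl : Subgroup (Transfer.Hol X)) ≃* X :=
    (equivMapOfInjective _ _ Transfer.hl_injective).symm.trans topEquiv
  obtain ⟨⟨φ⟩⟩ | ⟨n, ⟨φ⟩⟩ := meta_aut (hX.of_equiv e.symm) (meta_iff.2 (meta_of_inj e.toMonoidHom
    e.injective hm)) (g := Transfer.hr α) (by rwa [orderOf_injective _ Transfer.hr_injective])
    fun x => h2 (Transfer.hr_eq_one_of_mem_centralizer x)
  exacts [.inl ⟨e.symm.trans φ⟩, .inr ⟨n, ⟨e.symm.trans φ⟩⟩]

section Sys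

open Cfsg.FusionSystem

variable {Ω : Type u} [Group Ω] {S : Subgroup Ω} [Finite S] {F : FusionSystem S} {P : Subgroup Ω}

theorem inner_of_normal (hS : IsPGroup p S) (hF : F.IsSaturated p) (hn : F.IsNormal S)
    (h : IsPGroup p (F.autGroup S)) : IsInner F := isInner_iff.2 fun P f hf => by
  obtain ⟨g, hg, e1, e2⟩ := IsNormal.ext hn hf
  obtain ⟨α, hα, e3⟩ := (hg.mono le_sup_right).exists_aut e2
  obtain ⟨s, hs, e4⟩ := mem_autInducedBy.1 ((IsFullyAutomized.sylowIn (IsSaturated.fullyAutomized hS hF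
    (fullyNormalized_top F))).max _ le_rfl h (autInducedBy_le_autGroup F le_rfl) hα)
  exact ⟨s, hs, fun x hx => by rw [← e1 x hx, ← e3 x (hf.le hx), e4 x (hf.le hx)]⟩

theorem meta_cases (hS : IsPGroup 2 S) (hF : F.IsSaturated 2) (hm : IsMetacyclic S) : IsInner F ∨
    (∃ n : ℕ, Nonempty (S ≃* Multiplicative (ZMod (2 ^ (n + 1))) ×
      Multiplicative (ZMod (2 ^ (n + 1))))) ∨ (∃ m, Nonempty (S ≃* DihedralGroup (2 ^ (m + 1)))) ∨
      (∃ m, 1 ≤ m ∧ Nonempty (S ≃* QuaternionGroup (2 ^ m))) ∨ IsQuasiDihedral S := by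
  by_cases hn : F.IsNormal S
  · by_cases h : IsPGroup 2 (MulAut S)
    · exact .inl (inner_of_normal hS hF hn (h.to_subgroup _))
    · rcases meta_not_pgroup hS hm h with h | h
      exacts [.inr (.inr (.inr (.inl ⟨1, le_rfl, h⟩))), .inr (.inl h)]
  · exact .inr (.inr (normal_two hS hF (stronglyClosed_top F) hm hn))

end Sys

end Cfsg.Agent.MCyc
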