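import Cfsg.Agent.Lib.Fusion.Qd2

/-! Minimal parabolic groups: the `L`-lemma and quadratic offenders. -/

set_option autoImplicit false
open Cfsg

namespace Cfsg.Agent.Qd

open Subgroup Cfsg.Agent.Transfer Matrix
open scoped commutatorElement

variable {G : Type*} [Group G] [Finite G] {p : ℕ} [hp : Fact p.Prime]
  {T M A K H V W Y : Subgroup G}

theorem involves_of_emb {r : ℕ} [Fact r.Prime] (hr : p ≠ r) {z : SL2 (ZMod p)} (hz : z ^ r = 1)
    (hn : (zpowers z).Normal) (hfix : ∀ v, z.1 *ᵥ v = v → v = 0) {f : (Fin 2 → ZMod p) → G}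
    (h1 : ∀ v w, f (v + w) = f v * f w) (h2 : Function.Injective f)
    (h3 : ∀ M : SL2 (ZMod p), ∃ h, ∀ v, h * f v * h⁻¹ = f (M.1 *ᵥ v)) : Involves (qd p) G := by
  let Act : G → SL2 (ZMod p) → Prop := fun g M => ∀ v, g * f v * g⁻¹ = f (M.1 *ᵥ v)
  have h0 : f 0 = 1 := by simpa using h1 0 0
  have hi : ∀ v, f (-v) = (f v)⁻¹ := fun v => by
    rw [eq_inv_iff_mul_eq_one, ← h1, neg_add_cancel, h0]
  have am : ∀ {g k M N}, Act g M → Act k N → Act (g * k) (M * N) := fun {g k M N} a b v => by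
    rw [← sl2_mulVec_mulVec, ← a, ← b]; group
  have ai : ∀ {g M}, Act g M → Act g⁻¹ M⁻¹ := fun {g M} a v => by
    have := a ((M⁻¹).1 *ᵥ v)
    rw [sl2_mulVec_mulVec, mul_inv_cancel] at this
    simp only [Matrix.SpecialLinearGroup.coe_one, one_mulVec] at this
    rw [← this]; group
  have a1 : ∀ w, Act (f w) 1 := fun w v => by
    rw [← h1, add_comm, h1]; simp
  have ap : ∀ {g M}, Act g M → ∀ n : ℕ, Act (g ^ n) (M ^ n) := fun {g M} a n => by
    induction n with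
    | zero => simpa [h0] using a1 0
    | succ n ih => rw [pow_succ, pow_succ]; exact am ih a
  let D : Subgroup G :=
    { carrier := {g | ∃ M ∈ zpowers z, Act g M}
      one_mem' := ⟨1, one_mem _, h0 ▸ a1 0⟩
      mul_mem' := fun ⟨_, a, b⟩ ⟨_, c, d⟩ => ⟨_, mul_mem a c, am b d⟩
      inv_mem' := fun ⟨_, a, b⟩ => ⟨_, inv_mem a, ai b⟩ }
  obtain ⟨h, hh⟩ := h3 z
  obtain ⟨m, ⟨j, hj⟩, hm, -⟩ := Fusion.exists_pow_pelement (p := r) (isOfFinOrder_of_finite h) 1
  have ht : Act (h ^ m) z := by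
    have := ap hh m
    rwa [pow_eq_pow_mod m hz, show m % r = 1 % r by rw [pow_one] at hm; exact hm, ← pow_eq_pow_mod 1 hz,
      pow_one] at this
  obtain ⟨T, hT, hle⟩ := exists_isSyl_ge (H := D) (Fusion.pgroup_zpowers hj)
    (zpowers_le.2 ⟨z, mem_zpowers z, ht⟩)
  have htT := hle (mem_zpowers _)
  have hN : ∀ M, ∃ n ∈ normalizer (T : Set G), Act n M := fun M => by
    obtain ⟨g, hg⟩ := h3 M
    obtain ⟨k, ⟨N, hN, hk⟩, n, hn', rfl⟩ := hT.frattini (g := g) (mem_normalizer_of_conj_mem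
      fun d ⟨N, a, b⟩ => ⟨_, hn.conj_mem N a M, am (am hg b) (ai hg)⟩)
    obtain ⟨i, rfl⟩ := (mem_powers_iff_mem_zpowers.2 hN)
    exact ⟨(h ^ m) ^ i * n, mul_mem (le_normalizer (pow_mem htT i)) hn', by
      simpa using am (ap ht i) (am (ai hk) hg)⟩
  let Z : Subgroup (G × qdOver (ZMod p)) :=
    { carrier := {x | ∃ v, ∃ n ∈ normalizer (T : Set G), ∃ M, Act n M ∧ x = (f v * n, mkQ M v)}
      one_mem' := ⟨0, 1, one_mem _, 1, h0 ▸ a1 0, by rw [h0, mkQ_one, mul_one]; rfl⟩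
      mul_mem' := by
        rintro _ _ ⟨v, n, hn, M, a, rfl⟩ ⟨w, k, hk, N, a', rfl⟩
        exact ⟨v + M.1 *ᵥ w, n * k, mul_mem hn hk, _, am a a', by
          rw [Prod.mk_mul_mk, mkQ_mul, h1, ← a w]; congr 1; group⟩
      inv_mem' := by
        rintro _ ⟨v, n, hn, M, a, rfl⟩
        exact ⟨-((M⁻¹).1 *ᵥ v), n⁻¹, inv_mem hn, _, ai a, by
          rw [Prod.inv_mk, mkQ_inv, hi, ← ai a v]; congr 1; group⟩ }
  refine involves_of_graph Z (fun q => ?_) ?_
  · obtain ⟨M, v, rfl⟩ := mkQ_surj q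
    obtain ⟨n, hn, a⟩ := hN M
    exact ⟨_, v, n, hn, M, a, rfl⟩
  · rintro q ⟨v, n, hn, M, a, e⟩
    obtain ⟨e1, rfl⟩ := Prod.ext_iff.1 e
    obtain rfl : n = (f v)⁻¹ := eq_inv_of_mul_eq_one_right e1.symm
    have e2 : (f v)⁻¹ * h ^ m * (f v)⁻¹⁻¹ * (h ^ m)⁻¹ = f (-v + z.1 *ᵥ v) := by
      rw [h1, hi, ← ht v]; group
    have hp' : ∀ (w) (n : ℕ), f (n • w) = f w ^ n := fun w n => by
      induction n with
      | zero => simp [h0]
      | succ n ih => rw [succ_nsmul, h1, ih, pow_succ]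
    have e3 : f (-v + z.1 *ᵥ v) = 1 := mem_bot.1 ((IsPGroup.disjoint_of_ne p r hr _ _
      (Fusion.pgroup_zpowers (k := 1) (by
        rw [pow_one, ← hp', ← Nat.cast_smul_eq_nsmul (ZMod p), ZMod.natCast_self, zero_smul, h0]))
      hT.pgroup).le_bot ⟨mem_zpowers _,
        e2 ▸ T.mul_mem (conj_mem_of_mem_normalizer hn htT) (T.inv_mem htT)⟩)
    obtain rfl : v = 0 := hfix v (neg_add_eq_zero.1 (h2 (e3.trans h0.symm))).symm
    change mkQ M 0 = 1
    rw [← mkQ_one, mkQ_inj]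
    exact ⟨sl2_eq_of_mulVec fun w => h2 (by rw [← a w, h0]; simp), rfl⟩

/-- an element of order `3` in `SL₂(2)` -/
def z3 : SL2 (ZMod 2) := ⟨!![0, 1; 1, 1], by decide⟩

theorem z3_spec : z3 ^ 3 = 1 ∧ (zpowers z3).Normal ∧ ∀ v, z3.1 *ᵥ v = v → v = 0 := by
  refine ⟨by decide, ⟨?_⟩, by decide⟩
  have h : ∀ g : SL2 (ZMod 2), g * z3 * g⁻¹ = z3 ^ 1 ∨ g * z3 * g⁻¹ = z3 ^ 2 := by decide
  rintro _ ⟨k, rfl⟩ g
  rw [← conj_zpow]
  exact zpow_mem ((h g).elim (fun e => e ▸ npow_mem_zpowers _ _) fun e => e ▸ npow_mem_zpowers _ _) k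

theorem involves_of_pair {u w a b : G} (hu : u ^ p = 1) (hw : w ^ p = 1) (hc : Commute u w)
    (hi : ∀ i j : ℕ, u ^ i * w ^ j = 1 → p ∣ i ∧ p ∣ j) (h1 : a * u * a⁻¹ = u)
    (h2 : a * w * a⁻¹ = u * w) (h3 : b * u * b⁻¹ = u * w) (h4 : b * w * b⁻¹ = w) :
    Involves (qd p) G := by
  let f : (Fin 2 → ZMod p) → G := fun v => u ^ (v 0).val * w ^ (v 1).val
  have hv : ∀ {x : G}, x ^ p = 1 → ∀ s t : ZMod p, x ^ (s + t).val = x ^ s.val * x ^ t.val :=
    fun h s t => by rw [ZMod.val_add, ← pow_eq_pow_mod _ h, pow_add]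
  have f1 : ∀ v v', f (v + v') = f v * f v' := fun v v' => by
    simp only [f, Pi.add_apply, hv hu, hv hw, mul_assoc]
    rw [← mul_assoc (u ^ _) (w ^ _), (hc.pow_pow _ _).eq, mul_assoc]
  have f0 : f 0 = 1 := by simp [f]
  have f2 : Function.Injective f := fun v v' e => by
    have := hi _ _ (mul_right_cancel ((f1 (v - v') v').symm.trans (by
      rw [sub_add_cancel, e, one_mul])))
    rw [← ZMod.natCast_eq_zero_iff, ← ZMod.natCast_eq_zero_iff, ZMod.natCast_zmod_val,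
      ZMod.natCast_zmod_val] at this
    ext i; fin_cases i; exacts [sub_eq_zero.1 this.1, sub_eq_zero.1 this.2]
  let D : Subgroup (SL2 (ZMod p)) :=
    { carrier := {M | ∃ h, ∀ v, h * f v * h⁻¹ = f (M.1 *ᵥ v)}
      one_mem' := ⟨1, by simp⟩
      mul_mem' := fun ⟨g, a⟩ ⟨k, b⟩ => ⟨g * k, fun v => by rw [← sl2_mulVec_mulVec, ← a, ← b]; group⟩
      inv_mem' := fun {M} ⟨g, a⟩ => ⟨g⁻¹, fun v => by
        have := a ((M⁻¹).1 *ᵥ v)
        rw [sl2_mulVec_mulVec, mul_inv_cancel] at this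
        simp only [Matrix.SpecialLinearGroup.coe_one, one_mulVec] at this
        rw [← this]; group⟩ }
  have key : ∀ g v, g * f v * g⁻¹ = (g * u * g⁻¹) ^ (v 0).val * (g * w * g⁻¹) ^ (v 1).val :=
    fun g v => by simp only [f, conj_pow]; group
  have hD : D = ⊤ := sl2_zmod_eq_top one_ne_zero one_ne_zero ⟨a, fun v => by
    rw [key, h1, h2, hc.mul_pow, upU_mulVec]; simp [f, hv hu, mul_assoc]⟩ ⟨b, fun v => by
    have : (loU (1 : ZMod p)).1 *ᵥ v = ![v 0, v 0 + v 1] := by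
      ext i; fin_cases i <;> simp [loU, mulVec, dotProduct]
    rw [key, h3, h4, hc.mul_pow, this]; simp [f, hv hw, mul_assoc]⟩
  have f3 : ∀ M : SL2 (ZMod p), ∃ h, ∀ v, h * f v * h⁻¹ = f (M.1 *ᵥ v) := fun M =>
    hD.ge (mem_top M)
  by_cases hp2 : p = 2
  · subst hp2
    exact involves_of_emb (r := 3) (z := z3) (by decide) z3_spec.1 z3_spec.2.1 z3_spec.2.2 f1 f2 f3
  · refine involves_of_emb (r := 2) (z := -1) hp2 (by simp) ⟨fun n hn g => ?_⟩ (fun v h => ?_) f1 f2 f3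
    · obtain ⟨k, rfl⟩ := hn
      have : Commute g ((-1) ^ k) := (Commute.neg_one_right g).zpow_right k
      rw [this.eq, mul_inv_cancel_right]; exact ⟨k, rfl⟩
    · have e4 : (2 : ZMod p) • v = 0 := by
        rw [two_smul]; nth_rewrite 1 [← h]; simp [neg_mulVec]
      exact (smul_eq_zero.1 e4).resolve_left (two_ne_zero_of_char hp2)

/-- `T` lies in the unique maximal subgroup `M`, and in no other conjugate of it. -/
structure UM (T M : Subgroup G) : Prop where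
  le : T ≤ M
  ne : M ≠ ⊤
  max : ∀ H, T ≤ H → H ≠ ⊤ → H ≤ M
  fix : ∀ z, cj z T ≤ M → z ∈ M

theorem inf_le_pCore (hM : M ≠ ⊤) (h : ∀ H, T ≤ H → H ≠ ⊤ → H ≤ M) (hT : IsPGroup p T) [K.Normal]
    (hK : K ≤ M) : T ⊓ K ≤ pCore p G := by
  obtain ⟨S, hS, h1⟩ := exists_isSyl_ge hT le_top
  have h2 := hS.inf_of_le_normalizer (K := K) le_top le_normalizer_of_normal
  refine (inf_le_inf_right _ h1).trans (Fusion.le_pCore (normalizer_eq_top_iff.1 ?_) h2.pgroup)
  by_contra hn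
  refine hM (eq_top_iff.2 fun g _ => ?_)
  obtain ⟨k, hk, n, hn', rfl⟩ := h2.frattini (g := g) (le_normalizer_of_normal (mem_top g))
  exact M.mul_mem (hK hk) (h _ (fun t ht => mem_normalizer_inf (le_normalizer (h1 ht))
    (le_normalizer_of_normal (mem_top _))) hn hn')

theorem UM.pCore_le (h : UM T M) (hT : IsPGroup p T) : pCore p G ≤ M := by
  have := Fusion.pCore_normal p G
  by_cases e : T ⊔ pCore p G = ⊤
  · obtain ⟨z, -, h1, h2⟩ := exists_mem_normalizer_notMem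
      (e ▸ Solv.isPGroup_sup hT (Fusion.pCore_pgroup G) le_normalizer_of_normal) h.ne.lt_top
    exact (h2 (h.fix z ((cj_mono z h.le).trans (cj_eq_of_mem_normalizer h1).le))).elim
  · exact le_sup_right.trans (h.max _ le_sup_left e)

omit [Finite G] in
theorem UM.map {G' : Type*} [Group G'] (h : UM T M) {f : G →* G'} (hf : Function.Surjective f)
    (hk : f.ker ≤ M) : UM (T.map f) (M.map f) := by
  have e := comap_map_eq_self hk
  refine ⟨map_mono h.le, fun e' => h.ne (by rw [← e, e', comap_top]), fun H h1 h2 => ?_,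
    fun z hz => ?_⟩
  · rw [← map_comap_eq_self_of_surjective hf H]
    exact map_mono (h.max _ (map_le_iff_le_comap.1 h1) fun e' => h2 (by
      rw [← map_comap_eq_self_of_surjective hf H, e', map_top_of_surjective _ hf]))
  · obtain ⟨z, rfl⟩ := hf z
    exact mem_map_of_mem f (h.fix z (cj_le_iff.2 fun t ht => e.le (by
      simpa using cj_le_iff.1 hz _ (mem_map_of_mem f ht))))

/-- The counting argument on a chief factor. -/
theorem UM.core (h : UM T M) (hT : IsPGroup p T) [W.Normal] (hW : IsElementaryAbelian p W)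
    (hmin : ∀ N : Subgroup G, N.Normal → N ≤ W → N = ⊥ ∨ N = W) (hnc : ¬ W ≤ center G)
    (hAT : A ≤ T) (hTA : T ≤ A ⊔ pCore p G) (hq : ⁅⁅W, A⁆, A⁆ = ⊥)
    (hc : (centralizer (A : Set G)).relIndex W ≤ (pCore p G).relIndex A) : Involves (qd p) G := by
  have := Fusion.pCore_normal p G
  have hWp : IsPGroup p W := fun x => ⟨1, Subtype.ext (by simpa using hW.2 _ x.2)⟩
  have hb : W ≠ ⊥ := fun e => hnc (e ▸ bot_le)
  have hab := comm_iff.1 hW.1
  have hO : pCore p G ≤ centralizer (W : Set G) := by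
    rw [← commutator_eq_bot_iff_le_centralizer, commutator_comm, ← le_bot_iff]
    exact KInf.chief_comm ⟨hb.bot_lt, ‹_›, inferInstance, fun N a _ b => hmin N a b⟩
      (Fusion.pCore_pgroup G) (Fusion.le_pCore ‹_› hWp)
  obtain ⟨U, hU⟩ : ∃ U, U = W ⊓ centralizer (A : Set G) := ⟨_, rfl⟩
  have hUW : U ≤ W := hU ▸ inf_le_left
  have hcW : ∀ z, cj z U ≤ W := fun z => (cj_mono z hUW).trans (cj_eq_of_normal z W).le
  have hUA : ∀ u ∈ U, ∀ a ∈ A, a * u = u * a := fun u hu => (hU ▸ hu).2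
  have hWA : ⁅W, A⁆ ≤ U := hU ▸ le_inf (commutator_le_left _ _)
    (commutator_eq_bot_iff_le_centralizer.1 hq)
  have hcm : ∀ a ∈ A, ∀ w ∈ W, ⁅a, w⁆ ∈ U := fun a ha w hw =>
    hWA (commutator_comm A W ▸ commutator_mem_commutator ha hw)
  have hTU : ∀ u ∈ U, T ≤ centralizer {u} := fun u hu => hTA.trans (sup_le
    (fun a ha => mem_centralizer_singleton_iff.2 (hUA u hu a ha))
    fun a ha => mem_centralizer_singleton_iff.2 (hO ha u (hUW hu)).symm)
  have hCM : ∀ u ∈ U, u ≠ 1 → centralizer {u} ≤ M := fun u hu h1 => h.max _ (hTU u hu) fun e => by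
    rcases hmin (W ⊓ center G) inferInstance inf_le_left with e' | e'
    · exact h1 (mem_bot.1 (e'.le ⟨hUW hu, mem_center_iff.2 fun g =>
        mem_centralizer_singleton_iff.1 (e.ge (mem_top g))⟩))
    · exact hnc (e'.ge.trans inf_le_right)
  have hinf : ∀ z, z ∉ M → ∀ u ∈ U, u ∈ cj z U → u = 1 := fun z hz u h1 h2 => by
    by_contra h3
    refine hz (h.fix z (le_trans ?_ (hCM u h1 h3)))
    have := cj_mono z (hTU _ (mem_cj.1 h2))
    rwa [cj_centralizer_singleton, show z * (z⁻¹ * u * z) * z⁻¹ = u by group] at this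
  have hUb : U ≠ ⊥ := fun e => hb (by
    rw [e, le_bot_iff, commutator_comm, commutator_eq_bot_iff_le_centralizer,
      le_centralizer_iff] at hWA
    rw [← e, hU, inf_eq_left.2 hWA])
  have hN : ∀ X, U ≤ X → X ≤ W → T ≤ normalizer (X : Set G) := fun X h1 h2 => hTA.trans (sup_le
    (fun a ha => mem_normalizer_of_conj_mem fun x hx => by
      simpa [commutatorElement_def] using X.mul_mem (h1 (hcm a ha x (h2 hx))) hx)
    (hO.trans ((centralizer_le h2).trans (centralizer_le_normalizer _))))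
  have hsup : ∀ z, z ∉ M → U ⊔ cj z U = W := fun z hz => by
    have h1 := sup_le hUW (hcW z)
    refine (hmin _ (normalizer_eq_top_iff.1 (by_contra fun hn => hz (h.fix z (le_trans ?_
      (h.max _ (hN _ le_sup_left h1) hn))))) h1).resolve_left fun e => hUb (eq_bot_iff.2
        (le_sup_left.trans e.le))
    rw [cj_le_iff_le_cj_inv, cj_normalizer]
    exact hN _ (by rw [cj_sup, cj_inv_cj]; exact le_sup_right)
      ((cj_mono _ h1).trans (cj_eq_of_normal _ W).le)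
  have hnn : ∀ z, U ≤ normalizer (cj z U : Set G) := fun z => le_normalizer_of_comm hW.1 hUW (hcW z)
  have hker : ∀ a ∈ A, ∀ w ∈ W, w ∉ U → a * w = w * a → a ∈ pCore p G := fun a ha w hw h1 e => by
    refine inf_le_pCore h.ne h.max hT M.normalCore_le ⟨hAT ha, fun z => ?_⟩
    by_cases hz : z ∈ M
    · exact M.mul_mem (M.mul_mem hz (h.le (hAT ha))) (M.inv_mem hz)
    obtain ⟨u, hu, u', hu', rfl⟩ := (mem_sup_iff_of_le_normalizer (hnn z⁻¹)).1
      ((hsup z⁻¹ (by simpa using hz)).ge hw)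
    rw [mem_cj, inv_inv] at hu'
    refine hCM _ hu' (fun e' => h1 ?_) (mem_centralizer_singleton_iff.2 ?_)
    · rw [conj_eq_one_iff.1 e', mul_one]; exact hu
    · rw [← mul_assoc, hUA u hu a ha, mul_assoc, mul_assoc, mul_right_inj] at e
      calc z * a * z⁻¹ * (z * u' * z⁻¹) = z * (a * u') * z⁻¹ := by group
        _ = _ := by rw [e]; group
  have hsurj : ∀ z, z ∉ M → ∀ w ∈ cj z U, w ≠ 1 → ∀ u ∈ U, ∃ a ∈ A, ⁅a, w⁆ = u := by
    intro z hz w hw h1
    have hw' := hcW z hw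
    let φ : A →* G := MonoidHom.mk' (fun a => ⁅(a : G), w⁆) fun a b => by
      have h2 := hcm _ b.2 w hw'
      calc ⁅(a : G) * b, w⁆ = a * ⁅(b : G), w⁆ * (a : G)⁻¹ * ⁅(a : G), w⁆ := by
            simp only [commutatorElement_def]; group
        _ = _ := by
            rw [hUA _ h2 _ a.2, mul_inv_cancel_right, hab _ (hUW h2) _ (hUW (hcm _ a.2 w hw'))]
    have h2 : φ.range ≤ U := by rintro _ ⟨a, rfl⟩; exact hcm _ a.2 w hw'
    have h3 : φ.ker ≤ (pCore p G).subgroupOf A := fun a ha => hker _ a.2 w hw'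
      (fun h' => h1 (hinf z hz w h' hw)) (commutatorElement_eq_one_iff_mul_comm.1 ha)
    have h4 : Nat.card U = (centralizer (A : Set G)).relIndex W := by
      have e1 := card_sup_mul_card_inf (hnn z)
      rw [hsup z hz, show U ⊓ cj z U = ⊥ from eq_bot_iff.2 fun x hx => hinf z hz x hx.1 hx.2,
        card_bot, mul_one, card_cj] at e1
      rw [← inf_relIndex_left, ← hU]
      have e2 := (U.subgroupOf W).card_mul_index
      rw [Nat.card_congr (subgroupOfEquivOfLe hUW).toEquiv, e1] at e2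
      exact (Nat.eq_of_mul_eq_mul_left Nat.card_pos e2).symm
    have h5 : φ.range = U := eq_of_le_of_card_ge h2 (by
      rw [h4, ← index_ker]
      exact hc.trans (Nat.le_of_dvd (Nat.pos_of_ne_zero index_ne_zero_of_finite)
        (index_dvd_of_le h3)))
    exact fun u hu => (h5.ge hu).elim fun a e => ⟨a, a.2, e⟩
  obtain ⟨z, -, hz⟩ := SetLike.exists_of_lt h.ne.lt_top
  obtain ⟨u, hu, hu1⟩ := (bot_or_exists_ne_one U).resolve_left hUb
  obtain ⟨a, ha, e1⟩ := hsurj z hz _ (conj_mem_cj hu) (by simpa using hu1) u hu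
  obtain ⟨b, hb', e2⟩ := hsurj z⁻¹ (by simpa using hz) _ (conj_mem_cj hu) (by rwa [Ne, conj_eq_one_iff]) u hu
  have hw := hcW z (conj_mem_cj hu)
  have hd : ∀ {x : G} {i : ℕ}, x ∈ W → x ≠ 1 → x ^ i = 1 → p ∣ i := fun hx h1 h2 =>
    orderOf_eq_prime (hW.2 _ hx) h1 ▸ orderOf_dvd_of_pow_eq_one h2
  refine involves_of_pair (u := u) (w := z * u * z⁻¹) (a := a) (b := z * b * z⁻¹) (hW.2 _ (hUW hu))
    (hW.2 _ hw) (hab _ (hUW hu) _ hw) (fun i j e => ?_) (by rw [hUA u hu a ha]; group) ?_ ?_ ?_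
  · have h1 : u ^ i = 1 := hinf z hz _ (U.pow_mem hu i) (by
      rw [eq_inv_of_mul_eq_one_left e]; exact inv_mem (pow_mem (conj_mem_cj hu) j))
    rw [h1, one_mul] at e
    exact ⟨hd (hUW hu) hu1 h1, hd hw (by simpa using hu1) e⟩
  · nth_rewrite 2 [← e1]; rw [commutatorElement_def]; group
  · rw [hab _ (hUW hu) _ hw]
    nth_rewrite 2 [← e2]; rw [commutatorElement_def]; group
  · calc _ = z * (b * u * b⁻¹) * z⁻¹ := by group
      _ = _ := by rw [hUA u hu b hb']; group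

end Cfsg.Agent.Qd
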