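import Cfsg.Agent.Lib.Fusion.WC
import Cfsg.Agent.Lib.Comp.Amal

/-! Generation by the centralizer of the `p`-th powers of the centre and a normalizer. -/

set_option autoImplicit false
set_option linter.unusedSectionVars false

universe u v

namespace Cfsg.Agent.Fusion

open Cfsg Cfsg.FusionSystem
open scoped commutatorElement

section Sys

variable {Ω : Type u} [Group Ω] {S : Subgroup Ω} {F : FusionSystem S} {P Q R T A U : Subgroup Ω}
  {p : ℕ} {f g φ : Ω → Ω} [Fact p.Prime] [Finite S]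

omit [Fact p.Prime] [Finite S] in
theorem center_le_center (hT : T ≤ S) (h : centralizerIn S S ≤ T) :
    centralizerIn S S ≤ centralizerIn T T := fun _ hx => ⟨h hx, (centralizerIn_anti hT hx).2⟩

omit [Fact p.Prime] [Finite S] in
theorem center_le_normalizerIn (hQ : Q ≤ S) : centralizerIn S S ≤ normalizerIn S Q :=
  (centralizerIn_anti hQ).trans centralizerIn_le_normalizerIn

/-- Control by a functor containing the centre: only subgroups containing `Z(S)` matter. -/
theorem control_z (hS : IsPGroup p S) (hF : F.IsSaturated p) {E : FusionSystem S}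
    (w : Subgroup Ω → Subgroup Ω) (hw1 : ∀ T, T ≤ S → centralizerIn T T ≤ w T)
    (hw2 : ∀ T, T ≤ S → w T ≤ T) (hw3 : ∀ T f, Mor F T f → img f (w T) = w (img f T))
    (h0 : HasN F E (w S))
    (hloc : ∀ Q, centralizerIn S S ≤ Q → F.IsFullyNormalized Q →
      (∀ P g, Mor F P g → w (normalizerIn S Q) ≤ P → P ≤ normalizerIn S Q →
        (∀ x ∈ P, g x ∈ normalizerIn S Q) →
        img g (w (normalizerIn S Q)) = w (normalizerIn S Q) → Mor E P g) → HasN F E Q)
    (hf : Mor F P f) : Mor E P f := by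
  have hnorm : ∀ T, T ≤ S → normalizerIn S T ≤ normalizerIn S (w T) := fun T hT s hs => by
    have : Finite (w T) := finite_of_le ((hw2 T hT).trans hT)
    refine ⟨hs.1, mem_normalizer_of_finite fun x hx => ?_⟩
    have h1 := hw3 T _ (mor_conj F hT hs.1)
    have : Finite T := finite_of_le hT
    rw [(mor_conj F hT hs.1).img_eq_self fun x hx => conj_mem_of_mem_normalizerIn hs hx] at h1
    exact h1 ▸ subset_img (f := fun x => s * x * s⁻¹) hx
  have hcen : ∀ R, (R = S ∨ F.IsEssential p R) → centralizerIn S S ≤ R := fun R hR =>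
    have := alperin_family hS hF hR
    (centralizerIn_anti this.1.1).trans (this.2.1.2 R (isConj_refl F this.1.1))
  have main : ∀ T, T ≤ S → ∀ Q, centralizerIn S S ≤ Q → F.IsFullyNormalized Q →
      normalizerIn S Q = T → HasN F E Q := by
    refine downward_induction fun T hT ih Q hQ hn e => hloc Q hQ hn ?_
    rw [e]
    intro P g hg h1 h2 h3 h4
    rcases hT.lt_or_eq with hlt | rfl
    · have hU : w T ≤ S := (hw2 T hT).trans hT
      have hTN : T < normalizerIn S (w T) := (lt_normalizerIn hS hlt).trans_le (hnorm T hT)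
      have : Finite (normalizerIn S (w T)) := finite_of_le normalizerIn_le
      have hc := card_lt_of_lt hTN
      obtain ⟨φ, hφ, hfn⟩ := IsSaturated.exists_normalizer_mor' hS hF hU
      have hφE : Mor E _ φ := alperin_size hS hF (fun R hR hn α hα => by
        have hR' := (alperin_family hS hF hR).1
        have : Finite R := finite_of_le hR'.1
        have : Finite (normalizerIn S R) := finite_of_le normalizerIn_le
        exact ih _ normalizerIn_le ((hc.trans_le hn).trans_le (Subgroup.card_le_of_le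
          (le_normalizerIn hR'.1))) R (hcen R hR) hR' rfl R _ ((mem_autGroup hR'.1).1 hα) le_rfl
          (le_normalizerIn hR'.1) (img_afun α)) hφ le_rfl
      have hUN : w T ≤ normalizerIn S (w T) := le_normalizerIn hU
      have hφU := hφ.mono hUN
      have hm : ∀ x ∈ normalizerIn S (w T), φ x ∈ normalizerIn S (img φ (w T)) :=
        fun x hx => hφ.normalizerIn_mem hU hx
      have : Finite (normalizerIn S (img φ (w T))) := finite_of_le normalizerIn_le
      have hφT := hφ.mono hTN.le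
      have hN := ih _ normalizerIn_le (hc.trans_le (hφ.card_le hm)) (img φ (w T)) (by
        have hφQ := hφT.mono ((le_normalizerIn hn.1).trans e.le)
        have : Finite (normalizerIn S (img φ Q)) := finite_of_le normalizerIn_le
        have h5 : img φ T = normalizerIn S (img φ Q) := hφT.img_eq_of_card_le
          (fun x hx => (e ▸ hφT).normalizerIn_mem hn.1 (e.ge hx)) (e ▸ hn.2 _ hφQ.isConj)
        rw [hw3 T φ hφT, h5]
        exact (center_le_center normalizerIn_le (center_le_normalizerIn hφQ.img_le)).trans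
          (hw1 _ normalizerIn_le)) hfn rfl
      have hPN := h2.trans hTN.le
      obtain ⟨h, hh, eh⟩ := hφ.exists_conj hPN hg fun x hx => hTN.le (h3 x hx)
      have hhE := hN _ h hh (img_mono h1) (img_le_iff.2 fun x hx => hm x (hPN hx)) (by
        rw [← hφU.img_comp', img_congr fun x hx => eh x (h1 hx), (hg.mono h1).img_comp', h4])
      obtain ⟨f', hf', e'⟩ := hφE.exists_conj_back hPN hhE fun x hx => by
        rw [eh x hx]; exact subset_img (hTN.le (h3 x hx))
      exact hf'.congr fun x hx => hφ.inj (e' x hx).1 (hTN.le (h3 x hx)) (by rw [(e' x hx).2, eh x hx])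
    · refine h0 P g hg h1 (h2.trans ?_) h4
      exact (le_normalizerIn le_rfl).trans (hnorm _ le_rfl)
  refine le_iff_mor.1 (alperin hS hF fun R hR α hα => ?_) _ _ hf
  have hR' := alperin_family hS hF hR
  exact (mem_autGroup hR'.1.1).2 (main _ normalizerIn_le R (hcen R hR) hR'.1 rfl R _
    ((mem_autGroup hR'.1.1).1 hα) le_rfl (le_normalizerIn hR'.1.1) (img_afun α))

omit [Finite S] in
theorem IsRealizedBy.sub_of_factor {L : Type*} [Group L] [Finite L] {ι : S →* L}
    (hL : F.IsRealizedBy ι) (hT : SylowIn p ι.range ⊤) {H₁ H₂ : Subgroup L} (h₁ : ι.range ≤ H₁)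
    (h₂ : ι.range ≤ H₂) (h : ∀ g, ∃ a ∈ H₁, ∃ b ∈ H₂, g = a * b) {E : FusionSystem S}
    (hE : ∀ A f g, Mor F A f → g ∈ H₁ ∨ g ∈ H₂ → (∀ x ∈ A, ap ι (f x) = g * ap ι x * g⁻¹) →
      Mor E A f) : F.IsSubsystemOf E := isSubsystemOf_iff.2 fun A f hf => by
  obtain ⟨g, e⟩ := IsRealizedBy.exists_elt hL hf
  obtain ⟨a, ha, b, hb, rfl⟩ := h g
  obtain ⟨d, hd, e1⟩ := (hT.of_le (le_inf h₁ h₂) le_top).conj
    (D := (imageAlong ι A).map (MulAut.conj b).toMonoidHom) (by
      rintro _ ⟨y, hy, rfl⟩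
      obtain ⟨x, hx, rfl⟩ := (mem_imageAlong' hf.le).1 hy
      refine ⟨?_, H₂.mul_mem (H₂.mul_mem hb (h₂ (ap_mem_range ι (hf.le hx)))) (H₂.inv_mem hb)⟩
      have := H₁.mul_mem (H₁.mul_mem (H₁.inv_mem ha) (h₁ (ap_mem_range ι (hf.mem hx)))) ha
      simpa [e x hx, mul_assoc] using this) ((pgroup_of_le hT.pgroup imageAlong_le_range).map _)
  obtain ⟨k, hk, ek⟩ := IsRealizedBy.exists_mor hL hf.le (d * b) fun x hx => by
    simpa [mul_assoc] using e1 _ ⟨_, ap_mem_imageAlong hf.le hx, rfl⟩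
  obtain ⟨k', hk', e2, e3, -⟩ := hk.inv
  have h3 := hE _ _ (a * d⁻¹) (hk'.comp hf e3) (Or.inl (H₁.mul_mem ha (H₁.inv_mem hd.1)))
    fun y hy => by
      obtain ⟨x, hx, rfl⟩ := hk.mem_img.1 hy
      rw [e2 x hx, e x hx, ek x hx]; group
  exact ((hE _ _ _ hk (Or.inr (H₂.mul_mem hd.2 hb)) ek).comp h3 fun x hx => subset_img hx).congr
    fun x hx => by rw [e2 x hx]

end Sys

section Grp

open Subgroup

variable {G : Type*} [Group G] [Finite G] {p : ℕ} [hp : Fact p.Prime] {H T Q : Subgroup G}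

omit [Finite G] hp in
theorem mem_powerClosure {n : ℕ} {x : G} (hx : x ∈ Q) : x ^ p ^ n ∈ powerClosure p n Q :=
  subset_closure ⟨x, hx, rfl⟩

omit [Finite G] hp in
theorem powerClosure_le_iff {n : ℕ} : powerClosure p n Q ≤ T ↔ ∀ x ∈ Q, x ^ p ^ n ∈ T :=
  (closure_le _).trans ⟨fun h x hx => h ⟨x, hx, rfl⟩, by rintro h _ ⟨x, hx, rfl⟩; exact h x hx⟩

omit [Finite G] hp in
theorem powerClosure_le {n : ℕ} : powerClosure p n Q ≤ Q :=
  powerClosure_le_iff.2 fun _ hx => Q.pow_mem hx _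

omit [Finite G] hp in
theorem powerClosure_mono {n : ℕ} (h : Q ≤ T) : powerClosure p n Q ≤ powerClosure p n T :=
  powerClosure_le_iff.2 fun _ hx => mem_powerClosure (h hx)

omit [Finite G] hp in
theorem mem_normalizer_powerClosure [Finite Q] {n : ℕ} {g : G} (h : g ∈ normalizer (Q : Set G)) :
    g ∈ normalizer (powerClosure p n Q : Set G) :=
  have : Finite (powerClosure p n Q) := finite_of_le powerClosure_le
  mem_normalizer_of_finite fun _ hx => (powerClosure_le_iff
    (T := (powerClosure p n Q).comap (MulAut.conj g).toMonoidHom)).2 (fun x hx => by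
      rw [mem_comap, map_pow]; exact mem_powerClosure (conj_mem_of_mem_normalizer h hx)) hx

/-- The `p`-th power trick of Glauberman, as a factorization. -/
theorem pow_frattini (hT : SylowIn p T H) (hn : H ≤ normalizer (Q : Set G))
    (hm : ∀ N, N ≤ H → H ≤ normalizer (N : Set G) → IsPGroup p N → N ≤ Q) {a : G} (ha : a ∈ T)
    (ha' : a ∉ Q) (hq : ∀ v ∈ centralizerIn Q Q, Commute a ⁅a, v⁆) : ∃ K, T ≤ K ∧ K < H ∧
      ∀ g ∈ H, ∃ c ∈ H ⊓ centralizer (powerClosure p 1 (centralizerIn Q Q) : Set G), ∃ k ∈ K,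
        g = c * k := by
  have hZ : H ≤ normalizer (centralizerIn Q Q : Set G) :=
    Solv.le_normalizer_inf hn (Solv.le_normalizer_centralizer hn)
  let C := H ⊓ centralizer (powerClosure p 1 (centralizerIn Q Q) : Set G)
  have hC : H ≤ normalizer (C : Set G) := Solv.le_normalizer_inf le_normalizer
    (Solv.le_normalizer_centralizer fun g hg => mem_normalizer_powerClosure (hZ hg))
  have hsyl := hT.isSyl.inf_of_le_normalizer (K := C) inf_le_left hC
  refine ⟨H ⊓ normalizer ((T ⊓ C : Subgroup G) : Set G), le_inf hT.le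
    (Solv.le_normalizer_inf le_normalizer (hT.le.trans hC)), lt_of_le_of_ne inf_le_left fun e => ?_,
    fun g hg => ?_⟩
  swap
  · obtain ⟨c, hc, k, hk, rfl⟩ := hsyl.frattini (hC hg)
    exact ⟨c, hc, k, ⟨(H.mul_mem_cancel_left hc.1).1 hg, hk⟩, rfl⟩
  have hPK : T ⊓ C ≤ Q := hm _ (inf_le_left.trans hT.le) (e.ge.trans inf_le_right) hsyl.pgroup
  have step : ∀ j : ℕ, a ^ p ^ (j + 1) ∈ Q → a ^ p ^ j ∈ Q := fun j hj => by
    refine hPK ⟨T.pow_mem ha _, hT.le (T.pow_mem ha _), le_centralizer_iff.1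
      (powerClosure_le_iff.2 fun v hv => ?_) (mem_zpowers _)⟩
    rintro _ ⟨k, rfl⟩
    refine (Commute.zpow_left ?_ k).eq
    have h1 := Transfer.conj_pow_of_commute (hq v hv) (p ^ (j + 1))
    have h2 := Transfer.conj_pow_of_commute (hq v hv) (p ^ j)
    have h3 : a ^ p ^ (j + 1) * v * (a ^ p ^ (j + 1))⁻¹ = v := by
      rw [hv.2 _ hj]; group
    have h4 : ⁅a, v⁆ ^ p ^ (j + 1) = 1 := by
      rw [h3] at h1; exact right_eq_mul.1 h1
    have h5 : Commute ⁅a, v⁆ v := by
      have : ⁅a, v⁆ ∈ Q := Subgroup.mul_mem _ (conj_mem_of_mem_normalizer (hn (hT.le ha)) hv.1)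
        (Q.inv_mem hv.1)
      exact hv.2 _ this
    have h6 : a ^ p ^ j * v ^ p * (a ^ p ^ j)⁻¹ = v ^ p := by
      rw [← conj_pow, h2, (h5.pow_left _).mul_pow, ← pow_mul, ← pow_succ, h4, one_mul]
    rw [pow_one]
    exact mul_inv_eq_iff_eq_mul.1 h6
  obtain ⟨k, hk⟩ := hT.pgroup ⟨a, ha⟩
  have hk' : a ^ p ^ k ∈ Q := by
    have : a ^ p ^ k = 1 := congrArg Subtype.val hk
    rw [this]; exact Q.one_mem
  clear hk
  apply ha'
  induction k with
  | zero => simpa using hk'
  | succ k ih => exact ih (step k hk')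

omit [Finite G] hp in
theorem commute_of_quad {V : Subgroup G} {a v : G} (h : ⁅⁅V, zpowers a⁆, zpowers a⁆ = ⊥)
    (hv : v ∈ V) : Commute a ⁅a, v⁆ := by
  have := Transfer.commute_of_commutator_eq_bot h
    (commutator_mem_commutator hv (mem_zpowers a)) (mem_zpowers a)
  rw [← commutatorElement_inv]
  exact this.symm.inv_right

/-- Weak closure for a conjugacy functor containing the centre reduces to a local statement. -/
theorem cf_control {W : Subgroup G → Subgroup G} (hW : IsConjugacyFunctor p W)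
    (hWZ : ∀ P : Subgroup G, IsPGroup p P → centralizerIn P P ≤ W P) {Z M : Subgroup G}
    (hM : centralizer (Z : Set G) ≤ M)
    (base : ∀ H T, SylowIn p T H → Z ≤ centralizerIn T T → Z ≤ pCoreOf p H →
      (∀ K, T ≤ K → K < H → K ≤ M) → ¬ H ≤ normalizer (W T : Set G) → H ≤ M) (H : Subgroup G) :
    ∀ T, SylowIn p T H → Z ≤ centralizerIn T T → H ⊓ normalizer (W T : Set G) ≤ M →
      ∀ B ≤ T, ∀ h ∈ H, (∀ x ∈ B, h * x * h⁻¹ ∈ T) → ∃ m ∈ M, ∀ x ∈ B, h * x * h⁻¹ = m * x * m⁻¹ := by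
  induction H using Comp.subgroup_induction with
  | h H ih =>
  intro T hT hZ h0 B hB h hh e
  have hTM : T ≤ M := fun t ht => hM fun z hz => ((hZ hz).2 t ht).symm
  have key : ∀ g m B, Z ≤ B → m ∈ M → (∀ x ∈ B, g * x * g⁻¹ = m * x * m⁻¹) → g ∈ M :=
    fun g m B h1 h2 h3 => (M.mul_mem_cancel_left (M.inv_mem h2)).1 (hM fun z hz => by
      calc z * (m⁻¹ * g) = m⁻¹ * (m * z * m⁻¹) * g := by group
        _ = _ := by rw [← h3 z (h1 hz)]; group)
  have hN : ∀ Q : Subgroup G, H ⊓ normalizer (Q : Set G) ≤ M → HasN (fusionSystemOfSubgroup H T hT.le)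
      (fusionSystemOfSubgroup M T hTM) Q := fun Q h P f hf h1 _ h2 => by
    obtain ⟨a, b, g, hg, e⟩ := mor_subgroup_iff.1 hf
    exact mor_subgroup_iff.2 ⟨a, b, g, h ⟨hg, mem_normalizer_of_img (fun x hx => e x (h1 hx)) h2⟩, e⟩
  have := control_z hT.pgroup (sub_saturated hT) (E := fusionSystemOfSubgroup M T hTM) W
    (fun U hU => hWZ U (pgroup_of_le hT.pgroup hU)) (fun U hU => (hW U (pgroup_of_le hT.pgroup hU)).1)
    (fun U f hf => cf_img hW hT.pgroup (sub_sub_group _) hf) (hN _ h0) (fun Q h1 h2 h3 => ?_)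
    (mor_subgroup_iff.2 ⟨hB, e, h, hh, fun _ _ => rfl⟩)
  · exact (mor_subgroup_iff.1 this).2.2
  have h4 := (fullyNormalized_sub_iff hT h2.1).1 h2
  have h5 := hZ.trans (center_le_center normalizerIn_le (center_le_normalizerIn h2.1))
  rcases (normalizerIn_le : normalizerIn H Q ≤ H).lt_or_eq with h6 | h6
  · have h7 := (hW _ h4.pgroup).1
    intro P f hf a b c
    obtain ⟨a', b', g, hg, e⟩ := mor_subgroup_iff.1 hf
    have hg' : g ∈ normalizerIn H Q := ⟨hg, mem_normalizer_of_img (fun x hx => e x (a hx)) c⟩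
    obtain ⟨m, hm, em⟩ := ih _ h6 _ h4 h5 (fun g hg => by
      obtain ⟨-, -, m, hm, em⟩ := mor_subgroup_iff.1 (h3 _ (fun x => g * x * g⁻¹)
        (mor_subgroup_iff.2 ⟨h7.trans normalizerIn_le, fun x hx =>
          (h7 (conj_mem_of_mem_normalizer hg.2 hx)).1, g, hg.1.1, fun _ _ => rfl⟩) le_rfl h7
        (fun x hx => h7 (conj_mem_of_mem_normalizer hg.2 hx))
        (by rw [img_conj]; exact mem_normalizer_iff_map_conj_eq.1 hg.2))
      exact key g m _ (h5.trans (hWZ _ h4.pgroup)) hm em) P b g hg' fun x hx =>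
        ⟨e x hx ▸ b' x hx, Subgroup.mul_mem _ (Subgroup.mul_mem _ hg'.2 (b hx).2)
          (Subgroup.inv_mem _ hg'.2)⟩
    exact mor_subgroup_iff.2 ⟨a', b', m, hm, fun x hx => (e x hx).trans (em x hx)⟩
  · have h7 : H ≤ normalizer (Q : Set G) := h6.ge.trans inf_le_right
    refine hN Q (inf_le_left.trans (by_contra fun h8 => h8 (base H T hT hZ ((hZ.trans h1).trans
      (Comp.le_pCoreOf (h2.1.trans hT.le) h7 (pgroup_of_le hT.pgroup h2.1))) (fun K a b k hk => ?_)
      fun h9 => h8 (le_trans (le_inf le_rfl h9) h0))))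
    obtain ⟨m, hm, em⟩ := ih K b T (hT.of_le a b.le) hZ ((inf_le_inf_right _ b.le).trans h0) Q h2.1
      k hk fun x hx => h2.1 (conj_mem_of_mem_normalizer (h7 (b.le hk)) hx)
    exact key k m Q (hZ.trans h1) hm em

omit [Finite G] hp in
theorem powerClosure_one :
    powerClosure p 1 Q = Subgroup.closure ((fun z => z ^ p) '' (Q : Set G)) := by
  simp only [powerClosure, pow_one, Set.image, eq_comm, SetLike.mem_coe]

/-- Subgroups between `C(A)` and `N(A)` controlling fusion give weak closure. -/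
theorem weak_of_control {S V : Subgroup G} (hV : V ≤ S) {N : Subgroup G}
    (h : ∀ M, centralizer (V : Set G) ≤ M → N ≤ M → ∀ B ≤ S, ∀ h, (∀ x ∈ B, h * x * h⁻¹ ∈ S) →
      ∃ m ∈ M, ∀ x ∈ B, h * x * h⁻¹ = m * x * m⁻¹) :
    (∀ x ∈ V ⊓ centralizer (N : Set G), ∀ g, g * x * g⁻¹ ∈ S → g * x * g⁻¹ = x) ∧
      ∀ A : Subgroup G, A ≤ V → N ≤ normalizer (A : Set G) → IsWeaklyClosed A S := by
  refine ⟨fun x hx g hg => ?_, fun A h1 h2 => ⟨h1.trans hV, fun g hg => ?_⟩⟩
  · obtain ⟨m, hm, e⟩ := h (centralizer {x}) (centralizer_le (by simpa using hx.1))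
      (fun n hn => mem_centralizer_singleton_iff.2 (hx.2 n hn)) (zpowers x) (zpowers_le.2 (hV hx.1)) g
      (by rintro _ ⟨k, rfl⟩; rw [← conj_zpow]; exact S.zpow_mem hg k)
    rw [e x (mem_zpowers x), mem_centralizer_singleton_iff.1 hm, mul_inv_cancel_right]
  · obtain ⟨m, hm, e⟩ := h _ ((centralizer_le h1).trans (centralizer_le_normalizer _)) h2 A
      (h1.trans hV) g fun x hx => hg ⟨x, hx, rfl⟩
    rw [← img_conj, img_congr e, img_conj]
    exact mem_normalizer_iff_map_conj_eq.1 hm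

end Grp

section Gen

variable {Ω : Type u} [Group Ω] {S : Subgroup Ω} {F : FusionSystem S} {P Q R T A U : Subgroup Ω}
  {p : ℕ} {f g φ : Ω → Ω} [Fact p.Prime] {W : ∀ (Q : Type u) [Group Q], Subgroup Q}

/-- If `W(P)` is not normal some element outside `O_p` is quadratic on `Z(O_p)`. -/
def QuadF (p : ℕ) (W : ∀ (Q : Type u) [Group Q], Subgroup Q) : Prop :=
  ∀ (L : Type u) [Group L] [Finite L] (P : Sylow p L), ¬ (inducedFunctor W P.1).Normal →
    ∃ a ∈ P.1, a ∉ pCore p L ∧ ⁅⁅centralizerIn (pCore p L) (pCore p L), Subgroup.zpowers a⁆,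
      Subgroup.zpowers a⁆ = ⊥

theorem quadF_lower : QuadF.{u} p kInfLower := fun _ _ _ P h =>
  (KInf.exists_quartic P (Or.inl h)).imp fun _ h => ⟨h.1, h.2.1, h.2.2.2.1⟩

theorem quadF_J : QuadF.{u} p fun Q _ => thompsonSubgroupAOf (⊤ : Subgroup Q) := fun L _ _ P h => by
  rw [(ja_char (p := p)).2, Transfer.JA_eq] at h
  obtain ⟨A, hA, h1, h2⟩ := Transfer.J_quad P h
  obtain ⟨a, ha, ha'⟩ := SetLike.not_le_iff_exists.1 h1
  exact ⟨a, hA.le ha, ha', Transfer.quad_mono le_rfl (Subgroup.zpowers_le.2 ha)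
    (Subgroup.commutator_eq_bot_iff_le_centralizer.2 ((Comp.commutator_le_right_of_le_normalizer h2).trans
      (Transfer.comm_iff_le_centralizer.1 hA.elem.1)))⟩

omit [Fact p.Prime] in
theorem imageAlong_powerClosure_le {Ω' : Type*} [Group Ω'] {θ : S →* Ω'} {Q' : Subgroup Ω'} {n : ℕ}
    (hQ : Q ≤ S) (h : ∀ x ∈ Q, ap θ x ∈ Q') :
    ∀ x ∈ powerClosure p n Q, ap θ x ∈ powerClosure p n Q' := fun _ hx =>
  (mem_preimageAlong.1 ((powerClosure_le_iff (T := preimageAlong θ _)).2 (fun x hx =>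
    mem_preimageAlong.2 ⟨S.pow_mem (hQ hx) _, by
      rw [ap_pow _ (hQ hx)]; exact mem_powerClosure (h x hx)⟩) hx)).2

theorem pow_gen (hW : IsCharPFunctor p W) (hq : QuadF p W) [Finite S] (F : FusionSystem S) :
    IsPGroup p S → F.IsSaturated p → ∀ E : FusionSystem S,
      HasC F E (powerClosure p 1 (centralizerIn S S)) → HasN F E (inducedFunctor W S) →
      F.IsSubsystemOf E := by
  refine sys_induction (C := fun {Ω} _ {S} F => IsPGroup p S → F.IsSaturated p →
    ∀ E : FusionSystem S, HasC F E (powerClosure p 1 (centralizerIn S S)) →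
      HasN F E (inducedFunctor W S) → F.IsSubsystemOf E) ?_ F
  intro Ω _ S _ F ih1 ih2 hS hF E hC h0
  have hV : powerClosure p 1 (centralizerIn S S) ≤ S := powerClosure_le.trans centralizerIn_le
  have ihS : ∀ D : FusionSystem S, Loc.{u, 0} p F D → ¬ F.IsSubsystemOf D → D.IsSubsystemOf E :=
    fun D hD hne => ih2 D hD.sub hne hS hD.sat E
      (fun P g hg => hC P g (isSubsystemOf_iff.1 hD.sub _ _ hg)) (h0.mono hD.sub)
  refine reduce_ind.{u, 0} hW hS hF h0 (fun {T} D hl hne h => ?_) (fun hc => ?_) fun h1 h2 h3 => ?_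
  · have hT := IsSubsystemOf.le hl.sub
    obtain ⟨E', h1⟩ := exists_inter D E hT
    have h2 := powerClosure_mono (p := p) (n := 1) (center_le_center hT hl.cen)
    exact isSubsystemOf_iff.2 fun P f hf => ((h1 _ _).1 (isSubsystemOf_iff.1 (ih2 D hl.sub hne
      (pgroup_of_le hS hT) hl.sat E' (fun P g hg a1 a2 => (h1 _ _).2 ⟨hg, hC P g
        (isSubsystemOf_iff.1 hl.sub _ _ hg) (h2.trans a1) fun x hx => a2 x (h2 hx)⟩)
      fun P g hg a1 _ a2 => (h1 _ _).2 ⟨hg, h P g hg a1 a2⟩) _ _ hf)).2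
  · obtain ⟨L, _, ι, hL⟩ := exists_model hS hc
    have : Finite L := hL.1
    obtain ⟨P, hP⟩ := hL.2.2.1
    by_cases hn : (inducedFunctor W P.1).Normal
    · rw [IsModel.ind_eq hW hS hL hP] at hn
      exact isSubsystemOf_iff.2 fun P f hf =>
        h0.of_normal (IsRealizedBy.normal_of hL.2.1 (ind_le W S) hn) hf
    obtain ⟨a, h1, h2, h3⟩ := hq L P hn
    have := pCore_normal p L
    obtain ⟨K, h4, h5, h6⟩ := pow_frattini (sylowIn_top P) (Q := pCore p L)
      Subgroup.le_normalizer_of_normal (fun N _ h => le_pCore (Subgroup.normalizer_eq_top_iff.1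
        (eq_top_iff.2 h))) h1 h2 fun v hv => commute_of_quad h3 hv
    obtain ⟨D, hD, hm, ht⟩ := exists_pull.{u, 0} hS hL (hP ▸ h4)
    have h7 : ∀ x ∈ powerClosure p 1 (centralizerIn S S), ap ι x ∈
        powerClosure p 1 (centralizerIn (pCore p L) (pCore p L)) :=
      imageAlong_powerClosure_le centralizerIn_le fun x hx =>
        have : ap ι x ∈ Subgroup.centralizer (pCore p L : Set L) := fun y hy => by
          obtain ⟨y, rfl⟩ := IsModel.pCore_le hL hy
          rw [← ap_coe ι y, ← ap_mul _ y.2 hx.1, hx.2 _ y.2, ap_mul _ hx.1 y.2]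
        ⟨hL.2.2.2 this, this⟩
    refine IsRealizedBy.sub_of_factor hL.2.1 (IsModel.sylowIn hL) (H₁ := Subgroup.centralizer
      (imageAlong ι (powerClosure p 1 (centralizerIn S S)) : Set L)) ?_ (hP ▸ h4) (fun g => ?_)
      fun A f g hf hg e => hg.elim (fun hg => ?_) fun hg => isSubsystemOf_iff.1
        (ihS D hD fun h => h5.ne (ht h)) _ _ ((hm _ _).2 ⟨hf, g, hg, e⟩)
    · rintro _ ⟨s, rfl⟩ y hy
      obtain ⟨x, hx, rfl⟩ := (mem_imageAlong' hV).1 hy
      rw [← ap_coe ι s, ← ap_mul _ s.2 (hV hx), (powerClosure_le hx).2 _ s.2, ap_mul _ (hV hx) s.2]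
    · obtain ⟨c, hc, k, hk, e⟩ := h6 g trivial
      exact ⟨c, Subgroup.centralizer_le ((imageAlong_le_iff hV).2 h7) hc.2, k, hk, e⟩
    · have h8 : ∀ x ∈ powerClosure p 1 (centralizerIn S S), g * ap ι x * g⁻¹ = ap ι x :=
        fun x hx => mul_inv_eq_iff_eq_mul.2 (hg _ (ap_mem_imageAlong hV hx)).symm
      obtain ⟨k, hk, ek⟩ := IsRealizedBy.exists_mor hL.2.1 (sup_le hf.le hV) g fun x hx => by
        have h9 := ap_mem_imageAlong (α := ι) (sup_le hf.le hV) hx
        rw [imageAlong_sup hf.le hV] at h9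
        refine sup_le (c := ι.range.comap (MulAut.conj g).toMonoidHom) ?_ ?_ h9
        · exact (imageAlong_le_iff hf.le).2 fun x hx => by
            change g * ap ι x * g⁻¹ ∈ ι.range
            rw [← e x hx]; exact ap_mem_range ι (hf.mem hx)
        · exact (imageAlong_le_iff hV).2 fun x hx => by
            change g * ap ι x * g⁻¹ ∈ ι.range
            rw [h8 x hx]; exact ap_mem_range ι (hV hx)
      refine ((hC _ k hk le_sup_right fun x hx => ap_inj hL.2.1.1 (hk.mem (Subgroup.mem_sup_right hx))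
        (hV hx) ((ek x (Subgroup.mem_sup_right hx)).trans (h8 x hx))).mono le_sup_left).congr
        fun x hx => ap_inj hL.2.1.1 (hk.mem (Subgroup.mem_sup_left hx)) (hf.mem hx)
          ((ek x (Subgroup.mem_sup_left hx)).trans (e x hx).symm)
  · by_cases h4 : powerClosure p 1 (centralizerIn S S) ≤ F.core
    · refine isSubsystemOf_iff.2 fun A f hf => ?_
      obtain ⟨g, hg, e1, e2⟩ := IsNormal.ext (core_isNormal F) hf
      obtain ⟨α, hα, eα⟩ := (hg.mono le_sup_right).exists_aut e2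
      obtain ⟨s, hs, es⟩ := mem_autInducedBy.1 (h3 hα)
      exact ((hC _ g hg (h4.trans le_sup_right) fun x hx => by
        rw [← eα x (h4 hx), es x (h4 hx), (powerClosure_le hx).2 s hs]; group).mono
          le_sup_left).congr e1
    obtain ⟨Ω', _, S', _, θ, F', h, hk, hS', hF', hc, hb, hn⟩ := exists_quot_core hW hS hF h1 h2
    refine sub_of_quot hS hF (core_isNormal F) (pgroup_of_le (autInducedBy_pgroup hS _) h3) h hk
      fun E' hE' => ?_
    have key : ∀ U', U' ≤ S' → U' ≠ ⊥ → S' ≤ Subgroup.normalizer (U' : Set Ω') → HasN F' E' U' :=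
      fun U' a b c P' g' hg' a1 _ a2 => by
        obtain ⟨g, hg, e1, e2⟩ := h.lift_norm hg' a1 a2
        exact hE' P' g' g hg'.le hg (isSubsystemOf_iff.1 (ihS (nSys F preimageAlong_le
          (h.preimage_le_normalizer c)) (loc_nSys hS hF) fun h' => hn U' a b (normal_of_nSys h')) _ _
          (nSys_mor_of hg le_rfl (preimageAlong_mono a1) e1)) e2
    have h5 : S' ≤ Subgroup.normalizer (powerClosure p 1 (centralizerIn S' S') : Set Ω') :=
      have : Finite (centralizerIn S' S') := finite_of_le centralizerIn_le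
      fun s hs => mem_normalizer_powerClosure (le_normalizer_center hs)
    refine ih1 F' hc hS' hF' E' ((key _ (powerClosure_le.trans centralizerIn_le) (fun e => h4
      fun x hx => hk ▸ mem_preimageAlong.2 ⟨hV hx, e ▸ imageAlong_powerClosure_le centralizerIn_le
        (fun y hy => ?_) x hx⟩) h5).hasC h5)
      (key _ (ind_le W S') (ind_ne_bot hW hS' hb) (ind_le_normalizer hW hS'))
    refine mem_centralizerIn.2 ⟨h.mem y hy.1, fun x hx => ?_⟩
    obtain ⟨x', hx', rfl⟩ := mem_range_iff.1 (h.range.ge hx)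
    rw [← ap_conj _ hy.1 hx', (mem_centralizerIn.1 hy).2 x' hx']

theorem pow_gen_group {G : Type u} [Group G] [Finite G] (hW : IsCharPFunctor p W) (hq : QuadF p W)
    (S : Sylow p G) (M : Subgroup G)
    (h1 : Subgroup.centralizer (powerClosure p 1 (centralizerIn S.1 S) : Set G) ≤ M)
    (h2 : Subgroup.normalizer (inducedFunctor W S.1 : Set G) ≤ M) : ∀ B ≤ S.1, ∀ h,
      (∀ x ∈ B, h * x * h⁻¹ ∈ S.1) → ∃ m ∈ M, ∀ x ∈ B, h * x * h⁻¹ = m * x * m⁻¹ := fun B hB h e =>
  (mor_subgroup_iff.1 (isSubsystemOf_iff.1 (pow_gen hW hq _ S.2 (group_saturated S)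
    (fusionSystemOfSubgroup M S ((ind_le_normalizer hW S.2).trans h2)) (fun P f hf a b => by
      obtain ⟨c, d, g, e⟩ := mor_group_iff.1 hf
      exact mor_subgroup_iff.2 ⟨c, d, g, h1 fun x hx => (mul_inv_eq_iff_eq_mul.1
        ((e x (a hx)).symm.trans (b x hx))).symm, e⟩) fun P f hf a _ b => by
      obtain ⟨c, d, g, e⟩ := mor_group_iff.1 hf
      exact mor_subgroup_iff.2 ⟨c, d, g, h2 (mem_normalizer_of_img (fun x hx => e x (a hx)) b), e⟩)
    _ _ (mor_group_iff.2 ⟨hB, e, h, fun _ _ => rfl⟩))).2.2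

/-- `W` controls the centre. -/
def CenF (p : ℕ) (W : ∀ (Q : Type u) [Group Q], Subgroup Q) (Bad : ∀ (H : Type v) [Group H], Prop) :
    Prop :=
  ∀ (L : Type u) [Group L] [Finite L] (P : Sylow p L), Con p L →
    (∀ (H : Type v) [Group H], Bad H → ¬ Involves H L) → ∀ y ∈ centralizerIn P.1 P,
    (∀ H : Subgroup L, P ≤ H → H ≠ ⊤ → ∀ g ∈ H, g * y * g⁻¹ = y) →
    ¬ (inducedFunctor W P.1).Normal → ∀ g, g * y * g⁻¹ = y

variable {Bad : ∀ (H : Type v) [Group H], Prop}

theorem QuadF.cenF (h : QuadF p W) (hp2 : p ≠ 2) : CenF p W Bad := fun L _ _ P hc _ y hy h1 h2 => by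
  obtain ⟨a, h3, h4, h5⟩ := h L P h2
  have := pCore_normal p L
  have : (centralizerIn (pCore p L) (pCore p L)).Normal :=
    inferInstanceAs (pCore p L ⊓ Subgroup.centralizer _).Normal
  have h6 : y ∈ Subgroup.centralizer (pCore p L : Set L) := fun x hx => hy.2 x (pCore_le_sylow P hx)
  refine central_of_chief P ((pCore_pgroup L).to_le centralizerIn_le) ⟨hc h6, h6⟩ hy h1 h3 h4
    fun X Y c hX => (KInf.iter_anti (m := 2) (by have := c.2.1; exact MS.nn_normal) (by
      have := (Fact.out : p.Prime).two_le; omega)).trans ?_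
  exact (Subgroup.commutator_mono (Subgroup.commutator_mono hX le_rfl) le_rfl).trans
    (h5.le.trans bot_le)

theorem CenF.central (h : CenF p W Bad) (hW : IsCharPFunctor p W)
    (hWZ : ∀ (Q : Type u) [Group Q] [Finite Q], IsPGroup p Q → Subgroup.center Q ≤ W Q) [Finite S]
    (hS : IsPGroup p S) (hF : F.IsSaturated p) (hfree : Free p Bad F) {y : Ω}
    (hy : y ∈ centralizerIn S S) (hfix : ∀ g, Mor F (inducedFunctor W S) g →
      img g (inducedFunctor W S) = inducedFunctor W S → g y = y) : y ∈ F.center := by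
  have := functor_center hW hWZ 1 (fun L _ _ P hc hb y hy h1 h2 g => by
    rw [pow_one] at *
    by_cases hn : (inducedFunctor W P.1).Normal
    · exact h2 g (by rw [Subgroup.normalizer_eq_top]; trivial)
    · exact h L P hc hb y hy h1 hn g) F hS hF hfree y hy (by rwa [pow_one])
  rw [pow_one] at this
  exact IsCentral.le_center this (Subgroup.mem_zpowers y)

theorem CenF.center_eq (h : CenF p W Bad) (hW : IsCharPFunctor p W)
    (hWZ : ∀ (Q : Type u) [Group Q] [Finite Q], IsPGroup p Q → Subgroup.center Q ≤ W Q) [Finite S]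
    (hS : IsPGroup p S) (hF : F.IsSaturated p) (hfree : Free p Bad F) (hU : U = inducedFunctor W S)
    {N : FusionSystem (normalizerIn S U)} (hN : F.IsNormalizerSystem U N) : N.center = F.center := by
  subst hU
  have hl := loc_normSys.{u, 0} hS hF
    (fullyNormalized_of_normal (ind_le W S) (ind_le_normalizer hW hS)) hN
  refine le_antisymm (fun z hz => ?_) (center_le_of_sub hS hl.sat hl.sub hl.cen)
  have hz' : z ∈ centralizerIn S S :=
    ⟨(center_le N hz).1, fun x hx => center_le_centralizer N hz x ((ind_normalizer hW hS).ge hx)⟩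
  exact h.central hW hWZ hS hF hfree hz' fun g hg e => fix_of_mem_center hN (ind_le W S) hz
    (mem_ind.2 ⟨hz'.1, hWZ S hS
      (Subgroup.mem_center_iff.2 fun t => Subtype.ext (hz'.2 t t.2))⟩) hg e

theorem CenF.weak {G : Type u} [Group G] [Finite G] (h : CenF p W Bad) (hW : IsCharPFunctor p W)
    (hWZ : ∀ (Q : Type u) [Group Q] [Finite Q], IsPGroup p Q → Subgroup.center Q ≤ W Q)
    (S : Sylow p G) (hfree : Free p Bad (groupFusionSystem S.1)) {x : G} (hx : x ∈ S.1)
    (h1 : x ∈ Subgroup.centralizer (Subgroup.normalizer (inducedFunctor W S.1 : Set G) : Set G))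
    (g : G) (hg : g * x * g⁻¹ ∈ S.1) : g * x * g⁻¹ = x :=
  ((mem_center_iff S.2 (group_saturated S)).1 (h.central hW hWZ S.2 (group_saturated S) hfree
    ⟨hx, fun t ht => h1 t (ind_le_normalizer hW S.2 ht)⟩ fun k hk e => by
      obtain ⟨-, -, n, en⟩ := mor_group_iff.1 hk
      rw [en x (mem_ind.2 ⟨hx, hWZ _ S.2 (Subgroup.mem_center_iff.2 fun t => Subtype.ext
        (h1 t (ind_le_normalizer hW S.2 t.2)))⟩), h1 n (mem_normalizer_of_img en e),
        mul_inv_cancel_right])).2 (Subgroup.zpowers x) (fun x => g * x * g⁻¹) (mor_group_iff.2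
      ⟨Subgroup.zpowers_le.2 hx, by
        rintro _ ⟨k, rfl⟩; beta_reduce; rw [← conj_zpow]; exact S.1.zpow_mem hg k, g, fun _ _ => rfl⟩)
    (Subgroup.mem_zpowers x)

theorem center_le_lower' (Q : Type u) [Group Q] [Finite Q] (h : IsPGroup p Q) :
    Subgroup.center Q ≤ kInfLower Q :=
  (Subgroup.center_le_centralizer _).trans (KInf.center_le_lower h)

omit [Fact p.Prime] in
theorem center_le_JA (Q : Type u) [Group Q] [Finite Q] (_ : IsPGroup p Q) :
    Subgroup.center Q ≤ thompsonSubgroupAOf (⊤ : Subgroup Q) := by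
  obtain ⟨A, hA⟩ := Transfer.exists_maxE 0 (⊤ : Subgroup Q)
  rw [Transfer.JA_eq]
  exact (hA.le_of_centralizer le_top (Subgroup.center_le_centralizer _)
    fun _ _ => pow_zero _).trans hA.le_J

end Gen

end Cfsg.Agent.Fusion
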