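import Cfsg.Agent.Lib.Fusion.MP
import Cfsg.Agent.Lib.Fusion.WC2

/-! The `L`-lemma. -/

set_option autoImplicit false
open Cfsg

namespace Cfsg.Agent.Qd

open Subgroup Cfsg.Agent.Transfer
open scoped commutatorElement

variable {G : Type*} [Group G] [Finite G] {p : ℕ} [hp : Fact p.Prime]
  {T M A K H V W X Y E : Subgroup G} {𝒞 : Subgroup G → Prop}

/-- the subgroup generated by the members of `𝒞` in `X` -/
def WC (𝒞 : Subgroup G → Prop) (X : Subgroup G) : Subgroup G := sSup {C | 𝒞 C ∧ C ≤ X}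

omit [Finite G] in
theorem WC_le_iff : WC 𝒞 X ≤ Y ↔ ∀ C, 𝒞 C → C ≤ X → C ≤ Y := by
  simp [WC]

omit [Finite G] in
theorem WC_le : WC 𝒞 X ≤ X := WC_le_iff.2 fun _ _ h => h

omit [Finite G] in
theorem le_WC (h : 𝒞 A) (h' : A ≤ X) : A ≤ WC 𝒞 X := le_sSup ⟨h, h'⟩

omit [Finite G] in
theorem WC_mono (h : X ≤ Y) : WC 𝒞 X ≤ WC 𝒞 Y := WC_le_iff.2 fun _ h1 h2 => le_WC h1 (h2.trans h)

omit [Finite G] in
theorem cj_WC (hcj : ∀ g C, 𝒞 C → 𝒞 (cj g C)) (g : G) (X : Subgroup G) :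
    cj g (WC 𝒞 X) = WC 𝒞 (cj g X) := by
  have k : ∀ g X, cj g (WC 𝒞 X) ≤ WC 𝒞 (cj g X) := fun g X =>
    cj_le_iff_le_cj_inv.2 (WC_le_iff.2 fun C h1 h2 =>
      cj_le_iff_le_cj_inv.1 (le_WC (hcj g C h1) (cj_mono g h2)))
  refine le_antisymm (k g X) (le_cj_iff_cj_inv_le.2 ?_)
  simpa only [cj_inv_cj] using k g⁻¹ (cj g X)

omit [Finite G] in
theorem normalizer_le_WC (hcj : ∀ g C, 𝒞 C → 𝒞 (cj g C)) :
    normalizer (X : Set G) ≤ normalizer (WC 𝒞 X : Set G) := fun g hg => by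
  rw [mem_normalizer_iff_cj] at hg ⊢
  rw [cj_WC hcj, hg]

theorem WC_step (hcj : ∀ g C, 𝒞 C → 𝒞 (cj g C)) (hT : IsPGroup p T) (hE : E ≤ T)
    (hW : E ≤ WC 𝒞 E) (hne : ¬ WC 𝒞 T ≤ E) :
    ∃ A, 𝒞 A ∧ A ≤ T ∧ A ≤ normalizer (E : Set G) ∧ ¬ A ≤ E := by
  by_contra hc
  push Not at hc
  have h1 : WC 𝒞 (T ⊓ normalizer (E : Set G)) = E :=
    le_antisymm (WC_le_iff.2 fun C h1 h2 => hc C h1 (h2.trans inf_le_left) (h2.trans inf_le_right))
      (hW.trans (WC_mono (le_inf hE le_normalizer)))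
  rcases (inf_le_left : T ⊓ normalizer (E : Set G) ≤ T).eq_or_lt with h | h
  · exact hne (by rw [← h, h1])
  · obtain ⟨x, h2, h3, h4⟩ := exists_mem_normalizer_notMem hT h
    exact h4 ⟨h2, h1 ▸ normalizer_le_WC hcj h3⟩

theorem l_lemma (P : Sylow p G) (hM : M ≠ ⊤) (hmax : ∀ H, P.1 ≤ H → H ≠ ⊤ → H ≤ M)
    (hcj : ∀ g C, 𝒞 C → 𝒞 (cj g C)) (hex : ∃ C, 𝒞 C ∧ C ≤ P ∧ ¬ C ≤ pCore p G) [V.Normal]
    (hV : IsPGroup p V) (hVn : ∀ C, 𝒞 C → V ≤ normalizer (C : Set G)) :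
    ∃ A L T : Subgroup G, 𝒞 A ∧ A ≤ T ∧ V ≤ T ∧ T ≤ L ∧ IsPGroup p T ∧
      UM (T.subgroupOf L) (M.subgroupOf L) ∧ T.subgroupOf L ≤ A.subgroupOf L ⊔ pCore p L := by
  obtain ⟨C, hC, hCP, hCO⟩ := hex
  have hN : normalizer (WC 𝒞 P.1 : Set G) ≠ ⊤ := fun h => hCO ((le_WC hC hCP).trans
    (Solv.le_pCore (hN := normalizer_eq_top_iff.1 h) (P.isPGroup'.to_le WC_le)))
  have hNM := hmax _ (le_normalizer.trans (normalizer_le_WC hcj)) hN
  have hPM : P.1 ≤ M := (le_normalizer.trans (normalizer_le_WC hcj)).trans hNM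
  have hS : IsSyl p P.1 M := (isSyl_top P).mono hPM le_top
  have hfix : ∀ x, cj x (WC 𝒞 P.1) ≤ M → x ∈ M := fun x hx => by
    obtain ⟨m, hm, h1⟩ := hS.exists_cj_le (IsPGroup.cj (P.isPGroup'.to_le WC_le) x) hx
    rw [cj_cj] at h1
    have h2 : cj (m * x) (WC 𝒞 P.1) ≤ WC 𝒞 P.1 := by
      refine cj_le_iff_le_cj_inv.2 (WC_le_iff.2 fun C h3 h4 => cj_le_iff_le_cj_inv.1 ?_)
      exact le_WC (hcj _ _ h3) ((cj_mono _ (le_WC h3 h4)).trans h1)
    simpa using M.mul_mem (M.inv_mem hm) (hNM (mem_normalizer_of_cj_le h2))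
  let Fam : Subgroup G → Prop := fun E =>
    IsPGroup p E ∧ E ≤ WC 𝒞 E ∧ E ≤ M ∧ ∃ w, w ∉ M ∧ cj w E ≤ M
  -- the step
  have step : ∀ E, Fam E → ∃ A T : Subgroup G, 𝒞 A ∧ IsPGroup p T ∧ T ≤ M ∧ A ≤ T ∧ E ≤ T ∧ V ≤ T ∧
      A ≤ normalizer (E : Set G) ∧ ¬ A ≤ E := by
    rintro E ⟨h1, h2, h3, w, hw, h4⟩
    obtain ⟨m, hm, h5⟩ := hS.exists_cj_le h1 h3
    have hT := hS.cj_of_mem_normalizer (le_normalizer (M.inv_mem hm))
    obtain ⟨A, h6, h7, h8, h9⟩ := WC_step hcj hT.pgroup (cj_le_iff_le_cj_inv.1 h5) h2 fun h => by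
      rw [← cj_WC hcj] at h
      have := hfix (w * m⁻¹) (by rw [← cj_cj]; exact (cj_mono w h).trans h4)
      exact hw (by simpa using M.mul_mem this hm)
    refine ⟨A, _, h6, hT.pgroup, hT.le, h7, cj_le_iff_le_cj_inv.1 h5, ?_, h8, h9⟩
    rw [← cj_eq_of_normal m⁻¹ V]
    exact cj_mono _ (hV.le_sylow_of_normal P)
  obtain ⟨w0, hw0⟩ : ∃ w, w ∉ M := by
    by_contra h; push Not at h; exact hM (eq_top_iff.2 fun x _ => h x)
  obtain ⟨E, hE, hEm⟩ := exists_maximal_of_wellFoundedGT Fam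
    ⟨⊥, IsPGroup.of_bot, bot_le, bot_le, w0, hw0, by simp⟩
  replace hEm : ∀ A, 𝒞 A → IsPGroup p (A ⊔ E : Subgroup G) → A ≤ M → ¬ A ≤ E →
      ∀ w, cj w (A ⊔ E) ≤ M → w ∈ M := fun A h1 h2 h3 h4 w h5 => by
    by_contra h
    exact h4 (le_sup_left.trans (hEm (y := A ⊔ E) ⟨h2, sup_le (le_WC h1 le_sup_left)
      (hE.2.1.trans (WC_mono le_sup_right)), sup_le h3 hE.2.2.1, w, h, h5⟩ le_sup_right))
  obtain ⟨A, T, hA, hT, hTM, hAT, hET, hVT, hAE, hAE'⟩ := step E hE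
  obtain ⟨h1, h2, h3, w, hw, h4⟩ := hE
  have hNE : ¬ normalizer (E : Set G) ≤ M := by
    obtain ⟨B, T', hB, hT', hTM', hBT, hET', -, hBE, hBE'⟩ := step (cj w E)
      ⟨IsPGroup.cj h1 w, by rw [← cj_WC hcj]; exact cj_mono _ h2, h4, w⁻¹,
        fun h => hw (by simpa using h), by rwa [cj_inv_cj]⟩
    have h5 : cj w (cj w⁻¹ B ⊔ E) ≤ T' := by rw [cj_sup, cj_cj_inv]; exact sup_le hBT hET'
    intro h
    refine hw (hEm _ (hcj w⁻¹ B hB) ?_ ?_ (fun h => hBE' (le_cj_iff_cj_inv_le.2 h)) w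
      (h5.trans hTM'))
    · have := IsPGroup.cj (hT'.to_le h5) w⁻¹
      rwa [cj_inv_cj] at this
    · refine le_trans ?_ h
      rw [← le_cj_iff_cj_inv_le, cj_normalizer]; exact hBE
  have hVE : V ≤ normalizer (E : Set G) := fun v hv => mem_normalizer_of_cj_le <| by
    refine cj_le_iff_le_cj_inv.2 (h2.trans (WC_le_iff.2 fun C h5 h6 => cj_le_iff_le_cj_inv.1 ?_))
    rwa [cj_eq_of_mem_normalizer (hVn C h5 hv)]
  have hT0 : A ⊔ E ⊔ V ≤ T := sup_le (sup_le hAT hET) hVT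
  obtain ⟨L, ⟨hL1, hL2, hL3⟩, hLm⟩ := exists_minimal_of_wellFoundedLT
    (fun L => A ⊔ E ⊔ V ≤ L ∧ L ≤ normalizer (E : Set G) ∧ ¬ L ≤ M)
    ⟨_, sup_le (sup_le hAE le_normalizer) hVE, le_rfl, hNE⟩
  refine ⟨A, L, A ⊔ E ⊔ V, hA, le_sup_left.trans le_sup_left, le_sup_right, hL1, hT.to_le hT0,
    ⟨comap_mono (hT0.trans hTM), fun h => hL3 (subgroupOf_eq_top.1 h), fun H h5 h6 => ?_,
    fun z hz => ?_⟩, ?_⟩
  · by_contra h7
    refine h6 (eq_top_iff.2 fun x _ => ?_)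
    have h8 := hLm (y := H.map L.subtype) ⟨?_, (map_subtype_le _).trans hL2,
      fun h => h7 (map_le_iff_le_comap.1 h)⟩ (map_subtype_le _)
    · obtain ⟨y, hy, e⟩ := h8 x.2
      exact (Subtype.ext e : y = x) ▸ hy
    · rw [← map_subgroupOf_eq_of_le hL1]; exact map_mono h5
  · refine hEm A hA (hT.to_le (le_sup_left.trans hT0)) (hAT.trans hTM) hAE' z
      (cj_le_iff.2 fun x hx => ?_)
    exact cj_le_iff.1 hz ⟨x, hL1 (le_sup_left (a := A ⊔ E) hx)⟩ (le_sup_left (a := A ⊔ E) hx)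
  · have hEL : E ≤ L := (le_sup_right.trans le_sup_left).trans hL1
    have hVL : V ≤ L := le_sup_right.trans hL1
    have hAL : A ≤ L := (le_sup_left.trans le_sup_left).trans hL1
    rw [subgroupOf_sup (sup_le hAL hEL) hVL, subgroupOf_sup hAL hEL, sup_assoc]
    refine sup_le_sup_left (sup_le ?_ ?_) _
    · exact Solv.le_pCore (hN := (normal_subgroupOf_iff_le_normalizer hEL).2 hL2) h1.comap_subtype
    · exact Solv.le_pCore hV.comap_subtype

theorem UM.core2 (h : UM T M) (hT : IsPGroup p T) [X.Normal] (hX : IsPGroup p X)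
    (hab : IsMulCommutative X) {g : G} (hg : (orderOf g).Coprime p)
    (hgX : g ∉ centralizer (X : Set G)) (hAT : A ≤ T) (hTA : T ≤ A ⊔ pCore p G)
    (hq : ⁅⁅X, A⁆, A⁆ = ⊥) (hc : (centralizer (A : Set G)).relIndex X ≤ (pCore p G).relIndex A) :
    Involves (qd p) G := by
  obtain ⟨U, ⟨hUn, hUX, hgU⟩, hUm⟩ := exists_minimal_of_wellFoundedLT
    (fun N : Subgroup G => N.Normal ∧ N ≤ X ∧ g ∉ centralizer (N : Set G)) ⟨X, ‹_›, le_rfl, hgX⟩
  obtain ⟨Y, ⟨hYn, hYU⟩, hYm⟩ := exists_maximal_of_wellFoundedGT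
    (fun N : Subgroup G => N.Normal ∧ N < U) ⟨⊥, inferInstance, bot_lt_iff_ne_bot.2 fun e =>
      hgU (by simp [e, mem_centralizer_singleton_iff])⟩
  have hgY : g ∈ centralizer (Y : Set G) := by
    by_contra h
    exact hYU.not_ge (hUm ⟨hYn, hYU.le.trans hUX, h⟩ hYU.le)
  have hY : IsPGroup p Y := hX.to_le (hYU.le.trans hUX)
  have hs := QuotientGroup.mk'_surjective Y
  have hk := QuotientGroup.ker_mk' Y
  have hmin : ∀ N : Subgroup (G ⧸ Y), N.Normal → N ≤ U.map (QuotientGroup.mk' Y) →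
      N = ⊥ ∨ N = U.map (QuotientGroup.mk' Y) := fun N _ hN => by
    have h1 : N.comap (QuotientGroup.mk' Y) ≤ U := (comap_mono hN).trans (by
      rw [comap_map_eq, hk]; exact sup_le le_rfl hYU.le)
    rw [← map_comap_eq_self_of_surjective hs N]
    refine h1.lt_or_eq.imp (fun h2 => (Subgroup.map_eq_bot_iff _).2 ?_) fun h2 => by rw [h2]
    exact (hYm (y := N.comap _) ⟨inferInstance, h2⟩ (hk.ge.trans (ker_le_comap _ _))).trans hk.ge
  have hW : IsPGroup p (U.map (QuotientGroup.mk' Y)) := (hX.to_le hUX).map _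
  have hne : U.map (QuotientGroup.mk' Y) ≠ ⊥ := fun e =>
    hYU.not_ge (((Subgroup.map_eq_bot_iff _).1 e).trans hk.le)
  obtain ⟨h1, q, hq', h2⟩ := Solv.minimal_normal_elementary _
    (by have := hW.isNilpotent; infer_instance) hne hmin
  obtain rfl : p = q := by
    obtain ⟨x, hx, hx1⟩ := (bot_or_exists_ne_one _).resolve_left hne
    obtain ⟨k, e⟩ := hW ⟨x, hx⟩
    have : Fact q.Prime := ⟨hq'⟩
    have := orderOf_dvd_of_pow_eq_one (congrArg Subtype.val e : x ^ p ^ k = 1)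
    rw [orderOf_eq_prime (h2 x hx) hx1] at this
    exact ((Nat.prime_dvd_prime_iff_eq hq' hp.out).1 (hq'.dvd_of_dvd_pow this)).symm
  refine Fusion.Involves.of_surjective (UM.core (A := A.map (QuotientGroup.mk' Y))
    (h.map hs (hk.le.trans ((Solv.le_pCore hY).trans (h.pCore_le hT)))) (hT.map _) ⟨h1, h2⟩ hmin
    (fun hz => hgU fun x hx => ?_) (map_mono hAT) ((map_mono hTA).trans ?_) ?_ ?_) _ hs
  · have h3 : g * x * g⁻¹ * x⁻¹ ∈ Y := by
      rw [← hk, MonoidHom.mem_ker, map_mul, map_mul, map_mul,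
        mem_center_iff.1 (hz (mem_map_of_mem _ hx))]
      simp
    have h4 : ∀ n : ℕ, g ^ n * x * (g ^ n)⁻¹ = (g * x * g⁻¹ * x⁻¹) ^ n * x := fun n => by
      induction n with
      | zero => simp
      | succ n ih =>
        have h5 := hgY _ (Y.pow_mem h3 n)
        calc _ = g * (g ^ n * x * (g ^ n)⁻¹) * g⁻¹ := by rw [pow_succ']; group
          _ = _ := by rw [ih, ← mul_assoc, ← h5, pow_succ]; group
    obtain ⟨k, e⟩ := hY ⟨_, h3⟩
    have h5 := h4 (orderOf g)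
    rw [pow_orderOf_eq_one, one_mul, inv_one, mul_one, eq_comm, mul_eq_right] at h5
    have h6 := (pow_gcd_eq_one.2 ⟨h5, (congrArg Subtype.val e : (g * x * g⁻¹ * x⁻¹) ^ p ^ k = 1)⟩)
    rw [hg.pow_right k, pow_one, mul_inv_eq_one, mul_inv_eq_iff_eq_mul] at h6
    exact h6.symm
  · rw [Subgroup.map_sup]; exact sup_le_sup_left (Solv.map_pCore_le hs) _
  · rw [← map_commutator, ← map_commutator, Subgroup.map_eq_bot_iff]
    exact ((commutator_mono (commutator_mono hUX le_rfl) le_rfl).trans hq.le).trans bot_le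
  · rw [← relIndex_comap, ← relIndex_comap, Solv.comap_mk_pCore hY]
    refine le_trans (le_trans ?_ (relIndex_le_of_le_right hUX (relIndex_pos _ _).ne')) hc
    refine relIndex_le_of_le_left (fun c hc => ?_) (relIndex_pos _ _).ne'
    rintro _ ⟨a, ha, rfl⟩
    rw [← map_mul, ← map_mul, hc a ha]

/-- Glauberman's lemma: if `Qd(p)` is not involved and `J(P)` is not normal, an element of `Z(P)`
centralized by all proper overgroups of `P` is central. -/
theorem central_of_free (P : Sylow p G) (hc : Fusion.Con p G) (hf : ¬ Involves (qd p) G) {y : G}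
    (hy : y ∈ P.1 ⊓ centralizer (P.1 : Set G))
    (h : ∀ H : Subgroup G, P ≤ H → H ≠ ⊤ → ∀ g ∈ H, g * y * g⁻¹ = y)
    (hJ : ¬ (thompsonSubgroupOf 0 P.1).Normal) (g : G) : g * y * g⁻¹ = y := by
  by_contra hg
  obtain ⟨C, hC, h1, h2⟩ := J_quad P hJ
  set V := pCore p G ⊓ centralizer (pCore p G : Set G) with hV
  have hVp : IsPGroup p V := (Solv.isPGroup_pCore p G).to_le inf_le_left
  have hVa : IsMulCommutative V := comm_inf_centralizer _
  obtain ⟨A, L, T, ⟨hA, hAa, hAm, hAV⟩, hAT, hVT, hTL, hT, hU, hTA⟩ := l_lemma P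
    (M := centralizer {y}) (V := V) (𝒞 := fun A => IsPGroup p A ∧ IsMulCommutative A ∧
      (∀ B : Subgroup G, IsPGroup p B → IsMulCommutative B → Nat.card B ≤ Nat.card A) ∧
      V ≤ normalizer (A : Set G))
    (fun e => hg (by rw [mem_centralizer_singleton_iff.1 (e.ge (mem_top g)), mul_inv_cancel_right]))
    (fun H a b x hx => mem_centralizer_singleton_iff.2 (mul_inv_eq_iff_eq_mul.1 (h H a b x hx)))
    (fun g C ⟨a, b, c, d⟩ => ⟨IsPGroup.cj a g, (elem_cj (elem_zero.2 b) g).1, by rwa [card_cj], by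
      rw [← cj_normalizer, ← cj_eq_of_normal g V]; exact cj_mono g d⟩)
    ⟨C, ⟨P.isPGroup'.to_le hC.le, hC.elem.1, fun B a b => by
      obtain ⟨g, e⟩ := exists_cj_le_sylow P a
      exact card_cj g B ▸ hC.max _ e (elem_cj (elem_zero.2 b) g), h2⟩, hC.le, h1⟩ hVp
    fun _ h => h.2.2.2
  have hT' : IsPGroup p (T.subgroupOf L) := hT.comap_subtype
  have hVL := hVT.trans hTL
  have hAL := hAT.trans hTL
  have hyV : y ∈ V := (fun h => ⟨hc h, h⟩) (centralizer_le (Solv.pCore_le_sylow P) hy.2)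
  let X : Subgroup L := V.subgroupOf L ⊓ centralizer (pCore p L : Set L)
  have hXa : IsMulCommutative X := comm_iff_le_centralizer.2 fun a ha b hb =>
    Subtype.ext (comm_iff_le_centralizer.1 hVa ha.1 b hb.1)
  obtain ⟨g, hg1, hg2⟩ : ∃ g : L, (orderOf g).Coprime p ∧ g ∉ (centralizer {y}).subgroupOf L := by
    by_contra hn
    push Not at hn
    obtain ⟨S, hS, hTS⟩ := exists_isSyl_ge hT' le_top
    obtain ⟨n, hn'⟩ := index_pResidual (p := p) (G := L)
    have h3 := hS.sup_eq_of_relIndex le_top (by rw [relIndex_top_right, hn'])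
    refine hU.ne (eq_top_iff.2 (h3.ge.trans (sup_le ((closure_le _).2 fun x hx => hn x hx) ?_)))
    refine hU.max _ hTS fun e => hU.ne (eq_top_iff.2 (le_trans ?_ (hU.pCore_le hT')))
    exact e.ge.trans (Solv.le_pCore (hN := e ▸ inferInstance) hS.pgroup)
  have hAa' : IsMulCommutative (A.subgroupOf L) := comm_iff_le_centralizer.2 fun a ha b hb =>
    Subtype.ext (comm_iff_le_centralizer.1 hAa ha b hb)
  refine hf (Fusion.Involves.of_injective (hU.core2 (X := X) hT'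
    (hVp.comap_subtype.to_le inf_le_left) hXa hg1 (fun e => hg2 ?_) (comap_mono hAT) hTA ?_ ?_)
    L.subtype L.subtype_injective)
  · refine mem_centralizer_singleton_iff.2 (congrArg Subtype.val (e ⟨y, hVL hyV⟩ ⟨hyV, ?_⟩)).symm
    exact fun x hx => Subtype.ext (mem_centralizer_singleton_iff.1 (hU.pCore_le hT' hx))
  · refine commutator_eq_bot_iff_le_centralizer.2 (le_trans ?_ (comm_iff_le_centralizer.1 hAa'))
    refine commutator_le.2 fun x hx a ha => ?_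
    exact Comp.commutator_le_right_of_le_normalizer hAV (commutator_mem_commutator hx.1 ha)
  · set B := A.subgroupOf L ⊓ pCore p L
    have hXB : X ≤ centralizer (B : Set L) := inf_le_right.trans (centralizer_le inf_le_right)
    have h3 : Nat.card (X ⊔ B : Subgroup L) ≤ Nat.card (A.subgroupOf L) := by
      rw [Nat.card_congr (subgroupOfEquivOfLe hAL).toEquiv,
        ← card_map_of_injective L.subtype_injective]
      refine hAm _ (IsPGroup.map ((Solv.isPGroup_pCore p L).to_le (sup_le (inf_le_left.trans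
        (Solv.le_pCore hVp.comap_subtype)) inf_le_right)) _) ?_
      have : IsMulCommutative (X ⊔ B : Subgroup L) := comm_sup hXa
        (comm_iff.2 fun a ha b hb => comm_iff.1 hAa' a ha.1 b hb.1) hXB
      infer_instance
    rw [← card_mul_relIndex (le_sup_right (a := X)), relIndex_sup_of_le_normalizer
      (hXB.trans (centralizer_le_normalizer _)), ← card_inf_mul_relIndex (pCore p L) (A.subgroupOf L),
      inf_comm] at h3
    exact le_trans (relIndex_le_of_le_left (H := B)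
      (inf_le_left.trans (comm_iff_le_centralizer.1 hAa')) (relIndex_pos _ _).ne')
      (Nat.le_of_mul_le_mul_left h3 Nat.card_pos)

end Cfsg.Agent.Qd
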