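import Cfsg.Agent.Lib.Fusion.MP2

/-! Glauberman's theorems for `S₄`-free groups and fusion systems. -/

set_option autoImplicit false
open Cfsg

universe u

namespace Cfsg.Agent.Qd

open Subgroup Matrix Cfsg.Agent.Transfer

theorem s4_qd : Involves (Equiv.Perm (Fin 4)) (qd 2) := by
  let Z : Subgroup (qdOver (ZMod 2) × Equiv.Perm (Fin 2 → ZMod 2)) :=
    { carrier := {x | ∃ A v, x.1 = mkQ A v ∧ ∀ w, x.2 w = v + A.1 *ᵥ w}
      one_mem' := ⟨1, 0, mkQ_one.symm, by simp⟩
      mul_mem' := by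
        rintro ⟨_, a⟩ ⟨_, b⟩ ⟨A, v, rfl, h⟩ ⟨B, w, rfl, k⟩
        exact ⟨_, _, mkQ_mul, fun x => by
          rw [Prod.snd_mul, Equiv.Perm.mul_apply, h, k, mulVec_add, sl2_mulVec_mulVec, add_assoc]⟩
      inv_mem' := by
        rintro ⟨_, a⟩ ⟨A, v, rfl, h⟩
        exact ⟨_, _, mkQ_inv, fun x => by
          rw [Prod.snd_inv, Equiv.Perm.inv_eq_iff_eq, h, mulVec_add, mulVec_neg, sl2_mulVec_mulVec,
            sl2_mulVec_mulVec, mul_inv_cancel]; simp⟩ }
  have h : ∀ x y : Fin 2 → ZMod 2, x ≠ y → ∃ (A : SL2 (ZMod 2)) (v : Fin 2 → ZMod 2),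
      ∀ w, Equiv.swap x y w = v + A.1 *ᵥ w := by decide
  have h1 : Z.map (MonoidHom.snd _ _) = ⊤ := by
    rw [eq_top_iff, ← Equiv.Perm.closure_isSwap, closure_le]
    rintro _ ⟨x, y, hxy, rfl⟩
    obtain ⟨A, v, e⟩ := h x y hxy
    exact ⟨(mkQ A v, _), ⟨A, v, rfl, e⟩, rfl⟩
  refine Fusion.Involves.trans (Fusion.Involves.of_surjective Fusion.involves_refl
    (Equiv.permCongrHom (Fintype.equivFinOfCardEq (by simp))).toMonoidHom (MulEquiv.surjective _))
    (involves_of_graph Z (fun q => ?_) ?_)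
  · obtain ⟨⟨g, _⟩, hg, rfl⟩ := h1.ge (mem_top q)
    exact ⟨g, hg⟩
  · rintro q ⟨A, v, e, k⟩
    obtain ⟨rfl, rfl⟩ := mkQ_inj.1 (mkQ_one.trans e)
    exact Equiv.ext fun w => by simpa using k w

end Cfsg.Agent.Qd

namespace Cfsg.Agent.Fusion

open Cfsg.FusionSystem

variable {p : ℕ} [Fact p.Prime]

/-- the excluded sections: those involving `S₄` when `p = 2` -/
abbrev BadS4 (p : ℕ) : ∀ (H : Type) [Group H], Prop :=
  fun H _ => p = 2 ∧ Involves (Equiv.Perm (Fin 4)) H

theorem cenF_J : CenF.{u, 0} p (fun Q _ => thompsonSubgroupAOf (⊤ : Subgroup Q)) (BadS4 p) := by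
  by_cases hp : p = 2
  · subst hp
    intro L _ _ P hc hf y hy h hJ
    rw [(ja_char (p := 2)).2, Transfer.JA_eq] at hJ
    exact Qd.central_of_free P hc (fun h => hf _ ⟨rfl, involves_refl⟩ (Involves.trans Qd.s4_qd h))
      hy h hJ
  · exact quadF_J.cenF hp

theorem jz_S4 : JZ.{u, 0} p (BadS4 p) := by
  by_cases hp : p = 2
  · intro L _ _ P hc hf _ hm
    refine or_iff_not_imp_left.2 fun hJ y hy => Subgroup.mem_center_iff.2 fun g => ?_
    refine mul_inv_eq_iff_eq_mul.1 (cenF_J L P hc hf y hy (fun H h1 h2 x hx => ?_) ?_ g)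
    · obtain rfl : H = P := h1.lt_or_eq.elim (fun h => (h2 (hm.2 _ h)).elim) Eq.symm
      rw [hy.2 x hx, mul_inv_cancel_right]
    · rwa [(ja_char (p := p)).2, Transfer.JA_eq]
  · exact jz_odd hp

omit [Fact p.Prime] in
theorem free_S4 {Ω : Type u} [Group Ω] {S : Subgroup Ω} {F : FusionSystem S}
    (h : p ≠ 2 ∨ F.IsSectionFree p (Equiv.Perm (Fin 4))) : Free p (BadS4 p) F :=
  fun _ _ hH Q a b N c L _ ι d e =>
    h.resolve_left (fun h => h hH.1) Q a b N c L ι d (Involves.trans hH.2 e)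

theorem free_S4_group {G : Type u} [Group G] [Finite G] (S : Sylow p G)
    (h : p ≠ 2 ∨ ¬ Involves (Equiv.Perm (Fin 4)) G) : Free p (BadS4 p) (groupFusionSystem S.1) :=
  free_S4 (h.imp id (group_free (sylowIn_top S)))

theorem thompson_npc {G : Type u} [Group G] [Finite G] (S : Sylow p G)
    (h : p ≠ 2 ∨ ¬ Involves (Equiv.Perm (Fin 4)) G)
    (hC : HasNormalPComplement p (Subgroup.centralizer (centralizerIn S.1 S : Set G)))
    (hN : HasNormalPComplement p (Subgroup.normalizer (thompsonSubgroupOf 0 S.1 : Set G))) :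
    HasNormalPComplement p G :=
  hasNPC_of_isInner (sylowIn_top S) (thompson_inner jz_S4 S.2 (group_saturated S)
    (free_S4_group S h) (hasN_of_npc (sylowIn_top S)
      (Subgroup.le_normalizer.trans (Transfer.normalizer_le_normalizer_J _)) hN)
    (hasC_of_npc (sylowIn_top S) (fun x hx y hy => (hy.2 x hx).symm) hC))

omit [Fact p.Prime] in
theorem char_comap {S R : Type*} [Group S] [Group R] {φ : S →* R} (hφ : Function.Surjective φ)
    (hk : φ.ker.Characteristic) {K : Subgroup R} (hK : K.Characteristic) :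
    (K.comap φ).Characteristic :=
  Subgroup.characteristic_iff_le_comap.2 fun α x hx => by
    let e := QuotientGroup.quotientKerEquivOfSurjective φ hφ
    have h := Subgroup.characteristic_iff_le_comap.1 hK (e.symm.trans ((QuotientGroup.congr _ _ α
      (Subgroup.characteristic_iff_map_eq.1 hk α)).trans e)) hx
    have h2 : e.symm (φ x) = x := e.symm_apply_eq.2 rfl
    rw [Subgroup.mem_comap, MulEquiv.coe_toMonoidHom, MulEquiv.trans_apply, h2] at h
    exact h

open Subgroup in
theorem char_crit {S : Type*} {L : Type u} [Group S] [Group L] [Finite L] {ι : S →* L}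
    (hι : Function.Injective ι) (P : Sylow p L) (hP : P.1 = ι.range) (hc : Con p L)
    (hf : p ≠ 2 ∨ ¬ Involves (Equiv.Perm (Fin 4)) L) (hm : IsCoatom P.1)
    (h : ∀ Q : Subgroup S, Q ≠ ⊥ → Q.Characteristic → (Q.map ι).Normal → ∀ g : L,
      (orderOf g).Coprime p → g ∈ centralizer (Q.map ι : Set L)) : False := by
  have := Finite.of_injective ι hι
  obtain ⟨Q, ⟨h1, h2⟩, hQ⟩ := exists_maximal_of_wellFoundedGT
    (fun Q : Subgroup S => Q.Characteristic ∧ (Q.map ι).Normal)
    ⟨⊥, inferInstance, by rw [Subgroup.map_bot]; infer_instance⟩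
  have hs := QuotientGroup.mk'_surjective (Q.map ι)
  have hQP : Q.map ι ≤ P := hP ▸ map_le_range _ _
  let R := P.mapSurjective hs
  have hR : R.1 = ((QuotientGroup.mk' _).comp ι).range := by
    rw [MonoidHom.range_comp, ← hP]; rfl
  let φ : S →* R.1 := ((QuotientGroup.mk' _).comp ι).codRestrict _ fun x => hR ▸ ⟨x, rfl⟩
  have hφ : Function.Surjective φ := fun y => (hR.le y.2).imp fun x e => Subtype.ext e
  have hk : φ.ker = Q := by
    rw [MonoidHom.ker_codRestrict, ← MonoidHom.comap_ker, QuotientGroup.ker_mk',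
      comap_map_eq_self_of_injective hι]
  have key : ∀ U : Subgroup (L ⧸ Q.map ι), U ≤ R → (U.subgroupOf R).Characteristic → U ≠ ⊥ →
      ∀ H, R.1 ≤ H → H ≤ normalizer (U : Set (L ⧸ Q.map ι)) → HasNormalPComplement p H := by
    intro U hU h3 h4 H h5 h6
    rcases (map_le_iff_le_comap.1 h5 : P.1 ≤ _).lt_or_eq with h7 | h7
    · have h8 : U.Normal := normalizer_eq_top_iff.1 (eq_top_iff.2 (le_trans (by
        rw [← map_comap_eq_self_of_surjective hs H, hm.2 _ h7, map_top_of_surjective _ hs]) h6))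
      have h9 := hQ (y := (U.subgroupOf R).comap φ) ⟨char_comap hφ (hk.symm ▸ h1) h3, by
        have : ((U.subgroupOf R).comap φ).map ι = U.comap (QuotientGroup.mk' _) := by
          change ((U.comap (QuotientGroup.mk' _)).comap ι).map ι = _
          rw [map_comap_eq, ← hP, inf_eq_right]
          exact (comap_mono hU).trans (by
            rw [Sylow.coe_mapSurjective, comap_map_eq, QuotientGroup.ker_mk', sup_eq_left.2 hQP])
        rw [this]; infer_instance⟩ (hk.ge.trans (ker_le_comap _ _))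
      refine (h4 (eq_bot_iff.2 fun x hx => ?_)).elim
      obtain ⟨y, e⟩ := hφ ⟨x, hU hx⟩
      exact congrArg Subtype.val (e.symm.trans (hk.ge (h9 (by rwa [mem_comap, e]))))
    · rw [← map_comap_eq_self_of_surjective hs H, ← h7]
      exact Transfer.hasNPC_of_isPGroup (P.2.map _)
  have hn : HasNormalPComplement p (L ⧸ Q.map ι) := by
    by_cases hb : R.1 = ⊥
    · exact (Transfer.hasNPC_iff_inf_eq_bot R).2 (by rw [hb, bot_inf_eq])
    have hW := j_char.{u} (p := p) (Or.inr rfl)
    refine thompson_npc R (hf.imp id fun h h' => h (Involves.of_surjective h' _ hs))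
      (key _ centralizerIn_le ?_ (centralizerIn_self_ne_bot R.2 hb) _
        (fun x hx y hy => (hy.2 x hx).symm) (centralizer_le_normalizer _))
      (key _ (hW.2 R.1 ▸ ind_le _ R.1) ?_ (hW.2 R.1 ▸ ind_ne_bot hW.1 R.2 hb) _
        (le_normalizer.trans (Transfer.normalizer_le_normalizer_J _)) le_rfl)
    · have : (centralizerIn R.1 R).subgroupOf R = center R := by
        ext x
        exact ⟨fun h => Subgroup.mem_center_iff.2 fun y => Subtype.ext (h.2 y y.2),
          fun h => ⟨x.2, fun y hy => congrArg Subtype.val (Subgroup.mem_center_iff.1 h ⟨y, hy⟩)⟩⟩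
      rw [this]; infer_instance
    · rw [← hW.2, inducedFunctor, subgroupOf, comap_map_eq_self_of_injective (subtype_injective _)]
      exact characteristic_iff_map_eq.2 (hW.1.2 _ _ R.2)
  refine hm.1 (eq_top_iff.2 ?_)
  obtain ⟨n, hn'⟩ := Transfer.index_pResidual (p := p) (G := L)
  rw [← (Transfer.isSyl_top P).sup_eq_of_relIndex le_top (by rw [relIndex_top_right, hn'])]
  refine sup_le ((closure_le _).2 fun g hg => Solv.pCore_le_sylow P (hc ?_)) le_rfl
  have h3 : g ∈ centralizer (Q.map ι : Set L) := by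
    by_cases hb : Q = ⊥
    · simp [hb, mem_centralizer_singleton_iff]
    · exact h Q hb h1 h2 g hg
  obtain ⟨k, hk'⟩ := (P.2.to_le hQP).exists_card_eq
  refine Solv.zpowers_le_centralizer_iff.1 (Solv.coprime_le_centralizer_of_commutator_le
    (by rw [Nat.card_zpowers, hk']; exact Nat.Coprime.pow_right k hg) ?_
    (Solv.zpowers_le_centralizer_iff.2 h3))
  rw [← QuotientGroup.ker_mk' (Q.map ι), ← Subgroup.map_eq_bot_iff, map_commutator,
    commutator_comm, commutator_eq_bot_iff_le_centralizer, MonoidHom.map_zpowers, zpowers_le]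
  exact Transfer.mem_centralizer_of_hasNPC (Transfer.hasNPC_top.2 hn)
    ((Solv.isPGroup_pCore p L).map _) le_top (mem_top _) (le_normalizer_of_normal (mem_top _))
    (Nat.Coprime.coprime_dvd_left (orderOf_map_dvd _ g) hg)

end Cfsg.Agent.Fusion
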