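import Cfsg.Agent.Lib.Fusion.MP3
import Cfsg.Agent.Lib.Fusion.MCyc
import Cfsg.Agent.Lib.Transfer.Stab

/-! `J_e(S)` is normal when `S` has class at most two and `Qd(p)` is not involved. -/

set_option autoImplicit false
open Cfsg

universe u

namespace Cfsg.Agent.Qd

open Subgroup Cfsg.Agent.Transfer
open scoped commutatorElement

variable {G : Type u} [Group G] [Finite G] {p : ℕ} [hp : Fact p.Prime]

omit [Finite G] in
theorem comm_le_iff {N X U : Subgroup G} [N.Normal] : ⁅U, X⁆ ≤ N ↔
    X ≤ (centralizer (U.map (QuotientGroup.mk' N) : Set (G ⧸ N))).comap (QuotientGroup.mk' N) := by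
  rw [← map_le_iff_le_comap, ← commutator_eq_bot_iff_le_centralizer, ← map_commutator,
    Subgroup.map_eq_bot_iff, QuotientGroup.ker_mk', commutator_comm]

theorem con_of_le (hc : Fusion.Con p G) {H : Subgroup G} (h : pCore p G ≤ H) : Fusion.Con p H :=
  fun x hx => Solv.le_pCore (Solv.isPGroup_pCore p G).comap_subtype (hc fun y hy =>
    congrArg Subtype.val (hx ⟨y, h hy⟩ (Solv.le_pCore (Solv.isPGroup_pCore p G).comap_subtype hy)))

theorem coprime_zp {g : G} (hg : (orderOf g).Coprime p) {X : Subgroup G} (hX : IsPGroup p X) :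
    (Nat.card (zpowers g)).Coprime (Nat.card X) := by
  obtain ⟨k, e⟩ := hX.exists_card_eq
  rw [Nat.card_zpowers, e]; exact hg.pow_right k

theorem J_normal_base (P : Sylow p G) (hc : Fusion.Con p G) (hf : ¬ Involves (qd p) G)
    (hcl : ⁅⁅P.1, P.1⁆, P.1⁆ = ⊥)
    (hmax : ∀ H, P.1 ≤ H → H ≠ ⊤ → H ≤ normalizer (thompsonSubgroupOf p P.1 : Set G)) :
    (thompsonSubgroupOf p P.1).Normal := by
  by_contra hJ
  have hQ := Solv.pCore_le_sylow P
  have hO := Solv.isPGroup_pCore p G
  have cl : ∀ {T N A : Subgroup G} [N.Normal], IsPGroup p T → IsPGroup p N → A ≤ T →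
      ⁅N, A⁆ ≤ centralizer ((T ⊔ N : Subgroup G) : Set G) := fun {T N A} _ hT hN h => by
    obtain ⟨g, e⟩ := exists_cj_le_sylow P (hT.to_sup_of_normal_right hN)
    rw [← commutator_eq_bot_iff_le_centralizer, ← cj_eq_bot_iff (g := g), cj_commutator,
      cj_commutator, eq_bot_iff, ← hcl]
    exact commutator_mono (commutator_mono ((cj_mono g le_sup_right).trans e)
      ((cj_mono g (h.trans le_sup_left)).trans e)) e
  obtain ⟨C, hC, h1⟩ : ∃ A, MaxE p P.1 A ∧ ¬ A ≤ pCore p G := by
    by_contra hc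
    push Not at hc
    obtain ⟨U, hU⟩ := exists_maxE p P.1
    refine hJ ?_
    rw [le_antisymm (J_le_iff.2 fun A hA => (hA.mono (hc A hA) hQ).le_J)
      (J_mono_of_maxE hU (hc U hU) hQ)]
    exact normal_of_top_le fun g => normalizer_le_normalizer_J _ (le_normalizer_of_normal (mem_top g))
  set Z := pCore p G ⊓ centralizer (pCore p G : Set G) with hZ
  have hZp : IsPGroup p Z := hO.to_le inf_le_left
  set V := omegaOne p Z with hV
  have : V.Normal := normal_of_top_le fun g =>
    mem_normalizer_omegaOne (le_normalizer_of_normal (mem_top g))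
  have hVe : IsElementaryAbelian p V := elem_omegaOne (comm_inf_centralizer _)
  have hVp := elem_isPGroup hVe
  have hVA : ∀ A, MaxE p ⊤ A → ⁅V, A⁆ ≤ A := fun A hA => hA.le_of_centralizer le_top
    ((cl (elem_isPGroup hA.elem) hVp le_rfl).trans (centralizer_le (SetLike.coe_subset_coe.2 le_sup_left)))
    fun x hx => hVe.2 x (commutator_le_left _ _ hx)
  obtain ⟨A, L, T, hA, hAT, hVT, hTL, hT, hU, hTA⟩ := l_lemma P (V := V) (𝒞 := MaxE p ⊤)
    (fun e => hJ (normalizer_eq_top_iff.1 e)) hmax (fun g C h => cj_top g ▸ h.cj g)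
    ⟨C, (isSyl_top P).maxE hC, hC.le, h1⟩ hVp
    fun A hA => le_normalizer_iff_commutator_le_right.2 (hVA A hA)
  have hT' : IsPGroup p (T.subgroupOf L) := hT.comap_subtype
  have hVL := hVT.trans hTL
  have hAL := hAT.trans hTL
  let X : Subgroup L := V.subgroupOf L ⊓ centralizer (pCore p L : Set L)
  have hXe : IsElementaryAbelian p X := elem_mono (elem_subgroupOf hVe L) inf_le_left
  have hAe := elem_subgroupOf hA.elem L
  obtain ⟨g, hg1, hg2⟩ : ∃ g : L, (orderOf g).Coprime p ∧ g ∉ centralizer (X : Set L) := by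
    by_contra hn
    push Not at hn
    let D : Subgroup L := (centralizer ((V.subgroupOf L).map (QuotientGroup.mk' X) :
      Set (L ⧸ X))).comap (QuotientGroup.mk' X) ⊓ ((centralizer ((pCore p G).map
        (QuotientGroup.mk' Z) : Set (G ⧸ Z))).comap (QuotientGroup.mk' Z)).subgroupOf L
    have hD : IsPGroup p D := MCyc.pgroup_of_coprime fun g hg h2 => by
      have h3 : (orderOf g.1).Coprime p := by rwa [orderOf_coe]
      have h4 := Solv.coprime_le_centralizer_of_commutator_le (coprime_zp h2 (elem_isPGroup hXe))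
        (comm_le_iff.2 (zpowers_le.2 hg.1)) (zpowers_le.2 (hn g h2))
      have h5 := Solv.coprime_abelian_le_centralizer (A := zpowers g.1) (comm_inf_centralizer _)
        le_normalizer_of_normal (coprime_zp h3 hZp) fun v hv hv' a ha => by
          obtain ⟨k, e⟩ := hZp ⟨v, hv⟩
          have h6 : v ∈ V := mem_omegaOne hv (by
            rw [← (Nat.prime_dvd_prime_iff_eq hv' hp.out).1 (hv'.dvd_of_dvd_pow
              (orderOf_dvd_of_pow_eq_one (congrArg Subtype.val e : v ^ p ^ k = 1))),
              pow_orderOf_eq_one])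
          exact (zpowers_le.2 (show g.1 ∈ centralizer {v} from mem_centralizer_singleton_iff.2
            (congrArg Subtype.val (h4 (mem_zpowers g) ⟨v, hVL h6⟩ h6)).symm) ha v rfl).symm
      have h6 := hc (Solv.coprime_le_centralizer_of_commutator_le (coprime_zp h3 hZp)
        (comm_le_iff.2 (zpowers_le.2 hg.2)) h5 (mem_zpowers _))
      obtain ⟨k, e⟩ := hO ⟨_, h6⟩
      exact Subtype.ext (orderOf_eq_one_iff.1 ((h3.pow_right k).eq_one_of_dvd
        (orderOf_dvd_of_pow_eq_one (congrArg Subtype.val e : g.1 ^ p ^ k = 1))))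
    have h7 := cl (((elem_isPGroup hAe).to_sup_of_normal_right (Solv.isPGroup_pCore p L)).map
      L.subtype) hVp (A := A) (by
        rw [← map_subgroupOf_eq_of_le hAL]; exact map_mono (by simp))
    have hAD : A.subgroupOf L ≤ D := le_inf (comm_le_iff.1 (le_inf (commutator_le_left _ _)
      (commutator_le.2 fun v hv a ha x hx => Subtype.ext (h7 (commutator_mem_commutator hv ha) x
        (mem_sup_left (mem_map_of_mem _ (mem_sup_right hx))))))) (comap_mono
      (comm_le_iff.1 (le_inf (commutator_le_left _ _)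
        ((cl (elem_isPGroup hA.elem) hO le_rfl).trans (centralizer_le (SetLike.coe_subset_coe.2 le_sup_right))))))
    have h2 := hTA.trans (sup_le (hAD.trans (Solv.le_pCore hD)) le_rfl)
    exact hU.ne (eq_top_iff.2 fun z _ => hU.fix z (((cj_mono z h2).trans
      (cj_eq_of_normal z _).le).trans (hU.pCore_le hT')))
  refine hf (Fusion.Involves.of_injective (hU.core2 (X := X) hT' (elem_isPGroup hXe) hXe.1 hg1 hg2
    (comap_mono hAT) hTA ?_ ?_) L.subtype L.subtype_injective)
  · refine commutator_eq_bot_iff_le_centralizer.2 (le_trans ?_ (comm_iff_le_centralizer.1 hAe.1))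
    exact commutator_le.2 fun x hx a ha => hVA A hA (commutator_mem_commutator hx.1 ha)
  · set B := A.subgroupOf L ⊓ pCore p L
    have hXB : X ≤ centralizer (B : Set L) := inf_le_right.trans (centralizer_le inf_le_right)
    have h3 : Nat.card (X ⊔ B : Subgroup L) ≤ Nat.card (A.subgroupOf L) := by
      rw [Nat.card_congr (subgroupOfEquivOfLe hAL).toEquiv,
        ← card_map_of_injective L.subtype_injective]
      exact hA.max _ le_top (elem_map (elem_sup hXe (elem_mono hAe inf_le_left) hXB) _)
    rw [← card_mul_relIndex (le_sup_right (a := X)), relIndex_sup_of_le_normalizer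
      (hXB.trans (centralizer_le_normalizer _)), ← card_inf_mul_relIndex (pCore p L) (A.subgroupOf L),
      inf_comm] at h3
    exact le_trans (relIndex_le_of_le_left (H := B)
      (inf_le_left.trans (comm_iff_le_centralizer.1 hAe.1)) (relIndex_pos _ _).ne')
      (Nat.le_of_mul_le_mul_left h3 Nat.card_pos)

theorem J_normal_cl2 : ∀ (n : ℕ) (G : Type u) [Group G] [Finite G], Nat.card G = n →
    ∀ P : Sylow p G, Fusion.Con p G → ¬ Involves (qd p) G → ⁅⁅P.1, P.1⁆, P.1⁆ = ⊥ →
      (thompsonSubgroupOf p P.1).Normal := by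
  intro n
  induction n using Nat.strong_induction_on with
  | _ n ih =>
  rintro G _ _ rfl P hc hf hcl
  refine J_normal_base P hc hf hcl fun H h1 h2 => ?_
  have h3 := ih _ (by simpa using card_lt_of_lt h2.lt_top) H rfl (P.subtype h1)
    (con_of_le hc ((Solv.pCore_le_sylow P).trans h1))
    (fun h => hf (Fusion.Involves.of_injective h _ H.subtype_injective)) (by
      rw [← map_eq_bot_iff_of_injective _ H.subtype_injective, map_commutator, map_commutator,
        Sylow.coe_subtype, map_subgroupOf_eq_of_le h1, hcl])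
  rw [← map_subgroupOf_eq_of_le h1, ← map_J (by simp)]
  exact fun x hx => le_normalizer_map _ ⟨⟨x, hx⟩, (normalizer_eq_top_iff.2 h3).ge trivial, rfl⟩

theorem J_sup_of_cl2 (hcon : IsPConstrained p G) (hf : ¬ Involves (qd p) G) (S : Sylow p G)
    (hcl : ⁅⁅S.1, S.1⁆, S.1⁆ = ⊥) :
    normalizer (thompsonSubgroupOf p S.1 : Set G) ⊔ pPrimeCore p G = ⊤ := by
  have hs := QuotientGroup.mk'_surjective (pPrimeCore p G)
  have h := J_normal_cl2 _ _ rfl (S.mapSurjective hs) (charP_quot_of_constrained hcon)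
    (fun h => hf (Fusion.Involves.of_surjective h _ hs)) (by
      rw [Sylow.coe_mapSurjective, ← map_commutator, ← map_commutator, hcl, Subgroup.map_bot])
  have hJ : IsPGroup p (thompsonSubgroupOf p S.1) := S.2.to_le (map_subtype_le _)
  obtain ⟨k, e⟩ := hJ.exists_card_eq
  rw [Sylow.coe_mapSurjective, ← map_J (by
    rw [QuotientGroup.ker_mk']
    exact (disjoint_of_coprime_natCard (by
      rw [S.card_eq_multiplicity]
      exact (Solv.coprime_card_pPrimeCore p).symm.pow_left _)).eq_bot),
    ← normalizer_eq_top_iff, ← Solv.coprime_map_mk_normalizer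
      (by rw [e]; exact (Solv.coprime_card_pPrimeCore p).symm.pow_left _)
      (Or.inl (by have := hJ.isNilpotent; infer_instance))] at h
  rw [← QuotientGroup.ker_mk' (pPrimeCore p G), ← comap_map_eq, h, comap_top]

theorem card_qd_two : Nat.card (qd 2) = 24 := by
  change Nat.card (qdOver (ZMod 2)) = 24
  rw [← Nat.card_congr (Equiv.ofBijective (fun x : SL2 (ZMod 2) × (Fin 2 → ZMod 2) =>
    (mkQ x.1 x.2 : qdOver (ZMod 2))) ⟨fun x y e => Prod.ext (mkQ_inj.1 e).1 (mkQ_inj.1 e).2,
    fun q => by obtain ⟨A, v, rfl⟩ := mkQ_surj q; exact ⟨(A, v), rfl⟩⟩), Nat.card_prod,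
    Perm.GL2.card_SL2]
  simp

end Cfsg.Agent.Qd
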