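import Cfsg.Prelude.Def_AxialAlgebras

set_option autoImplicit false
set_option linter.unusedSectionVars false

/-! Majorana axes: eigenvector calculus. -/
namespace Cfsg.Agent.Maj
open Cfsg.Axial

variable {V : Type*} [AddCommGroup V] [Module ℝ V] {m : V →ₗ[ℝ] V →ₗ[ℝ] V}
  {B : LinearMap.BilinForm ℝ V}

structure Ax (m : V →ₗ[ℝ] V →ₗ[ℝ] V) (B : LinearMap.BilinForm ℝ V) (τ : V ≃ₗ[ℝ] V) (a : V) : Prop where
  pair : IsMajoranaPair m B τ a
  one : B a a = 1

theorem mem_eigen {a v : V} {c : ℝ} : v ∈ eigen m a c ↔ m a v = c • v :=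
  Module.End.mem_eigenspace_iff

theorem eigen_le {a : V} {c : ℝ} {S : Set ℝ} (h : c ∈ S) : eigen m a c ≤ eigenSum m a S :=
  le_iSup₂_of_le c h le_rfl

namespace Ax
variable {τ τ' : V ≃ₗ[ℝ] V} {a u v : V} (h : Ax m B τ a)
include h

theorem idem : m a a = a := h.pair.2.2.1.1.2.1
theorem mulm (u v : V) : τ (m u v) = m (τ u) (τ v) := h.pair.1 u v
theorem form (u v : V) : B (τ u) (τ v) = B u v := h.pair.2.1 u v
theorem fix {c : ℝ} (hc : c ∈ ({1, 0, 1 / 4} : Set ℝ)) (hv : m a v = c • v) : τ v = v :=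
  h.pair.2.2.2.1 v (eigen_le hc (mem_eigen.2 hv))
theorem neg (hv : m a v = (1 / 32 : ℝ) • v) : τ v = -v := h.pair.2.2.2.2 v (mem_eigen.2 hv)
theorem self : τ a = a := h.fix (c := 1) (by simp) (by rw [h.idem, one_smul])

theorem orth (hV : IsMajoranaAmbient m B) {c : ℝ} (hc : c ≠ 1) (hv : m a v = c • v) : B a v = 0 := by
  have := hV.2.2.2.1 a a v
  rw [h.idem, hv, map_smul, smul_eq_mul] at this
  exact (mul_eq_zero.1 (show (c - 1) * B a v = 0 by linear_combination this)).resolve_left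
    (sub_ne_zero.2 hc)

theorem dec0 (S : Set ℝ) (hS : S ⊆ majoranaSpectrum) (hv : v ∈ eigenSum m a S) :
    ∃ (c : ℝ) (x y z : V), v = c • a + x + y + z ∧ m a x = 0 ∧ m a y = (1 / 4 : ℝ) • y ∧
      m a z = (1 / 32 : ℝ) • z ∧ ((1 / 4 : ℝ) ∉ S → y = 0) ∧ ((1 / 32 : ℝ) ∉ S → z = 0) := by
  induction hv using Submodule.iSup_induction' with
  | mem c w hw =>
    by_cases hc : c ∈ S
    swap
    · simp only [hc, iSup_false, Submodule.mem_bot] at hw
      exact ⟨0, 0, 0, 0, by simp [hw], by simp, by simp, by simp, by simp, by simp⟩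
    simp only [hc, iSup_true] at hw
    rcases hS hc with rfl | rfl | rfl | rfl
    · rw [h.pair.2.2.1.2, Submodule.mem_span_singleton] at hw
      obtain ⟨c, rfl⟩ := hw
      exact ⟨c, 0, 0, 0, by simp, by simp, by simp, by simp, by simp, by simp⟩
    · exact ⟨0, w, 0, 0, by simp, by simpa using mem_eigen.1 hw, by simp, by simp, by simp, by simp⟩
    · exact ⟨0, 0, w, 0, by simp, by simp, mem_eigen.1 hw, by simp, fun k => absurd hc k, by simp⟩
    · exact ⟨0, 0, 0, w, by simp, by simp, by simp, mem_eigen.1 hw, by simp, fun k => absurd hc k⟩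
  | zero => exact ⟨0, 0, 0, 0, by simp, by simp, by simp, by simp, by simp, by simp⟩
  | add w w' _ _ h1 h2 =>
    obtain ⟨c, x, y, z, rfl, k1, k2, k3, k4, k5⟩ := h1
    obtain ⟨c', x', y', z', rfl, l1, l2, l3, l4, l5⟩ := h2
    exact ⟨c + c', x + x', y + y', z + z', by module, by rw [map_add, k1, l1, add_zero],
      by rw [map_add, k2, l2, smul_add], by rw [map_add, k3, l3, smul_add],
      fun k => by rw [k4 k, l4 k, add_zero], fun k => by rw [k5 k, l5 k, add_zero]⟩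

theorem dec (hV : IsMajoranaAmbient m B) (v : V) : ∃ x y z : V, v = B a v • a + x + y + z ∧
    m a x = 0 ∧ m a y = (1 / 4 : ℝ) • y ∧ m a z = (1 / 32 : ℝ) • z ∧
    τ v = B a v • a + x + y - z := by
  obtain ⟨c, x, y, z, e, k1, k2, k3, -⟩ := h.dec0 _ le_rfl
    (show v ∈ eigenSum m a majoranaSpectrum by rw [h.pair.2.2.1.1.2.2.1]; trivial)
  have hc : B a v = c := by
    rw [e, map_add, map_add, map_add, map_smul, h.one, h.orth hV (c := 0) (by norm_num) (by simpa using k1),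
      h.orth hV (by norm_num) k2, h.orth hV (by norm_num) k3]; simp
  refine ⟨x, y, z, hc ▸ e, k1, k2, k3, ?_⟩
  rw [hc, e, map_add, map_add, map_add, map_smul, h.self, h.fix (c := 0) (by simp) (by simpa using k1),
    h.fix (by simp) k2, h.neg k3, sub_eq_add_neg]

theorem uniq (hV : IsMajoranaAmbient m B) (h' : Ax m B τ' a) : τ = τ' := by
  ext v
  obtain ⟨x, y, z, e, k1, k2, k3, k4⟩ := h.dec hV v
  rw [k4]
  conv_rhs => rw [e]
  rw [map_add, map_add, map_add, map_smul, h'.self, h'.fix (c := 0) (by simp) (by simpa using k1),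
    h'.fix (by simp) k2, h'.neg k3, sub_eq_add_neg]

theorem sq (hV : IsMajoranaAmbient m B) : τ * τ = 1 := by
  ext v
  obtain ⟨x, y, z, e, k1, k2, k3, k4⟩ := h.dec hV v
  rw [LinearEquiv.mul_apply, k4, map_sub, map_add, map_add, map_smul, h.self,
    h.fix (c := 0) (by simp) (by simpa using k1), h.fix (by simp) k2, h.neg k3, sub_neg_eq_add, ← e]
  rfl

theorem f00 (hu : m a u = 0) (hv : m a v = 0) : m a (m u v) = 0 := by
  have := h.pair.2.2.1.1.2.2.2 0 (by simp [majoranaSpectrum]) 0 (by simp [majoranaSpectrum]) u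
    (mem_eigen.2 (by simpa using hu)) v (mem_eigen.2 (by simpa using hv))
  norm_num [monsterLaw, eigenSum] at this
  simpa using mem_eigen.1 this

theorem f0q (hu : m a u = 0) (hv : m a v = (1 / 4 : ℝ) • v) :
    m a (m u v) = (1 / 4 : ℝ) • m u v := by
  have := h.pair.2.2.1.1.2.2.2 0 (by simp [majoranaSpectrum]) (1 / 4) (by simp [majoranaSpectrum]) u
    (mem_eigen.2 (by simpa using hu)) v (mem_eigen.2 hv)
  norm_num [monsterLaw, eigenSum] at this
  simpa using mem_eigen.1 this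

theorem fqq (hV : IsMajoranaAmbient m B) (hu : m a u = (1 / 4 : ℝ) • u) (hv : m a v = (1 / 4 : ℝ) • v) :
    m a (m u v) = ((1 / 4 : ℝ) * B u v) • a := by
  have := h.pair.2.2.1.1.2.2.2 (1 / 4) (by simp [majoranaSpectrum]) (1 / 4)
    (by simp [majoranaSpectrum]) u (mem_eigen.2 hu) v (mem_eigen.2 hv)
  have e : monsterLaw (1 / 4 : ℝ) (1 / 32) (1 / 4) (1 / 4) = {1, 0} := by norm_num [monsterLaw]
  rw [e] at this
  obtain ⟨c, x, y, z, e, k1, -, -, k4, k5⟩ := h.dec0 _ (by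
    rintro _ (rfl | rfl) <;> simp [majoranaSpectrum]) this
  rw [k4 (by norm_num), k5 (by norm_num), add_zero, add_zero] at e
  have h1 := hV.2.2.2.1 a u v
  rw [hu, e, map_add, map_smul, h.one, h.orth hV (c := 0) (by norm_num) (by simpa using k1),
    map_smul] at h1
  rw [e, map_add, map_smul, h.idem, k1, add_zero]
  congr 1
  simpa using h1

theorem conj (g : V ≃ₗ[ℝ] V) (g1 : ∀ u v, g (m u v) = m (g u) (g v))
    (g2 : ∀ u v, B (g u) (g v) = B u v) : Ax m B (g * τ * g⁻¹) (g a) := by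
  have i1 : ∀ u v, g.symm (m u v) = m (g.symm u) (g.symm v) := fun u v =>
    g.injective (by rw [g1]; simp)
  have ap : ∀ v, (g * τ * g⁻¹) v = g (τ (g.symm v)) := fun v => rfl
  have ei : ∀ c v, v ∈ eigen m (g a) c ↔ g.symm v ∈ eigen m a c := fun c v => by
    rw [mem_eigen, mem_eigen, ← g.symm.injective.eq_iff, i1, map_smul]; simp
  have es : ∀ S v, v ∈ eigenSum m (g a) S ↔ g.symm v ∈ eigenSum m a S := fun S v => by
    have : eigenSum m (g a) S = (eigenSum m a S).map (g : V →ₗ[ℝ] V) := by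
      simp only [eigenSum, Submodule.map_iSup]
      refine iSup_congr fun c => iSup_congr fun _ => ?_
      ext w; rw [ei, Submodule.mem_map_equiv]
    rw [this, Submodule.mem_map_equiv]
  obtain ⟨⟨h1, h2, ⟨⟨h3, h4, h5, h6⟩, h7⟩, h8, h9⟩, h10⟩ := h
  refine ⟨⟨fun u v => by rw [ap, ap, ap, i1, h1, g1], fun u v => by
    rw [ap, ap, g2, h2, ← g2]; simp, ⟨⟨by simpa using h3, by rw [← g1, h4],
      eq_top_iff.2 fun v _ => (es _ _).2 (by rw [h5]; trivial), fun c hc d hd u hu v hv => ?_⟩, ?_⟩,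
    fun v hv => ?_, fun v hv => ?_⟩, by rw [g2, h10]⟩
  · rw [es, i1]; exact h6 c hc d hd _ ((ei _ _).1 hu) _ ((ei _ _).1 hv)
  · ext w
    rw [ei, h7, Submodule.mem_span_singleton, Submodule.mem_span_singleton]
    exact exists_congr fun c => by rw [← g.injective.eq_iff]; simp
  · have := h8 _ ((es _ _).1 hv)
    change g (τ (g.symm v)) = v
    rw [show τ (g.symm v) = g.symm v from this]; simp
  · have := h9 _ ((ei _ _).1 hv)
    change g (τ (g.symm v)) = -v
    rw [show τ (g.symm v) = -g.symm v from this]; simp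

theorem sig (hV : IsMajoranaAmbient m B) {s : V} (hs : m a v = s + (1 / 32 : ℝ) • (a + v)) :
    m a (τ v) = s + (1 / 32 : ℝ) • (a + τ v) := by
  obtain ⟨x, y, z, e, -, -, k3, k4⟩ := h.dec hV v
  have e1 : τ v = v - (2 : ℝ) • z := by linear_combination (norm := module) k4 - e
  rw [e1, map_sub, map_smul, k3, hs]; module

theorem eig (hV : IsMajoranaAmbient m B) {s v' : V} {l : ℝ} (hs : m a v = s + (1 / 32 : ℝ) • (a + v))
    (ht : τ v = v') (hl : B a v = l) :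
    let y := (4 : ℝ) • s + (1 / 8 - 4 * l) • a + (1 / 16 : ℝ) • (v + v')
    let x := (-4 : ℝ) • s + (3 * l - 1 / 8) • a + (7 / 16 : ℝ) • (v + v')
    m a x = 0 ∧ m a y = (1 / 4 : ℝ) • y ∧ B y y = B y v := by
  obtain ⟨x, y, z, e, k1, k2, k3, k4⟩ := h.dec hV v
  rw [hl] at e k4
  rw [ht] at k4
  have e1 : m a v = l • a + (1 / 4 : ℝ) • y + (1 / 32 : ℝ) • z := by
    rw [e, map_add, map_add, map_add, map_smul, h.idem, k1, k2, k3, add_zero]
  have e2 : (4 : ℝ) • s + (1 / 8 - 4 * l) • a + (1 / 16 : ℝ) • (v + v') = y := by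
    linear_combination (norm := module) (4 : ℝ) • e1 - (4 : ℝ) • hs - (1 / 16 : ℝ) • e + (1 / 16 : ℝ) • k4
  have e3 : (-4 : ℝ) • s + (3 * l - 1 / 8) • a + (7 / 16 : ℝ) • (v + v') = x := by
    linear_combination (norm := module) (1 / 2 : ℝ) • e + (1 / 2 : ℝ) • k4 - e2
  intro y' x'
  simp only [x', y', e2, e3]
  refine ⟨k1, k2, ?_⟩
  have o1 : ∀ (w : V) (c : ℝ), c ≠ 1 / 4 → m a w = c • w → B y w = 0 := by
    intro w c hc hw
    have := hV.2.2.2.1 y a w
    rw [hw, hV.1 y a, k2, map_smul, map_smul, LinearMap.smul_apply, smul_eq_mul, smul_eq_mul] at this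
    exact (mul_eq_zero.1 (show (c - 1 / 4) * B y w = 0 by linear_combination this)).resolve_left
      (sub_ne_zero.2 hc)
  rw [e, map_add, map_add, map_add, map_smul, o1 a 1 (by norm_num) (by rw [h.idem, one_smul]),
    o1 x 0 (by norm_num) (by simpa using k1), o1 z _ (by norm_num) k3]
  simp

theorem asig (hV : IsMajoranaAmbient m B) {s v' : V} {l : ℝ} (hs : m a v = s + (1 / 32 : ℝ) • (a + v))
    (ht : τ v = v') (hl : B a v = l) :
    m a s = (7 / 32 : ℝ) • s + (3 / 4 * l - 25 / 1024) • a + (7 / 2048 : ℝ) • (v + v') := by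
  have h1 := (h.eig hV hs ht hl).2.1
  have h2 := h.sig hV hs
  rw [ht] at h2
  simp only [map_add, map_smul, h.idem, hs, h2] at h1
  linear_combination (norm := module) (1 / 4 : ℝ) • h1

theorem bsig (hV : IsMajoranaAmbient m B) {s : V} {l : ℝ} (hs : m a v = s + (1 / 32 : ℝ) • (a + v))
    (hl : B a v = l) : B a s = l - (1 + l) / 32 := by
  have := hV.2.2.2.1 a a v
  rw [h.idem, hs] at this
  simp only [map_add, map_smul, smul_eq_mul, h.one, hl] at this
  linear_combination this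

end Ax

theorem key (hV : IsMajoranaAmbient m B) {τ : V ≃ₗ[ℝ] V} {a0 am1 a1 am2 a2 s E O : V} {l o : ℝ}
    (h : Ax m B τ a0) (t1 : τ a1 = am1) (t2 : τ a2 = am2) (b1 : B a0 a1 = l) (b2 : B am1 a1 = o)
    (b3 : B a1 a1 = 1) (b4 : B s a1 = l - (1 + l) / 32)
    (p1 : m a0 a1 = s + (1 / 32 : ℝ) • (a0 + a1)) (p2 : m a0 a2 = E + (1 / 32 : ℝ) • (a0 + a2))
    (p3 : m a1 a1 = a1) (p4 : m am1 am1 = am1) (p5 : m a1 am1 = O + (1 / 32 : ℝ) • (a1 + am1))
    (p6 : m a1 s = (7 / 32 : ℝ) • s + (3 / 4 * l - 25 / 1024) • a1 + (7 / 2048 : ℝ) • (a0 + a2))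
    (p7 : m am1 s = (7 / 32 : ℝ) • s + (3 / 4 * l - 25 / 1024) • am1 + (7 / 2048 : ℝ) • (a0 + am2)) :
    m a0 O = ((1/6)*l + (-19/3072) : ℝ) • am1 + ((7/6144) : ℝ) • am2 + ((-32/3)*l^2 + (5/3)*l + (-1/24)*o + (-127/3072) : ℝ) • a0 + ((1/6)*l + (-19/3072) : ℝ) • a1 + ((7/6144) : ℝ) • a2 + ((7/96) : ℝ) • E + ((32/3)*l + (-19/48) : ℝ) • s ∧
    m s s = ((49/768)*l + (-245/196608) : ℝ) • am1 + ((49/196608) : ℝ) • am2 + ((7/6)*l^2 + (-7/384)*l + (7/1536)*o + (-7/98304) : ℝ) • a0 + ((49/768)*l + (-245/196608) : ℝ) • a1 + ((49/196608) : ℝ) • a2 + ((-7/1536) : ℝ) • E + ((7/2048) : ℝ) • O + ((-5/12)*l + (-13/1536) : ℝ) • s := by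
  obtain ⟨k1, k2, k3⟩ := h.eig hV p1 t1 b1
  have p8 := h.asig hV p1 t1 b1
  have p9 := h.sig hV p1
  have p10 := h.sig hV p2
  rw [t1] at p9
  rw [t2] at p10
  have c := hV.1
  have f1 := h.f00 k1 k1
  have f2 := h.f0q k1 k2
  have f3 := h.fqq hV k2 k2
  rw [k3] at f3
  have p0 := h.idem
  simp only [map_add, map_smul, LinearMap.add_apply, LinearMap.smul_apply, smul_eq_mul, b1, b2, b3, b4,
    c a1 a0, c am1 a0, c s a0, c s a1, c s am1, c am1 a1, p0, p1, p2, p3, p4, p5, p6, p7, p8, p9,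
    p10] at f1 f2 f3
  have e1 : m a0 O = ((1/6)*l + (-19/3072) : ℝ) • am1 + ((7/6144) : ℝ) • am2 + ((-32/3)*l^2 + (5/3)*l + (-1/24)*o + (-127/3072) : ℝ) • a0 + ((1/6)*l + (-19/3072) : ℝ) • a1 + ((7/6144) : ℝ) • a2 + ((7/96) : ℝ) • E + ((32/3)*l + (-19/48) : ℝ) • s := by
    linear_combination (norm := module) (8 / 3 : ℝ) • f1 - (8 / 3 : ℝ) • f3
  refine ⟨e1, ?_⟩
  rw [e1] at f1 f2
  linear_combination (norm := module) (1 / 4 : ℝ) • f1 + (1 / 4 : ℝ) • f2

end Cfsg.Agent.Maj
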