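import Cfsg.Agent.Lib.Fusion.Maj1

set_option autoImplicit false
set_option linter.unusedSectionVars false

/-! Sakuma's theorem for Majorana axes. -/
namespace Cfsg.Agent.Maj
open Cfsg.Axial

variable {V : Type*} [AddCommGroup V] [Module ℝ V] {m : V →ₗ[ℝ] V →ₗ[ℝ] V}
  {B : LinearMap.BilinForm ℝ V}

theorem roots {l e l3 l4 l5 l6 : ℝ} (h3 : l3 = (-32768/7)*l^3 + (36864/7)*l^2 + (-1920/7)*l*e + (-2169/7)*l + (-33/7)*e + (33/7))
    (h4 : l4 = (8388608/7)*l^4 + (-9601024/7)*l^3 + (65536)*l^2*e + (110592)*l^2 + (-640/7)*l*e + (-19840/7)*l + (-128/7)*e^2 + (-3)*e + (156/7))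
    (h5 : l5 = (-13958643712/49)*l^5 + (16273899520/49)*l^4 + (-754974720/49)*l^3*e + (-1633419264/49)*l^3 + (12582912/49)*l^2*e + (8683520/7)*l^2 + (475136/49)*l*e^2 + (259584/49)*l*e + (-137721/7)*l + (-256/49)*e^2 + (-5256/49)*e + (5512/49))
    (h6 : l6 = (3298534883328/49)*l^6 + (-3917010173952/49)*l^5 + (177167400960/49)*l^4*e + (469317451776/49)*l^4 + (-5511315456/49)*l^3*e + (-22767894528/49)*l^3 + (-25165824/7)*l^2*e^2 + (-97910784/49)*l^2*e + (542429184/49)*l^2 + (2457600/49)*l*e^2 + (5162880/49)*l*e + (-904320/7)*l + (16384/49)*e^3 + (1152/49)*e^2 + (-46500/49)*e + (29013/49))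
    (p1 : (-786432/7)*l^4 + (872448/7)*l^3 + (-15360/7)*l^2*e + (-69120/7)*l^2 + (-3336/7)*l*e + (1800/7)*l + (-48/7)*e^2 + (501/56)*e + (-117/56) = 0)
    (p2 : (402653184/49)*l^5 + (-453771264/49)*l^4 + (19660800/49)*l^3*e + (33103872/49)*l^3 + (-1195008/49)*l^2*e + (-92160/7)*l^2 + (70656/49)*l*e^2 + (124392/49)*l*e + (-216/7)*l + (2088/49)*e^2 + (-8703/196)*e + (351/196) = 0) :
    l = 1 ∨ e = 1 ∨ l3 = 1 ∨ l4 = 1 ∨ l5 = 1 ∨ l6 = 1 := by
  have r : ((-2949120/49)*l^3 + (-138240)*l^2 + (71460/49)*l + (8775/784)) * e + ((-754974720/49)*l^5 + (796262400/49)*l^4 + (-30689280/49)*l^3 + (-1002240/49)*l^2 + (55260/49)*l + (-8775/784)) = 0 := by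
    linear_combination p2 - ((-1472/7)*l + (-87/14)) * p1
  have res : l * (l - 1) * (l - 1 / 8) * (l - 1 / 64) ^ 2 * (l - 13 / 256) * (l - 1 / 32) *
      (l - 3 / 128) * (l - 5 / 256) = 0 := by
    linear_combination (343 / 1709960483517235200 : ℝ) * (((8697308774400/2401)*l^6 + (815372697600/49)*l^5 + (45462336307200/2401)*l^4 + (-971340595200/2401)*l^3 + (-2323436400/2401)*l^2 + (156765375/4802)*l + (77000625/614656)) * p1 + ((-9059696640/343)*l^5 + (-21729116160/49)*l^4 + (-141557760/343)*l^3*e + (-19841863680/343)*l^3 + (-6635520/7)*l^2*e + (719128800/343)*l^2 + (3430080/343)*l*e + (-5298075/343)*l + (26325/343)*e + (-1026675/43904)) * r)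
  simp only [mul_eq_zero, sub_eq_zero, pow_eq_zero_iff two_ne_zero] at res
  rcases res with ((((((h | h) | h) | h) | h) | h) | h) | h <;> subst h
  · exact .inr (.inl (by linarith))
  · exact .inl rfl
  · exact .inr (.inl (by linarith))
  · have : (e - 1 / 64) * (e - 1 / 8) = 0 := by linear_combination (-7 / 48 : ℝ) * p1
    rcases mul_eq_zero.1 this with k | k <;> rw [sub_eq_zero] at k <;> subst k
    · exact .inr (.inr (.inl (by rw [h3]; norm_num)))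
    · exact .inr (.inr (.inr (.inl (by rw [h4]; norm_num))))
  · obtain rfl : e = 13 / 256 := by linarith
    exact .inr (.inr (.inl (by rw [h3]; norm_num)))
  · obtain rfl : e = 0 := by linarith
    exact .inr (.inr (.inr (.inl (by rw [h4]; norm_num))))
  · obtain rfl : e = 3 / 128 := by linarith
    exact .inr (.inr (.inr (.inr (.inl (by rw [h5]; norm_num)))))
  · obtain rfl : e = 13 / 256 := by linarith
    exact .inr (.inr (.inr (.inr (.inr (by rw [h6]; norm_num)))))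

theorem nonneg (hV : IsMajoranaAmbient m B) (u : V) : 0 ≤ B u u := by
  by_cases h : u = 0
  · simp [h]
  · exact (hV.2.2.1 u h).le

theorem bsig2 (hV : IsMajoranaAmbient m B) {x y z s E : V} (h1 : m y z = E + (1 / 32 : ℝ) • (y + z))
    (h2 : m x y = s + (1 / 32 : ℝ) • (x + y)) :
    B x E = B z s + (B y z - B x y) / 32 := by
  have := hV.2.2.2.1 x y z
  rw [h1, h2] at this
  simp only [map_add, map_smul, LinearMap.add_apply, LinearMap.smul_apply, smul_eq_mul] at this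
  rw [hV.2.1 z s]
  linear_combination this

theorem sak (hV : IsMajoranaAmbient m B) {a : ℤ → V} {τ : ℤ → V ≃ₗ[ℝ] V}
    (hx : ∀ i, Ax m B (τ i) (a i)) (ht : ∀ i j, τ i (a j) = a (2 * i - j)) :
    B (a 0) (a 1) = 1 ∨ B (a 0) (a 2) = 1 ∨ B (a 0) (a 3) = 1 ∨ B (a (-2)) (a 2) = 1 ∨
      B (a (-2)) (a 3) = 1 ∨ B (a (-2)) (a 4) = 1 := by
  have sy := hV.2.1
  have c := hV.1
  have hrf : ∀ k i j, B (a (2 * k - i)) (a (2 * k - j)) = B (a i) (a j) := fun k i j => by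
    rw [← ht, ← ht, (hx k).form]
  have hsh : ∀ k i j, B (a (2 * k + i)) (a (2 * k + j)) = B (a i) (a j) := fun k i j => by
    rw [← hrf 0 i j, ← hrf k]; congr 2 <;> ring_nf
  obtain ⟨l, hl⟩ : ∃ x, B (a 0) (a 1) = x := ⟨_, rfl⟩
  obtain ⟨e, he⟩ : ∃ x, B (a 0) (a 2) = x := ⟨_, rfl⟩
  obtain ⟨o, ho⟩ : ∃ x, B (a (-1)) (a 1) = x := ⟨_, rfl⟩
  obtain ⟨l3, hl3⟩ : ∃ x, B (a 0) (a 3) = x := ⟨_, rfl⟩
  obtain ⟨l4, hl4⟩ : ∃ x, B (a (-2)) (a 2) = x := ⟨_, rfl⟩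
  obtain ⟨k4, hk4⟩ : ∃ x, B (a (-1)) (a 3) = x := ⟨_, rfl⟩
  obtain ⟨l5, hl5⟩ : ∃ x, B (a (-2)) (a 3) = x := ⟨_, rfl⟩
  obtain ⟨l6, hl6⟩ : ∃ x, B (a (-2)) (a 4) = x := ⟨_, rfl⟩
  have bm2_m1 : B (a (-2)) (a (-1)) = l := by
    have := hsh (-1) 0 1; norm_num at this; rw [this, hl]
  have bm2_m1' : B (a (-1)) (a (-2)) = l := by rw [sy, bm2_m1]
  have bm2_0 : B (a (-2)) (a 0) = e := by
    have := hsh (-1) 0 2; norm_num at this; rw [this, he]
  have bm2_0' : B (a 0) (a (-2)) = e := by rw [sy, bm2_0]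
  have bm2_1 : B (a (-2)) (a 1) = l3 := by
    have := hsh (-1) 0 3; norm_num at this; rw [this, hl3]
  have bm2_1' : B (a 1) (a (-2)) = l3 := by rw [sy, bm2_1]
  have bm2_2 : B (a (-2)) (a 2) = l4 := hl4
  have bm2_2' : B (a 2) (a (-2)) = l4 := by rw [sy, bm2_2]
  have bm2_3 : B (a (-2)) (a 3) = l5 := hl5
  have bm2_3' : B (a 3) (a (-2)) = l5 := by rw [sy, bm2_3]
  have bm2_4 : B (a (-2)) (a 4) = l6 := hl6
  have bm2_4' : B (a 4) (a (-2)) = l6 := by rw [sy, bm2_4]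
  have bm1_0 : B (a (-1)) (a 0) = l := by
    have := hrf 0 1 0; norm_num at this; rw [this, sy, hl]
  have bm1_0' : B (a 0) (a (-1)) = l := by rw [sy, bm1_0]
  have bm1_1 : B (a (-1)) (a 1) = o := ho
  have bm1_1' : B (a 1) (a (-1)) = o := by rw [sy, bm1_1]
  have bm1_2 : B (a (-1)) (a 2) = l3 := by
    have := hrf 1 3 0; norm_num at this; rw [this, sy, hl3]
  have bm1_2' : B (a 2) (a (-1)) = l3 := by rw [sy, bm1_2]
  have bm1_3 : B (a (-1)) (a 3) = k4 := hk4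
  have bm1_3' : B (a 3) (a (-1)) = k4 := by rw [sy, bm1_3]
  have bm1_4 : B (a (-1)) (a 4) = l5 := by
    have := hrf 1 3 (-2); norm_num at this; rw [this, sy, hl5]
  have bm1_4' : B (a 4) (a (-1)) = l5 := by rw [sy, bm1_4]
  have b0_1 : B (a 0) (a 1) = l := hl
  have b0_1' : B (a 1) (a 0) = l := by rw [sy, b0_1]
  have b0_2 : B (a 0) (a 2) = e := he
  have b0_2' : B (a 2) (a 0) = e := by rw [sy, b0_2]
  have b0_3 : B (a 0) (a 3) = l3 := hl3
  have b0_3' : B (a 3) (a 0) = l3 := by rw [sy, b0_3]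
  have b0_4 : B (a 0) (a 4) = l4 := by
    have := hsh 1 (-2) 2; norm_num at this; rw [this, hl4]
  have b0_4' : B (a 4) (a 0) = l4 := by rw [sy, b0_4]
  have b1_2 : B (a 1) (a 2) = l := by
    have := hrf 1 1 0; norm_num at this; rw [this, sy, hl]
  have b1_2' : B (a 2) (a 1) = l := by rw [sy, b1_2]
  have b1_3 : B (a 1) (a 3) = o := by
    have := hsh 1 (-1) 1; norm_num at this; rw [this, ho]
  have b1_3' : B (a 3) (a 1) = o := by rw [sy, b1_3]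
  have b1_4 : B (a 1) (a 4) = l3 := by
    have := hrf 2 3 0; norm_num at this; rw [this, sy, hl3]
  have b1_4' : B (a 4) (a 1) = l3 := by rw [sy, b1_4]
  have b2_3 : B (a 2) (a 3) = l := by
    have := hsh 1 0 1; norm_num at this; rw [this, hl]
  have b2_3' : B (a 3) (a 2) = l := by rw [sy, b2_3]
  have b2_4 : B (a 2) (a 4) = e := by
    have := hsh 1 0 2; norm_num at this; rw [this, he]
  have b2_4' : B (a 4) (a 2) = e := by rw [sy, b2_4]
  have b3_4 : B (a 3) (a 4) = l := by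
    have := hrf 2 1 0; norm_num at this; rw [this, sy, hl]
  have b3_4' : B (a 4) (a 3) = l := by rw [sy, b3_4]
  have o1 : ∀ i, B (a i) (a i) = 1 := fun i => (hx i).one
  have i1 : ∀ i, m (a i) (a i) = a i := fun i => (hx i).idem
  have fl : ∀ {i j : ℤ} {s : V}, m (a i) (a j) = s + (1 / 32 : ℝ) • (a i + a j) →
      m (a j) (a i) = s + (1 / 32 : ℝ) • (a j + a i) := fun h => by rw [c, h, add_comm (a _)]
  have sg : ∀ {i j : ℤ} {s : V} (k : ℤ), m (a i) (a j) = s + (1 / 32 : ℝ) • (a i + a j) →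
      2 * i - j = k → m (a i) (a k) = s + (1 / 32 : ℝ) • (a i + a k) := fun k h h' => by
    have := (hx _).sig hV h; rwa [ht, h'] at this
  have tt : ∀ i j k : ℤ, 2 * i - j = k → τ i (a j) = a k := fun i j k h => by rw [ht, h]
  obtain ⟨s, s01⟩ : ∃ s, m (a 0) (a 1) = s + (1 / 32 : ℝ) • (a 0 + a 1) := ⟨_, (sub_add_cancel _ _).symm⟩
  obtain ⟨E, E02⟩ : ∃ s, m (a 0) (a 2) = s + (1 / 32 : ℝ) • (a 0 + a 2) := ⟨_, (sub_add_cancel _ _).symm⟩
  obtain ⟨O, O1⟩ : ∃ s, m (a 1) (a (-1)) = s + (1 / 32 : ℝ) • (a 1 + a (-1)) :=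
    ⟨_, (sub_add_cancel _ _).symm⟩
  have s0m := sg (-1) s01 (by norm_num)
  have sm12 := sg (-2) (fl s0m) (by norm_num)
  have s12 := sg 2 (fl s01) (by norm_num)
  have s23 := sg 3 (fl s12) (by norm_num)
  have s34 := sg 4 (fl s23) (by norm_num)
  have E0m := sg (-2) E02 (by norm_num)
  have E24 := sg 4 (fl E02) (by norm_num)
  have O13 := sg 3 O1 (by norm_num)
  have q0 := (hx 0).asig hV s01 (tt 0 1 (-1) (by norm_num)) b0_1
  have q1 := (hx 1).asig hV (fl s01) (tt 1 0 2 (by norm_num)) b0_1'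
  have qm := (hx (-1)).asig hV (fl s0m) (tt (-1) 0 (-2) (by norm_num)) bm1_0
  have q2 := (hx 2).asig hV (fl s12) (tt 2 1 3 (by norm_num)) b1_2'
  have qE := (hx 0).asig hV E02 (tt 0 2 (-2) (by norm_num)) b0_2
  have c0 := (hx 0).bsig hV s01 b0_1
  have c1 := (hx 1).bsig hV s12 b1_2
  have c2 := (hx 2).bsig hV s23 b2_3
  have c3 := (hx 3).bsig hV s34 b3_4
  have cm := (hx (-1)).bsig hV sm12 bm2_m1'
  have d0 := (hx 0).bsig hV E02 b0_2
  have d2 := (hx 2).bsig hV E24 b2_4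
  have dm2 := (hx (-2)).bsig hV (fl E0m) bm2_0
  have d4 := (hx 4).bsig hV (fl E24) b2_4'
  have d1 := bsig2 hV E02 (fl s01)
  have dm1 := bsig2 hV E02 (fl s0m)
  have d3 := bsig2 hV (fl E02) (fl s23)
  have g1 := (hx 1).bsig hV O1 bm1_1'
  have gm1 := (hx (-1)).bsig hV (fl O1) bm1_1
  have g0 := bsig2 hV O1 s01
  have g2 := bsig2 hV O1 (fl s12)
  have gm2 := bsig2 hV (fl O1) (fl sm12)
  have g4 := bsig2 hV (fl O13) (fl s34)
  obtain ⟨aO, ss⟩ := key hV (hx 0) (tt 0 1 (-1) (by norm_num)) (tt 0 2 (-2) (by norm_num)) b0_1 bm1_1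
    (o1 _) (by rw [sy, c1]) s01 E02 (i1 _) (i1 _) O1 q1 qm
  obtain ⟨-, ss'⟩ := key hV (hx 1) (tt 1 0 2 (by norm_num)) (tt 1 (-1) 3 (by norm_num)) b0_1' b0_2'
    (o1 _) (by rw [sy, c0]) (fl s01) O1 (i1 _) (i1 _) E02 q0 q2
  have R : a 3 = ((256)*l + (-6) : ℝ) • a (-1) + ((1) : ℝ) • a (-2) + ((32768/7)*l^2 + (-2304/7)*l + (128/7)*o + (33/7) : ℝ) • a 0 + ((-32768/7)*l^2 + (2304/7)*l + (-128/7)*e + (-33/7) : ℝ) • a 1 + ((-256)*l + (6) : ℝ) • a 2 + ((-32) : ℝ) • E + ((32) : ℝ) • O := by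
    linear_combination (norm := module) (196608 / 49 : ℝ) • ss - (196608 / 49 : ℝ) • ss'
  have R0 := congrArg (B (a 0)) R
  have R1 := congrArg (B (a 1)) R
  have R2 := congrArg (B (a 2)) R
  have Rm1 := congrArg (B (a (-1))) R
  have Rm2 := congrArg (B (a (-2))) R
  have R4 := congrArg (B (a 4)) R
  have P := congrArg (m (a 0)) R
  simp only [map_add, map_smul, s0m, E0m, i1, s01, E02, qE, aO] at P
  have P2 := hV.2.2.2.1 (a 2) (a 3) (a 0)
  have P3 := hV.2.2.2.1 (a 3) (a 3) (a 0)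
  rw [c (a 3) (a 0), P, s23] at P2
  rw [c (a 3) (a 0), P, i1] at P3
  have c0' : B s (a 0) = l - (1 + l) / 32 := by rw [sy, c0]
  simp only [map_add, map_smul, LinearMap.add_apply, LinearMap.smul_apply, smul_eq_mul, o1, c0, c0', c1, c2,
    c3, cm, d0, d2, dm2, d4, d1, dm1, d3, g1, gm1, g0, g2, gm2, g4, bm2_m1, bm2_m1', bm2_0, bm2_0', bm2_1, bm2_1', bm2_2, bm2_2', bm2_3, bm2_3', bm2_4, bm2_4', bm1_0, bm1_0', bm1_1, bm1_1', bm1_2, bm1_2', bm1_3, bm1_3', bm1_4, bm1_4', b0_1, b0_1', b0_2, b0_2', b0_3, b0_3', b0_4, b0_4', b1_2, b1_2', b1_3, b1_3', b1_4, b1_4', b2_3, b2_3', b2_4, b2_4', b3_4, b3_4'] at R0 R1 R2 Rm1 Rm2 R4 P2 P3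
  have l0 : 0 ≤ l := by
    have := hV.2.2.2.2 (a 0) (a 1)
    rw [i1, i1, hl] at this
    exact (nonneg hV _).trans this
  obtain rfl : o = e := by
    have : (1920 * l + 303) * (o - e) = 0 := by linear_combination (-7 : ℝ) * R0 - (7 : ℝ) * R1
    exact sub_eq_zero.1 ((mul_eq_zero.1 this).resolve_left (by positivity))
  have h3 : l3 = (-32768/7)*l^3 + (36864/7)*l^2 + (-1920/7)*l*o + (-2169/7)*l + (-33/7)*o + (33/7) := by linear_combination R0
  subst h3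
  have h4 : l4 = (8388608/7)*l^4 + (-9601024/7)*l^3 + (65536)*l^2*o + (110592)*l^2 + (-640/7)*l*o + (-19840/7)*l + (-128/7)*o^2 + (-3)*o + (156/7) := by linear_combination -R2
  have h4' : k4 = (8388608/7)*l^4 + (-9601024/7)*l^3 + (65536)*l^2*o + (110592)*l^2 + (-640/7)*l*o + (-19840/7)*l + (-128/7)*o^2 + (-3)*o + (156/7) := by linear_combination Rm1
  subst h4 h4'
  have h5 : l5 = (-13958643712/49)*l^5 + (16273899520/49)*l^4 + (-754974720/49)*l^3*o + (-1633419264/49)*l^3 + (12582912/49)*l^2*o + (8683520/7)*l^2 + (475136/49)*l*o^2 + (259584/49)*l*o + (-137721/7)*l + (-256/49)*o^2 + (-5256/49)*o + (5512/49) := by linear_combination Rm2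
  subst h5
  have h6 : l6 = (3298534883328/49)*l^6 + (-3917010173952/49)*l^5 + (177167400960/49)*l^4*o + (469317451776/49)*l^4 + (-5511315456/49)*l^3*o + (-22767894528/49)*l^3 + (-25165824/7)*l^2*o^2 + (-97910784/49)*l^2*o + (542429184/49)*l^2 + (2457600/49)*l*o^2 + (5162880/49)*l*o + (-904320/7)*l + (16384/49)*o^3 + (1152/49)*o^2 + (-46500/49)*o + (29013/49) := by linear_combination -R4
  rw [hl, he, hl3, hl4, hl5, hl6]
  exact roots rfl rfl rfl h6 (by linear_combination P2) (by linear_combination P3)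

theorem eq_of_one (hV : IsMajoranaAmbient m B) {x y : V} (h1 : B x x = 1) (h2 : B y y = 1)
    (h3 : B x y = 1) : x = y := by
  by_contra h
  have := hV.2.2.1 _ (sub_ne_zero.2 h)
  simp only [map_sub, LinearMap.sub_apply, h1, h2, h3, hV.2.1 y x] at this
  norm_num at this

def autG (m : V →ₗ[ℝ] V →ₗ[ℝ] V) (B : LinearMap.BilinForm ℝ V) : Subgroup (V ≃ₗ[ℝ] V) where
  carrier := {g | (∀ u v, g (m u v) = m (g u) (g v)) ∧ ∀ u v, B (g u) (g v) = B u v}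
  one_mem' := ⟨fun _ _ => rfl, fun _ _ => rfl⟩
  mul_mem' := fun {g k} hg hk => ⟨fun u v => by simp [hg.1, hk.1], fun u v => by simp [hg.2, hk.2]⟩
  inv_mem' := fun {g} hg => ⟨fun u v => g.injective (by rw [hg.1]; simp), fun u v => by
    rw [← hg.2]; simp⟩

theorem sakuma (hV : IsMajoranaAmbient m B) {μ₀ μ₁ : V ≃ₗ[ℝ] V} {a₀ a₁ : V} (h₀ : Ax m B μ₀ a₀)
    (h₁ : Ax m B μ₁ a₁) : ∃ n : ℕ, 1 ≤ n ∧ n ≤ 6 ∧ (μ₀ * μ₁) ^ n = 1 := by
  set ρ := μ₁ * μ₀ with hρ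
  have i0 : μ₀⁻¹ = μ₀ := inv_eq_of_mul_eq_one_right (h₀.sq hV)
  have i1 : μ₁⁻¹ = μ₁ := inv_eq_of_mul_eq_one_right (h₁.sq hV)
  have e0 : ρ⁻¹ = μ₀ * μ₁ := by rw [hρ, mul_inv_rev, i0, i1]
  have e1 : ∀ k : ℤ, μ₀ * ρ ^ k = ρ ^ (-k) * μ₀ := fun k => by
    have : μ₀ * ρ * μ₀⁻¹ = ρ⁻¹ := by rw [e0, hρ]; group
    rw [zpow_neg, ← inv_zpow, ← this, conj_zpow]; group
  have e2 : μ₁ = ρ * μ₀ := by rw [hρ, mul_assoc, h₀.sq hV, mul_one]
  have hρA : ∀ k : ℤ, ρ ^ k ∈ autG m B := fun k =>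
    zpow_mem (mul_mem (show μ₁ ∈ autG m B from ⟨h₁.mulm, h₁.form⟩)
      (show μ₀ ∈ autG m B from ⟨h₀.mulm, h₀.form⟩)) k
  let a : ℤ → V := fun i => (ρ ^ (i / 2)) (if i % 2 = 0 then a₀ else a₁)
  have ae : ∀ k : ℤ, a (2 * k) = (ρ ^ k) a₀ := fun k => by simp [a]
  have ao : ∀ k : ℤ, a (2 * k + 1) = (ρ ^ k) a₁ := fun k => by
    have h1 : (2 * k + 1) / 2 = k := by omega
    have h2 : ¬ (2 * k + 1) % 2 = 0 := by omega
    simp only [a, h1, h2, if_false]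
  have hx : ∀ i, Ax m B (ρ ^ i * μ₀) (a i) := by
    intro i
    rcases Int.even_or_odd' i with ⟨k, rfl | rfl⟩
    · have := h₀.conj (ρ ^ k) (hρA k).1 (hρA k).2
      rw [mul_assoc, ← zpow_neg, e1, ← mul_assoc, ← zpow_add, neg_neg, ← two_mul] at this
      rwa [ae]
    · have := h₁.conj (ρ ^ k) (hρA k).1 (hρA k).2
      rw [e2, mul_assoc, mul_assoc, ← zpow_neg, e1, neg_neg, ← mul_assoc, ← mul_assoc,
        ← zpow_add_one, ← zpow_add, show k + 1 + k = 2 * k + 1 by ring] at this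
      rwa [ao]
  have ht : ∀ i j, (ρ ^ i * μ₀) (a j) = a (2 * i - j) := by
    intro i j
    rcases Int.even_or_odd' j with ⟨k, rfl | rfl⟩
    · rw [ae, ← mul_sub, ae, ← LinearEquiv.mul_apply, mul_assoc, e1, ← mul_assoc, ← zpow_add,
        LinearEquiv.mul_apply, h₀.self, sub_eq_add_neg]
    · rw [ao, show 2 * i - (2 * k + 1) = 2 * (i + -k - 1) + 1 by ring, ao, ← LinearEquiv.mul_apply,
        mul_assoc, e1, ← mul_assoc, ← zpow_add, zpow_sub_one, e0, LinearEquiv.mul_apply,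
        LinearEquiv.mul_apply, LinearEquiv.mul_apply, h₁.self]
  have fin : ∀ (i : ℤ) (n : ℕ), B (a i) (a (i + n)) = 1 → (μ₀ * μ₁) ^ n = 1 := by
    intro i n h
    have h1 := eq_of_one hV (hx i).one (hx _).one h
    have h2 := (hx i).uniq hV (h1 ▸ hx (i + n))
    rw [mul_left_inj, zpow_add, left_eq_mul, zpow_natCast] at h2
    rw [← e0, inv_pow, h2, inv_one]
  rcases sak hV hx ht with h | h | h | h | h | h
  · exact ⟨1, by omega, by omega, fin 0 1 h⟩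
  · exact ⟨2, by omega, by omega, fin 0 2 h⟩
  · exact ⟨3, by omega, by omega, fin 0 3 h⟩
  · exact ⟨4, by omega, by omega, fin (-2) 4 h⟩
  · exact ⟨5, by omega, by omega, fin (-2) 5 h⟩
  · exact ⟨6, by omega, by omega, fin (-2) 6 h⟩

end Cfsg.Agent.Maj
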