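import Cfsg.Agent.Lib.Fusion.Maj2

set_option autoImplicit false
set_option linter.unusedSectionVars false

/-! Commuting Majorana involutions; 2A-pure subgroups; invariant products and forms. -/
namespace Cfsg.Agent.Maj
open Cfsg.Axial

variable {V : Type*} [AddCommGroup V] [Module ℝ V] {m : V →ₗ[ℝ] V →ₗ[ℝ] V}
  {B : LinearMap.BilinForm ℝ V}

theorem comm_fix {μ₀ μ₁ : V ≃ₗ[ℝ] V} {a₀ a₁ : V} (h₀ : Ax m B μ₀ a₀)
    (h₁ : Ax m B μ₁ a₁) (hu₀ : ∀ a : V, IsMajoranaPair m B μ₀ a → a = a₀)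
    (hc : μ₀ * μ₁ = μ₁ * μ₀) : μ₁ a₀ = a₀ := by
  have := h₀.conj μ₁ h₁.mulm h₁.form
  rw [← hc, mul_inv_cancel_right] at this
  exact hu₀ _ this.pair

theorem two (hV : IsMajoranaAmbient m B) {μ₀ μ₁ : V ≃ₗ[ℝ] V} {a₀ a₁ : V} (h₀ : Ax m B μ₀ a₀)
    (h₁ : Ax m B μ₁ a₁) (t0 : μ₀ a₁ = a₁) (t1 : μ₁ a₀ = a₀) (hne : a₀ ≠ a₁) :
    (B a₀ a₁ = 0 ∧ m a₀ a₁ = 0) ∨ (B a₀ a₁ = 1 / 8 ∧
      m (a₀ + a₁ - (8 : ℝ) • m a₀ a₁) (a₀ + a₁ - (8 : ℝ) • m a₀ a₁) = a₀ + a₁ - (8 : ℝ) • m a₀ a₁ ∧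
      m a₀ (a₀ + a₁ - (8 : ℝ) • m a₀ a₁) = (1 / 8 : ℝ) • (a₀ + (a₀ + a₁ - (8 : ℝ) • m a₀ a₁) - a₁) ∧
      m a₁ (a₀ + a₁ - (8 : ℝ) • m a₀ a₁) =
        (1 / 8 : ℝ) • (a₁ + (a₀ + a₁ - (8 : ℝ) • m a₀ a₁) - a₀)) := by
  have c := hV.1
  have sy := hV.2.1
  obtain ⟨l, hl⟩ : ∃ x, B a₀ a₁ = x := ⟨_, rfl⟩
  have hl' : B a₁ a₀ = l := by rw [sy, hl]
  obtain ⟨s, s01⟩ : ∃ s, m a₀ a₁ = s + (1 / 32 : ℝ) • (a₀ + a₁) := ⟨_, (sub_add_cancel _ _).symm⟩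
  have s10 : m a₁ a₀ = s + (1 / 32 : ℝ) • (a₁ + a₀) := by rw [c, s01, add_comm a₀]
  have q0 := h₀.asig hV s01 t0 hl
  have q1 := h₁.asig hV s10 t1 hl'
  have c0 := h₀.bsig hV s01 hl
  have c1 := h₁.bsig hV s10 hl'
  have E0 : m a₀ a₀ = (15 / 16 : ℝ) • a₀ + (1 / 32 : ℝ) • (a₀ + a₀) := by rw [h₀.idem]; module
  have E1 : m a₁ a₁ = (15 / 16 : ℝ) • a₁ + (1 / 32 : ℝ) • (a₁ + a₁) := by rw [h₁.idem]; module
  obtain ⟨-, ss⟩ := key hV h₀ t0 h₀.self hl h₁.one h₁.one (by rw [sy, c1]) s01 E0 h₁.idem h₁.idem E1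
    q1 q1
  obtain ⟨-, ss'⟩ := key hV h₁ t1 h₁.self hl' h₀.one h₀.one (by rw [sy, c0]) s10 E1 h₀.idem h₀.idem E0
    q0 q0
  have k : (l * (l - 1 / 8)) • (a₀ - a₁) = 0 := by
    linear_combination (norm := module) (6 / 7 : ℝ) • ss' - (6 / 7 : ℝ) • ss
  rcases mul_eq_zero.1 ((smul_eq_zero.1 k).resolve_right (sub_ne_zero.2 hne)) with rfl | k
  · refine .inl ⟨hl, ?_⟩
    have := hV.2.2.2.2 a₀ a₁
    rw [h₀.idem, h₁.idem, hl] at this
    by_contra h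
    exact absurd (hV.2.2.1 _ h) (not_lt.2 this)
  · obtain rfl : l = 1 / 8 := sub_eq_zero.1 k
    refine .inr ⟨hl, ?_, ?_, ?_⟩ <;>
    simp only [s01, map_add, map_sub, map_smul, LinearMap.add_apply, LinearMap.sub_apply,
      LinearMap.smul_apply, s10, h₀.idem, h₁.idem, c s a₀, c s a₁, q0, q1, ss] <;> module

theorem pure (hV : IsMajoranaAmbient m B) (X : Subgroup (V ≃ₗ[ℝ] V)) (hX : ∀ x ∈ X, x * x = 1)
    (ax : (V ≃ₗ[ℝ] V) → V) (hax : ∀ x ∈ X, x ≠ 1 → Ax m B x (ax x))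
    (h2A : ∀ x ∈ X, ∀ y ∈ X, x ≠ 1 → y ≠ 1 → x ≠ y →
      m (ax x) (ax y) = (1 / 8 : ℝ) • (ax x + ax y - ax (x * y))) : Nat.card ↥X ≤ 4 := by
  classical
  by_contra hc
  rw [not_le] at hc
  haveI : Finite X := Nat.finite_of_card_ne_zero (by omega)
  haveI := Fintype.ofFinite X
  rw [Nat.card_eq_fintype_card] at hc
  have ex : ∀ s : Finset X, s.card ≤ 4 → ∃ z : X, z ∉ s := fun s hs =>
    Finset.exists_mem_notMem_of_card_lt_card (s := s) (t := Finset.univ)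
      (by rw [Finset.card_univ]; omega) |>.imp fun _ h => h.2
  have sq : ∀ x : X, x * x = 1 := fun x => Subtype.ext (hX x x.2)
  have iv : ∀ x : X, x⁻¹ = x := fun x => inv_eq_of_mul_eq_one_right (sq x)
  have cm : ∀ x y : X, x * y = y * x := fun x y => by rw [← iv (x * y), mul_inv_rev, iv, iv]
  have sq' : ∀ x y : X, x * (x * y) = y := fun x y => by rw [← mul_assoc, sq, one_mul]
  let a : X → V := fun x => ax x
  have hA : ∀ x : X, x ≠ 1 → Ax m B x (a x) := fun x h => hax x x.2 fun k => h (Subtype.ext k)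
  have hp : ∀ x y : X, x ≠ 1 → y ≠ 1 → x ≠ y → m (a x) (a y) = (1 / 8 : ℝ) • (a x + a y - a (x * y)) :=
    fun x y h1 h2 h3 => h2A x x.2 y y.2 (fun k => h1 (Subtype.ext k)) (fun k => h2 (Subtype.ext k))
      fun k => h3 (Subtype.ext k)
  have ne1 : ∀ x y : X, x ≠ y → x * y ≠ 1 := fun x y h k => h (by rw [← sq' x y, k, mul_one])
  have hq : ∀ x y : X, x ≠ 1 → y ≠ 1 → x ≠ y →
      m (a x) (a y - a (x * y)) = (1 / 4 : ℝ) • (a y - a (x * y)) := fun x y h1 h2 h3 => by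
    rw [map_sub, hp x y h1 h2 h3, hp x (x * y) h1 (ne1 x y h3) (fun k => h2 (by simpa using k)), sq']
    module
  obtain ⟨x, hx⟩ := ex {1} (by simp)
  obtain ⟨y, hy⟩ := ex {1, x} (Finset.card_le_two.trans (by omega))
  obtain ⟨z, hz⟩ := ex {1, x, y, x * y} Finset.card_le_four
  simp only [Finset.mem_insert, Finset.mem_singleton, not_or] at hx hy hz
  obtain ⟨y1, yx⟩ := hy
  obtain ⟨z1, zx, zy, zxy⟩ := hz
  have xy1 := ne1 x y (Ne.symm yx)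
  have xz1 := ne1 x z (Ne.symm zx)
  have yz1 := ne1 y z (Ne.symm zy)
  have n1 : y ≠ x * z := fun k => zxy (by rw [k, sq'])
  have n2 : x ≠ y * z := fun k => zxy (by rw [k, cm y z, mul_assoc, sq, mul_one])
  have f := (hA x hx).fqq hV (hq x y hx y1 (Ne.symm yx)) (hq x z hx z1 (Ne.symm zx))
  have e : m (a y - a (x * y)) (a z - a (x * z)) = (-1 / 4 : ℝ) • (a (y * z) - a (x * (y * z))) := by
    simp only [map_sub, LinearMap.sub_apply]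
    rw [hp y z y1 z1 (Ne.symm zy), hp y (x * z) y1 xz1 n1, hp (x * y) z xy1 z1 (Ne.symm zxy),
      hp (x * y) (x * z) xy1 xz1 (fun k => zy (mul_left_cancel k).symm),
      show y * (x * z) = x * (y * z) by rw [← mul_assoc, cm y x, mul_assoc], mul_assoc x y z,
      show x * y * (x * z) = y * z by rw [cm x y, mul_assoc, sq']]
    module
  have g := hq x (y * z) hx yz1 n2
  rw [e, map_smul, g] at f
  have o := (hA x hx).orth hV (by norm_num) g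
  have f1 := congrArg (B (a x)) f
  rw [map_smul, map_smul, map_smul, o, (hA x hx).one] at f1
  simp only [smul_eq_mul, mul_zero, mul_one] at f1
  rw [← f1, zero_smul, smul_smul, smul_eq_zero, sub_eq_zero] at f
  have f2 := f.resolve_left (by norm_num)
  have := (hA _ yz1).uniq hV (f2 ▸ hA _ (ne1 x _ n2))
  exact hx (by simpa using (Subtype.ext this : y * z = x * (y * z)))

end Cfsg.Agent.Maj
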