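import Cfsg.Agent.Lib.Fusion.Basic

/-! Marks of finite `Γ`-sets: they determine the set, and can be balanced along an equivalence. -/

set_option autoImplicit false

namespace Cfsg.Agent.Fusion

open MulAction

universe u v

section Iso

variable {H : Type*} {X Y : Type v} [Group H]

/-- stabilizer of a point under a permutation representation -/
def stb (ρ : H →* Equiv.Perm X) (x : X) : Subgroup H := (stabilizer (Equiv.Perm X) x).comap ρ

theorem mem_stb {ρ : H →* Equiv.Perm X} {x : X} {h : H} : h ∈ stb ρ x ↔ ρ h x = x := Iff.rfl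

theorem ncard_stb_eq [Finite H] [Finite X] [Finite Y] (ρ : H →* Equiv.Perm X)
    (ρ' : H →* Equiv.Perm Y)
    (h : ∀ K : Subgroup H, {x | K ≤ stb ρ x}.ncard = {y | K ≤ stb ρ' y}.ncard) (K : Subgroup H) :
    {x | stb ρ x = K}.ncard = {y | stb ρ' y = K}.ncard := by
  classical
  haveI := Fintype.ofFinite (Subgroup H)
  induction K using WellFoundedGT.induction with
  | ind K ih =>
  have key : ∀ {Z : Type v} [Finite Z] (σ : H →* Equiv.Perm Z), {x | K ≤ stb σ x}.ncard =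
      {x | stb σ x = K}.ncard + ∑ L ∈ Finset.univ.filter (K < ·), {x | stb σ x = L}.ncard := by
    intro Z _ σ
    haveI := Fintype.ofFinite Z
    have e : ∀ s : Set Z, s.ncard = (Finset.univ.filter (· ∈ s)).card := fun s => by
      rw [← Set.ncard_coe_finset]; congr 1; ext; simp
    simp only [e]
    rw [Finset.card_eq_sum_card_fiberwise (f := stb σ) (t := insert K (Finset.univ.filter (K < ·)))
      (fun x hx => by simpa [eq_comm, le_iff_eq_or_lt] using hx), Finset.sum_insert (by simp)]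
    congr 1
    · congr 1; ext x; simp only [Finset.mem_filter, Finset.mem_univ, true_and, Set.mem_setOf_eq]
      exact ⟨fun h => h.2, fun h => ⟨h.ge, h⟩⟩
    · refine Finset.sum_congr rfl fun L hL => ?_
      congr 1; ext x; simp only [Finset.mem_filter, Finset.mem_univ, true_and, Set.mem_setOf_eq] at hL ⊢
      exact ⟨fun h => h.2, fun h => ⟨h ▸ hL.le, h⟩⟩
  have h1 := h K
  rw [key ρ, key ρ', Finset.sum_congr rfl fun L hL => ih L (by simpa using hL)] at h1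
  omega

theorem exists_bijOn_of_stb [Finite X] [Finite Y] [Nonempty Y] (ρ : H →* Equiv.Perm X)
    (ρ' : H →* Equiv.Perm Y) (n : ℕ) : ∀ (A : Set X) (B : Set Y), A.ncard ≤ n →
    (∀ h, ∀ x ∈ A, ρ h x ∈ A) → (∀ h, ∀ y ∈ B, ρ' h y ∈ B) →
    (∀ K, {x ∈ A | stb ρ x = K}.ncard = {y ∈ B | stb ρ' y = K}.ncard) →
    (∃ f : X → Y, Set.BijOn f A B ∧ ∀ h, ∀ x ∈ A, f (ρ h x) = ρ' h (f x)) ∧
      ∀ x₀ ∈ A, ∀ y₀ ∈ B, stb ρ' y₀ = stb ρ x₀ →
        ∃ f : X → Y, Set.BijOn f A B ∧ (∀ h, ∀ x ∈ A, f (ρ h x) = ρ' h (f x)) ∧ f x₀ = y₀ := by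
  classical
  have h0 : ∀ B : Set Y, (∀ K, {x ∈ (∅ : Set X) | stb ρ x = K}.ncard =
      {y ∈ B | stb ρ' y = K}.ncard) → B = ∅ := fun B h => by
    ext y
    refine ⟨fun hy => ?_, fun hy => hy.elim⟩
    have := h (stb ρ' y)
    simp only [Set.mem_empty_iff_false, false_and, Set.setOf_false, Set.ncard_empty] at this
    exact absurd ((Set.ncard_eq_zero (Set.toFinite _)).1 this.symm ▸ (⟨hy, rfl⟩ :
      y ∈ {z ∈ B | stb ρ' z = stb ρ' y})) (Set.notMem_empty y)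
  induction n with
  | zero =>
    intro A B hA _ _ h
    obtain rfl := (Set.ncard_eq_zero (Set.toFinite _)).1 (Nat.le_zero.1 hA)
    rw [h0 B h]
    exact ⟨⟨fun _ => Classical.arbitrary Y, Set.bijOn_empty _, fun _ _ h => h.elim⟩,
      fun _ h => h.elim⟩
  | succ n ih =>
    intro A B hA hAi hBi h
    suffices main : ∀ x₀ ∈ A, ∀ y₀ ∈ B, stb ρ' y₀ = stb ρ x₀ →
        ∃ f : X → Y, Set.BijOn f A B ∧ (∀ h, ∀ x ∈ A, f (ρ h x) = ρ' h (f x)) ∧ f x₀ = y₀ by
      refine ⟨?_, main⟩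
      rcases A.eq_empty_or_nonempty with rfl | ⟨x₀, hx₀⟩
      · rw [h0 B h]
        exact ⟨fun _ => Classical.arbitrary Y, Set.bijOn_empty _, fun _ _ h => h.elim⟩
      obtain ⟨y₀, hy₀, e₀⟩ : {y ∈ B | stb ρ' y = stb ρ x₀}.Nonempty := by
        rw [← Set.ncard_pos (Set.toFinite _), ← h, Set.ncard_pos (Set.toFinite _)]
        exact ⟨x₀, hx₀, rfl⟩
      obtain ⟨f, h1, h2, -⟩ := main x₀ hx₀ y₀ hy₀ e₀
      exact ⟨f, h1, h2⟩
    intro x₀ hx₀ y₀ hy₀ e₀
    have e1 : ∀ a b, ρ a x₀ = ρ b x₀ ↔ ρ' a y₀ = ρ' b y₀ := fun a b => by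
      have : b⁻¹ * a ∈ stb ρ' y₀ ↔ b⁻¹ * a ∈ stb ρ x₀ := by rw [e₀]
      simpa [mem_stb, Equiv.symm_apply_eq] using this.symm
    let O : Set X := Set.range fun a => ρ a x₀
    let O' : Set Y := Set.range fun a => ρ' a y₀
    let g : X → Y := fun x => if hx : x ∈ O then ρ' hx.choose y₀ else y₀
    have hg : ∀ a, g (ρ a x₀) = ρ' a y₀ := fun a => by
      have hx : ρ a x₀ ∈ O := ⟨a, rfl⟩
      simp only [g, dif_pos hx]
      exact (e1 _ _).1 hx.choose_spec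
    have hgb : Set.BijOn g O O' := by
      refine ⟨?_, ?_, ?_⟩
      · rintro _ ⟨a, rfl⟩; exact ⟨a, (hg a).symm⟩
      · rintro _ ⟨a, rfl⟩ _ ⟨b, rfl⟩ e
        beta_reduce at e ⊢
        rw [hg, hg] at e; exact (e1 _ _).2 e
      · rintro _ ⟨a, rfl⟩; exact ⟨_, ⟨a, rfl⟩, hg a⟩
    have hs : ∀ a, stb ρ' (ρ' a y₀) = stb ρ (ρ a x₀) := fun a => by
      ext k
      rw [mem_stb, mem_stb, ← Equiv.Perm.mul_apply, ← map_mul, ← Equiv.Perm.mul_apply, ← map_mul, e1]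
    have hOA : O ⊆ A := by rintro _ ⟨a, rfl⟩; exact hAi a _ hx₀
    have hOB : O' ⊆ B := by rintro _ ⟨a, rfl⟩; exact hBi a _ hy₀
    have hO : ∀ a x, ρ a x ∈ O ↔ x ∈ O := fun a x =>
      ⟨fun ⟨b, e⟩ => ⟨a⁻¹ * b, by beta_reduce at e; simp [e]⟩, fun ⟨b, e⟩ => ⟨a * b, by simp [← e]⟩⟩
    have hO' : ∀ a y, ρ' a y ∈ O' ↔ y ∈ O' := fun a y =>
      ⟨fun ⟨b, e⟩ => ⟨a⁻¹ * b, by beta_reduce at e; simp [e]⟩, fun ⟨b, e⟩ => ⟨a * b, by simp [← e]⟩⟩
    obtain ⟨⟨f, hf, hfe⟩, -⟩ := ih (A \ O) (B \ O') (by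
        have := Set.ncard_lt_ncard (Set.diff_ssubset_left_iff.2 ⟨x₀, hx₀, 1, by simp⟩ : A \ O ⊂ A)
          (Set.toFinite _)
        omega)
      (fun a x hx => ⟨hAi a x hx.1, fun h => hx.2 ((hO a x).1 h)⟩)
      (fun a x hx => ⟨hBi a x hx.1, fun h => hx.2 ((hO' a x).1 h)⟩) fun K => by
        have e2 : {x ∈ O | stb ρ x = K}.ncard = {y ∈ O' | stb ρ' y = K}.ncard := by
          refine Set.ncard_congr (fun x _ => g x) ?_ (fun a b ha hb e => hgb.injOn ha.1 hb.1 e) ?_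
          · rintro _ ⟨⟨a, rfl⟩, e⟩
            exact ⟨hgb.mapsTo ⟨a, rfl⟩, by beta_reduce at e ⊢; rw [hg, hs, e]⟩
          · rintro _ ⟨⟨a, rfl⟩, e⟩
            exact ⟨_, ⟨⟨a, rfl⟩, by beta_reduce at e ⊢; rw [← hs, e]⟩, hg a⟩
        have e3 : {x ∈ A \ O | stb ρ x = K} = {x ∈ A | stb ρ x = K} \ {x ∈ O | stb ρ x = K} := by
          ext; simp only [Set.mem_setOf_eq, Set.mem_diff]; tauto
        have e4 : {x ∈ B \ O' | stb ρ' x = K} = {x ∈ B | stb ρ' x = K} \ {x ∈ O' | stb ρ' x = K} := by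
          ext; simp only [Set.mem_setOf_eq, Set.mem_diff]; tauto
        have e5 : {x ∈ O | stb ρ x = K} ⊆ {x ∈ A | stb ρ x = K} := fun x hx => ⟨hOA hx.1, hx.2⟩
        have e6 : {x ∈ O' | stb ρ' x = K} ⊆ {x ∈ B | stb ρ' x = K} := fun x hx => ⟨hOB hx.1, hx.2⟩
        rw [e3, e4, Set.ncard_diff e5, Set.ncard_diff e6, h, e2]
    refine ⟨fun x => if x ∈ O then g x else f x, ?_, fun a x hx => ?_, ?_⟩
    · rw [← Set.union_diff_cancel hOA, ← Set.union_diff_cancel hOB]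
      have b1 : Set.BijOn (fun x => if x ∈ O then g x else f x) O O' :=
        hgb.congr fun x hx => by simp [hx]
      have b2 : Set.BijOn (fun x => if x ∈ O then g x else f x) (A \ O) (B \ O') :=
        hf.congr fun x hx => by simp [hx.2]
      refine b1.union b2 ?_
      rintro a (ha | ha) b (hb | hb) e
      · exact b1.injOn ha hb e
      · exact absurd (Set.mem_of_eq_of_mem e.symm (b1.mapsTo ha)) (b2.mapsTo hb).2
      · exact absurd (Set.mem_of_eq_of_mem e (b1.mapsTo hb)) (b2.mapsTo ha).2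
      · exact b2.injOn ha hb e
    · beta_reduce
      by_cases hxO : x ∈ O
      · rw [if_pos hxO, if_pos ((hO a x).2 hxO)]
        obtain ⟨b, rfl⟩ := hxO
        beta_reduce
        rw [← Equiv.Perm.mul_apply, ← map_mul, hg, hg, map_mul, Equiv.Perm.mul_apply]
      · rw [if_neg hxO, if_neg (mt (hO a x).1 hxO)]
        exact hfe a x ⟨hx, hxO⟩
    · beta_reduce
      rw [if_pos ⟨1, by simp⟩]
      simpa using hg 1

/-- Two actions of a finite group on a finite set with the same marks are conjugate. -/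
theorem exists_perm_of_marks [Finite H] [Finite X] [Nonempty X] (ρ ρ' : H →* Equiv.Perm X)
    (h : ∀ K : Subgroup H, {x | K ≤ stb ρ x}.ncard = {y | K ≤ stb ρ' y}.ncard) :
    ∃ β : Equiv.Perm X, ∀ a x, β (ρ a x) = ρ' a (β x) := by
  obtain ⟨⟨f, hf, e⟩, -⟩ := exists_bijOn_of_stb ρ ρ' _ Set.univ Set.univ le_rfl (by simp) (by simp)
    fun K => by simpa using ncard_stb_eq ρ ρ' h K
  exact ⟨Equiv.ofBijective f (Set.bijOn_univ.1 hf), fun a x => e a x trivial⟩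

theorem exists_perm_of_stb [Finite X] (ρ : H →* Equiv.Perm X) {x y : X} (h : stb ρ y = stb ρ x) :
    ∃ β : Equiv.Perm X, (∀ a x, β (ρ a x) = ρ a (β x)) ∧ β x = y := by
  haveI : Nonempty X := ⟨x⟩
  obtain ⟨f, hf, e, e'⟩ := (exists_bijOn_of_stb ρ ρ _ Set.univ Set.univ le_rfl (by simp) (by simp)
    fun K => rfl).2 x trivial y trivial h
  exact ⟨Equiv.ofBijective f (Set.bijOn_univ.1 hf), fun a x => e a x trivial, e'⟩

end Iso

section Marks

variable {Γ : Type u} [Group Γ]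

/-- number of points of `Γ ⧸ E` fixed by `K` -/
noncomputable def mk1 (E K : Subgroup Γ) : ℕ := {y : Γ ⧸ E | ∀ k ∈ K, k • y = y}.ncard

theorem smul_mk_eq {E : Subgroup Γ} {k g : Γ} :
    k • (g : Γ ⧸ E) = (g : Γ ⧸ E) ↔ g⁻¹ * k * g ∈ E := by
  rw [MulAction.Quotient.smul_coe, eq_comm, QuotientGroup.eq, smul_eq_mul, mul_assoc]

theorem exists_of_mk1 {E K : Subgroup Γ} (h : mk1 E K ≠ 0) : ∃ g : Γ, ∀ k ∈ K, g⁻¹ * k * g ∈ E := by
  obtain ⟨y, hy⟩ := Set.nonempty_of_ncard_ne_zero h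
  obtain ⟨g, rfl⟩ := QuotientGroup.mk_surjective y
  exact ⟨g, fun k hk => smul_mk_eq.1 (hy k hk)⟩

theorem mk1_conj (E : Subgroup Γ) {K L : Subgroup Γ} (g : Γ) (h : ∀ k, k ∈ K ↔ g * k * g⁻¹ ∈ L) :
    mk1 E K = mk1 E L := by
  refine Set.ncard_congr (fun y _ => g • y) (fun y hy l hl => ?_) (fun a b _ _ e => by simpa using e)
    fun y hy => ⟨g⁻¹ • y, fun k hk => ?_, by simp⟩
  · have := hy (g⁻¹ * l * g) ((h _).2 (by simpa [mul_assoc] using hl))
    rw [mul_smul, mul_smul, inv_smul_eq_iff] at this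
    exact this
  · have := hy _ ((h k).1 hk)
    rw [mul_smul, mul_smul, smul_eq_iff_eq_inv_smul] at this
    exact this

theorem mk1_le [Finite Γ] (E K : Subgroup Γ) : mk1 E K ≤ Nat.card Γ :=
  (Set.ncard_le_card _).trans (Nat.card_le_card_of_surjective _ QuotientGroup.mk_surjective)

theorem mk1_self [Finite Γ] (E : Subgroup Γ) :
    mk1 E E = E.relIndex (Subgroup.normalizer (E : Set Γ)) := by
  rw [Subgroup.relIndex, Subgroup.index, mk1, ← Set.ncard_univ]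
  symm
  refine Set.ncard_congr (fun y _ => Quotient.map' (fun a => a.1) (fun a b h => by
    simpa [QuotientGroup.leftRel_apply, Subgroup.mem_subgroupOf] using h) y) ?_ ?_ ?_
  · intro y _ k hk
    obtain ⟨g, rfl⟩ := QuotientGroup.mk_surjective y
    exact smul_mk_eq.2 (by simpa using conj_mem_of_mem_normalizer (inv_mem g.2) hk)
  · intro a b _ _ e
    obtain ⟨a, rfl⟩ := QuotientGroup.mk_surjective a
    obtain ⟨b, rfl⟩ := QuotientGroup.mk_surjective b
    have : ((a : Γ) : Γ ⧸ E) = (b : Γ) := e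
    rw [QuotientGroup.eq] at this ⊢
    exact this
  · intro y hy
    obtain ⟨g, rfl⟩ := QuotientGroup.mk_surjective y
    refine ⟨(⟨g, ?_⟩ : Subgroup.normalizer (E : Set Γ)), trivial, rfl⟩
    exact inv_mem_iff.1 (mem_normalizer_of_finite fun x hx => by simpa using smul_mk_eq.1 (hy x hx))

theorem mk1_bot [Finite Γ] (E : Subgroup Γ) : mk1 E ⊥ = E.index := by
  rw [mk1, Subgroup.index, ← Set.ncard_univ]; congr 1; ext; simp

/-- Burnside's congruence -/
theorem dvd_sum_mk1 [Finite Γ] (E : Subgroup Γ) {N : Type u} [Group N] [Fintype N] (ψ : N →* Γ)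
    {D : Subgroup Γ} (h : ∀ n, ψ n ∈ Subgroup.normalizer (D : Set Γ)) :
    Nat.card N ∣ ∑ n : N, mk1 E (D ⊔ Subgroup.zpowers (ψ n)) := by
  classical
  let Z := {y : Γ ⧸ E // ∀ k ∈ D, k • y = y}
  letI : MulAction N Z :=
    { smul := fun n y => ⟨ψ n • y.1, fun k hk => by
        have := y.2 _ (conj_mem_of_mem_normalizer (inv_mem (h n)) hk)
        rwa [inv_inv, mul_smul, mul_smul, inv_smul_eq_iff] at this⟩
      one_smul := fun y => Subtype.ext (by change ψ 1 • y.1 = _; simp)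
      mul_smul := fun a b y => Subtype.ext (by change ψ (a * b) • y.1 = ψ a • ψ b • y.1; simp [mul_smul]) }
  haveI := Fintype.ofFinite Z
  haveI := Fintype.ofFinite (Quotient (orbitRel N Z))
  have := MulAction.sum_card_fixedBy_eq_card_orbits_mul_card_group N Z
  rw [Nat.card_eq_fintype_card]
  refine Dvd.intro_left _ (this.symm.trans (Finset.sum_congr rfl fun n _ => ?_))
  rw [← Nat.card_eq_fintype_card, Nat.card_coe_set_eq]
  refine Set.ncard_congr (fun y _ => y.1) (fun y hy => ?_) (fun a b _ _ e => Subtype.ext e)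
    fun y hy => ⟨⟨y, fun k hk => hy k (Subgroup.mem_sup_left hk)⟩,
      Subtype.ext (hy _ (Subgroup.mem_sup_right (Subgroup.mem_zpowers _))), rfl⟩
  have : D ⊔ Subgroup.zpowers (ψ n) ≤ stabilizer Γ y.1 :=
    sup_le y.2 (Subgroup.zpowers_le.2 (congrArg Subtype.val hy))
  exact this

variable [Fintype (Subgroup Γ)]

/-- mark at `K` of the `Γ`-set with `c E` orbits `Γ ⧸ E` -/
noncomputable def mark (c : Subgroup Γ → ℕ) (K : Subgroup Γ) : ℕ := ∑ E, c E * mk1 E K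

theorem mark_add (c d : Subgroup Γ → ℕ) (K : Subgroup Γ) : mark (c + d) K = mark c K + mark d K := by
  simp [mark, add_mul, Finset.sum_add_distrib]

theorem mark_smul (n : ℕ) (c : Subgroup Γ → ℕ) (K : Subgroup Γ) : mark (n • c) K = n * mark c K := by
  simp [mark, Finset.mul_sum, mul_assoc]

theorem mark_conj (c : Subgroup Γ → ℕ) {K L : Subgroup Γ} (g : Γ)
    (h : ∀ k, k ∈ K ↔ g * k * g⁻¹ ∈ L) : mark c K = mark c L :=
  Finset.sum_congr rfl fun E _ => by rw [mk1_conj E g h]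

theorem mark_eq_zero {c : Subgroup Γ → ℕ} {K : Subgroup Γ}
    (h : ∀ E g, (∀ k ∈ K, g⁻¹ * k * g ∈ E) → c E = 0) : mark c K = 0 :=
  Finset.sum_eq_zero fun E _ => by
    by_cases h1 : mk1 E K = 0
    · simp [h1]
    · obtain ⟨g, hg⟩ := exists_of_mk1 h1
      simp [h E g hg]

omit [Fintype (Subgroup Γ)] in
theorem card_le_of_conj [Finite Γ] {E K : Subgroup Γ} {g : Γ} (h : ∀ k ∈ K, g⁻¹ * k * g ∈ E) :
    Nat.card K ≤ Nat.card E :=
  Nat.card_le_card_of_injective (fun k : K => (⟨_, h k k.2⟩ : E)) fun a b e => by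
    simpa using congrArg Subtype.val e

omit [Fintype (Subgroup Γ)] in
theorem conj_iff_of_card [Finite Γ] {E K : Subgroup Γ} {g : Γ} (h : ∀ k ∈ K, g⁻¹ * k * g ∈ E)
    (hc : Nat.card E ≤ Nat.card K) (k : Γ) : k ∈ K ↔ g⁻¹ * k * g ∈ E := by
  refine ⟨h k, fun hk => ?_⟩
  have hb : Function.Bijective (fun k : K => (⟨_, h k k.2⟩ : E)) :=
    (Nat.bijective_iff_injective_and_card _).2 ⟨fun a b e => by simpa using congrArg Subtype.val e,
      le_antisymm (card_le_of_conj h) hc⟩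
  obtain ⟨a, e⟩ := hb.2 ⟨_, hk⟩
  have : (a : Γ) = k := by simpa using congrArg Subtype.val e
  exact this ▸ a.2

theorem dvd_mark_sub [Finite Γ] (c : Subgroup Γ → ℕ) {D D₁ N : Subgroup Γ}
    (hN : N = Subgroup.normalizer (D : Set Γ)) (ψ : N →* Γ) (h1 : ∀ n, ψ n ∈ Subgroup.normalizer (D₁ : Set Γ))
    (h2 : ∀ n, n.1 ∈ D → ψ n ∈ D₁)
    (h3 : ∀ n, n.1 ∉ D → mark c (D ⊔ Subgroup.zpowers n.1) = mark c (D₁ ⊔ Subgroup.zpowers (ψ n))) :
    ((D.relIndex N : ℕ) : ℤ) ∣ (mark c D₁ : ℤ) - mark c D := by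
  classical
  haveI := Fintype.ofFinite N
  have key : ∀ (ψ : N →* Γ) (D : Subgroup Γ), (∀ n, ψ n ∈ Subgroup.normalizer (D : Set Γ)) →
      (Nat.card N : ℤ) ∣ ∑ n : N, (mark c (D ⊔ Subgroup.zpowers (ψ n)) : ℤ) := fun ψ D h => by
    rw [← Nat.cast_sum, Int.natCast_dvd_natCast]
    simp only [mark]
    rw [Finset.sum_comm]
    refine Finset.dvd_sum fun E _ => ?_
    rw [← Finset.mul_sum]
    exact (dvd_sum_mk1 E ψ h).mul_left _
  have := dvd_sub (key ψ D₁ h1) (key N.subtype D fun n => hN ▸ n.2)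
  rw [← Finset.sum_sub_distrib, ← Finset.sum_filter_add_sum_filter_not _ (fun n : N => n.1 ∈ D),
    Finset.sum_eq_zero (s := Finset.univ.filter fun n : N => n.1 ∉ D) (fun n hn => by
      rw [← h3 n (by simpa using hn)]; simp), add_zero,
    Finset.sum_congr rfl (g := fun _ => (mark c D₁ : ℤ) - mark c D) (fun n hn => by
      have hn : n.1 ∈ D := by simpa using hn
      rw [sup_eq_left.2 (Subgroup.zpowers_le.2 (h2 n hn)), Subgroup.subtype_apply,
        sup_eq_left.2 (Subgroup.zpowers_le.2 hn)]), Finset.sum_const, nsmul_eq_mul] at this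
  have e : (Finset.univ.filter fun n : N => n.1 ∈ D).card = Nat.card (D.subgroupOf N) := by
    rw [Nat.card_eq_fintype_card, Fintype.card_subtype]; rfl
  rw [e, ← (D.subgroupOf N).card_mul_index, Nat.cast_mul] at this
  exact Int.dvd_of_mul_dvd_mul_left (by exact_mod_cast Nat.card_pos.ne') this

/-- One step of the balancing procedure. -/
theorem balance_step [Finite Γ] (r : Setoid (Subgroup Γ)) (𝒟 : Set (Subgroup Γ))
    (r1 : ∀ D E, r D E → Nat.card D = Nat.card E)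
    (r2 : ∀ D E g, (∀ k, k ∈ D ↔ g⁻¹ * k * g ∈ E) → r D E)
    (r3 : ∀ D E, r D E → D ∈ 𝒟 → E ∈ 𝒟) (c : Subgroup Γ → ℕ) (k : ℕ)
    (hb : ∀ D E, r D E → D ∈ 𝒟 → k < Nat.card D → mark c D = mark c E)
    (hd : ∀ D ∈ 𝒟, Nat.card D = k → ∃ M : ℤ, ∀ E, r D E →
      ((E.relIndex (Subgroup.normalizer (E : Set Γ)) : ℕ) : ℤ) ∣ M - mark c E) :
    ∃ d : Subgroup Γ → ℕ, (∀ E, d E ≠ 0 → E ∈ 𝒟 ∧ Nat.card E = k) ∧
      ∀ D E, r D E → D ∈ 𝒟 → k ≤ Nat.card D → mark (c + d) D = mark (c + d) E := by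
  classical
  have hM : ∀ q : Quotient r, ∃ M : ℕ, ∀ E, E ∈ 𝒟 → Nat.card E = k → Quotient.mk r E = q →
      mark c E ≤ M ∧ E.relIndex (Subgroup.normalizer (E : Set Γ)) ∣ M - mark c E := fun q => by
    by_cases hq : q.out ∈ 𝒟 ∧ Nat.card (q.out : Subgroup Γ) = k
    · obtain ⟨M, hM⟩ := hd _ hq.1 hq.2
      have hpos : (0 : ℤ) < Nat.card Γ := by exact_mod_cast Nat.card_pos
      refine ⟨(M % Nat.card Γ).toNat + Nat.card Γ * ∑ E, c E, fun E _ _ e => ?_⟩
      have h1 : mark c E ≤ (M % Nat.card Γ).toNat + Nat.card Γ * ∑ E, c E := by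
        refine le_add_left ?_
        rw [Finset.mul_sum]
        exact Finset.sum_le_sum fun D _ => by rw [mul_comm]; gcongr; exact mk1_le _ _
      refine ⟨h1, Int.natCast_dvd_natCast.1 ?_⟩
      have h2 : ((E.relIndex (Subgroup.normalizer (E : Set Γ)) : ℕ) : ℤ) ∣ Nat.card Γ :=
        Int.natCast_dvd_natCast.2 ((Subgroup.index_dvd_card _).trans (Subgroup.card_subgroup_dvd_card _))
      have h3 := hM E (Quotient.exact (q.out_eq.trans e.symm))
      rw [Nat.cast_sub h1, Nat.cast_add, Int.toNat_of_nonneg (Int.emod_nonneg _ hpos.ne'),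
        Int.emod_def, Nat.cast_mul]
      have := dvd_add (dvd_sub h3 (h2.mul_right (M / Nat.card Γ))) (h2.mul_right (∑ E, c E : ℕ))
      exact Dvd.dvd.trans this (Dvd.intro 1 (by ring))
    · refine ⟨0, fun E h1 h2 e => absurd ?_ hq⟩
      have := Quotient.exact (e.trans q.out_eq.symm)
      exact ⟨r3 _ _ this h1, (r1 _ _ this).symm.trans h2⟩
  choose M hM using hM
  let s : Setoid (Subgroup Γ) := ⟨fun D E => ∃ g, ∀ k, k ∈ D ↔ g⁻¹ * k * g ∈ E,
    fun D => ⟨1, by simp⟩, fun ⟨g, h⟩ => ⟨g⁻¹, fun k => by rw [h]; simp [mul_assoc]⟩,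
    fun ⟨g, h⟩ ⟨g', h'⟩ => ⟨g * g', fun k => by rw [h, h']; simp [mul_assoc]⟩⟩
  let κ : Subgroup Γ → Subgroup Γ := fun E => (Quotient.mk s E).out
  have hκ : ∀ E, s (κ E) E := fun E => Quotient.mk_out (s := s) E
  have hκ' : ∀ D E, s D E → κ D = κ E := fun D E h => by simp only [κ, Quotient.sound h]
  let d : Subgroup Γ → ℕ := fun E => if E ∈ 𝒟 ∧ Nat.card E = k ∧ κ E = E then
    (M (Quotient.mk r E) - mark c E) / E.relIndex (Subgroup.normalizer (E : Set Γ)) else 0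
  have hd0 : ∀ E, d E ≠ 0 → E ∈ 𝒟 ∧ Nat.card E = k ∧ κ E = E := fun E h => by
    by_contra h'; exact h (if_neg h')
  have h1 : ∀ D ∈ 𝒟, Nat.card D = k → mark (c + d) D = M (Quotient.mk r D) := fun D hD hk => by
    obtain ⟨g, hg⟩ := hκ D
    have hr := r2 _ _ g hg
    have hD' := r3 _ _ (r.symm hr) hD
    have hk' := (r1 _ _ hr).trans hk
    have e1 : mk1 (κ D) D = mk1 (κ D) (κ D) := (mk1_conj _ g⁻¹ (by simpa using hg)).symm
    have e2 : mark c D = mark c (κ D) := (mark_conj _ g⁻¹ (by simpa using hg)).symm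
    obtain ⟨h2, h3⟩ := hM _ _ hD' hk' rfl
    rw [mark_add, mark, mark, Finset.sum_eq_single (κ D) (f := fun E => d E * mk1 E D), e1, mk1_self]
    · simp only [d]
      rw [if_pos ⟨hD', hk', hκ' _ _ (hκ D)⟩, Nat.div_mul_cancel h3, ← Quotient.sound hr, ← mark, e2]
      omega
    · intro E _ hE
      by_contra h0
      obtain ⟨-, h4, h5⟩ := hd0 E (left_ne_zero_of_mul h0)
      obtain ⟨g, hg⟩ := exists_of_mk1 (right_ne_zero_of_mul h0)
      exact hE (h5.symm.trans (hκ' _ _ ⟨g, conj_iff_of_card hg (by omega)⟩).symm)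
    · simp
  refine ⟨d, fun E h => ⟨(hd0 E h).1, (hd0 E h).2.1⟩, fun D E h hD hk => ?_⟩
  rcases hk.eq_or_lt with hk | hk
  · rw [h1 D hD hk.symm, h1 E (r3 _ _ h hD) ((r1 _ _ h).symm.trans hk.symm), Quotient.sound h]
  · have h0 : ∀ D : Subgroup Γ, k < Nat.card D → mark d D = 0 := fun D hk =>
      mark_eq_zero fun E g hg => by
        by_contra h0
        have := card_le_of_conj hg
        have := (hd0 E h0).2.1
        omega
    rw [mark_add, mark_add, h0 D hk, h0 E (r1 _ _ h ▸ hk), hb D E h hD hk]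

/-- the `Γ`-set with `c E` orbits of type `E` -/
abbrev XSet (c : Subgroup Γ → ℕ) : Type u := Σ i : (Σ E : Subgroup Γ, Fin (c E)), Γ ⧸ i.1

theorem ncard_XSet [Finite Γ] (c : Subgroup Γ → ℕ) (K : Subgroup Γ) :
    {x : XSet c | ∀ k ∈ K, k • x = x}.ncard = mark c K := by
  rw [← Nat.card_coe_set_eq, Nat.card_congr (β := Σ i : (Σ E : Subgroup Γ, Fin (c E)),
    {y : Γ ⧸ i.1 | ∀ k ∈ K, k • y = y})
    ⟨fun x => ⟨x.1.1, x.1.2, fun k hk => eq_of_heq (Sigma.ext_iff.1 (x.2 k hk)).2⟩,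
      fun x => ⟨⟨x.1, x.2.1⟩, fun k hk => congrArg (Sigma.mk x.1) (x.2.2 k hk)⟩,
      fun _ => rfl, fun _ => rfl⟩, Nat.card_sigma, mark, Fintype.sum_sigma]
  refine Finset.sum_congr rfl fun E _ => ?_
  simp only [Nat.card_coe_set_eq]
  change ∑ _y : Fin (c E), mk1 E K = _
  simp

end Marks

end Cfsg.Agent.Fusion
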