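import Cfsg.Agent.Lib.Fusion.Biset

/-! The model theorem for constrained fusion systems. -/

set_option autoImplicit false

namespace Cfsg.Agent.Fusion

open Cfsg Cfsg.FusionSystem

universe u

variable {Ω : Type u} [Group Ω] {S : Subgroup Ω} {F : FusionSystem S} {P Q : Subgroup Ω} {p : ℕ}

/-- Conjugation action of `S` on a normal subgroup `Q`. -/
noncomputable def cHom (hQ : F.IsNormal Q) : S →* F.autGroup Q :=
  ((cAut Q).comp (Subgroup.inclusion
    (WeaklyClosed.le_normalizer (IsNormal.weaklyClosed hQ)))).codRestrict _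
    fun s => autInducedBy_le_autGroup F hQ.1
      (mem_autInducedBy.2 ⟨s, s.2, fun _ hx => afun_cAut _ hx⟩)

theorem afun_cHom (hQ : F.IsNormal Q) (s : S) {x : Ω} (hx : x ∈ Q) :
    afun (cHom hQ s : MulAut Q) x = s * x * (s : Ω)⁻¹ := afun_cAut _ hx

theorem autGroup_ext {a b : F.autGroup Q}
    (h : ∀ x ∈ Q, afun (a : MulAut Q) x = afun (b : MulAut Q) x) : a = b :=
  Subtype.ext (aut_ext h)

theorem cHom_eq_one_iff (hQ : F.IsNormal Q) {s : S} :
    cHom hQ s = 1 ↔ (s : Ω) ∈ centralizerIn S Q := by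
  rw [mem_centralizerIn]
  constructor
  · refine fun h => ⟨s.2, fun x hx => ?_⟩
    rw [← afun_cHom hQ s hx, h]; exact afun_one x
  · exact fun h => autGroup_ext fun x hx => by
      rw [afun_cHom hQ s hx, h.2 x hx]; exact (afun_one x).symm

theorem cHom_conj (hQ : F.IsNormal Q) {f : Ω → Ω} (hf : Mor F P f) (hQP : Q ≤ P)
    {a : F.autGroup Q} (ha : ∀ y ∈ Q, f y = afun (a : MulAut Q) y) {s u : S} (hu : (u : Ω) ∈ P)
    (e : f u = s) : cHom hQ s = a * cHom hQ u * a⁻¹ := by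
  rw [eq_mul_inv_iff_mul_eq]
  refine autGroup_ext fun x hx => ?_
  rw [Subgroup.coe_mul, Subgroup.coe_mul, afun_mul _ _ hx, afun_mul _ _ hx,
    afun_cHom _ _ (afun_mem _ hx), ← ha _ (afun_mem _ hx), afun_cHom _ _ hx,
    hf.map_conj hu (hQP hx), e, ha x hx]

theorem mem_Next_iff_cHom (hQ : F.IsNormal Q) {a : F.autGroup Q} {u : S} :
    (u : Ω) ∈ Next S Q (afun (a : MulAut Q)) ↔ ∃ s : S, cHom hQ s = a * cHom hQ u * a⁻¹ := by
  rw [mem_Next_afun_iff u.2 fun x hx => afun_cHom hQ u hx, mem_autInducedBy]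
  constructor
  · rintro ⟨s, hs, e⟩
    exact ⟨⟨s, hs⟩, autGroup_ext fun x hx => by rw [afun_cHom _ _ hx]; exact (e x hx).symm⟩
  · rintro ⟨s, e⟩
    exact ⟨s, s.2, fun x hx => by rw [← afun_cHom hQ s hx, e]; rfl⟩

/-- The two-sided action on the automizer. -/
noncomputable def sig (hQ : F.IsNormal Q) {H : Type*} [Group H] (l r : H →* S) :
    H →* Equiv.Perm (F.autGroup Q) where
  toFun h := (Equiv.mulLeft (cHom hQ (l h))).trans (Equiv.mulRight (cHom hQ (r h))⁻¹)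
  map_one' := by ext1 a; simp
  map_mul' h k := by ext1 a; simp [mul_assoc]

theorem sig_apply (hQ : F.IsNormal Q) {H : Type*} [Group H] (l r : H →* S) (h : H)
    (a : F.autGroup Q) : sig hQ l r h a = cHom hQ (l h) * a * (cHom hQ (r h))⁻¹ := rfl

/-- Bisets looking like a model of `F`. -/
structure Good (hQ : F.IsNormal Q) {X : Type*} (ρ : S × S →* Equiv.Perm X)
    (π : X → F.autGroup Q) : Prop where
  equiv : ∀ s u x, π (ρ (s, u) x) = cHom hQ s * π x * (cHom hQ u)⁻¹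
  surj : ∀ a, ∃ x, π x = a
  trans : ∀ x y, π x = π y → ∃ h, ρ h x = y
  stab : ∀ x, ∃ f, Mor F (Next S Q (afun (π x : MulAut Q))) f ∧
    (∀ y ∈ Q, f y = afun (π x : MulAut Q) y) ∧
    ∀ s u : S, ρ (s, u) x = x ↔ (u : Ω) ∈ Next S Q (afun (π x : MulAut Q)) ∧ f u = s

theorem le_Next_aut (hQ : Q ≤ S) (a : F.autGroup Q) : Q ≤ Next S Q (afun (a : MulAut Q)) :=
  ((mem_autGroup hQ).1 a.2).le_Next

section Exists

variable [Fact p.Prime] [Finite S]

theorem exists_good (hS : IsPGroup p S) (hF : F.IsSaturated p) (hQ : F.IsNormal Q) :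
    ∃ (X : Type u) (_ : Finite X) (ρ : S × S →* Equiv.Perm X) (π : X → F.autGroup Q),
      Good hQ ρ π := by
  have hr := IsSaturated.receptive' hS hF (fullyNormalized_of_normal hQ.1
    (WeaklyClosed.le_normalizer (IsNormal.weaklyClosed hQ)))
  have key : ∀ a : F.autGroup Q, ∃ f, Mor F (Next S Q (afun (a : MulAut Q))) f ∧
      ∀ y ∈ Q, f y = afun (a : MulAut Q) y := fun a =>
    IsReceptive.ext hr ((mem_autGroup hQ.1).1 a.2) (img_afun _)
  choose f hf ef using key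
  let L : F.autGroup Q → Subgroup (S × S) := fun a =>
    { carrier := {h | (h.2 : Ω) ∈ Next S Q (afun (a : MulAut Q)) ∧ f a h.2 = h.1}
      one_mem' := ⟨Subgroup.one_mem _, (hf a).map_one⟩
      mul_mem' := fun {h k} ⟨h1, h2⟩ ⟨h3, h4⟩ => ⟨Subgroup.mul_mem _ h1 h3, by
        rw [Prod.snd_mul, Subgroup.coe_mul, (hf a).map_mul h1 h3, h2, h4]; rfl⟩
      inv_mem' := fun {h} ⟨h1, h2⟩ => ⟨Subgroup.inv_mem _ h1, by
        rw [Prod.snd_inv, Subgroup.coe_inv, (hf a).map_inv h1, h2]; rfl⟩ }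
  have := finite_autGroup F hQ.1
  obtain ⟨X, hX, ρ, π, h1, h2, h3, h4⟩ := exists_bundle
    (sig hQ (MonoidHom.fst S S) (MonoidHom.snd S S)) L fun a h hh => by
      rw [sig_apply, MonoidHom.coe_fst, MonoidHom.coe_snd,
        cHom_conj hQ (hf a) (le_Next_aut hQ.1 a) (ef a) hh.1 hh.2]; group
  refine ⟨X, hX, ρ, π, fun s u x => h1 (s, u) x, h2, h3, fun x => ?_⟩
  obtain ⟨b, ⟨s₀, u₀⟩, e, hk⟩ := h4 x
  rw [sig_apply] at e
  simp only [MonoidHom.coe_fst, MonoidHom.coe_snd] at e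
  have hN : ∀ u : S, (u : Ω) ∈ Next S Q (afun (π x : MulAut Q)) ↔
      ((u₀⁻¹ * u * u₀ : S) : Ω) ∈ Next S Q (afun (b : MulAut Q)) := by
    intro u
    rw [mem_Next_iff_cHom hQ, mem_Next_iff_cHom hQ, ← e]
    constructor
    · rintro ⟨s, es⟩
      exact ⟨s₀⁻¹ * s * s₀, by simp only [map_mul, map_inv, es]; group⟩
    · rintro ⟨s, es⟩
      exact ⟨s₀ * s * s₀⁻¹, by simp only [map_mul, map_inv] at es ⊢; rw [es]; group⟩
  refine ⟨fun y => s₀ * f b ((u₀ : Ω)⁻¹ * y * (u₀ : Ω)⁻¹⁻¹) * (s₀ : Ω)⁻¹,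
    ((mor_conj F Next_le (S.inv_mem u₀.2)).comp (hf b) fun y hy => ?_).comp
      (mor_conj F le_rfl s₀.2) fun y hy => (hf b).mem ?_, fun y hy => ?_, fun s u => ?_⟩
  · simpa using (hN ⟨y, Next_le hy⟩).1 hy
  · simpa using (hN ⟨y, Next_le hy⟩).1 hy
  · have h5 := afun_cHom hQ u₀⁻¹ hy
    rw [Subgroup.coe_inv] at h5
    beta_reduce
    rw [← h5, ef b _ (afun_mem _ hy), ← afun_cHom hQ s₀ (afun_mem _ (afun_mem _ hy)), ← e,
      ← map_inv, Subgroup.coe_mul, Subgroup.coe_mul, afun_mul _ _ hy,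
      afun_mul _ _ (afun_mem _ hy)]
  · rw [hk, hN]
    refine and_congr_right fun _ => ?_
    simp only [Prod.snd_mul, Prod.snd_inv, Prod.fst_mul, Prod.fst_inv, Subgroup.coe_mul,
      Subgroup.coe_inv, inv_inv]
    constructor
    · intro h; rw [h]; group
    · intro h; rw [← h]; group

end Exists

namespace Good

variable {hQ : F.IsNormal Q} {X X' : Type*} {ρ : S × S →* Equiv.Perm X} {π : X → F.autGroup Q}
  {ρ' : S × S →* Equiv.Perm X'} {π' : X' → F.autGroup Q}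

theorem mul_apply (ρ : S × S →* Equiv.Perm X) (s u s' u' : S) (x : X) :
    ρ (s, u) (ρ (s', u') x) = ρ (s * s', u * u') x := by
  rw [← Equiv.Perm.mul_apply, ← map_mul]; rfl

theorem one_apply (ρ : S × S →* Equiv.Perm X) (x : X) : ρ (1, 1) x = x := by
  rw [show ((1, 1) : S × S) = 1 from rfl, map_one]; rfl

theorem move_iff (ρ : S × S →* Equiv.Perm X) (s u w : S) (x : X) :
    ρ (s, u) (ρ (w, 1) x) = ρ (w, 1) x ↔ ρ (w⁻¹ * s * w, u) x = x := by
  rw [← (ρ (w⁻¹, 1)).apply_eq_iff_eq, mul_apply, mul_apply, mul_apply]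
  simp [one_apply]

theorem fix (h : Good hQ ρ π) (x : X) {s u : S} (hu : (u : Ω) ∈ Q)
    (e : afun (π x : MulAut Q) u = s) : ρ (s, u) x = x := by
  obtain ⟨f, -, ef, hs⟩ := h.stab x
  exact (hs s u).2 ⟨le_Next_aut hQ.1 _ hu, by rw [ef _ hu, e]⟩

theorem transL (h : Good hQ ρ π) {x y : X} (e : π x = π y) :
    ∃ w : S, (w : Ω) ∈ centralizerIn S Q ∧ ρ (w, 1) x = y := by
  obtain ⟨⟨s, u⟩, rfl⟩ := h.trans x y e
  obtain ⟨f, hf, ef, hs⟩ := h.stab x
  rw [h.equiv] at e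
  have e1 : cHom hQ s = π x * cHom hQ u * (π x)⁻¹ := by
    rw [eq_mul_inv_iff_mul_eq, ← eq_mul_inv_iff_mul_eq.1 e]
  have hu := (mem_Next_iff_cHom hQ).2 ⟨s, e1⟩
  have h2 := cHom_conj hQ hf (le_Next_aut hQ.1 _) ef (s := ⟨f u, hf.mem hu⟩) hu rfl
  refine ⟨s * (⟨f u, hf.mem hu⟩ : S)⁻¹, (cHom_eq_one_iff hQ).1 (by
    rw [map_mul, map_inv, e1, h2, mul_inv_cancel]), ?_⟩
  have h3 := (hs ⟨f u, hf.mem hu⟩ u).2 ⟨hu, rfl⟩
  generalize (⟨f u, hf.mem hu⟩ : S) = t at h3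
  conv_lhs => rw [← h3]
  rw [mul_apply]; simp

theorem transR (h : Good hQ ρ π) (hC : centralizerIn S Q ≤ Q) {x y : X} (e : π x = π y) :
    ∃ z : S, (z : Ω) ∈ centralizerIn S Q ∧ ρ (1, z) x = y := by
  obtain ⟨w, hw, rfl⟩ := h.transL e
  have hv := afun_mem (π x : MulAut Q)⁻¹ (hC hw)
  have h1 := h.fix x (s := w) (u := ⟨_, hQ.1 hv⟩) hv (afun_afun_inv _ (hC hw))
  refine ⟨(⟨_, hQ.1 hv⟩ : S)⁻¹, Subgroup.inv_mem _ ?_, ?_⟩
  · have := ((mem_autGroup hQ.1).1 (π x)⁻¹.2).mem_centralizer_img le_rfl (hC hw)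
      (mem_centralizerIn.1 hw).2
    rwa [img_afun] at this
  · generalize (⟨_, hQ.1 hv⟩ : S) = t at h1
    conv_lhs => rw [← h1]
    rw [mul_apply]; simp

theorem freeR (h : Good hQ ρ π) {x : X} {u u' : S} (e : ρ (1, u) x = ρ (1, u') x) : u = u' := by
  obtain ⟨f, hf, -, hs⟩ := h.stab x
  have : ρ (1, u'⁻¹ * u) x = x := by
    rw [← one_mul (1 : S), ← mul_apply, e, mul_apply]; simpa using one_apply ρ x
  obtain ⟨h1, h2⟩ := (hs _ _).1 this
  have h3 := (hf.eq_one_iff h1).1 h2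
  exact (inv_mul_eq_one.1 (Subtype.ext h3)).symm

variable [Fact p.Prime] [Finite S]

theorem exists_equiv (hS : IsPGroup p S) (hF : F.IsSaturated p) (hC : centralizerIn S Q ≤ Q)
    (h : Good hQ ρ π) (h' : Good hQ ρ' π') {ψ : Ω → Ω} (hψ : Mor F P ψ) (hQP : Q ≤ P)
    {a : F.autGroup Q} (ha : ∀ y ∈ Q, ψ y = afun (a : MulAut Q) y) :
    ∃ β : X ≃ X', (∀ x, π' (β x) * a = π x) ∧ (∀ s x, β (ρ (s, 1) x) = ρ' (s, 1) (β x)) ∧
      ∀ u u' : S, (u : Ω) ∈ P → ψ u = u' → ∀ x, β (ρ (1, u) x) = ρ' (1, u') (β x) := by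
  let ψ' : P →* S := (mkHom P ψ fun x hx y hy => hψ.map_mul hx hy).codRestrict S
    fun x => hψ.mem x.2
  let i : P →* S := Subgroup.inclusion hψ.le
  have hc : ∀ u : P, cHom hQ (ψ' u) = a * cHom hQ (i u) * a⁻¹ := fun u =>
    cHom_conj hQ hψ hQP ha u.2 rfl
  obtain ⟨β, h1, h2⟩ := exists_equiv_over (ρ.comp ((MonoidHom.id S).prodMap i))
    (ρ'.comp ((MonoidHom.id S).prodMap ψ')) (sig hQ (MonoidHom.fst S P) (i.comp (MonoidHom.snd S P)))
    π (fun x => π' x * a) (fun k x => h.equiv k.1 (i k.2) x)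
    (fun k x => by
      rw [sig_apply]
      refine (congrArg (· * a) (h'.equiv k.1 (ψ' k.2) x)).trans ?_
      rw [hc]; simp [mul_assoc])
    (fun x y e => by
      obtain ⟨w, -, ew⟩ := h.transL e
      exact ⟨(w, 1), by simpa using ew⟩)
    (fun x y e => by
      obtain ⟨w, -, ew⟩ := h'.transL (mul_right_cancel e)
      exact ⟨(w, 1), by simpa using ew⟩)
    fun b => by
      obtain ⟨x, rfl⟩ := h.surj b
      obtain ⟨x', hx'⟩ := h'.surj (π x * a⁻¹)
      obtain ⟨f, hf, ef, hs⟩ := h.stab x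
      obtain ⟨f', hf', ef', hs'⟩ := h'.stab x'
      have hN : ∀ u : P, ψ u ∈ Next S Q (afun (π' x' : MulAut Q)) ↔
          (u : Ω) ∈ Next S Q (afun (π x : MulAut Q)) := fun u => by
        have e1 := mem_Next_iff_cHom hQ (a := π' x') (u := ψ' u)
        have e2 := mem_Next_iff_cHom hQ (a := π x) (u := i u)
        refine e1.trans (Iff.trans ?_ e2.symm)
        rw [hx', hc]; simp [mul_assoc]
      have hQR : Q ≤ P ⊓ Next S Q (afun (π x : MulAut Q)) := le_inf hQP (le_Next_aut hQ.1 _)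
      obtain ⟨z, hz, ez⟩ := eq_conj_of_eq_on_centric hS hF
        (isCentric_of_weaklyClosed (IsNormal.weaklyClosed hQ) hC) hQR (hf.mono inf_le_right)
        ((hψ.mono inf_le_left).comp hf' fun y hy => (hN ⟨y, hy.1⟩).2 hy.2) fun y hy => by
          rw [ha y hy, ef' _ (afun_mem _ hy), ef y hy, hx', ← afun_mul _ _ hy, ← Subgroup.coe_mul,
            inv_mul_cancel_right]
      have hz' := (hQR hz.1).2
      let w : S := ⟨f z, hf.mem hz'⟩
      have hw : cHom hQ w = 1 := by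
        rw [cHom_conj hQ hf (le_Next_aut hQ.1 _) ef (u := ⟨z, hQ.1 hz.1⟩) hz' rfl,
          (cHom_eq_one_iff hQ).2 ⟨hQ.1 hz.1, hz.2⟩]; simp
      refine ⟨ρ (w, 1) x, x', by rw [h.equiv, hw]; simp, by simp [hx'], fun ⟨s, u⟩ => ?_⟩
      show ρ (s, i u) (ρ (w, 1) x) = ρ (w, 1) x ↔ ρ' (s, ψ' u) x' = x'
      rw [hs', move_iff, hs]
      refine ⟨fun ⟨h1, h2⟩ => ⟨(hN u).2 h1, ?_⟩, fun ⟨h1, h2⟩ => ⟨(hN u).1 h1, ?_⟩⟩
      · have h3 := ez u ⟨u.2, h1⟩
        rw [hf.map_conj hz' (show (u : Ω) ∈ _ from h1)] at h3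
        refine h3.trans ?_
        rw [show f u = (f z)⁻¹ * s * f z from h2]; group
      · have h1' := (hN u).1 h1
        have h3 := ez u ⟨u.2, h1'⟩
        rw [hf.map_conj hz' h1'] at h3
        show f u = (f z)⁻¹ * s * f z
        rw [← show f' (ψ u) = s from h2, h3]; group
  refine ⟨β, h1, fun s x => by simpa using h2 (s, 1) x, fun u u' hu e x => ?_⟩
  have := h2 (1, ⟨u, hu⟩) x
  have e2 : ψ' ⟨u, hu⟩ = u' := Subtype.ext e
  rw [← e2]; exact this

end Good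

/-- The data describing a model relative to a normal centric subgroup. -/
structure ModelData (hQ : F.IsNormal Q) {G : Type*} [Group G] (ι : S →* G)
    (pr : G →* F.autGroup Q) : Prop where
  inj : Function.Injective ι
  comp : ∀ s, pr (ι s) = cHom hQ s
  conj : ∀ g (u u' : S), (u : Ω) ∈ Q → afun (pr g : MulAut Q) u = u' → g * ι u * g⁻¹ = ι u'
  ker : ∀ g, pr g = 1 → ∃ z : S, (z : Ω) ∈ centralizerIn S Q ∧ ι z = g
  real : ∀ P ψ (a : F.autGroup Q), Q ≤ P → Mor F P ψ → (∀ y ∈ Q, ψ y = afun (a : MulAut Q) y) →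
    ∃ g, pr g = a ∧ ∀ u u' : S, (u : Ω) ∈ P → ψ u = u' → g * ι u * g⁻¹ = ι u'

theorem exists_inv_exp {Z : Type*} [Group Z] [Finite Z] {n : ℕ} (h : n.Coprime (Nat.card Z)) :
    ∃ m, ∀ z : Z, (z ^ n) ^ m = z := by
  refine ⟨n ^ (Nat.totient (Nat.card Z) - 1), fun z => ?_⟩
  have h1 : 0 < Nat.totient (Nat.card Z) := Nat.totient_pos.2 Nat.card_pos
  rw [← pow_mul, ← pow_succ', Nat.sub_add_cancel h1]
  conv_rhs => rw [← pow_one z]
  rw [pow_eq_pow_iff_modEq]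
  exact (Nat.ModEq.pow_totient h).of_dvd (orderOf_dvd_natCard z)

theorem cHom_range_index [Fact p.Prime] [Finite S] (hS : IsPGroup p S) (hF : F.IsSaturated p)
    (hQ : F.IsNormal Q) : ¬ p ∣ (cHom hQ).range.index := by
  have hA := IsSaturated.fullyAutomized hS hF (fullyNormalized_of_normal hQ.1
    (WeaklyClosed.le_normalizer (IsNormal.weaklyClosed hQ)))
  have := finite_autGroup F hQ.1
  have h := (IsFullyAutomized.sylowIn hA).not_dvd_relIndex
  have e : (cHom hQ).range = (autInducedBy S Q).subgroupOf (F.autGroup Q) := by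
    ext a
    rw [Subgroup.mem_subgroupOf, mem_autInducedBy]
    exact ⟨fun ⟨s, e⟩ => ⟨s, s.2, fun x hx => by rw [← e, afun_cHom _ _ hx]⟩,
      fun ⟨s, hs, e⟩ => ⟨⟨s, hs⟩, autGroup_ext fun x hx => by rw [afun_cHom _ _ hx, e x hx]⟩⟩
  rwa [e]

namespace ModelData

variable {hQ : F.IsNormal Q} {G G' : Type*} [Group G] [Group G'] {ι : S →* G}
  {pr : G →* F.autGroup Q} {ι' : S →* G'} {pr' : G' →* F.autGroup Q}

theorem surj (h : ModelData hQ ι pr) : Function.Surjective pr := fun a => by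
  obtain ⟨g, hg, -⟩ := h.real Q _ a le_rfl ((mem_autGroup hQ.1).1 a.2) fun _ _ => rfl
  exact ⟨g, hg⟩

theorem bijective (h : ModelData hQ ι pr) (h' : ModelData hQ ι' pr') (φ : G →* G')
    (e1 : ∀ s, φ (ι s) = ι' s) (e2 : ∀ g, pr' (φ g) = pr g) : Function.Bijective φ := by
  refine ⟨(injective_iff_map_eq_one φ).2 fun g hg => ?_, fun y => ?_⟩
  · obtain ⟨z, -, rfl⟩ := h.ker g (by rw [← e2, hg, map_one])
    rw [e1, ← ι'.map_one] at hg
    rw [h'.inj hg, map_one]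
  · obtain ⟨g, hg⟩ := h.surj (pr' y)
    obtain ⟨z, -, hz⟩ := h'.ker ((φ g)⁻¹ * y) (by rw [map_mul, map_inv, e2, hg, inv_mul_cancel])
    exact ⟨g * ι z, by rw [map_mul, e1, hz, mul_inv_cancel_left]⟩

theorem image_normal (h : ModelData hQ ι pr) : (imageAlong ι Q).Normal := by
  refine ⟨fun y hy g => ?_⟩
  obtain ⟨x, hx, rfl⟩ := (mem_imageAlong' hQ.1).1 hy
  have h1 := afun_mem (pr g : MulAut Q) hx
  rw [ap_of_mem _ (hQ.1 hx), h.conj g ⟨x, hQ.1 hx⟩ ⟨_, hQ.1 h1⟩ hx rfl, ← ap_of_mem]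
  exact ap_mem_imageAlong hQ.1 h1

theorem pr_eq_one (h : ModelData hQ ι pr) {g : G}
    (hg : g ∈ Subgroup.centralizer (imageAlong ι Q : Set G)) : pr g = 1 := by
  refine autGroup_ext fun x hx => ?_
  have h1 := afun_mem (pr g : MulAut Q) hx
  have h2 := h.conj g ⟨x, hQ.1 hx⟩ ⟨_, hQ.1 h1⟩ hx rfl
  have h3 := hg _ (ap_mem_imageAlong hQ.1 hx)
  rw [ap_of_mem _ (hQ.1 hx)] at h3
  rw [← h3, mul_inv_cancel_right] at h2
  rw [Subgroup.coe_one, afun_one]
  exact (congrArg Subtype.val (h.inj h2)).symm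

theorem comap_range (h : ModelData hQ ι pr) : (cHom hQ).range.comap pr = ι.range := by
  ext g
  constructor
  · rintro ⟨s, e⟩
    obtain ⟨z, -, hz⟩ := h.ker ((ι s)⁻¹ * g) (by rw [map_mul, map_inv, h.comp, e, inv_mul_cancel])
    exact ⟨s * z, by rw [map_mul, hz, mul_inv_cancel_left]⟩
  · rintro ⟨s, rfl⟩; exact ⟨s, (h.comp s).symm⟩

theorem mem_Next (h : ModelData hQ ι pr) {g : G} {u s : S} (e : g * ι u * g⁻¹ = ι s) :
    (u : Ω) ∈ Next S Q (afun (pr g : MulAut Q)) :=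
  (mem_Next_iff_cHom hQ).2 ⟨s, by rw [← h.comp, ← e, map_mul, map_mul, map_inv, h.comp]⟩

variable [Fact p.Prime] [Finite S]

theorem realizedBy (h : ModelData hQ ι pr) (hS : IsPGroup p S) (hF : F.IsSaturated p) :
    F.IsRealizedBy ι := by
  have hr := IsSaturated.receptive' hS hF (fullyNormalized_of_normal hQ.1
    (WeaklyClosed.le_normalizer (IsNormal.weaklyClosed hQ)))
  refine isRealizedBy_iff.2 ⟨h.inj, fun P f hP hm => ⟨fun hf => ?_, fun ⟨g, e⟩ => ?_⟩⟩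
  · obtain ⟨k, hk, e, e'⟩ := IsNormal.ext hQ hf
    obtain ⟨a, ha, ea⟩ := (hk.mono le_sup_right).exists_aut e'
    obtain ⟨g, -, eg⟩ := h.real _ k ⟨a, ha⟩ le_sup_right hk fun y hy => (ea y hy).symm
    exact ⟨g, fun x hx => by
      rw [ap_of_mem _ (hP hx), ap_of_mem _ (hm x hx),
        eg ⟨x, hP hx⟩ ⟨_, hm x hx⟩ (Subgroup.mem_sup_left hx) (e x hx)]⟩
  · obtain ⟨ψ, hψ, eψ⟩ := IsReceptive.ext hr ((mem_autGroup hQ.1).1 (pr g).2) (img_afun _)
    obtain ⟨g', hg', eg'⟩ := h.real _ ψ (pr g) (le_Next_aut hQ.1 _) hψ eψ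
    obtain ⟨z, hz, ez⟩ := h.ker (g'⁻¹ * g) (by rw [map_mul, map_inv, hg', inv_mul_cancel])
    have e1 : ∀ x (hx : x ∈ P), g * ι ⟨x, hP hx⟩ * g⁻¹ = ι ⟨f x, hm x hx⟩ := fun x hx => by
      rw [← ap_of_mem, ← ap_of_mem, e x hx]
    have hN : ∀ x ∈ P, z * x * (z : Ω)⁻¹ ∈ Next S Q (afun (pr g : MulAut Q)) := fun x hx =>
      Subgroup.mul_mem _ (Subgroup.mul_mem _ (centralizerIn_le_Next hz) (h.mem_Next (e1 x hx)))
        (Subgroup.inv_mem _ (centralizerIn_le_Next hz))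
    refine ((mor_conj F hP z.2).comp hψ hN).congr fun x hx => ?_
    have h1 := eg' (z * ⟨x, hP hx⟩ * z⁻¹) ⟨_, hψ.mem (hN x hx)⟩ (hN x hx) rfl
    rw [map_mul, map_mul, map_inv, ez, show g' * (g'⁻¹ * g * ι ⟨x, hP hx⟩ * (g'⁻¹ * g)⁻¹) * g'⁻¹ =
      g * ι ⟨x, hP hx⟩ * g⁻¹ by group, e1 x hx] at h1
    exact (congrArg Subtype.val (h.inj h1)).symm

theorem isModel [Finite G] (h : ModelData hQ ι pr) (hS : IsPGroup p S) (hF : F.IsSaturated p)
    (hC : centralizerIn S Q ≤ Q) : F.IsModel p G ι := by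
  have hp : IsPGroup p ι.range := hS.of_surjective _ ι.rangeRestrict_surjective
  refine ⟨‹_›, h.realizedBy hS hF, SylowIn.exists_sylow_top (sylowIn_of_not_dvd_relIndex le_top
    hp ?_), fun g hg => ?_⟩
  · rw [Subgroup.relIndex_top_right, ← h.comap_range, Subgroup.index_comap_of_surjective _ h.surj]
    exact cHom_range_index hS hF hQ
  · have hle : imageAlong ι Q ≤ pCore p G :=
      le_pCore h.image_normal (pgroup_of_le hp imageAlong_le_range)
    obtain ⟨z, hz, rfl⟩ := h.ker g (h.pr_eq_one (Subgroup.centralizer_le hle hg))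
    rw [← ap_coe]; exact hle (ap_mem_imageAlong hQ.1 (hC hz))

/-- The biset structure on a group. -/
def rhoG (ι : S →* G) : S × S →* Equiv.Perm G where
  toFun h := (Equiv.mulLeft (ι h.1)).trans (Equiv.mulRight (ι h.2)⁻¹)
  map_one' := by ext1 a; simp
  map_mul' h k := by ext1 a; simp [mul_assoc]

omit [Fact p.Prime] [Finite S] in
theorem rhoG_apply (ι : S →* G) (s u : S) (g : G) : rhoG ι (s, u) g = ι s * g * (ι u)⁻¹ := rfl

theorem good (h : ModelData hQ ι pr) (hS : IsPGroup p S) (hF : F.IsSaturated p) :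
    Good hQ (rhoG ι) pr := by
  refine ⟨fun s u g => by rw [rhoG_apply, map_mul, map_mul, map_inv, h.comp, h.comp], h.surj,
    fun x y e => ?_, fun g => ?_⟩
  · obtain ⟨z, -, hz⟩ := h.ker (y * x⁻¹) (by rw [map_mul, map_inv, e, mul_inv_cancel])
    exact ⟨(z, 1), by rw [rhoG_apply, hz]; simp⟩
  · obtain ⟨κ, k1, k2, k3⟩ := exists_inv_hom h.inj rfl
    have hm : ∀ u ∈ Next S Q (afun (pr g : MulAut Q)), g * ap ι u * g⁻¹ ∈ ι.range := by
      intro u hu
      obtain ⟨s, e⟩ := (mem_Next_iff_cHom hQ (u := ⟨u, Next_le hu⟩)).1 hu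
      rw [← h.comap_range, ap_of_mem _ (Next_le hu)]
      exact ⟨s, by rw [e, map_mul, map_mul, map_inv, h.comp]⟩
    refine ⟨fun u => ap κ (g * ap ι u * g⁻¹), (IsRealizedBy.mor_iff (h.realizedBy hS hF) Next_le
      fun u hu => k2 _ (hm u hu)).2 ⟨g, fun u hu => k3 _ (hm u hu)⟩, fun y hy => ?_,
      fun s u => ⟨fun e => ?_, fun ⟨h1, h2⟩ => ?_⟩⟩
    · have h1 := afun_mem (pr g : MulAut Q) hy
      beta_reduce
      rw [ap_of_mem _ (hQ.1 hy), h.conj g ⟨y, hQ.1 hy⟩ ⟨_, hQ.1 h1⟩ hy rfl, ← ap_of_mem,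
        k1 _ (hQ.1 h1)]
    · have e' : g * ι u * g⁻¹ = ι s := by
        rw [rhoG_apply] at e
        rw [mul_inv_eq_iff_eq_mul, ← mul_inv_eq_iff_eq_mul.1 e]
      exact ⟨h.mem_Next e', by beta_reduce; rw [ap_coe, e', ← ap_coe, k1 _ s.2]⟩
    · have := k3 _ (hm u h1)
      beta_reduce at h2
      rw [h2, ap_coe, ap_coe] at this
      rw [rhoG_apply, this]; group

end ModelData

namespace Good

variable {hQ : F.IsNormal Q} {X : Type*} {ρ : S × S →* Equiv.Perm X} {π : X → F.autGroup Q}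

/-- Automorphisms of the left `S`-set compatible with the projection. -/
def gam (ρ : S × S →* Equiv.Perm X) (π : X → F.autGroup Q) : Subgroup (Equiv.Perm X) where
  carrier := {β | (∀ s x, β (ρ (s, 1) x) = ρ (s, 1) (β x)) ∧ ∃ a, ∀ x, π (β x) * a = π x}
  one_mem' := ⟨fun _ _ => rfl, 1, fun x => by simp⟩
  mul_mem' := by
    rintro β γ ⟨h1, a, h2⟩ ⟨h3, b, h4⟩
    exact ⟨fun s x => by simp [h1, h3], a * b, fun x => by simp [← mul_assoc, h2, h4]⟩
  inv_mem' := by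
    rintro β ⟨h1, a, h2⟩
    refine ⟨fun s x => by rw [Equiv.Perm.inv_eq_iff_eq, h1]; simp, a⁻¹, fun x => ?_⟩
    rw [← h2]; simp

theorem exists_pr (h : Good hQ ρ π) : ∃ pr : gam ρ π →* F.autGroup Q,
    ∀ (β : gam ρ π) x, π (β.1 x) * pr β = π x := by
  have key : ∀ β : gam ρ π, ∃ a, ∀ x, π (β.1 x) * a = π x := fun β => β.2.2
  choose pr e using key
  obtain ⟨x₀, -⟩ := h.surj 1
  refine ⟨MonoidHom.mk' pr fun β γ => mul_left_cancel (a := π ((β * γ).1 x₀)) ?_, e⟩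
  rw [e, ← mul_assoc, Subgroup.coe_mul, Equiv.Perm.mul_apply, e, e]

/-- The right action as a homomorphism. -/
def iota (h : Good hQ ρ π) : S →* gam ρ π :=
  (ρ.comp (MonoidHom.inr S S)).codRestrict _ fun u =>
    ⟨fun s x => by
      show ρ (1, u) (ρ (s, 1) x) = ρ (s, 1) (ρ (1, u) x)
      rw [mul_apply, mul_apply]; simp,
    cHom hQ u, fun x => by
      show π (ρ (1, u) x) * _ = _
      rw [h.equiv]; simp⟩

theorem iota_apply (h : Good hQ ρ π) (u : S) (x : X) : (h.iota u).1 x = ρ (1, u) x := rfl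

theorem pr_unique (h : Good hQ ρ π) {pr : gam ρ π →* F.autGroup Q}
    (hpr : ∀ (β : gam ρ π) x, π (β.1 x) * pr β = π x) {β : gam ρ π} {a : F.autGroup Q}
    (e : ∀ x, π (β.1 x) * a = π x) : pr β = a := by
  obtain ⟨x₀, -⟩ := h.surj 1
  exact mul_left_cancel ((hpr β x₀).trans (e x₀).symm)

theorem pr_iota (h : Good hQ ρ π) {pr : gam ρ π →* F.autGroup Q}
    (hpr : ∀ (β : gam ρ π) x, π (β.1 x) * pr β = π x) (u : S) : pr (h.iota u) = cHom hQ u :=
  h.pr_unique hpr fun x => by rw [iota_apply, h.equiv]; simp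

theorem conj_iota (h : Good hQ ρ π) {pr : gam ρ π →* F.autGroup Q}
    (hpr : ∀ (β : gam ρ π) x, π (β.1 x) * pr β = π x) (γ : gam ρ π) (u u' : S)
    (hu : (u : Ω) ∈ Q) (e : afun (pr γ : MulAut Q) u = u') (x : X) :
    γ.1 (ρ (1, u) x) = ρ (1, u') (γ.1 x) := by
  have ht := afun_mem (π x : MulAut Q) hu
  have h1 := h.fix x (s := ⟨_, hQ.1 ht⟩) hu rfl
  have h2 := h.fix (γ.1 x) (s := ⟨_, hQ.1 ht⟩) (u := u') (e ▸ afun_mem _ hu) (by
    rw [← e, ← afun_mul _ _ hu, ← Subgroup.coe_mul, hpr])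
  generalize (⟨_, hQ.1 ht⟩ : S) = t at h1 h2
  have h3 : ρ (1, u) x = ρ (t⁻¹, 1) x := by
    conv_rhs => rw [← h1]
    rw [mul_apply]; simp
  rw [h3, γ.2.1]
  conv_lhs => rw [← h2]
  rw [mul_apply]; simp

variable [Fact p.Prime] [Finite S]

theorem exists_retraction (hS : IsPGroup p S) (hF : F.IsSaturated p) (hC : centralizerIn S Q ≤ Q)
    (h : Good hQ ρ π) {pr : gam ρ π →* F.autGroup Q}
    (hpr : ∀ (β : gam ρ π) x, π (β.1 x) * pr β = π x) :
    ∃ r : pr.ker →* centralizerIn S Q,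
      (∀ (z : S) (hz : (z : Ω) ∈ centralizerIn S Q) (hz' : h.iota z ∈ pr.ker),
        r ⟨_, hz'⟩ = ⟨z, hz⟩) ∧
      ∀ (β β' : pr.ker) (γ : gam ρ π), γ * β * γ⁻¹ = β' → r β = 1 → r β' = 1 := by
  classical
  letI : CommGroup (centralizerIn S Q) := { (inferInstance : Group (centralizerIn S Q)) with
    mul_comm := fun a b => Subtype.ext (by
      have := (mem_centralizerIn.1 a.2).2 b (hC b.2)
      rwa [mul_inv_eq_iff_eq_mul] at this) }
  let j : centralizerIn S Q →* S := Subgroup.inclusion centralizerIn_le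
  have key : ∀ (β : pr.ker) x, ∃ z : centralizerIn S Q, ρ (1, j z) x = β.1.1 x := fun β x => by
    have := hpr β x
    rw [show pr β = 1 from β.2, mul_one] at this
    obtain ⟨z, hz, e⟩ := h.transR hC this.symm
    exact ⟨⟨z, hz⟩, e⟩
  choose δ hδ using key
  have uniq : ∀ (β : pr.ker) x z, ρ (1, j z) x = β.1.1 x → δ β x = z := fun β x z e =>
    Subgroup.inclusion_injective _ (h.freeR ((hδ β x).trans e.symm))
  have hleft : ∀ β s x, δ β (ρ (s, 1) x) = δ β x := fun β s x => uniq _ _ _ (by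
    rw [β.1.2.1, ← hδ, mul_apply, mul_apply]; simp)
  have hinv : ∀ β x y (s : S), π y = cHom hQ s * π x → δ β y = δ β x := fun β x y s e => by
    obtain ⟨w, -, rfl⟩ := h.transL (x := ρ (s, 1) x) (y := y) (by rw [h.equiv, e]; simp)
    rw [hleft, hleft]
  have act : ∀ a : F.autGroup Q, ∃ t : centralizerIn S Q →* centralizerIn S Q,
      ∀ z, (t z : Ω) = afun (a : MulAut Q) z := fun a => by
    have hm := (mem_autGroup hQ.1).1 a.2
    refine ⟨MonoidHom.mk' (fun z => ⟨afun (a : MulAut Q) z, ?_⟩) fun z w =>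
      Subtype.ext (hm.map_mul (hC z.2) (hC w.2)), fun _ => rfl⟩
    have := hm.mem_centralizer_img le_rfl (hC z.2) (mem_centralizerIn.1 z.2).2
    rwa [img_afun] at this
  have hmul : ∀ β β' x, δ (β * β') x = δ β x * δ β' x := fun β β' x => uniq _ _ _ (by
    show _ = β.1.1 (β'.1.1 x)
    rw [← hδ β' x, h.conj_iota hpr β (j (δ β' x)) (j (δ β' x)) (hC (δ β' x).2) (by
      rw [show pr β = 1 from β.2]; exact afun_one _), ← hδ β x, mul_apply, mul_comm (δ β x),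
      map_mul, one_mul])
  choose sec hsec using h.surj
  have := finite_autGroup F hQ.1
  have : Finite (centralizerIn S Q) := finite_of_le centralizerIn_le
  let B := (cHom hQ).range
  letI : Fintype (F.autGroup Q ⧸ B) := Fintype.ofFinite _
  obtain ⟨k, hk⟩ := IsPGroup.iff_card.1 (pgroup_of_le hS (centralizerIn_le (P := Q)))
  obtain ⟨m, hm⟩ := exists_inv_exp (Z := centralizerIn S Q) (n := B.index) (by
    rw [hk]
    exact ((Nat.Prime.coprime_iff_not_dvd Fact.out).2 (cHom_range_index hS hF hQ)).symm.pow_right k)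
  let D : pr.ker → F.autGroup Q ⧸ B → centralizerIn S Q := fun β q => δ β (sec (q.out)⁻¹)
  refine ⟨MonoidHom.mk' (fun β => (∏ q, D β q) ^ m) fun β β' => ?_, fun z hz hz' => ?_,
    fun β β' γ e h1 => ?_⟩
  · simp only [D, hmul, Finset.prod_mul_distrib, mul_pow]
  · have : ∀ q, D ⟨_, hz'⟩ q = ⟨z, hz⟩ := fun q => uniq _ _ _ rfl
    simp only [MonoidHom.mk'_apply, this, Finset.prod_const, Finset.card_univ]
    rw [← Nat.card_eq_fintype_card]
    exact hm _
  · obtain ⟨t, ht⟩ := act (pr γ)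
    have h2 : ∀ x, δ β' (γ.1 x) = t (δ β x) := fun x => uniq _ _ _ (by
      rw [← h.conj_iota hpr γ (j (δ β x)) (j (t (δ β x))) (hC (δ β x).2) (ht _).symm, hδ, ← e]
      simp)
    have h3 : ∀ q, D β' (pr γ • q) = t (D β q) := fun q => by
      rw [← h2]
      obtain ⟨⟨_, s, rfl⟩, hb⟩ := QuotientGroup.mk_out_eq_mul B (pr γ * q.out)
      refine hinv _ _ _ s⁻¹ ?_
      have h4 : pr γ • q = QuotientGroup.mk (pr γ * q.out) := by
        conv_lhs => rw [← q.out_eq]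
        rfl
      rw [hsec, h4, hb, ← mul_left_inj (pr γ), mul_assoc (cHom hQ s⁻¹), hpr, hsec, map_inv]
      simp [mul_assoc]
    simp only [MonoidHom.mk'_apply] at h1 ⊢
    rw [← Equiv.prod_comp (MulAction.toPerm (pr γ))]
    simp only [MulAction.toPerm_apply, h3]
    rw [← map_prod, ← map_pow, h1, map_one]

theorem exists_model (hS : IsPGroup p S) (hF : F.IsSaturated p) (hC : centralizerIn S Q ≤ Q)
    (h : Good hQ ρ π) : ∃ (K : Subgroup (gam ρ π)) (_ : K.Normal)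
      (pr : gam ρ π ⧸ K →* F.autGroup Q),
      (∀ (β : gam ρ π) x, π (β.1 x) * pr (QuotientGroup.mk β) = π x) ∧
      ModelData hQ ((QuotientGroup.mk' K).comp h.iota) pr := by
  obtain ⟨pr, hpr⟩ := h.exists_pr
  obtain ⟨r, r1, r2⟩ := h.exists_retraction hS hF hC hpr
  have hn : (r.ker.map pr.ker.subtype).Normal := ⟨by
    rintro _ ⟨β, hβ, rfl⟩ γ
    exact ⟨⟨γ * β * γ⁻¹, (inferInstance : pr.ker.Normal).conj_mem _ β.2 γ⟩, r2 β _ γ rfl hβ, rfl⟩⟩
  refine ⟨_, hn, QuotientGroup.lift _ pr (by rintro _ ⟨β, -, rfl⟩; exact β.2), hpr,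
    (injective_iff_map_eq_one _).2 fun s hs => ?_, fun s => h.pr_iota hpr s,
    fun g u u' hu e => ?_, fun g hg => ?_, fun P ψ a hQP hψ ha => ?_⟩
  · obtain ⟨β, h1, e⟩ := (QuotientGroup.eq_one_iff _).1 hs
    have hβ : h.iota s ∈ pr.ker := e ▸ β.2
    have hs' := (cHom_eq_one_iff hQ).1 ((h.pr_iota hpr s).symm.trans hβ)
    have e2 : β = ⟨_, hβ⟩ := Subtype.ext e
    have h2 := r1 s hs' hβ
    rw [← e2, show r β = 1 from h1] at h2
    exact Subtype.ext (congrArg Subtype.val h2).symm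
  · induction g using QuotientGroup.induction_on with
    | H γ =>
    have : γ * h.iota u * γ⁻¹ = h.iota u' := by
      rw [mul_inv_eq_iff_eq_mul]
      exact Subtype.ext (Equiv.ext fun x => h.conj_iota hpr γ u u' hu e x)
    exact congrArg (QuotientGroup.mk' _) this
  · induction g using QuotientGroup.induction_on with
    | H γ =>
    have hγ : γ ∈ pr.ker := hg
    let z := r ⟨γ, hγ⟩
    have hz : h.iota ⟨z, z.2.1⟩ ∈ pr.ker := by
      rw [MonoidHom.mem_ker, h.pr_iota hpr]; exact (cHom_eq_one_iff hQ).2 z.2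
    refine ⟨⟨z, z.2.1⟩, z.2, QuotientGroup.eq.2 ⟨(⟨_, hz⟩ : pr.ker)⁻¹ * ⟨γ, hγ⟩, ?_, rfl⟩⟩
    show r _ = 1
    rw [map_mul, map_inv, r1 _ z.2]; exact inv_mul_cancel z
  · obtain ⟨β, h1, h2, h3⟩ := exists_equiv hS hF hC h h hψ hQP ha
    refine ⟨QuotientGroup.mk ⟨β, h2, a, h1⟩, h.pr_unique hpr h1, fun u u' hu e => ?_⟩
    have : (⟨β, h2, a, h1⟩ : gam ρ π) * h.iota u * (⟨β, h2, a, h1⟩ : gam ρ π)⁻¹ = h.iota u' := by
      rw [mul_inv_eq_iff_eq_mul]
      exact Subtype.ext (Equiv.ext fun x => h3 u u' hu e x)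
    exact congrArg (QuotientGroup.mk' _) this

theorem exists_hom (hS : IsPGroup p S) (hF : F.IsSaturated p) (hC : centralizerIn S Q ≤ Q)
    (h : Good hQ ρ π) {G : Type*} [Group G] {ι : S →* G} {pr : G →* F.autGroup Q}
    (hG : ModelData hQ ι pr) : ∃ φ : G →* gam ρ π, (∀ s, φ (ι s) = h.iota s) ∧
      ∀ g x, π ((φ g).1 x) * pr g = π x := by
  obtain ⟨β, h1, h2, h3⟩ := exists_equiv hS hF hC (hG.good hS hF) h (mor_id F le_rfl) hQ.1
    (a := 1) fun y _ => (afun_one y).symm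
  simp only [mul_one] at h1
  have h4 : ∀ g x, π (β (β.symm x * g⁻¹)) * pr g = π x := fun g x => by
    rw [h1, map_mul, map_inv, inv_mul_cancel_right, ← h1, β.apply_symm_apply]
  refine ⟨MonoidHom.mk' (fun g => ⟨β.symm.trans ((Equiv.mulRight g⁻¹).trans β), fun s x => ?_,
    pr g, h4 g⟩) fun a b => Subtype.ext (Equiv.ext fun x => by simp [mul_assoc]),
    fun s => Subtype.ext (Equiv.ext fun x => ?_), h4⟩
  · obtain ⟨y, rfl⟩ := β.surjective x
    rw [← h2]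
    simp only [Equiv.trans_apply, Equiv.symm_apply_apply, Equiv.coe_mulRight]
    rw [← h2, ModelData.rhoG_apply, ModelData.rhoG_apply]; simp [mul_assoc]
  · obtain ⟨y, rfl⟩ := β.surjective x
    rw [iota_apply, ← h3 s s s.2 rfl, ModelData.rhoG_apply]; simp

end Good

variable [Fact p.Prime] [Finite S]

theorem exists_modelData (hS : IsPGroup p S) (hF : F.IsSaturated p) (hQ : F.IsNormal Q)
    (hC : centralizerIn S Q ≤ Q) : ∃ (G : Type u) (_ : Group G) (_ : Finite G) (ι : S →* G)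
      (pr : G →* F.autGroup Q), ModelData hQ ι pr := by
  obtain ⟨X, _, ρ, π, h⟩ := exists_good hS hF hQ
  obtain ⟨K, _, pr, -, h2⟩ := h.exists_model hS hF hC
  exact ⟨_, _, inferInstance, _, pr, h2⟩

theorem exists_model (hS : IsPGroup p S) (hF : F.IsConstrained p) :
    ∃ (G : Type u) (_ : Group G) (ι : S →* G), F.IsModel p G ι := by
  obtain ⟨h1, Q, hQ, hc⟩ := hF
  obtain ⟨G, _, _, ι, pr, h⟩ := exists_modelData hS h1 hQ (IsCentric.cent_le hc)
  exact ⟨G, _, ι, h.isModel hS h1 (IsCentric.cent_le hc)⟩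

theorem ModelData.exists_equiv (hS : IsPGroup p S) (hF : F.IsSaturated p) {hQ : F.IsNormal Q}
    (hC : centralizerIn S Q ≤ Q) {G G' : Type*} [Group G] [Group G'] {ι : S →* G}
    {pr : G →* F.autGroup Q} {ι' : S →* G'} {pr' : G' →* F.autGroup Q}
    (h : ModelData hQ ι pr) (h' : ModelData hQ ι' pr') :
    ∃ φ : G ≃* G', ∀ s, φ (ι s) = ι' s := by
  have hg := h.good hS hF
  obtain ⟨K, _, pr₀, h1, h2⟩ := hg.exists_model hS hF hC
  obtain ⟨φ, e1, e2⟩ := hg.exists_hom hS hF hC h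
  obtain ⟨φ', e1', e2'⟩ := hg.exists_hom hS hF hC h'
  have b1 := h.bijective h2 ((QuotientGroup.mk' K).comp φ) (fun s => congrArg _ (e1 s))
    fun g => mul_left_cancel ((h1 _ 1).trans (e2 g 1).symm)
  have b2 := h'.bijective h2 ((QuotientGroup.mk' K).comp φ') (fun s => congrArg _ (e1' s))
    fun g => mul_left_cancel ((h1 _ 1).trans (e2' g 1).symm)
  refine ⟨(MulEquiv.ofBijective _ b1).trans (MulEquiv.ofBijective _ b2).symm, fun s => ?_⟩
  rw [MulEquiv.trans_apply, MulEquiv.symm_apply_eq]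
  exact congrArg (QuotientGroup.mk' K) ((e1 s).trans (e1' s).symm)

section IsModel

variable {G : Type*} [Group G] {ι : S →* G}

omit [Finite S] in
theorem IsModel.pCore_le (h : F.IsModel p G ι) : pCore p G ≤ ι.range := by
  obtain ⟨_, -, ⟨T, hT⟩, -⟩ := h
  exact hT ▸ pCore_le_sylow T

omit [Finite S] in
theorem IsModel.image_normal (h : F.IsModel p G ι) (hP : F.IsNormal P) :
    (imageAlong ι P).Normal := by
  have hi := isRealizedBy_iff_iso.1 h.2.1
  have hn := hi.image_normal hP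
  have hle := IsModel.pCore_le h
  refine ⟨fun y hy g => ?_⟩
  have := pCore_normal p G
  obtain ⟨k, hk, e, e'⟩ := IsNormal.ext hn (P := pCore p G) (f := fun x => g * x * g⁻¹)
    (mor_group_iff.2 ⟨hle, fun x hx => hle (this.conj_mem x hx g), g, fun _ _ => rfl⟩)
  obtain ⟨-, -, g', eg⟩ := mor_group_iff.1 hk
  have h1 : g'⁻¹ * g ∈ pCore p G := h.2.2.2 fun x hx => by
    have := (eg x (Subgroup.mem_sup_left hx)).symm.trans (e x hx)
    calc x * (g'⁻¹ * g) = g'⁻¹ * (g' * x * g'⁻¹) * g := by group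
      _ = g'⁻¹ * g * x := by rw [this]; group
  have h2 := StronglyClosed.conj_mem (IsNormal.stronglyClosed hn) (hle h1) hy
  have h3 : k _ ∈ imageAlong ι P := e' ▸ subset_img h2
  rw [eg _ (Subgroup.mem_sup_right h2)] at h3
  convert h3 using 1; group

theorem IsModel.image_core (h : F.IsModel p G ι) : imageAlong ι F.core = pCore p G := by
  have hi := isRealizedBy_iff_iso.1 h.2.1
  refine le_antisymm (le_pCore (IsModel.image_normal h (core_isNormal F)) ?_) ?_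
  · obtain ⟨_, -, ⟨T, hT⟩, -⟩ := h
    exact pgroup_of_le T.isPGroup' (hT ▸ imageAlong_le_range)
  · rw [hi.image_core]
    exact IsNormal.le_core (group_normal_of_normal (pCore_normal p G) (IsModel.pCore_le h))

omit [Fact p.Prime] [Finite S] in
theorem modelData_of_realized (h : F.IsRealizedBy ι) (hQ : F.IsNormal Q)
    (hn : (imageAlong ι Q).Normal)
    (hC : Subgroup.centralizer (imageAlong ι Q : Set G) ≤ ι.range) :
    ∃ pr : G →* F.autGroup Q, ModelData hQ ι pr := by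
  have hi := isRealizedBy_iff_iso.1 h
  obtain ⟨τ, h1, h2, -⟩ := hi.exists_autEquiv hQ.1 rfl
  have hN : ∀ g : G, g ∈ Subgroup.normalizer (imageAlong ι Q : Set G) := fun g => by
    rw [Subgroup.normalizer_eq_top]; trivial
  let c : G →* MulAut (imageAlong ι Q) := (cAut _).comp ((MonoidHom.id G).codRestrict _ hN)
  have hc : ∀ g, ∀ y ∈ imageAlong ι Q, afun (c g) y = g * y * g⁻¹ := fun g y hy => afun_cAut _ hy
  let pr : G →* F.autGroup Q := (τ.symm.toMonoidHom.comp c).codRestrict _ fun g => (h2 _).1 (by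
    rw [groupFusionSystem_eq, autGroup_sub imageAlong_le_range]
    exact mem_autInducedBy.2 ⟨g, trivial, by simpa using hc g⟩)
  have hpr : ∀ g, ∀ x ∈ Q, ap ι (afun (pr g : MulAut Q) x) = g * ap ι x * g⁻¹ := fun g x hx => by
    rw [← h1 _ x hx, ← hc g _ (ap_mem_imageAlong hQ.1 hx)]
    congr 1; exact τ.apply_symm_apply _
  have hu : ∀ g (a : F.autGroup Q), (∀ x ∈ Q, ap ι (afun (a : MulAut Q) x) = g * ap ι x * g⁻¹) →
      pr g = a := fun g a e => autGroup_ext fun x hx =>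
    ap_inj hi.inj (hQ.1 (afun_mem _ hx)) (hQ.1 (afun_mem _ hx)) (by rw [hpr g x hx, e x hx])
  refine ⟨pr, hi.inj, fun s => hu _ _ fun x hx => ?_, fun g u u' hu e => ?_, fun g hg => ?_,
    fun P ψ a hQP hψ ha => ?_⟩
  · rw [afun_cHom _ _ hx, ap_conj ι s.2 (hQ.1 hx), ap_coe]
  · rw [← ap_coe, ← hpr g _ hu, e, ap_coe]
  · obtain ⟨z, rfl⟩ := hC (show g ∈ _ from fun y hy => by
      obtain ⟨x, hx, rfl⟩ := (mem_imageAlong' hQ.1).1 hy
      have := hpr g x hx
      rw [hg, Subgroup.coe_one, afun_one, eq_mul_inv_iff_mul_eq] at this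
      exact this)
    refine ⟨z, mem_centralizerIn.2 ⟨z.2, fun x hx => ap_inj hi.inj
      (S.mul_mem (S.mul_mem z.2 (hQ.1 hx)) (S.inv_mem z.2)) (hQ.1 hx) ?_⟩, rfl⟩
    rw [ap_conj ι z.2 (hQ.1 hx), ap_coe, ← hpr _ x hx, hg, Subgroup.coe_one, afun_one]
  · obtain ⟨g, e⟩ := (IsRealizedBy.mor_iff h hψ.le fun x hx => hψ.mem hx).1 hψ
    exact ⟨g, hu g a fun x hx => by rw [← ha x hx, e x (hQP hx)], fun u u' hu e' => by
      rw [← ap_coe, ← e _ hu, e', ap_coe]⟩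

theorem IsModel.modelData (h : F.IsModel p G ι) :
    ∃ pr : G →* F.autGroup F.core, ModelData (core_isNormal F) ι pr :=
  modelData_of_realized h.2.1 _ (IsModel.image_normal h (core_isNormal F))
    (by rw [IsModel.image_core h]; exact h.2.2.2.trans (IsModel.pCore_le h))

theorem IsModel.exists_equiv (hS : IsPGroup p S) {G' : Type*} [Group G'] {ι' : S →* G'}
    (h : F.IsModel p G ι) (h' : F.IsModel p G' ι') : ∃ φ : G ≃* G', ∀ s, φ (ι s) = ι' s := by
  obtain ⟨pr, h1⟩ := IsModel.modelData h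
  obtain ⟨pr', h2⟩ := IsModel.modelData h'
  have hc := isConstrained_iff.1 (IsModel.constrained h)
  exact ModelData.exists_equiv hS hc.1 hc.2 h1 h2

end IsModel

end Cfsg.Agent.Fusion
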