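import Cfsg.Agent.Lib.Fusion.Group
import Cfsg.Prelude.Def_FusionComponents

/-! Morphisms of fusion systems, factor systems, Puig's theorem on strongly closed subgroups. -/

set_option autoImplicit false

namespace Cfsg.Agent.Fusion

open Cfsg Cfsg.FusionSystem

section Ext

variable {Ω : Type*} [Group Ω] {S : Subgroup Ω} {F : FusionSystem S} {P Q R T U : Subgroup Ω}
  {f g : Ω → Ω} {p : ℕ}

theorem mem_img_of_mul (h : ∀ x ∈ P, ∀ y ∈ P, f (x * y) = f x * f y) {y : Ω} :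
    y ∈ img f P ↔ ∃ x ∈ P, f x = y := by
  rw [img_eq_range (φ := mkHom P f h) fun _ => rfl]
  exact ⟨fun ⟨x, e⟩ => ⟨x, x.2, e⟩, fun ⟨x, hx, e⟩ => ⟨⟨x, hx⟩, e⟩⟩

variable [Fact p.Prime] [Finite S]

/-- General extension lemma: after composing with an element of `M`, the map extends to `N`. -/
theorem exists_ext_mod (hS : IsPGroup p S) (hr : F.IsReceptive P) {B M : Subgroup (MulAut P)}
    (hB : SylowIn p B M) (hBS : B ≤ autInducedBy S P) (hM : M ≤ F.autGroup P) (hf : Mor F R f)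
    (e : img f R = P) {N : Subgroup Ω} (hN : N ≤ normalizerIn S R)
    (hNM : ∀ n ∈ N, ∀ β : MulAut P, β ∈ F.autGroup P →
      (∀ x ∈ R, afun β (f x) = f (n * x * n⁻¹)) → β ∈ M) :
    ∃ c ∈ M, ∃ ψ, Mor F (N ⊔ R) ψ ∧ ∀ x ∈ R, ψ x = afun c (f x) := by
  obtain ⟨τ, hτ, h2, -⟩ := hf.exists_transport e
  have := finite_autGroup F hr.1
  have : Finite M := finite_of_le hM
  have hNS : N ≤ S := hN.trans normalizerIn_le
  obtain ⟨c, hc1, hc⟩ := hB.conj (D := (autInducedBy N R).map τ.toMonoidHom)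
    (by
      rintro _ ⟨β, hβ, rfl⟩
      obtain ⟨n, hn, en⟩ := mem_autInducedBy.1 hβ
      exact hNM n hn _ ((h2 β).2 (autInducedBy_le_autGroup F hf.le (autInducedBy_mono hNS hβ)))
        fun x hx => by rw [← en x hx]; exact hτ β x hx)
    ((autInducedBy_pgroup (pgroup_of_le hS hNS) _).map _)
  have hgm : ∀ x ∈ R, f x ∈ P := fun x hx => e ▸ subset_img hx
  have hm := hf.comp ((mem_autGroup hr.1).1 (hM hc1)) hgm
  obtain ⟨ψ, hψ, eψ⟩ := IsReceptive.ext hr hm (by rw [hf.img_comp', e, img_afun])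
  refine ⟨c, hc1, ψ, hψ.mono (sup_le (fun n hn => ?_) hm.le_Next), eψ⟩
  obtain ⟨β, eβ⟩ := exists_cAut (hN hn).2
  obtain ⟨s, hs, es⟩ := mem_autInducedBy.1 (hBS (hc _ ⟨β, mem_autInducedBy.2 ⟨n, hn, eβ⟩, rfl⟩))
  refine ⟨hN hn, s, hs, fun x hx => ?_⟩
  rw [← es _ (afun_mem c (hgm x hx)), afun_mul _ _ (afun_mem c (hgm x hx)),
    afun_inv_afun _ (hgm x hx), afun_mul _ _ (hgm x hx), ← eβ x hx]
  exact congrArg (afun c) (hτ β x hx).symm

/-- The automorphisms in `Aut_F(P)` acting trivially modulo a strongly closed subgroup. -/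
def modKer (F : FusionSystem S) (P T : Subgroup Ω) : Subgroup (MulAut P) where
  carrier := {α | α ∈ F.autGroup P ∧ ∀ x ∈ P, x⁻¹ * afun α x ∈ T}
  one_mem' := ⟨Subgroup.one_mem _, fun x _ => by simp [afun_one]⟩
  mul_mem' := by
    rintro α β ⟨h1, h2⟩ ⟨h3, h4⟩
    refine ⟨Subgroup.mul_mem _ h1 h3, fun x hx => ?_⟩
    have := T.mul_mem (h4 x hx) (h2 _ (afun_mem β hx))
    rw [afun_mul _ _ hx]
    simpa [mul_assoc] using this
  inv_mem' := by
    rintro α ⟨h1, h2⟩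
    refine ⟨Subgroup.inv_mem _ h1, fun x hx => ?_⟩
    have := T.inv_mem (h2 _ (afun_mem α⁻¹ hx))
    rw [afun_afun_inv _ hx] at this
    simpa using this

omit [Fact p.Prime] [Finite S] in
theorem modKer_conj (hT : F.StronglyClosed T) (hP : P ≤ S) :
    ∀ a ∈ F.autGroup P, ∀ α ∈ modKer F P T, a * α * a⁻¹ ∈ modKer F P T := by
  rintro a ha α ⟨h1, h2⟩
  refine ⟨Subgroup.mul_mem _ (Subgroup.mul_mem _ ha h1) (Subgroup.inv_mem _ ha), fun x hx => ?_⟩
  have hy := afun_mem a⁻¹ hx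
  have := StronglyClosed.mem hT ((mem_autGroup hP).1 ha)
    (P.mul_mem (P.inv_mem hy) (afun_mem α hy)) (h2 _ hy)
  rwa [afun_map_mul _ (P.inv_mem hy) (afun_mem α hy), afun_map_inv _ hy, afun_afun_inv _ hx,
    ← afun_mul _ _ hy, ← afun_mul _ _ hx] at this

theorem modKer_sylow (hT : F.StronglyClosed T) (hA : F.IsFullyAutomized p P) :
    SylowIn p (autInducedBy S P ⊓ modKer F P T) (modKer F P T) := by
  have := finite_autGroup F hA.1
  exact (IsFullyAutomized.sylowIn hA).inf_normal (fun _ h => h.1) (modKer_conj hT hA.1)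

/-- One step: a map onto a fully normalized subgroup extends, modulo `T`, to `N_T(R) R`. -/
theorem exists_ext_modKer (hS : IsPGroup p S) (hT : F.StronglyClosed T)
    (hA : F.IsFullyAutomized p P) (hr : F.IsReceptive P) (hf : Mor F R f) (e : img f R = P) :
    ∃ c ∈ modKer F P T, ∃ ψ, Mor F (normalizerIn T R ⊔ R) ψ ∧ ∀ x ∈ R, ψ x = afun c (f x) := by
  refine exists_ext_mod hS hr (modKer_sylow hT hA) inf_le_left (fun _ h => h.1) hf e
    (normalizerIn_mono hT.1) fun n hn β hβ eβ => ⟨hβ, fun y hy => ?_⟩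
  obtain ⟨x, hx, rfl⟩ := hf.mem_img.1 (e ▸ hy)
  have h1 := conj_mem_of_mem_normalizerIn hn hx
  rw [eβ x hx, ← hf.map_inv hx, ← hf.map_mul (R.inv_mem hx) h1]
  refine StronglyClosed.mem hT hf (R.mul_mem (R.inv_mem hx) h1) ?_
  have := T.mul_mem (StronglyClosed.conj_mem hT (S.inv_mem (hf.le hx)) hn.1) (T.inv_mem hn.1)
  simpa [mul_assoc] using this

theorem lt_normalizerIn_sup (hS : IsPGroup p S) (hT : T ≤ S) (hP : P ≤ S)
    (hn : P ≤ Subgroup.normalizer (T : Set Ω)) (h : ¬ T ≤ P) : P < normalizerIn T P ⊔ P := by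
  refine lt_of_le_of_ne le_sup_right fun e => h ?_
  exact le_of_normalizer_inf_le hS hP hT hn fun s hs hs' => e.ge (Subgroup.mem_sup_left ⟨hs, hs'⟩)

/-- Puig: every map extends, modulo a strongly closed subgroup `T`, to the product with `T`. -/
theorem puig_ext (hS : IsPGroup p S) (hF : F.IsSaturated p) (hT : F.StronglyClosed T)
    (hf : Mor F P f) : ∃ g, Mor F (P ⊔ T) g ∧ ∀ x ∈ P, (f x)⁻¹ * g x ∈ T := by
  refine downward_induction (S := S) (C := fun P => ∀ f, Mor F P f →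
    ∃ g, Mor F (P ⊔ T) g ∧ ∀ x ∈ P, (f x)⁻¹ * g x ∈ T) ?_ P hf.le f hf
  intro P hP ih f hf
  by_cases hTP : T ≤ P
  · exact ⟨f, by rwa [sup_eq_left.2 hTP], fun x _ => by simp⟩
  obtain ⟨P₀, h0, hn⟩ := exists_fullyNormalized F hP
  have key : ∀ R k, Mor F R k → img k R = P₀ →
      ∃ g, Mor F (R ⊔ T) g ∧ ∀ x ∈ R, (k x)⁻¹ * g x ∈ T := by
    intro R k hk e
    have hc : Nat.card R = Nat.card P := by rw [← hk.card_img, e, isConj_card h0]
    have hTR : ¬ T ≤ R := fun h => by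
      obtain ⟨j, hj, ej⟩ := isConj_iff.1 (isConj_trans (e ▸ hk.isConj) (isConj_symm h0))
      exact hTP (by rw [← StronglyClosed.img_eq hT hj h, ← ej]; exact img_mono h)
    obtain ⟨c, hc', ψ, hψ, eψ⟩ := exists_ext_modKer hS hT (IsSaturated.fullyAutomized hS hF hn)
      (IsSaturated.receptive' hS hF hn) hk e
    have := finite_of_le hψ.le
    obtain ⟨g, hg, eg⟩ := ih _ hψ.le (hc ▸ card_lt_of_lt (lt_normalizerIn_sup hS hT.1 hk.le
      (hk.le.trans (StronglyClosed.le_normalizer hT)) hTR)) ψ hψ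
    refine ⟨g, hg.mono (sup_le_sup_right le_sup_right _), fun x hx => ?_⟩
    have := T.mul_mem (hc'.2 _ (e ▸ subset_img hx)) (eψ x hx ▸ eg x (Subgroup.mem_sup_right hx))
    simpa [mul_assoc] using this
  obtain ⟨k, hk, ek⟩ := isConj_iff.1 (isConj_trans (isConj_symm hf.isConj) h0)
  obtain ⟨g1, hg1, e1⟩ := key _ k hk ek
  obtain ⟨g2, hg2, e2⟩ := key P _ (hf.comp hk fun x hx => subset_img hx)
    (by rw [hf.img_comp', ek])
  have hTimg := StronglyClosed.img_eq hT hg1 le_sup_right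
  obtain ⟨i, hi, i1, i2, i3, i4⟩ := hg1.inv
  have hmem : ∀ x ∈ P ⊔ T, g2 x ∈ img g1 (img f P ⊔ T) := by
    refine hg2.mem_of_sup (fun x hx => ?_) fun x hx => ?_
    · have h1 := T.mul_mem (T.inv_mem (e1 _ (subset_img hx))) (e2 x hx)
      have h2 := Subgroup.mul_mem _ (subset_img (f := g1) (Subgroup.mem_sup_left (T := T)
        (subset_img (f := f) hx))) (img_mono le_sup_right (hTimg.ge h1))
      simpa [mul_assoc] using h2
    · exact img_mono le_sup_right (hTimg.ge (StronglyClosed.mem hT hg2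
        (Subgroup.mem_sup_right hx) hx))
  refine ⟨_, hg2.comp hi hmem, fun x hx => ?_⟩
  have h1 := T.mul_mem (T.inv_mem (e1 _ (subset_img hx))) (e2 x hx)
  have hfx : f x ∈ img f P ⊔ T := Subgroup.mem_sup_left (subset_img hx)
  have h3 : g1 (f x) ∈ img g1 (img f P ⊔ T) := subset_img hfx
  have h4 := hmem x (Subgroup.mem_sup_left hx)
  rw [← i1 _ hfx, ← hi.map_inv h3, ← hi.map_mul (Subgroup.inv_mem _ h3) h4]
  refine StronglyClosed.mem hT hi (Subgroup.mul_mem _ (Subgroup.inv_mem _ h3) h4) ?_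
  simpa [mul_assoc] using h1

theorem stronglyClosed_sup (hS : IsPGroup p S) (hF : F.IsSaturated p) (hT : F.StronglyClosed T)
    (hU : F.StronglyClosed U) : F.StronglyClosed (T ⊔ U) := by
  refine stronglyClosed_iff.2 ⟨sup_le hT.1 hU.1, fun P f hf x hx hxT => ?_⟩
  obtain ⟨g, hg, e⟩ := puig_ext hS hF hT hf
  obtain ⟨t, ht, u, hu, rfl⟩ := (mem_sup_of_le_normalizer
    (hT.1.trans (StronglyClosed.le_normalizer hU))).1 hxT
  have ht' : t ∈ P ⊔ T := Subgroup.mem_sup_right ht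
  have hu' : u ∈ P ⊔ T := by
    simpa using Subgroup.mul_mem _ (Subgroup.inv_mem _ ht') (Subgroup.mem_sup_left hx)
  have h1 : g (t * u) ∈ T ⊔ U := by
    rw [hg.map_mul ht' hu']
    exact Subgroup.mul_mem _ (Subgroup.mem_sup_left (StronglyClosed.mem hT hg ht' ht))
      (Subgroup.mem_sup_right (StronglyClosed.mem hU hg hu' hu))
  simpa using Subgroup.mul_mem _ h1 (Subgroup.inv_mem _ (Subgroup.mem_sup_left (e _ hx)))

theorem stronglyClosed_sup_centralizer (hS : IsPGroup p S) (hF : F.IsSaturated p)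
    (hT : F.StronglyClosed T) : F.StronglyClosed (T ⊔ centralizerIn S T) := by
  refine stronglyClosed_iff.2 ⟨sup_le hT.1 centralizerIn_le, fun P f hf x hx hxT => ?_⟩
  obtain ⟨g, hg, e⟩ := puig_ext hS hF hT hf
  obtain ⟨t, ht, u, hu, rfl⟩ := (mem_sup_of_le_normalizer (le_normalizer_of_conj_mem
    fun s hs x hx => centralizerIn_conj_mem (le_normalizerIn hT.1 hs) hx)).1 hxT
  have ht' : t ∈ P ⊔ T := Subgroup.mem_sup_right ht
  have hu' : u ∈ P ⊔ T := by
    simpa using Subgroup.mul_mem _ (Subgroup.inv_mem _ ht') (Subgroup.mem_sup_left hx)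
  have h1 : g (t * u) ∈ T ⊔ centralizerIn S T := by
    rw [hg.map_mul ht' hu']
    refine Subgroup.mul_mem _ (Subgroup.mem_sup_left (StronglyClosed.mem hT hg ht' ht))
      (Subgroup.mem_sup_right ?_)
    have := hg.mem_centralizer_img le_sup_right hu' (mem_centralizerIn.1 hu).2
    rwa [StronglyClosed.img_eq hT hg le_sup_right] at this
  simpa using Subgroup.mul_mem _ h1 (Subgroup.inv_mem _ (Subgroup.mem_sup_left (e _ hx)))

end Ext

variable {Ω Ω' : Type*} [Group Ω] [Group Ω'] {S : Subgroup Ω} {S' : Subgroup Ω'}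
  {F : FusionSystem S} {F' : FusionSystem S'} {α : S →* Ω'} {P Q R T : Subgroup Ω}
  {P' Q' R' : Subgroup Ω'} {f g : Ω → Ω} {f' g' : Ω' → Ω'} {p : ℕ}

open Classical in
/-- A homomorphism on `S` as a function on the ambient group. -/
noncomputable def ap (α : S →* Ω') (x : Ω) : Ω' := if h : x ∈ S then α ⟨x, h⟩ else 1

theorem ap_of_mem (α : S →* Ω') {x : Ω} (hx : x ∈ S) : ap α x = α ⟨x, hx⟩ := by simp [ap, hx]

@[simp] theorem ap_coe (α : S →* Ω') (x : S) : ap α x = α x := ap_of_mem α x.2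

theorem ap_mul (α : S →* Ω') {x y : Ω} (hx : x ∈ S) (hy : y ∈ S) :
    ap α (x * y) = ap α x * ap α y := by
  rw [ap_of_mem α hx, ap_of_mem α hy, ap_of_mem α (S.mul_mem hx hy), ← map_mul]; rfl

theorem ap_one (α : S →* Ω') : ap α 1 = 1 := by
  rw [ap_of_mem α S.one_mem]; exact α.map_one

theorem ap_inv (α : S →* Ω') {x : Ω} (hx : x ∈ S) : ap α x⁻¹ = (ap α x)⁻¹ := by
  rw [ap_of_mem α hx, ap_of_mem α (S.inv_mem hx), ← map_inv]; rfl

theorem ap_conj (α : S →* Ω') {x y : Ω} (hx : x ∈ S) (hy : y ∈ S) :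
    ap α (x * y * x⁻¹) = ap α x * ap α y * (ap α x)⁻¹ := by
  rw [ap_mul α (S.mul_mem hx hy) (S.inv_mem hx), ap_mul α hx hy, ap_inv α hx]

theorem ap_pow (α : S →* Ω') {x : Ω} (hx : x ∈ S) (n : ℕ) : ap α (x ^ n) = ap α x ^ n := by
  rw [ap_of_mem α hx, ap_of_mem α (S.pow_mem hx n), ← map_pow]; rfl

theorem ap_mem_range (α : S →* Ω') {x : Ω} (hx : x ∈ S) : ap α x ∈ α.range :=
  ⟨⟨x, hx⟩, (ap_of_mem α hx).symm⟩

theorem mem_range_iff {y : Ω'} : y ∈ α.range ↔ ∃ x ∈ S, ap α x = y :=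
  ⟨fun ⟨x, e⟩ => ⟨x, x.2, by simpa using e⟩, fun ⟨_, hx, e⟩ => e ▸ ap_mem_range α hx⟩

theorem ap_inj (h : Function.Injective α) {x y : Ω} (hx : x ∈ S) (hy : y ∈ S)
    (e : ap α x = ap α y) : x = y := by
  rw [ap_of_mem α hx, ap_of_mem α hy] at e
  exact congrArg Subtype.val (h e)

theorem mem_imageAlong {y : Ω'} : y ∈ imageAlong α P ↔ ∃ x ∈ P, x ∈ S ∧ ap α x = y := by
  constructor
  · rintro ⟨x, hx, rfl⟩; exact ⟨x, hx, x.2, ap_coe α x⟩
  · rintro ⟨x, hx, hS, rfl⟩; exact ⟨⟨x, hS⟩, hx, (ap_of_mem α hS).symm⟩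

theorem mem_imageAlong' (hP : P ≤ S) {y : Ω'} : y ∈ imageAlong α P ↔ ∃ x ∈ P, ap α x = y := by
  rw [mem_imageAlong]
  exact ⟨fun ⟨x, h1, _, h2⟩ => ⟨x, h1, h2⟩, fun ⟨x, h1, h2⟩ => ⟨x, h1, hP h1, h2⟩⟩

theorem ap_mem_imageAlong (hP : P ≤ S) {x : Ω} (hx : x ∈ P) : ap α x ∈ imageAlong α P :=
  (mem_imageAlong' hP).2 ⟨x, hx, rfl⟩

theorem imageAlong_mono (h : P ≤ Q) : imageAlong α P ≤ imageAlong α Q :=
  Subgroup.map_mono fun _ hx => h hx

theorem imageAlong_le_iff (hP : P ≤ S) : imageAlong α P ≤ P' ↔ ∀ x ∈ P, ap α x ∈ P' := by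
  refine ⟨fun h x hx => h (ap_mem_imageAlong hP hx), fun h y hy => ?_⟩
  obtain ⟨x, hx, rfl⟩ := (mem_imageAlong' hP).1 hy
  exact h x hx

theorem imageAlong_sup (hP : P ≤ S) (hQ : Q ≤ S) :
    imageAlong α (P ⊔ Q) = imageAlong α P ⊔ imageAlong α Q := by
  rw [imageAlong, Subgroup.subgroupOf_sup hP hQ, Subgroup.map_sup]; rfl

theorem imageAlong_top : imageAlong α S = α.range := by
  rw [imageAlong, Subgroup.subgroupOf_self, MonoidHom.range_eq_map]

theorem imageAlong_bot : imageAlong α ⊥ = ⊥ := by simp [imageAlong]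

theorem imageAlong_le_range : imageAlong α P ≤ α.range := Subgroup.map_le_range _ _

theorem mem_preimageAlong {x : Ω} : x ∈ preimageAlong α P' ↔ x ∈ S ∧ ap α x ∈ P' := by
  constructor
  · rintro ⟨x, hx, rfl⟩; exact ⟨x.2, by simpa using hx⟩
  · rintro ⟨h1, h2⟩; exact ⟨⟨x, h1⟩, by rwa [ap_of_mem α h1] at h2, rfl⟩

theorem preimageAlong_le : preimageAlong α P' ≤ S := Subgroup.map_subtype_le _

theorem preimageAlong_mono (h : P' ≤ Q') : preimageAlong α P' ≤ preimageAlong α Q' :=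
  Subgroup.map_mono (Subgroup.comap_mono h)

theorem image_preimage (h : P' ≤ α.range) : imageAlong α (preimageAlong α P') = P' := by
  refine le_antisymm ((imageAlong_le_iff preimageAlong_le).2 fun x hx =>
    (mem_preimageAlong.1 hx).2) fun y hy => ?_
  obtain ⟨x, hx, rfl⟩ := mem_range_iff.1 (h hy)
  exact ap_mem_imageAlong preimageAlong_le (mem_preimageAlong.2 ⟨hx, hy⟩)

theorem le_preimage_image (hP : P ≤ S) : P ≤ preimageAlong α (imageAlong α P) :=
  fun _ hx => mem_preimageAlong.2 ⟨hP hx, ap_mem_imageAlong hP hx⟩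

theorem mem_ker_iff {x y : Ω} (hx : x ∈ S) (hy : y ∈ S) :
    x⁻¹ * y ∈ preimageAlong α ⊥ ↔ ap α x = ap α y := by
  rw [mem_preimageAlong, ap_mul α (S.inv_mem hx) hy, ap_inv α hx, Subgroup.mem_bot,
    inv_mul_eq_one]
  exact ⟨fun h => h.2, fun h => ⟨S.mul_mem (S.inv_mem hx) hy, h⟩⟩

theorem preimage_image (hP : P ≤ S) :
    preimageAlong α (imageAlong α P) = P ⊔ preimageAlong α ⊥ := by
  refine le_antisymm (fun x hx => ?_) (sup_le (le_preimage_image hP) (preimageAlong_mono bot_le))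
  obtain ⟨h1, h2⟩ := mem_preimageAlong.1 hx
  obtain ⟨y, hy, e⟩ := (mem_imageAlong' hP).1 h2
  simpa using Subgroup.mul_mem _ (Subgroup.mem_sup_left hy)
    (Subgroup.mem_sup_right ((mem_ker_iff (hP hy) h1).2 e))

theorem preimage_image_of_le (hP : P ≤ S) (h : preimageAlong α ⊥ ≤ P) :
    preimageAlong α (imageAlong α P) = P := by rw [preimage_image hP, sup_eq_left.2 h]

theorem preimage_bot_of_inj (h : Function.Injective α) : preimageAlong α ⊥ = ⊥ := by
  rw [eq_bot_iff]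
  intro x hx
  obtain ⟨h1, h2⟩ := mem_preimageAlong.1 hx
  exact ap_inj h h1 S.one_mem (by rw [ap_one]; exact h2)

theorem inj_of_preimage_bot (h : preimageAlong α ⊥ = ⊥) : Function.Injective α := by
  rw [injective_iff_map_eq_one]
  intro x hx
  have : (x : Ω) ∈ preimageAlong α ⊥ := mem_preimageAlong.2 ⟨x.2, by simpa using hx⟩
  rw [h] at this
  exact Subtype.ext this

theorem preimage_image_of_inj (h : Function.Injective α) (hP : P ≤ S) :
    preimageAlong α (imageAlong α P) = P :=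
  preimage_image_of_le hP (by rw [preimage_bot_of_inj h]; exact bot_le)

theorem card_imageAlong_of_inj (h : Function.Injective α) (hP : P ≤ S) :
    Nat.card (imageAlong α P) = Nat.card P := by
  rw [imageAlong, Subgroup.card_map_of_injective h]
  exact Nat.card_congr (Subgroup.subgroupOfEquivOfLe hP).toEquiv

theorem inducedAlong_iff {φ : P →* Ω} {φ' : P' →* Ω'} : InducedAlong α φ φ' ↔
    P ≤ S ∧ (∀ x ∈ P, hfun φ x ∈ S) ∧ (∀ x ∈ P, ap α x ∈ P') ∧
      ∀ x ∈ P, hfun φ' (ap α x) = ap α (hfun φ x) := by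
  constructor
  · rintro ⟨h1, h2, h3, h4⟩
    refine ⟨h1, fun x hx => by rw [hfun_of_mem _ hx]; exact h2 _,
      fun x hx => by rw [ap_of_mem _ (h1 hx)]; exact h3 ⟨x, hx⟩, fun x hx => ?_⟩
    rw [hfun_of_mem φ hx, ap_of_mem _ (h1 hx), ap_of_mem _ (h2 ⟨x, hx⟩),
      hfun_of_mem _ (h3 ⟨x, hx⟩)]
    exact h4 ⟨x, hx⟩
  · rintro ⟨h1, h2, h3, h4⟩
    refine ⟨h1, fun x => by rw [← hfun_coe]; exact h2 x x.2,
      fun x => by rw [← ap_of_mem]; exact h3 x x.2, fun x => ?_⟩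
    have := h4 x x.2
    rw [hfun_coe, ap_of_mem _ (h1 x.2), hfun_of_mem, ap_of_mem] at this
    exact this

/-- Function-style morphisms. -/
structure Morph (F : FusionSystem S) (F' : FusionSystem S') (α : S →* Ω') : Prop where
  mem : ∀ x ∈ S, ap α x ∈ S'
  mor : ∀ {P f}, Mor F P f → ∃ f', Mor F' (imageAlong α P) f' ∧ ∀ x ∈ P, f' (ap α x) = ap α (f x)

/-- Function-style surjective morphisms. -/
structure Surj (F : FusionSystem S) (F' : FusionSystem S') (α : S →* Ω') : Prop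
    extends Morph F F' α where
  range : α.range = S'
  lift : ∀ {P' f'}, Mor F' P' f' → ∃ f, Mor F (preimageAlong α P') f ∧
    ∀ x ∈ preimageAlong α P', f' (ap α x) = ap α (f x)

/-- Function-style factor systems. -/
structure Factor (F : FusionSystem S) (T : Subgroup Ω) (α : S →* Ω') (F' : FusionSystem S') :
    Prop where
  ker : preimageAlong α ⊥ = T
  range : α.range = S'
  mor_iff : ∀ {P' f'}, Mor F' P' f' ↔ P' ≤ S' ∧ ∃ f, Mor F (preimageAlong α P') f ∧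
    ∀ x ∈ preimageAlong α P', f' (ap α x) = ap α (f x)

theorem isMorphism_iff : F.IsMorphism F' α ↔ Morph F F' α := by
  constructor
  · rintro ⟨h1, h2⟩
    refine ⟨fun x hx => by rw [ap_of_mem _ hx]; exact h1 _, ?_⟩
    rintro P f ⟨φ, hφ, e⟩
    obtain ⟨φ', hφ', h⟩ := h2 P φ hφ
    refine ⟨_, mor_hfun hφ', fun x hx => ?_⟩
    rw [(inducedAlong_iff.1 h).2.2.2 x hx, hfun_of_mem _ hx, e]
  · intro h
    refine ⟨fun s => by rw [← ap_coe]; exact h.mem s s.2, fun P φ hφ => ?_⟩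
    have hm := mor_hfun hφ
    obtain ⟨f', ⟨φ', hφ', e⟩, e'⟩ := h.mor hm
    refine ⟨φ', hφ', inducedAlong_iff.2 ⟨hm.le, fun x hx => hm.mem hx,
      fun x hx => ap_mem_imageAlong hm.le hx, fun x hx => ?_⟩⟩
    rw [hfun_of_mem _ (ap_mem_imageAlong hm.le hx), e, e' x hx]

theorem lift_iff {φ' : P' →* Ω'} : (∃ φ ∈ F.Hom (preimageAlong α P'), InducedAlong α φ φ') ↔
    ∃ f, Mor F (preimageAlong α P') f ∧
      ∀ x ∈ preimageAlong α P', hfun φ' (ap α x) = ap α (f x) := by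
  constructor
  · rintro ⟨φ, hφ, h⟩
    exact ⟨_, mor_hfun hφ, (inducedAlong_iff.1 h).2.2.2⟩
  · rintro ⟨f, hf, e⟩
    obtain ⟨φ, hφ, e'⟩ := id hf
    refine ⟨φ, hφ, inducedAlong_iff.2 ⟨hf.le, fun x hx => (mor_hfun hφ).mem hx,
      fun x hx => (mem_preimageAlong.1 hx).2, fun x hx => ?_⟩⟩
    rw [e x hx, hfun_of_mem _ hx, e']

theorem isSurj_iff : F.IsSurjectiveMorphism F' α ↔ Surj F F' α := by
  constructor
  · rintro ⟨h1, h2, h3⟩
    refine ⟨isMorphism_iff.1 h1, h2, ?_⟩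
    rintro P' f' ⟨φ', hφ', e⟩
    obtain ⟨f, hf, e'⟩ := lift_iff.1 (h3 P' (mor_hfun hφ').le φ' hφ')
    refine ⟨f, hf, fun x hx => ?_⟩
    rw [← e' x hx, hfun_of_mem _ (mem_preimageAlong.1 hx).2, e]
  · intro h
    exact ⟨isMorphism_iff.2 h.toMorph, h.range, fun P' _ φ' hφ' =>
      lift_iff.2 (h.lift (mor_hfun hφ'))⟩

theorem mul_of_lift (hP' : P' ≤ α.range) (hf : Mor F (preimageAlong α P') f)
    (e : ∀ x ∈ preimageAlong α P', f' (ap α x) = ap α (f x)) :
    ∀ x ∈ P', ∀ y ∈ P', f' (x * y) = f' x * f' y := by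
  intro x hx y hy
  obtain ⟨x, hxS, rfl⟩ := mem_range_iff.1 (hP' hx)
  obtain ⟨y, hyS, rfl⟩ := mem_range_iff.1 (hP' hy)
  have h1 : x ∈ preimageAlong α P' := mem_preimageAlong.2 ⟨hxS, hx⟩
  have h2 : y ∈ preimageAlong α P' := mem_preimageAlong.2 ⟨hyS, hy⟩
  rw [← ap_mul α hxS hyS, e _ (Subgroup.mul_mem _ h1 h2), hf.map_mul h1 h2,
    ap_mul α (hf.mem h1) (hf.mem h2), e x h1, e y h2]

theorem isFactorSystem_iff : F.IsFactorSystem T α F' ↔ Factor F T α F' := by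
  have key : α.range = S' → ((∀ (P' : Subgroup Ω') (φ' : P' →* Ω'), φ' ∈ F'.Hom P' ↔ P' ≤ S' ∧
      ∃ φ ∈ F.Hom (preimageAlong α P'), InducedAlong α φ φ') ↔ ∀ P' f', Mor F' P' f' ↔ P' ≤ S' ∧
        ∃ f, Mor F (preimageAlong α P') f ∧
          ∀ x ∈ preimageAlong α P', f' (ap α x) = ap α (f x)) := by
    intro hr
    refine Iff.trans ?_ (hom_eq_iff_of_pred (E := F') (H := fun P' => {φ' | P' ≤ S' ∧
      ∃ φ ∈ F.Hom (preimageAlong α P'), InducedAlong α φ φ'}) (fun P' φ' => ?_) ?_ ?_)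
    · exact forall_congr' fun P' => ⟨fun h => Set.ext h, fun h φ' => h ▸ Iff.rfl⟩
    · exact and_congr_right fun _ => lift_iff
    · rintro P' f' g' ⟨h1, f, hf, e⟩ e'
      exact ⟨h1, f, hf, fun x hx => by rw [← e' _ (mem_preimageAlong.1 hx).2, e x hx]⟩
    · rintro P' f' ⟨h1, f, hf, e⟩
      exact mul_of_lift (hr ▸ h1) hf e
  constructor
  · rintro ⟨h1, h2, h3, h4⟩
    refine ⟨?_, h3, fun {P' f'} => (key h3).1 h4 P' f'⟩
    ext x
    rw [mem_preimageAlong, Subgroup.mem_bot]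
    exact ⟨fun ⟨hx, h⟩ => (h2 ⟨x, hx⟩).1 (by rwa [ap_of_mem _ hx] at h),
      fun h => ⟨h1 h, by rw [ap_of_mem _ (h1 h)]; exact (h2 _).2 h⟩⟩
  · intro h
    refine ⟨h.ker ▸ preimageAlong_le, fun s => ?_, h.range, (key h.range).2 fun _ _ => h.mor_iff⟩
    rw [← h.ker, mem_preimageAlong, ap_coe, Subgroup.mem_bot]
    exact ⟨fun h => ⟨s.2, h⟩, fun h => h.2⟩

theorem Morph.ker_stronglyClosed (h : Morph F F' α) : F.StronglyClosed (preimageAlong α ⊥) := by
  refine stronglyClosed_iff.2 ⟨preimageAlong_le, fun P f hf x hx hk => ?_⟩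
  obtain ⟨f', hf', e⟩ := h.mor hf
  refine mem_preimageAlong.2 ⟨hf.mem hx, ?_⟩
  rw [← e x hx, show ap α x = 1 from (mem_preimageAlong.1 hk).2, hf'.map_one]
  exact Subgroup.one_mem _

theorem Morph.preimage_stronglyClosed (h : Morph F F' α) (hQ : F'.StronglyClosed Q') :
    F.StronglyClosed (preimageAlong α Q') := by
  refine stronglyClosed_iff.2 ⟨preimageAlong_le, fun P f hf x hx hk => ?_⟩
  obtain ⟨f', hf', e⟩ := h.mor hf
  refine mem_preimageAlong.2 ⟨hf.mem hx, ?_⟩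
  rw [← e x hx]
  exact StronglyClosed.mem hQ hf' (ap_mem_imageAlong hf.le hx) (mem_preimageAlong.1 hk).2

theorem Morph.image_le (h : Morph F F' α) (hP : P ≤ S) : imageAlong α P ≤ S' :=
  (imageAlong_le_iff hP).2 fun x hx => h.mem x (hP hx)

theorem img_induced (hf : Mor F P f) (e : ∀ x ∈ P, f' (ap α x) = ap α (f x)) (hR : R ≤ P) :
    img f' (imageAlong α R) = imageAlong α (img f R) := by
  have hRS := hR.trans hf.le
  apply le_antisymm
  · refine img_le_iff.2 fun y hy => ?_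
    obtain ⟨x, hx, rfl⟩ := (mem_imageAlong' hRS).1 hy
    rw [e x (hR hx)]; exact ap_mem_imageAlong (hf.mono hR).img_le (subset_img hx)
  · refine (imageAlong_le_iff (hf.mono hR).img_le).2 fun y hy => ?_
    obtain ⟨x, hx, rfl⟩ := (hf.mem_img' hR).1 hy
    rw [← e x (hR hx)]; exact subset_img (ap_mem_imageAlong hRS hx)

theorem exists_induced (hk : F.StronglyClosed (preimageAlong α ⊥)) (hf : Mor F P f) :
    ∃ f' : Ω' → Ω', ∀ x ∈ P, f' (ap α x) = ap α (f x) := by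
  classical
  refine ⟨fun y => if h : ∃ x ∈ P, ap α x = y then ap α (f h.choose) else 1, fun x hx => ?_⟩
  have h : ∃ y ∈ P, ap α y = ap α x := ⟨x, hx, rfl⟩
  beta_reduce
  rw [dif_pos h]
  obtain ⟨h1, h2⟩ := h.choose_spec
  rw [← mem_ker_iff (hf.mem h1) (hf.mem hx), ← hf.map_inv h1, ← hf.map_mul (P.inv_mem h1) hx]
  exact StronglyClosed.mem hk hf (P.mul_mem (P.inv_mem h1) hx)
    ((mem_ker_iff (hf.le h1) (hf.le hx)).2 h2)

theorem factorSysData [Finite S] (hk : F.StronglyClosed (preimageAlong α ⊥)) (hr : α.range = S') :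
    SysData S' (fun P' f' => P' ≤ S' ∧ ∃ f, Mor F (preimageAlong α P') f ∧
      ∀ x ∈ preimageAlong α P', f' (ap α x) = ap α (f x)) := by
  subst hr
  have pre : ∀ {P' : Subgroup Ω'}, P' ≤ α.range → ∀ y ∈ P',
      ∃ x ∈ preimageAlong α P', ap α x = y := fun h y hy => by
    obtain ⟨x, hx, rfl⟩ := mem_range_iff.1 (h hy)
    exact ⟨x, mem_preimageAlong.2 ⟨hx, hy⟩, rfl⟩
  refine ⟨fun h => h.1, ?_, fun ⟨h1, f, hf, e⟩ => mul_of_lift h1 hf e, ?_, ?_, ?_, ?_, ?_⟩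
  · rintro P' f' ⟨h1, f, hf, e⟩ y hy
    obtain ⟨x, hx, rfl⟩ := pre h1 y hy
    rw [e x hx]; exact ap_mem_range _ (hf.mem hx)
  · rintro P' f' ⟨h1, f, hf, e⟩ y hy z hz h
    obtain ⟨x, hx, rfl⟩ := pre h1 y hy
    obtain ⟨w, hw, rfl⟩ := pre h1 z hz
    rw [e x hx, e w hw, ← mem_ker_iff (hf.mem hx) (hf.mem hw), ← hf.map_inv hx,
      ← hf.map_mul (Subgroup.inv_mem _ hx) hw, StronglyClosed.mem_iff hk hf
      (Subgroup.mul_mem _ (Subgroup.inv_mem _ hx) hw)] at h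
    exact (mem_ker_iff (hf.le hx) (hf.le hw)).1 h
  · rintro P' f' g' ⟨h1, f, hf, e⟩ e'
    exact ⟨h1, f, hf, fun x hx => by rw [← e' _ (mem_preimageAlong.1 hx).2, e x hx]⟩
  · intro P' s' h1 hs
    obtain ⟨s, hsS, rfl⟩ := mem_range_iff.1 hs
    exact ⟨h1, _, mor_conj F preimageAlong_le hsS, fun x hx =>
      (ap_conj α hsS (preimageAlong_le hx)).symm⟩
  · rintro P' Q' f' g' ⟨h1, f, hf, e⟩ ⟨h2, g, hg, e'⟩ h
    have : ∀ x ∈ preimageAlong α P', f x ∈ preimageAlong α Q' := fun x hx =>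
      mem_preimageAlong.2 ⟨hf.mem hx, e x hx ▸ h _ (mem_preimageAlong.1 hx).2⟩
    exact ⟨h1, _, hf.comp hg this, fun x hx => by beta_reduce; rw [e x hx, e' _ (this x hx)]⟩
  · rintro P' f' ⟨h1, f, hf, e⟩
    have h2 : img f' P' = imageAlong α (img f (preimageAlong α P')) := by
      rw [← img_induced hf e le_rfl, image_preimage h1]
    have h3 : preimageAlong α (img f' P') = img f (preimageAlong α P') := by
      rw [h2, preimage_image_of_le hf.img_le]
      rw [← StronglyClosed.img_eq hk hf (preimageAlong_mono bot_le)]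
      exact img_mono (preimageAlong_mono bot_le)
    obtain ⟨i, hi, i1, -⟩ := hf.inv' h3.symm
    obtain ⟨i', ei⟩ := exists_induced hk hi
    refine ⟨i', ⟨h2 ▸ imageAlong_le_range, i, hi, ei⟩, fun y hy => ?_⟩
    obtain ⟨x, hx, rfl⟩ := pre h1 y hy
    rw [e x hx, ei _ (h3 ▸ subset_img hx), i1 x hx]

theorem exists_factor [Finite S] (hT : F.StronglyClosed T) (hk : preimageAlong α ⊥ = T)
    (hr : α.range = S') : ∃ F' : FusionSystem S', Factor F T α F' :=
  ⟨(factorSysData (hk ▸ hT) hr).sys, hk, hr, SysData.mor_iff _⟩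

theorem preimage_bot_mk (hT : T ≤ S) [(T.subgroupOf S).Normal] :
    preimageAlong (QuotientGroup.mk' (T.subgroupOf S)) ⊥ = T := by
  ext x
  rw [mem_preimageAlong, Subgroup.mem_bot]
  constructor
  · rintro ⟨hx, h⟩
    rw [ap_of_mem _ hx] at h
    exact (QuotientGroup.eq_one_iff (N := T.subgroupOf S) ⟨x, hx⟩).1 h
  · intro h
    exact ⟨hT h, by rw [ap_of_mem _ (hT h)]; exact (QuotientGroup.eq_one_iff _).2 h⟩

theorem exists_factor_mk [Finite S] (hT : F.StronglyClosed T) [(T.subgroupOf S).Normal] :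
    ∃ E : FusionSystem (⊤ : Subgroup (S ⧸ T.subgroupOf S)),
      Factor F T (QuotientGroup.mk' (T.subgroupOf S)) E :=
  exists_factor hT (preimage_bot_mk hT.1) (QuotientGroup.range_mk' _)

theorem StronglyClosed.subgroupOf_normal (hT : F.StronglyClosed T) : (T.subgroupOf S).Normal :=
  ⟨fun _ hn g => StronglyClosed.conj_mem hT g.2 hn⟩

theorem Surj.factor (h : Surj F F' α) : Factor F (preimageAlong α ⊥) α F' := by
  refine ⟨rfl, h.range, fun {P' f'} => ⟨fun hf => ⟨hf.le, h.lift hf⟩, ?_⟩⟩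
  rintro ⟨h1, f, hf, e⟩
  obtain ⟨g', hg', e'⟩ := h.mor hf
  rw [image_preimage (h.range ▸ h1)] at hg'
  refine hg'.congr fun y hy => ?_
  obtain ⟨x, hx, rfl⟩ := mem_range_iff.1 (h.range ▸ h1 hy)
  have := mem_preimageAlong.2 ⟨hx, hy⟩
  rw [e x this, e' x this]

theorem Factor.mem (h : Factor F T α F') {x : Ω} (hx : x ∈ S) : ap α x ∈ S' :=
  h.range ▸ ap_mem_range α hx

theorem Factor.le (h : Factor F T α F') : T ≤ S := h.ker ▸ preimageAlong_le

theorem Factor.ap_eq_iff (h : Factor F T α F') {x y : Ω} (hx : x ∈ S) (hy : y ∈ S) :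
    ap α x = ap α y ↔ x⁻¹ * y ∈ T := by rw [← h.ker, mem_ker_iff hx hy]

theorem Factor.ap_eq_one_iff (h : Factor F T α F') {x : Ω} (hx : x ∈ S) :
    ap α x = 1 ↔ x ∈ T := by
  rw [← h.ker, mem_preimageAlong, Subgroup.mem_bot]; exact ⟨fun h => ⟨hx, h⟩, fun h => h.2⟩

theorem Factor.unique {F'' : FusionSystem S'} (h : Factor F T α F') (h' : Factor F T α F'') :
    F' = F'' := sys_ext fun _ _ => h.mor_iff.trans h'.mor_iff.symm

/-- A map defined on a subgroup containing the kernel induces a map of the factor system. -/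
theorem Factor.mor_of_le (h : Factor F T α F') (hT : F.StronglyClosed T) (hf : Mor F P f)
    (hTP : T ≤ P) : ∃ f', Mor F' (imageAlong α P) f' ∧ ∀ x ∈ P, f' (ap α x) = ap α (f x) := by
  obtain ⟨f', e⟩ := exists_induced (h.ker ▸ hT) hf
  have e' := preimage_image_of_le (α := α) hf.le (h.ker ▸ hTP)
  exact ⟨f', h.mor_iff.2 ⟨h.range ▸ imageAlong_le_range, f, e'.symm ▸ hf, e'.symm ▸ e⟩, e⟩

theorem Factor.surj_of_ext (h : Factor F T α F') (hT : F.StronglyClosed T)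
    (hext : ∀ P f, Mor F P f → ∃ g, Mor F (P ⊔ T) g ∧ ∀ x ∈ P, (f x)⁻¹ * g x ∈ T) :
    Surj F F' α := by
  refine ⟨⟨fun x hx => h.mem hx, fun {P f} hf => ?_⟩, h.range, fun hf => (h.mor_iff.1 hf).2⟩
  obtain ⟨g, hg, e⟩ := hext P f hf
  obtain ⟨g', hg', e'⟩ := h.mor_of_le hT hg le_sup_right
  refine ⟨g', hg'.mono (imageAlong_mono le_sup_left), fun x hx => ?_⟩
  rw [e' x (Subgroup.mem_sup_left hx)]
  exact ((h.ap_eq_iff (hf.mem hx) (hg.mem (Subgroup.mem_sup_left hx))).2 (e x hx)).symm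

theorem Factor.surj [Finite S] [Fact p.Prime] (h : Factor F T α F') (hS : IsPGroup p S)
    (hF : F.IsSaturated p) (hT : F.StronglyClosed T) : Surj F F' α :=
  h.surj_of_ext hT fun _ _ hf => puig_ext hS hF hT hf

theorem Factor.surj_of_normal (h : Factor F T α F') (hT : F.IsNormal T) : Surj F F' α := by
  refine h.surj_of_ext (IsNormal.stronglyClosed hT) fun P f hf => ?_
  obtain ⟨g, hg, e, -⟩ := IsNormal.ext hT hf
  exact ⟨g, hg, fun x hx => by simp [e x hx]⟩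

theorem Factor.surj_of_bot (h : Factor F ⊥ α F') : Surj F F' α :=
  h.surj_of_normal (isNormal_bot F)

theorem Surj.pre (h : Surj F F' α) (hP : P' ≤ S') {y : Ω'} (hy : y ∈ P') :
    ∃ x ∈ preimageAlong α P', ap α x = y := by
  obtain ⟨x, hx, rfl⟩ := mem_range_iff.1 (h.range ▸ hP hy)
  exact ⟨x, mem_preimageAlong.2 ⟨hx, hy⟩, rfl⟩

theorem Surj.image_preimage (h : Surj F F' α) (hP : P' ≤ S') :
    imageAlong α (preimageAlong α P') = P' := Fusion.image_preimage (h.range ▸ hP)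

theorem Surj.finite [Finite S] (h : Surj F F' α) : Finite S' := by
  rw [← h.range]; exact Finite.of_surjective _ α.rangeRestrict_surjective

theorem Surj.pgroup (h : Surj F F' α) (hS : IsPGroup p S) : IsPGroup p S' := by
  rw [← h.range]; exact hS.of_surjective _ α.rangeRestrict_surjective

theorem Surj.image_stronglyClosed (h : Surj F F' α) (hQ : F.StronglyClosed Q)
    (hk : preimageAlong α ⊥ ≤ Q) : F'.StronglyClosed (imageAlong α Q) := by
  refine stronglyClosed_iff.2 ⟨h.image_le hQ.1, fun P' f' hf' y hy hyQ => ?_⟩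
  obtain ⟨f, hf, e⟩ := h.lift hf'
  obtain ⟨x, hx, rfl⟩ := (mem_imageAlong' hQ.1).1 hyQ
  have := mem_preimageAlong.2 ⟨hQ.1 hx, hy⟩
  rw [e x this]; exact ap_mem_imageAlong hQ.1 (StronglyClosed.mem hQ hf this hx)

theorem Surj.image_normal (h : Surj F F' α) (hQ : F.IsNormal Q) :
    F'.IsNormal (imageAlong α Q) := by
  refine isNormal_iff.2 ⟨h.image_le hQ.1, fun P' f' hf' => ?_⟩
  obtain ⟨f, hf, e⟩ := h.lift hf'
  obtain ⟨g, hg, e1, e2⟩ := IsNormal.ext hQ hf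
  obtain ⟨g', hg', e'⟩ := h.mor hg
  rw [imageAlong_sup preimageAlong_le hQ.1, h.image_preimage hf'.le] at hg'
  refine ⟨g', hg', fun y hy => ?_, by rw [img_induced hg e' le_sup_right, e2]⟩
  obtain ⟨x, hx, rfl⟩ := h.pre hf'.le hy
  rw [e x hx, e' x (Subgroup.mem_sup_left hx), e1 x hx]

theorem Surj.image_central (h : Surj F F' α) (hQ : F.IsCentral Q) :
    F'.IsCentral (imageAlong α Q) := by
  refine isCentral_iff.2 ⟨h.image_le hQ.1, fun P' f' hf' => ?_⟩
  obtain ⟨f, hf, e⟩ := h.lift hf'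
  obtain ⟨g, hg, e1, e2⟩ := IsCentral.ext hQ hf
  obtain ⟨g', hg', e'⟩ := h.mor hg
  rw [imageAlong_sup preimageAlong_le hQ.1, h.image_preimage hf'.le] at hg'
  refine ⟨g', hg', fun y hy => ?_, fun y hy => ?_⟩
  · obtain ⟨x, hx, rfl⟩ := h.pre hf'.le hy
    rw [e x hx, e' x (Subgroup.mem_sup_left hx), e1 x hx]
  · obtain ⟨x, hx, rfl⟩ := (mem_imageAlong' hQ.1).1 hy
    rw [e' x (Subgroup.mem_sup_right hx), e2 x hx]

/-- The homomorphism between automizers induced by a morphism. -/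
theorem Morph.exists_autHom [Finite S] (h : Morph F F' α) (hP : P ≤ S)
    (hP' : imageAlong α P = P') : ∃ ρ : F.autGroup P →* MulAut P',
      (∀ β, ρ β ∈ F'.autGroup P') ∧
        ∀ β : F.autGroup P, ∀ x ∈ P, afun (ρ β) (ap α x) = ap α (afun (β : MulAut P) x) := by
  have key : ∀ β : F.autGroup P, ∃ γ ∈ F'.autGroup P',
      ∀ x ∈ P, afun γ (ap α x) = ap α (afun (β : MulAut P) x) := by
    intro β
    have hm := (mem_autGroup hP).1 β.2
    obtain ⟨f', hf', e⟩ := h.mor hm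
    have e2 := img_induced hm e le_rfl
    rw [img_afun, hP'] at e2
    rw [hP'] at hf'
    obtain ⟨γ, hγ, eγ⟩ := hf'.exists_aut e2
    exact ⟨γ, hγ, fun x hx => by rw [eγ _ (hP' ▸ ap_mem_imageAlong hP hx), e x hx]⟩
  choose ρ h1 h2 using key
  refine ⟨MonoidHom.mk' ρ fun a b => aut_ext fun y hy => ?_, h1, h2⟩
  obtain ⟨x, hx, rfl⟩ := (mem_imageAlong' hP).1 (hP' ▸ hy)
  rw [h2 _ x hx, afun_mul _ _ hy, h2 _ x hx, h2 _ _ (afun_mem _ hx), Subgroup.coe_mul,
    afun_mul _ _ hx]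

theorem Surj.exists_lift_aut [Finite S] (h : Surj F F' α) (hP : P ≤ S)
    (hk : preimageAlong α ⊥ ≤ P) (hP' : imageAlong α P = P') {γ : MulAut P'}
    (hγ : γ ∈ F'.autGroup P') :
    ∃ β ∈ F.autGroup P, ∀ x ∈ P, afun γ (ap α x) = ap α (afun β x) := by
  subst hP'
  obtain ⟨f, hf, e⟩ := h.lift ((mem_autGroup (h.image_le hP)).1 hγ)
  rw [preimage_image_of_le hP hk] at hf e
  have := finite_of_le hP
  obtain ⟨β, hβ, eβ⟩ := hf.exists_aut (hf.img_eq_self fun x hx => by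
    rw [← preimage_image_of_le (α := α) hP hk]
    exact mem_preimageAlong.2 ⟨hf.mem hx, e x hx ▸ afun_mem γ (ap_mem_imageAlong hP hx)⟩)
  exact ⟨β, hβ, fun x hx => by rw [eβ x hx, e x hx]⟩

theorem mem_normalizer_of_ap (hP : P ≤ S) (hk : preimageAlong α ⊥ ≤ P) {s : Ω} (hs : s ∈ S)
    (h : ap α s ∈ Subgroup.normalizer (imageAlong α P : Set Ω')) : s ∈ normalizerIn S P := by
  refine mem_normalizerIn.2 ⟨hs, fun x => ?_⟩
  have e := preimage_image_of_le hP hk
  by_cases hx : x ∈ S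
  · rw [← e, mem_preimageAlong, mem_preimageAlong, ap_conj α hs hx,
      ← Subgroup.mem_normalizer_iff.1 h]
    simp [hx, S.mul_mem (S.mul_mem hs hx) (S.inv_mem hs)]
  · refine ⟨fun h => absurd (hP h) hx, fun h => absurd ?_ hx⟩
    simpa [mul_assoc] using S.mul_mem (S.mul_mem (S.inv_mem hs) (hP h)) hs

theorem Surj.automized [Finite S] [Fact p.Prime] (h : Surj F F' α) (hA : F.IsFullyAutomized p P)
    (hk : preimageAlong α ⊥ ≤ P) : F'.IsFullyAutomized p (imageAlong α P) := by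
  have hP := hA.1
  obtain ⟨ρ, h1, h2⟩ := h.toMorph.exists_autHom hP rfl
  have := finite_autGroup F hP
  have h3 := ((IsFullyAutomized.sylowIn hA).subgroupOf le_rfl).map ρ
  refine isFullyAutomized_iff.2 ⟨h.image_le hP, ?_⟩
  convert h3 using 1
  · ext γ
    constructor
    · intro hγ
      obtain ⟨s', hs', e⟩ := mem_autInducedBy.1 hγ
      obtain ⟨s, hs, rfl⟩ := mem_range_iff.1 (h.range ▸ hs')
      obtain ⟨β, eβ⟩ := exists_cAut (mem_normalizer_of_ap hP hk hs (mem_normalizer_of_afun e)).2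
      have hβ := mem_autInducedBy.2 ⟨s, hs, eβ⟩
      refine ⟨⟨β, autInducedBy_le_autGroup F hP hβ⟩, hβ, aut_ext fun y hy => ?_⟩
      obtain ⟨x, hx, rfl⟩ := (mem_imageAlong' hP).1 hy
      rw [h2 _ x hx, e _ hy, eβ x hx, ap_conj α hs (hP hx)]
    · rintro ⟨β, hβ, rfl⟩
      obtain ⟨s, hs, e⟩ := mem_autInducedBy.1 hβ
      refine mem_autInducedBy.2 ⟨_, h.mem s hs, fun y hy => ?_⟩
      obtain ⟨x, hx, rfl⟩ := (mem_imageAlong' hP).1 hy
      rw [h2 _ x hx, ← ap_conj α hs (hP hx), ← e x hx]; rfl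
  · ext γ
    constructor
    · intro hγ
      obtain ⟨β, hβ, e⟩ := h.exists_lift_aut hP hk rfl hγ
      refine ⟨⟨β, hβ⟩, hβ, aut_ext fun y hy => ?_⟩
      obtain ⟨x, hx, rfl⟩ := (mem_imageAlong' hP).1 hy
      rw [h2 _ x hx, e x hx]
    · rintro ⟨β, -, rfl⟩; exact h1 β

theorem Surj.img_lift [Finite S] (h : Surj F F' α) (hP' : P' ≤ S')
    (hf : Mor F (preimageAlong α P') f)
    (e : ∀ x ∈ preimageAlong α P', f' (ap α x) = ap α (f x)) :
    img f (preimageAlong α P') = preimageAlong α (img f' P') := by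
  have h2 : img f' P' = imageAlong α (img f (preimageAlong α P')) := by
    rw [← img_induced hf e le_rfl, h.image_preimage hP']
  rw [h2, preimage_image_of_le hf.img_le]
  rw [← StronglyClosed.img_eq h.ker_stronglyClosed hf (preimageAlong_mono bot_le)]
  exact img_mono (preimageAlong_mono bot_le)

theorem Surj.receptive [Finite S] [Fact p.Prime] (h : Surj F F' α) (hS : IsPGroup p S)
    (hA : F.IsFullyAutomized p P) (hr : F.IsReceptive P) (hk : preimageAlong α ⊥ ≤ P) :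
    F'.IsReceptive (imageAlong α P) := by
  have hP := hA.1
  refine isReceptive_iff.2 ⟨h.image_le hP, fun R' f' hf' e' => ?_⟩
  obtain ⟨f, hf, e⟩ := h.lift hf'
  have e1 := h.img_lift hf'.le hf e
  rw [e', preimage_image_of_le hP hk] at e1
  obtain ⟨ρ, h1, h2⟩ := h.toMorph.exists_autHom hP rfl
  set M := ((autInducedBy S' (imageAlong α P)).comap ρ).map (F.autGroup P).subtype with hM
  have hMm : ∀ β, β ∈ M ↔ β ∈ F.autGroup P ∧ ∃ t ∈ S, ∀ x ∈ P,
      ap α (afun β x) = ap α (t * x * t⁻¹) := by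
    intro β
    constructor
    · rintro ⟨β, hβ, rfl⟩
      obtain ⟨t', ht', et⟩ := mem_autInducedBy.1 hβ
      obtain ⟨t, ht, rfl⟩ := mem_range_iff.1 (h.range ▸ ht')
      exact ⟨β.2, t, ht, fun x hx => by
        rw [ap_conj α ht (hP hx), ← et _ (ap_mem_imageAlong hP hx), h2 β x hx]; rfl⟩
    · rintro ⟨hβ, t, ht, et⟩
      refine ⟨⟨β, hβ⟩, mem_autInducedBy.2 ⟨_, h.mem t ht, fun y hy => ?_⟩, rfl⟩
      obtain ⟨x, hx, rfl⟩ := (mem_imageAlong' hP).1 hy
      rw [h2 _ x hx, et x hx, ap_conj α ht (hP hx)]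
  have hRk : preimageAlong α ⊥ ≤ preimageAlong α R' := preimageAlong_mono bot_le
  obtain ⟨c, hc, ψ, hψ, eψ⟩ := exists_ext_mod hS hr (M := M)
    ((IsFullyAutomized.sylowIn hA).of_le (fun β hβ => by
      obtain ⟨t, ht, et⟩ := mem_autInducedBy.1 hβ
      exact (hMm β).2 ⟨autInducedBy_le_autGroup F hP hβ, t, ht, fun x hx => by rw [et x hx]⟩)
      (Subgroup.map_subtype_le _)) le_rfl (Subgroup.map_subtype_le _) hf e1
    (N := preimageAlong α (Next S' R' f')) (fun n hn => mem_normalizer_of_ap preimageAlong_le hRk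
      (preimageAlong_le hn) (by
        rw [h.image_preimage hf'.le]; exact (mem_preimageAlong.1 hn).2.1.2))
    (fun n hn β hβ eβ => by
      obtain ⟨hnS, hn1, t', ht', et⟩ := mem_preimageAlong.1 hn
      obtain ⟨t, ht, rfl⟩ := mem_range_iff.1 (h.range ▸ ht')
      refine (hMm β).2 ⟨hβ, t, ht, fun y hy => ?_⟩
      obtain ⟨x, hx, rfl⟩ := hf.mem_img.1 (e1 ▸ hy)
      have hxS := preimageAlong_le hx
      have hx' := (mem_preimageAlong.1 hx).2
      rw [eβ x hx, ap_conj α ht (hf.mem hx), ← e x hx, ← et _ hx', ← ap_conj α hnS hxS, e]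
      exact mem_preimageAlong.2 ⟨S.mul_mem (S.mul_mem hnS hxS) (S.inv_mem hnS), by
        rw [ap_conj α hnS hxS]; exact conj_mem_of_mem_normalizerIn hn1 hx'⟩)
  obtain ⟨-, t, ht, et⟩ := (hMm c).1 hc
  obtain ⟨g', hg', eg⟩ := h.mor ((hψ.mono le_sup_left).comp (mor_conj F le_rfl (S.inv_mem ht))
    fun x hx => hψ.mem (Subgroup.mem_sup_left hx))
  rw [h.image_preimage Next_le] at hg'
  refine ⟨g', hg', fun y hy => ?_⟩
  obtain ⟨x, hx, rfl⟩ := h.pre hf'.le hy
  have hfx : f x ∈ P := e1 ▸ subset_img hx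
  rw [eg x (preimageAlong_mono hf'.le_Next hx), eψ x hx, ap_conj α (S.inv_mem ht)
    (hP (afun_mem _ hfx)), et _ hfx, e x hx, ap_conj α ht (hP hfx), ap_inv α ht]
  group

theorem Surj.saturated [Finite S] [Fact p.Prime] (h : Surj F F' α) (hS : IsPGroup p S)
    (hF : F.IsSaturated p) : F'.IsSaturated p := by
  intro P' hP'
  obtain ⟨P₀, h0, hA, hr⟩ := hF (preimageAlong α P') preimageAlong_le
  obtain ⟨f, hf, rfl⟩ := isConj_iff.1 h0
  have hk : preimageAlong α ⊥ ≤ img f (preimageAlong α P') := by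
    rw [← StronglyClosed.img_eq h.ker_stronglyClosed hf (preimageAlong_mono bot_le)]
    exact img_mono (preimageAlong_mono bot_le)
  obtain ⟨f', hf', e⟩ := h.mor hf
  refine ⟨_, ?_, h.automized hA hk, h.receptive hS hA hr hk⟩
  rw [← img_induced hf e le_rfl, h.image_preimage hP']
  rw [h.image_preimage hP'] at hf'
  exact hf'.isConj

theorem Factor.saturated [Finite S] [Fact p.Prime] (h : Factor F T α F') (hS : IsPGroup p S)
    (hF : F.IsSaturated p) (hT : F.StronglyClosed T) : F'.IsSaturated p :=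
  (h.surj hS hF hT).saturated hS hF

end Cfsg.Agent.Fusion
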