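import Cfsg.Agent.Lib.Fusion.Bal

/-! Normal subsystems of the fusion system of a constrained group. -/

set_option autoImplicit false
set_option linter.unusedSectionVars false

namespace Cfsg.Agent.Fusion

open Cfsg Cfsg.FusionSystem
open scoped commutatorElement

section
variable {Ω : Type*} [Group Ω] {S : Subgroup Ω} {F : FusionSystem S} {p : ℕ}
  {T : Subgroup Ω} {E D : FusionSystem T} [hp : Fact p.Prime] [Finite S]

theorem weakly_le_of_aut (hS : IsPGroup p S) (hE : E.IsWeaklyNormalIn F p)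
    (hD : D.IsWeaklyNormalIn F p) (h : E.autGroup T ≤ D.autGroup T) : E.IsSubsystemOf D := by
  have := finite_of_le hE.2.2.2.1.1
  refine isSubsystemOf_iff.2 fun P f hf => ?_
  obtain ⟨α, hα, g, hg, e⟩ := HasPrimeToPIndexIn.frattini (pgroup_of_le hS hE.2.2.2.1.1) hE.1
    opp_primeToP hf
  exact ((hg.sub (opp_le_of_weakly hS hE hD)).comp ((mem_autGroup le_rfl).1 (h hα))
    fun x hx => hg.mem hx).congr fun x hx => (e x hx).symm

theorem aut_le_of_coprime {D : FusionSystem S} (hS : IsPGroup p S) (hF : F.IsSaturated p)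
    (h : ∀ α ∈ F.autGroup S, (orderOf α).Coprime p → α ∈ D.autGroup S) :
    F.autGroup S ≤ D.autGroup S := fun α hα => by
  have := finite_mulAut S
  obtain ⟨a, ha, b, hb, e, ⟨k, hk⟩, hc⟩ := Transfer.exists_pPart p α
  rw [e]
  exact mul_mem (autInducedBy_le_autGroup D le_rfl (pelt_inner hS hF
    ((Subgroup.zpowers_le).2 hα ha) hk)) (h b ((Subgroup.zpowers_le).2 hα hb) hc)
end

variable {G : Type*} [Group G] [Finite G] {p : ℕ} [hp : Fact p.Prime] {S T H H' W Q : Subgroup G}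
  {E : FusionSystem T}

theorem pelt_mem_of_sylow (hT : SylowIn p T H) {a : G} (ha : a ∈ H)
    (hn : a ∈ Subgroup.normalizer (T : Set G)) {k : ℕ} (hk : a ^ p ^ k = 1) : a ∈ T :=
  (hT.of_le (le_inf hT.le Subgroup.le_normalizer) (inf_le_left : normalizerIn H T ≤ H)).conj
    (D := Subgroup.zpowers a) ((Subgroup.zpowers_le).2 ⟨ha, hn⟩) (pgroup_zpowers hk) |>.elim
    fun c hc => by
      have := conj_mem_of_mem_normalizer (inv_mem hc.1.2) (hc.2 a (Subgroup.mem_zpowers a))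
      simpa [mul_assoc] using this

theorem frattini_sub (hT : SylowIn p T H) (h1 : T ≤ H') (h2 : H' ≤ H)
    (hn : ∀ h ∈ H, ∀ x ∈ H', h * x * h⁻¹ ∈ H') (h : normalizerIn H T ≤ H') : H ≤ H' := fun g hg => by
  obtain ⟨c, hc, e⟩ := (hT.of_le h1 h2).conj (D := T.map (MulAut.conj g).toMonoidHom)
    (by rintro _ ⟨x, hx, rfl⟩; exact hn g hg x (h1 hx)) (hT.pgroup.map _)
  have := h ⟨mul_mem (h2 hc) hg, mem_normalizer_of_finite fun x hx => by
    have := e _ ⟨x, hx, rfl⟩
    simpa [mul_assoc] using this⟩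
  exact (Subgroup.mul_mem_cancel_left _ hc).1 this

theorem decomp_norm (hT : SylowIn p T H) {g : G} (hg : g ∈ normalizerIn H T) :
    ∃ a ∈ T, ∃ b ∈ Subgroup.zpowers g, (orderOf b).Coprime p ∧ g = a * b := by
  obtain ⟨a, ha, b, hb, e, ⟨k, hk⟩, hc⟩ := Transfer.exists_pPart p g
  have := (Subgroup.zpowers_le).2 hg ha
  exact ⟨a, pelt_mem_of_sylow hT this.1 this.2 hk, b, hb, hc, e⟩

theorem exists_cAut' {g : G} (hg : g ∈ Subgroup.normalizer (W : Set G))
    (hc : (orderOf g).Coprime p) :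
    ∃ σ : MulAut W, (orderOf σ).Coprime p ∧ ∀ x ∈ W, afun σ x = g * x * g⁻¹ :=
  ⟨cAut W ⟨g, hg⟩, hc.coprime_dvd_left ((orderOf_map_dvd _ _).trans (Subgroup.orderOf_mk _ _).dvd),
    fun _ hx => afun_cAut _ hx⟩

theorem exists_coprime_conj {σ : MulAut W} (hc : (orderOf σ).Coprime p) {g : G}
    (e : ∀ x ∈ W, afun σ x = g * x * g⁻¹) :
    ∃ g : G, (orderOf g).Coprime p ∧ ∀ x ∈ W, afun σ x = g * x * g⁻¹ := by
  obtain ⟨m, h1, h2⟩ := exists_pow_coprime_ext g hc
  have : σ = cAut W ⟨g, mem_normalizer_of_afun e⟩ := aut_ext fun x hx => by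
    rw [e x hx, afun_cAut _ hx]
  refine ⟨g ^ m, h1, fun x hx => ?_⟩
  rw [← pow_eq_self_of_modEq h2, this, ← map_pow, afun_cAut _ hx]
  rfl

theorem group_mem_aut (hW : W ≤ S) {σ : MulAut W} {g : G} (e : ∀ x ∈ W, afun σ x = g * x * g⁻¹) :
    σ ∈ (groupFusionSystem S).autGroup W :=
  (mem_autGroup hW).2 (mor_group_iff.2 ⟨hW, fun _ hx => hW (afun_mem _ hx), g, e⟩)

theorem afun_conjNormal [Q.Normal] (g : G) : ∀ x ∈ Q, afun (MulAut.conjNormal g : MulAut Q) x =
    g * x * g⁻¹ := fun x hx => by rw [afun_of_mem _ hx, MulAut.conjNormal_apply]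

theorem group_sub_normal (hS : SylowIn p S ⊤) [H.Normal] (e : S ⊓ H = T) (hTH : T ≤ H) :
    (fusionSystemOfSubgroup H T hTH).IsNormalIn (groupFusionSystem S) p := by
  subst e
  rw [groupFusionSystem_eq]
  exact sub_isNormalIn hS le_top (by rw [Subgroup.normalizer_eq_top])

theorem sub_aut_le (hT : SylowIn p T H) {D : FusionSystem T}
    (h : ∀ b ∈ normalizerIn H T, (orderOf b).Coprime p → Mor D T fun x => b * x * b⁻¹) :
    (fusionSystemOfSubgroup H T hT.le).autGroup T ≤ D.autGroup T := fun α hα => by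
  rw [autGroup_sub le_rfl] at hα
  obtain ⟨g, hg, e⟩ := mem_autInducedBy.1 hα
  have hg' : g ∈ normalizerIn H T := ⟨hg, mem_normalizer_of_afun e⟩
  obtain ⟨a, ha, b, hb, hc, rfl⟩ := decomp_norm hT hg'
  have hb' := (Subgroup.zpowers_le).2 hg' hb
  exact ((h b hb' hc).comp (mor_conj D le_rfl ha) fun x hx =>
    conj_mem_of_mem_normalizerIn hb' hx).mem_autGroup fun x hx => by rw [e x hx]; group

/-- The preimage of the good automorphism group of `Q`. -/
def KG (S : Subgroup G) (E : FusionSystem T) (p : ℕ) (Q : Subgroup G) [Q.Normal] : Subgroup G :=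
  (GE (groupFusionSystem S) E p Q).comap MulAut.conjNormal

/-- The normal subgroup realizing `E`. -/
def HG (S : Subgroup G) (E : FusionSystem T) (p : ℕ) (Q : Subgroup G) [Q.Normal] : Subgroup G :=
  T ⊔ (⁅KG S E p Q, KG S E p Q⁆ ⊔ Transfer.res p (KG S E p Q))

variable [Q.Normal]

theorem KG_normal (hQ : Q ≤ S) : (KG S E p Q).Normal := ⟨fun n hn g => by
  have := GE_conj hQ _ (group_mem_aut hQ (afun_conjNormal g)) _ hn
  rwa [← map_inv, ← map_mul, ← map_mul] at this⟩

theorem le_KG (hQ : Q ≤ S) (hT : T ≤ S) : T ≤ KG S E p Q := fun t ht =>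
  autT_le_GE hT hQ (mem_autInducedBy.2 ⟨t, ht, afun_conjNormal t⟩)

theorem HG_le (hQ : Q ≤ S) (hT : T ≤ S) : HG S E p Q ≤ KG S E p Q :=
  sup_le (le_KG hQ hT) (sup_le (Subgroup.commutator_le.2 fun a ha b hb => by
    rw [commutatorElement_def]
    exact mul_mem (mul_mem (mul_mem ha hb) (inv_mem ha)) (inv_mem hb)) (Transfer.res_le _))

theorem group_centric' (hQ : Q ≤ S) (hC : Subgroup.centralizer (Q : Set G) ≤ Q) :
    (groupFusionSystem S).IsCentric Q :=
  isCentric_of_weaklyClosed (IsNormal.weaklyClosed (group_normal_of_normal ‹_› hQ))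
    (inf_le_right.trans hC)

theorem HG_spec (hS : SylowIn p S ⊤) (hQ : Q ≤ S) (hC : Subgroup.centralizer (Q : Set G) ≤ Q)
    (hE : E.IsNormalIn (groupFusionSystem S) p) : (HG S E p Q).Normal ∧ S ⊓ HG S E p Q = T := by
  have hT := IsNormalIn.sc hE
  have hK := KG_normal (E := E) (p := p) hQ
  have hsc : ∀ t ∈ T, ∀ g : G, g * t * g⁻¹ ∈ S → g * t * g⁻¹ ∈ T := fun t ht g h => by
    rw [groupFusionSystem_eq] at hT
    exact (stronglyClosed_sub_iff.1 hT).2 t ht g trivial h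
  have h1 := hS.inf_normal (N := KG S E p Q) le_top fun c _ d hd => hK.conj_mem d hd c
  have hL : (⁅KG S E p Q, KG S E p Q⁆ ⊔ Transfer.res p (KG S E p Q)).Normal := by
    have : (Transfer.res p (KG S E p Q)).Normal := Subgroup.normalizer_eq_top_iff.1 (top_le_iff.1
      (le_trans (by rw [Subgroup.normalizer_eq_top]) (Transfer.normalizer_le_normalizer_res _)))
    infer_instance
  have h2 := Transfer.IsSyl.inf_commutator_sup_res_le (p := p) (Q₁ := T)
    ⟨h1.le, h1.pgroup, h1.not_dvd_relIndex⟩ fun x hx k hk hkx => by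
      obtain ⟨t, ht, et⟩ := mem_autInducedBy.1 ((good_main hS.pgroup hE Q hQ
        (group_centric' hQ hC)).2.2 ⟨hx.2, mem_autInducedBy.2 ⟨x, hx.1, afun_conjNormal x⟩⟩)
      have hz : t⁻¹ * x ∈ Q := hC fun y hy => by
        have := et y hy
        rw [afun_conjNormal x y hy] at this
        calc y * (t⁻¹ * x) = t⁻¹ * (t * y * t⁻¹) * x := by group
          _ = _ := by rw [← this]; group
      have h3 := (GE_le hE.1.2.2 hk).1.2 _ hz
      rw [afun_conjNormal k _ hz] at h3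
      have h4 : k * t * k⁻¹ ∈ T := hsc t ht k (by
        have := S.mul_mem hkx.1 (S.inv_mem (hQ (‹Q.Normal›.conj_mem _ hz k)))
        convert this using 1; group)
      have := mul_mem (mul_mem h4 (StronglyClosed.conj_mem hT (hQ hz) h3)) (inv_mem ht)
      convert this using 1; group
  refine ⟨⟨fun n hn g => ?_⟩, le_antisymm (fun x hx => ?_) (le_inf hT.1 le_sup_left)⟩
  · have : HG S E p Q ≤ (HG S E p Q).comap (MulAut.conj g).toMonoidHom := by
      refine sup_le (fun t ht => ?_) fun l hl => Subgroup.mem_sup_right (hL.conj_mem l hl g)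
      obtain ⟨j, hj⟩ := hS.pgroup ⟨t, hT.1 ht⟩
      have m := hK.conj_mem t (le_KG hQ hT.1 ht) g
      obtain ⟨k, hk, e⟩ := h1.conj (D := Subgroup.zpowers (g * t * g⁻¹)) ((Subgroup.zpowers_le).2 m)
        (pgroup_zpowers (k := j) (by
          rw [conj_pow, show t ^ p ^ j = 1 from congrArg Subtype.val hj]; group))
      have h3 := hsc t ht (k * g) (by
        have := (e _ (Subgroup.mem_zpowers _)).1
        rw [show k * g * t * (k * g)⁻¹ = k * (g * t * g⁻¹) * k⁻¹ by group]; exact this)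
      have h4 := mul_mem (Subgroup.mem_sup_left h3 : _ ∈ HG S E p Q) (Subgroup.mem_sup_right
        (Subgroup.mem_sup_left (Subgroup.commutator_mem_commutator (inv_mem (le_KG hQ hT.1 h3))
          (inv_mem hk))))
      show g * t * g⁻¹ ∈ HG S E p Q
      rw [show g * t * g⁻¹ = k * g * t * (k * g)⁻¹ * ⁅(k * g * t * (k * g)⁻¹)⁻¹, k⁻¹⁆ by
        rw [commutatorElement_def]; group]
      exact h4
    exact this hn
  · obtain ⟨t, ht, l, hl, rfl⟩ := (mem_sup_of_le_normalizer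
      (by rw [Subgroup.normalizer_eq_top]; exact le_top)).1 hx.2
    exact mul_mem ht (h2 ⟨⟨(Subgroup.mul_mem_cancel_left _ (hT.1 ht)).1 hx.1,
      HG_le hQ hT.1 (Subgroup.mem_sup_right hl)⟩, hl⟩)

theorem norm_sup {g : G} (hg : g ∈ Subgroup.normalizer (T : Set G)) :
    g ∈ Subgroup.normalizer ((Q ⊔ T : Subgroup G) : Set G) :=
  mem_normalizer_of_finite fun x hx => by
    have : Q ⊔ T ≤ (Q ⊔ T).comap (MulAut.conj g).toMonoidHom :=
      sup_le (fun y hy => Subgroup.mem_sup_left (‹Q.Normal›.conj_mem y hy g))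
        fun y hy => Subgroup.mem_sup_right (conj_mem_of_mem_normalizer hg hy)
    exact this hx

theorem le_HG' : T ≤ HG S E p Q := le_sup_left

theorem HG_eq (hS : SylowIn p S ⊤) (hQ : Q ≤ S) (hC : Subgroup.centralizer (Q : Set G) ≤ Q)
    (hE : E.IsNormalIn (groupFusionSystem S) p) :
    SylowIn p T (HG S E p Q) ∧ E = fusionSystemOfSubgroup (HG S E p Q) T le_HG' := by
  obtain ⟨h1, h2⟩ := HG_spec hS hQ hC hE
  have hT := IsNormalIn.sc hE
  have hF := hE.1.2.1
  have h3 : SylowIn p T (HG S E p Q) :=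
    (congrArg (fun X => SylowIn p X (HG S E p Q)) h2).mp
      (hS.inf_normal le_top fun c _ d hd => h1.conj_mem d hd c)
  have h4 := group_sub_normal hS h2 (le_HG' (E := E) (p := p))
  obtain ⟨g1, g2, -⟩ := good_main hS.pgroup hE Q hQ (group_centric' hQ hC)
  refine ⟨h3, sub_antisymm (weakly_le_of_aut hS.pgroup hE.1 h4.1 (aut_le_of_coprime h3.pgroup hE.1.1
    fun α hα hc => ?_)) (weakly_le_of_aut hS.pgroup h4.1 hE.1 (sub_aut_le h3 fun b hb hc => ?_))⟩
  · have hc' := IsSaturated.fullyCentralized hS.pgroup hF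
      (fullyNormalized_of_normal hT.1 (StronglyClosed.le_normalizer hT))
    obtain ⟨β, b1, b2, b3⟩ := XA_coprime hT.1 (core_ext hS.pgroup hE (TC.top hT) hc' hα) hc
    have hV := centric_Vc hc'
    have b4 := EGood.of_YE (E := E) hV.1 ((TC.top hT).mono (le_inf le_sup_left le_rfl) inf_le_right)
      ⟨b1, (((mem_autGroup le_rfl).1 hα).mono inf_le_right).congr fun x hx => (b3 x hx.2).symm⟩ b2
    obtain ⟨-, -, g, eg⟩ := mor_group_iff.1 ((mem_autGroup hV.1).1 b1.1)
    obtain ⟨g, hg, eg⟩ := exists_coprime_conj b2 eg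
    obtain ⟨σ, s1, s2⟩ := exists_cAut' (norm_sup (Q := Q) (mem_normalizer_of_afun eg)) hg
    have hW := sup_le hQ hV.1
    have := ((good_main hS.pgroup hE _ hV.1 hV).1 _ le_sup_right hW σ (group_mem_aut hW s2) s1 β b4
      fun x hx => by rw [s2 x (Subgroup.mem_sup_right hx), eg x hx]).res le_sup_left
      (b' := MulAut.conjNormal g) fun x hx => by
        rw [s2 x (Subgroup.mem_sup_left hx), afun_conjNormal g x hx]
    rw [autGroup_sub le_rfl]
    exact mem_autInducedBy.2 ⟨g, Subgroup.mem_sup_right (Subgroup.mem_sup_right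
      (Transfer.mem_res this.mem_GE hg)), fun x hx => by
        rw [← b3 x hx, eg x (Subgroup.mem_sup_left hx)]⟩
  · obtain ⟨σ, s1, s2⟩ := exists_cAut' (norm_sup (Q := Q) hb.2) hc
    have hW := sup_le hQ hT.1
    have := g1 _ le_sup_left hW σ (group_mem_aut hW s2) s1 _ (g2 _ (HG_le hQ hT.1 hb.1)
      (hc.coprime_dvd_left (orderOf_map_dvd _ _))) fun x hx => by
        rw [s2 x (Subgroup.mem_sup_left hx), afun_conjNormal b x hx]
    exact ((this.mem_YE hE.1.2.2).2.mono (le_inf le_sup_right le_rfl)).congr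
      fun x hx => s2 x (Subgroup.mem_sup_right hx)

theorem inf_eq_of_sylow (hS : IsPGroup p S) (hT : T ≤ S) (h : SylowIn p T H) : S ⊓ H = T :=
  le_antisymm (h.max _ inf_le_right (pgroup_of_le hS inf_le_left) (le_inf hT h.le)) (le_inf hT h.le)

theorem le_HG (hS : SylowIn p S ⊤) (hQ : Q ≤ S) (hE : E.IsNormalIn (groupFusionSystem S) p)
    [hn : H.Normal] (h : SylowIn p T H) (e : E = fusionSystemOfSubgroup H T h.le) :
    H ≤ HG S E p Q := by
  have hT := IsNormalIn.sc hE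
  have hK := KG_normal (E := E) (p := p) hQ
  have h1 : H ≤ H ⊓ KG S E p Q := frattini_sub h (le_inf h.le (le_KG hQ hT.1)) inf_le_left
    (fun g _ x hx => ⟨hn.conj_mem x hx.1 g, hK.conj_mem x hx.2 g⟩) fun g hg => by
      obtain ⟨a, ha, b, hb, hc, eg⟩ := decomp_norm h hg
      have hb' := (Subgroup.zpowers_le).2 hg hb
      refine ⟨hg.1, eg ▸ mul_mem (le_KG hQ hT.1 ha) ?_⟩
      obtain ⟨σ, s1, s2⟩ := exists_cAut' (norm_sup (Q := Q) hb'.2) hc
      have hW := sup_le hQ hT.1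
      refine ((EGood.of_YE hW ((TC.top hT).mono (le_inf le_sup_right le_rfl) inf_le_right)
        ⟨⟨group_mem_aut hW s2, fun x hx => ?_⟩, ?_⟩ s1).res le_sup_left fun x hx => by
          rw [s2 x (Subgroup.mem_sup_left hx), afun_conjNormal b x hx]).mem_GE
      · refine (inf_eq_of_sylow hS.pgroup hT.1 h).le ⟨hW (mul_mem (inv_mem hx) (afun_mem _ hx)), ?_⟩
        have := mul_mem (hn.conj_mem b hb'.1 x⁻¹) (inv_mem hb'.1)
        rw [s2 x hx, show x⁻¹ * (b * x * b⁻¹) = x⁻¹ * b * x⁻¹⁻¹ * b⁻¹ by group]; exact this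
      · rw [e]
        exact (mor_sub_conj h.le inf_le_right hb'.1 fun x hx =>
          conj_mem_of_mem_normalizerIn hb' hx.2).congr fun x hx => (s2 x hx.1).symm
  rw [← Transfer.IsSyl.res_sup (p := p) ⟨h.le, h.pgroup, h.not_dvd_relIndex⟩]
  exact sup_le ((Transfer.res_mono (h1.trans inf_le_right)).trans (le_sup_right.trans le_sup_right))
    le_sup_left

theorem le_of_same (hS : IsPGroup p S) (hQ : Q ≤ S) (hC : Subgroup.centralizer (Q : Set G) ≤ Q)
    (hT : T ≤ S) [hn : H.Normal] [hn' : H'.Normal] (h : SylowIn p T H) (h1 : T ≤ H') (h2 : H' ≤ H)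
    (e : fusionSystemOfSubgroup H T h.le = fusionSystemOfSubgroup H' T h1) : H ≤ H' := by
  refine frattini_sub h h1 h2 (fun g _ x hx => hn'.conj_mem x hx g) fun g hg => ?_
  have h3 := mor_sub_conj h.le le_rfl hg.1 fun x hx => conj_mem_of_mem_normalizerIn hg hx
  rw [e] at h3
  obtain ⟨-, -, k, hk, ek⟩ := mor_subgroup_iff.1 h3
  have h4 : k⁻¹ * g ∈ centralizerIn H T := mem_centralizerIn.2 ⟨mul_mem (inv_mem (h2 hk)) hg.1,
    fun x hx => by
      calc _ = k⁻¹ * (g * x * g⁻¹) * k := by group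
        _ = x := by rw [ek x hx]; group⟩
  obtain ⟨a, ha, b, hb, hc, eg⟩ := decomp_norm h (centralizerIn_le_normalizerIn h4)
  have hb' := (Subgroup.zpowers_le).2 h4 hb
  have h5 : b ∈ Q := hC fun x hx => by
    have := afun_fix_step (pgroup_of_le hS hQ) (β := MulAut.conjNormal b)
      (hc.coprime_dvd_left (orderOf_map_dvd _ _)) hx (by
        have m := mul_mem (inv_mem hx) (afun_mem (MulAut.conjNormal b) hx)
        rw [afun_conjNormal b _ m]
        refine (mem_centralizerIn.1 hb').2 _ ((inf_eq_of_sylow hS hT h).le ⟨hQ m, ?_⟩)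
        have := mul_mem (hn.conj_mem b hb'.1 x⁻¹) (inv_mem hb'.1)
        rw [afun_conjNormal b x hx, show x⁻¹ * (b * x * b⁻¹) = x⁻¹ * b * x⁻¹⁻¹ * b⁻¹ by group]
        exact this)
    rw [afun_conjNormal b x hx, mul_inv_eq_iff_eq_mul] at this
    exact this.symm
  obtain ⟨j, hj⟩ := hS ⟨b, hQ h5⟩
  rw [eq_one_of_coprime_pelt hc (k := j) (congrArg Subtype.val hj), mul_one] at eg
  exact (Subgroup.mul_mem_cancel_left _ (inv_mem hk)).1 (eg ▸ h1 ha)

end Cfsg.Agent.Fusion
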