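import Cfsg.Agent.Lib.Fusion.PPrime3
import Cfsg.Agent.Lib.Fusion.Coc
import Cfsg.Agent.Lib.Solv.Frattini


/-! Subsystems of `p`-power index. -/

set_option autoImplicit false
set_option linter.unusedSectionVars false

namespace Cfsg.Agent.Fusion

open Cfsg Cfsg.FusionSystem MulAction

theorem transfer_cent {G A : Type*} [Group G] [Finite G] [CommGroup A] {p : ℕ} [hp : Fact p.Prime]
    {H : Subgroup G} (φ : H →* A) (hA : ∀ a : A, a ^ p = 1) {P : Subgroup G} (hP : IsPGroup p P)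
    {t : G ⧸ H → G} (ht : ∀ y, (t y : G ⧸ H) = y) (h1 : ∀ u ∈ P, ∀ y, φ ⟨_, coc_mem ht u y⟩ = 1)
    (h2 : ∀ a : G, (∀ u ∈ P, a⁻¹ * u * a ∈ H) → ∀ m ∈ Subgroup.centralizer (P : Set G),
      ∀ hm : a⁻¹ * m * a ∈ H, φ ⟨_, hm⟩ = 1)
    {g : G} (hg : g ∈ Subgroup.centralizer (P : Set G)) : MonoidHom.transfer φ g = 1 := by
  classical
  haveI := Fintype.ofFinite (G ⧸ H)
  let c : G → G ⧸ H → A := fun g y => φ ⟨_, coc_mem ht g y⟩
  have hc : IsCoc c := fun a b y => by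
    simp only [c, ← map_mul]; congr 1; exact Subtype.ext (by simp [mul_smul, mul_assoc])
  rw [transfer_eq_prod φ ht]
  let f : G ⧸ H → A := fun y => if ∀ u ∈ P, u • y = y then c g y else 1
  have e1 : ∏ y, c g y = ∏ y, f y := prod_eq_of_orbits P fun y₀ => by
    by_cases h : ∀ u ∈ P, u • y₀ = y₀
    · refine finprod_mem_congr rfl ?_
      rintro _ ⟨u, rfl⟩
      have : u • y₀ = y₀ := h u u.2
      simp only [this, f, if_pos h]
    · have a1 : ∀ y ∈ orbit P y₀, c g y = c g y₀ := by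
        rintro _ ⟨u, rfl⟩
        have b1 := hc g u y₀
        have b2 := hc u g y₀
        rw [hg u u.2, b1] at b2
        simp only [c, h1 u u.2, mul_one, one_mul] at b2
        exact b2
      have a2 : ∀ y ∈ orbit P y₀, f y = 1 := by
        rintro _ ⟨u, rfl⟩
        refine if_neg fun h' => h fun v hv => ?_
        have := h' _ (P.mul_mem (P.mul_mem u.2 hv) (P.inv_mem u.2))
        change _ • (u : G) • y₀ = (u : G) • y₀ at this
        rwa [← mul_smul, inv_mul_cancel_right, mul_smul, smul_left_cancel_iff] at this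
      rw [finprod_mem_congr rfl a1, finprod_mem_congr rfl a2, finprod_mem_one]
      obtain ⟨k, hk⟩ := hP.card_orbit y₀
      have hk0 : k ≠ 0 := by
        rintro rfl
        rw [pow_zero, Nat.card_eq_one_iff_unique] at hk
        exact h fun u hu => congrArg Subtype.val
          (hk.1.elim (⟨_, mem_orbit y₀ (⟨u, hu⟩ : P)⟩ : orbit P y₀) ⟨_, mem_orbit_self y₀⟩)
      rw [← finprod_set_coe_eq_finprod_mem, finprod_eq_prod_of_fintype, Finset.prod_const,
        Finset.card_univ, ← Nat.card_eq_fintype_card, hk, ← Nat.succ_pred_eq_of_ne_zero hk0,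
        pow_succ', pow_mul, hA, one_pow]
  have e2 : ∏ y, f y = ∏ _y : G ⧸ H, (1 : A) :=
    prod_eq_of_orbits (Subgroup.centralizer (P : Set G)) fun y₀ => by
      rw [finprod_mem_one]
      have a0 : ∀ (m : Subgroup.centralizer (P : Set G)) (y : G ⧸ H), (∀ u ∈ P, u • y = y) →
          ∀ u ∈ P, u • (m • y) = m • y := fun m y h u hu => by
        change u • (m : G) • y = (m : G) • y
        rw [← mul_smul, m.2 u hu, mul_smul, h u hu]
      by_cases h : ∀ u ∈ P, u • y₀ = y₀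
      · obtain ⟨l, l1, l2⟩ := IsCoc.orbit_transfer (U := Subgroup.centralizer (P : Set G))
          (c := fun a y => c a y) (fun a b y => hc a b y) y₀ le_rfl
        have a1 : l = 1 := MonoidHom.ext fun m => by
          rw [l1 rfl m]
          have b1 : (m : G) • y₀ = y₀ := m.2
          have b2 := h2 (t y₀) (fun u hu => by simpa [h u hu] using coc_mem ht u y₀) m m.1.2
            (by simpa [b1] using coc_mem ht m y₀)
          simpa [c, b1] using b2
        rw [finprod_mem_congr (g := fun y => c g y) rfl (by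
          rintro _ ⟨m, rfl⟩; exact if_pos (a0 m y₀ h)), l2 ⟨g, hg⟩, a1]
        simp [MonoidHom.transfer_def _ default, Subgroup.leftTransversals.diff]
      · refine finprod_mem_of_eqOn_one ?_
        rintro _ ⟨m, rfl⟩
        exact if_neg fun h' => h (by simpa using a0 m⁻¹ _ h')
  exact e1.trans (e2.trans Finset.prod_const_one)

variable {Ω : Type*} [Group Ω] {S : Subgroup Ω} {F : FusionSystem S}
  {P Q R T U : Subgroup Ω} {E D : FusionSystem T} {f g : Ω → Ω} {p : ℕ}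
  [hp : Fact p.Prime] [Finite S]

theorem ppow_iff : E.HasPPowerIndexIn F p ↔ E.IsSubsystemOf F ∧ F.hyperfocalSubgroup p ≤ T ∧
    ∀ P, P ≤ T → ∀ α ∈ F.autGroup P, (orderOf α).Coprime p → α ∈ E.autGroup P :=
  and_congr_right fun _ => and_congr_right fun _ => forall₂_congr fun _ _ => Transfer.res_le_iff

theorem HasPPowerIndexIn.mem (h : E.HasPPowerIndexIn F p) (hP : P ≤ T) {α : MulAut P}
    (hα : α ∈ F.autGroup P) (hc : (orderOf α).Coprime p) : α ∈ E.autGroup P :=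
  (ppow_iff.1 h).2.2 P hP α hα hc

theorem sc_of_hyp_le (hS : IsPGroup p S) (hF : F.IsSaturated p) (hT : T ≤ S)
    (hn : S ≤ Subgroup.normalizer (T : Set Ω)) (h : F.hyperfocalSubgroup p ≤ T) :
    F.StronglyClosed T := by
  refine stronglyClosed_iff.2 ⟨hT, fun P f hf x hx hxT => ?_⟩
  obtain ⟨s, hs, e⟩ := mor_mod_hyp hS hF hf
  have := T.mul_mem (conj_mem_of_mem_normalizer (hn hs) hxT) (h (e x hx))
  rwa [mul_inv_cancel_left] at this

theorem exists_index_p (hS : IsPGroup p S) (hF : F.IsSaturated p) (hT : T ≤ S)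
    [hn : (T.subgroupOf S).Normal] (hi : (T.subgroupOf S).index = p)
    (h : F.hyperfocalSubgroup p ≤ T) :
    ∃ E : FusionSystem T, E.IsSaturated p ∧ E.HasPPowerIndexIn F p := by
  have hsc := sc_of_hyp_le hS hF hT ((Subgroup.normal_subgroupOf_iff_le_normalizer hT).1 hn) h
  obtain ⟨G, _, _, ι, H, π, hP, hH⟩ := exists_park hS hF
  haveI : IsCyclic (S ⧸ T.subgroupOf S) := isCyclic_of_prime_card hi
  letI : CommGroup (S ⧸ T.subgroupOf S) := IsCyclic.commGroup
  let l : S →* S ⧸ T.subgroupOf S := QuotientGroup.mk' _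
  have hA : ∀ a : S ⧸ T.subgroupOf S, a ^ p = 1 := fun a => by rw [← hi]; exact pow_card_eq_one'
  have hl : ∀ x ∈ S, ap l x = 1 ↔ x ∈ T := fun x hx => by
    rw [ap_of_mem l hx]; exact QuotientGroup.eq_one_iff _
  have hlf : ∀ P f, Mor F P f → ∀ x ∈ P, ap l (f x) = ap l x := fun P f hf x hx => by
    obtain ⟨s, hs, e⟩ := mor_mod_hyp hS hF hf
    have h1 := S.mul_mem (S.mul_mem hs (hf.le hx)) (S.inv_mem hs)
    have := (hl _ (S.mul_mem (S.inv_mem h1) (hf.mem hx))).2 (h (e x hx))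
    rw [ap_mul l (S.inv_mem h1) (hf.mem hx), ap_inv l h1, ap_conj l hs (hf.le hx),
      mul_inv_cancel_comm, inv_mul_eq_one] at this
    exact this.symm
  let Λ : G →* S ⧸ T.subgroupOf S := MonoidHom.transfer (l.comp π)
  have hΛ : ∀ x ∈ S, Λ (ap ι x) = ap l x ^ H.index := fun x hx => by
    rw [← hP.ptr_eq_pow l hx fun k f hf => by
      rw [hlf _ f hf _ (Subgroup.mem_zpowers _), ap_pow l hx], ap_of_mem _ hx, ap_of_mem _ hx]
    rfl
  have hΛ' : ∀ x ∈ S, Λ (ap ι x) = 1 ↔ x ∈ T := fun x hx => by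
    rw [hΛ x hx, ← hl x hx]
    refine ⟨fun e => ?_, fun e => by rw [e, one_pow]⟩
    exact orderOf_eq_one_iff.1 (Nat.eq_one_of_dvd_coprimes
      ((Nat.Prime.coprime_iff_not_dvd hp.out).2 hH) (orderOf_dvd_of_pow_eq_one (hA _))
      (orderOf_dvd_of_pow_eq_one e))
  have hgen : ∀ x ∈ S, x ∉ T → ∀ a, ∃ k : ℕ, Λ (ap ι (x ^ k)) = a := fun x hx hxT a => by
    obtain ⟨k, hk⟩ := (Submonoid.mem_powers_iff _ _).1 (mem_powers_of_prime_card hi
      (mt (hΛ' x hx).1 hxT) (g' := a))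
    exact ⟨k, by rw [ap_pow ι hx, map_pow, hk]⟩
  have hιi : Function.Injective ι := hP.isRealizedBy.1
  have adj : ∀ Q, Q ≤ T → F.IsReceptive Q → ∀ g : G, (∀ x ∈ Q, g * ap ι x * g⁻¹ = ap ι x) →
      ∃ c ∈ centralizerIn S Q, Λ (ap ι c) = Λ g := by
    intro Q hQ hr g hg
    by_cases hc : centralizerIn S Q ≤ T
    · refine ⟨1, Subgroup.one_mem _, ?_⟩
      obtain ⟨t, ht, ht'⟩ := hP.exists_transversal hS hF
      rw [ap_one, map_one]
      refine (transfer_cent (l.comp π) hA (P := imageAlong ι Q)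
        ((hS.to_subgroup _).map _) ht (fun u hu y => ?_) (fun a ha m hm hm' => ?_) fun u hu => ?_).symm
      · obtain ⟨x, hx, rfl⟩ := hu
        have := (QuotientGroup.eq (s := T.subgroupOf S)).2 (h (ht' x y (coc_mem ht _ y)))
        exact this.symm.trans ((QuotientGroup.eq_one_iff _).2 (hQ hx))
      · obtain ⟨f, hf, e⟩ := hP.mor a Q hr.1 fun x hx => ha _ (ap_mem_imageAlong hr.1 hx)
        obtain ⟨i, hi, -, -, -, i4⟩ := hf.inv
        obtain ⟨k, hk, ek⟩ := IsReceptive.ext hr hi i4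
        have h1 : (π ⟨_, hm'⟩).1 ∈ centralizerIn S (img f Q) :=
          mem_centralizerIn.2 ⟨Subtype.prop _, fun y hy => by
            obtain ⟨x, hx, rfl⟩ := hf.mem_img.1 hy
            have h2 := ha _ (ap_mem_imageAlong hr.1 hx)
            rw [e x hx h2, mul_inv_eq_iff_eq_mul, ← Subgroup.coe_mul, ← Subgroup.coe_mul, ← map_mul,
              ← map_mul]
            congr 2
            have := hm _ (ap_mem_imageAlong hr.1 hx)
            refine Subtype.ext ?_
            simp only [Subgroup.coe_mul, mul_assoc, mul_inv_cancel_left]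
            rw [← mul_assoc m, ← this, mul_assoc]⟩
        have h2 := centralizerIn_le_Next (f := i) h1
        have h3 := hk.mem_centralizer_img hi.le_Next h2 (mem_centralizerIn.1 h1).2
        rw [img_congr ek, i4] at h3
        exact (QuotientGroup.eq_one_iff _).2 ((StronglyClosed.mem_iff hsc hk h2).1 (hc h3))
      · obtain ⟨x, hx, rfl⟩ := (mem_imageAlong' hr.1).1 hu
        rw [← mul_inv_eq_iff_eq_mul.1 (hg x hx)]
    · obtain ⟨c, hc1, hc2⟩ := SetLike.not_le_iff_exists.1 hc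
      obtain ⟨k, hk⟩ := hgen c hc1.1 hc2 (Λ g)
      exact ⟨_, Subgroup.pow_mem _ hc1 k, hk⟩
  have D : SysData T fun P f => Mor F P f ∧ P ≤ T ∧ ∃ g, Λ g = 1 ∧
      ∀ x ∈ P, ap ι (f x) = g * ap ι x * g⁻¹ :=
    SysData.ofSub F (fun h => h.1) (fun h => h.2.1)
      (fun h x hx => StronglyClosed.mem hsc h.1 hx (h.2.1 hx))
      (fun ⟨h1, h2, g, h3, h4⟩ e => ⟨h1.congr e, h2, g, h3, fun x hx => e x hx ▸ h4 x hx⟩)
      (fun hP hs => ⟨mor_conj F (hP.trans hT) (hT hs), hP, _, (hΛ' _ (hT hs)).2 hs,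
        fun x hx => ap_conj ι (hT hs) (hT (hP hx))⟩)
      (fun ⟨h1, h2, g, h3, h4⟩ ⟨k1, _, g', k3, k4⟩ e => ⟨h1.comp k1 e, h2, g' * g,
        by rw [map_mul, h3, k3, mul_one], fun x hx => by rw [k4 _ (e x hx), h4 x hx]; group⟩)
      (fun ⟨h1, h2, g, h3, h4⟩ hg e => ⟨hg, StronglyClosed.img_le hsc h1 h2, g⁻¹,
        by rw [map_inv, h3, inv_one], fun y hy => by
          obtain ⟨x, hx, rfl⟩ := h1.mem_img.1 hy
          rw [e x hx, h4 x hx]; group⟩)
  have hsub : D.sys.IsSubsystemOf F := isSubsystemOf_iff.2 fun _ _ h => (D.mor_iff.1 h).1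
  have haut : ∀ Q, Q ≤ T → ∀ α : MulAut Q, α ∈ D.sys.autGroup Q ↔ α ∈ F.autGroup Q ∧ ∃ g, Λ g = 1 ∧
      ∀ x ∈ Q, ap ι (afun α x) = g * ap ι x * g⁻¹ := fun Q hQ α => by
    rw [mem_autGroup hQ, mem_autGroup (hQ.trans hT), D.mor_iff]; simp only [hQ, true_and]
  refine ⟨D.sys, fun P hP' => ?_, ppow_iff.2 ⟨hsub, h, fun P hP' α hα hc => ?_⟩⟩
  · obtain ⟨Q, hQ, hn⟩ := exists_fullyNormalized F (hP'.trans hT)
    obtain ⟨f, hf, rfl⟩ := isConj_iff.1 hQ
    obtain ⟨g, eg⟩ := hP.real P f hf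
    obtain ⟨x, hx, hxT⟩ := SetLike.not_le_iff_exists.1 (show ¬ S ≤ T from fun h => hp.out.ne_one
      (by rw [← hi, Subgroup.subgroupOf_eq_top.2 h, Subgroup.index_top]))
    obtain ⟨k, hk⟩ := hgen x hx hxT (Λ g)⁻¹
    have hs := S.pow_mem hx k
    have hn' := fullyNormalized_img hn (mor_conj F normalizerIn_le hs)
    rw [← hf.img_comp'] at hn'
    have hf' : Mor D.sys P fun y => x ^ k * f y * (x ^ k)⁻¹ := D.mor_iff.2
      ⟨hf.comp (mor_conj F le_rfl hs) fun _ hy => hf.mem hy, hP', ap ι (x ^ k) * g,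
        by rw [map_mul, hk, inv_mul_cancel], fun y hy => by
          rw [ap_conj ι hs (hf.mem hy), eg y hy]; group⟩
    have hQ := hf'.img_le
    have hc := hf'.isConj
    generalize img (fun y => x ^ k * f y * (x ^ k)⁻¹) P = Q at hn' hQ hc
    have hr := IsSaturated.receptive' hS hF hn'
    refine ⟨Q, hc, isFullyAutomized_iff.2 ⟨hQ, ?_⟩, isReceptive_iff.2 ⟨hQ, fun R φ hφ e => ?_⟩⟩
    · have := finite_autGroup F hn'.1
      have h1 := (IsFullyAutomized.sylowIn (IsSaturated.fullyAutomized hS hF hn')).inf_normal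
        (IsSubsystemOf.autGroup_le hsub hQ) fun a ha α hα => by
          obtain ⟨h1, g, h2, e⟩ := (haut Q hQ α).1 hα
          obtain ⟨g', e'⟩ := hP.real Q _ ((mem_autGroup hn'.1).1 ha)
          refine (haut Q hQ _).2 ⟨Subgroup.mul_mem _ (Subgroup.mul_mem _ ha h1) (Subgroup.inv_mem _ ha),
            g' * g * g'⁻¹, by simp [h2], fun x hx => ?_⟩
          have h3 := afun_mem a⁻¹ hx
          have h4 := e' _ h3
          rw [afun_afun_inv a hx] at h4
          rw [afun_mul _ _ hx, afun_mul _ _ h3, e' _ (afun_mem α h3), e _ h3, h4]; group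
      rwa [le_antisymm (show autInducedBy S Q ⊓ D.sys.autGroup Q ≤ autInducedBy T Q from ?_)
        (le_inf (autInducedBy_mono hT) (autInducedBy_le_autGroup _ hQ))] at h1
      rintro σ ⟨h2, h3⟩
      obtain ⟨s, hs, es⟩ := mem_autInducedBy.1 h2
      obtain ⟨-, g, h4, e⟩ := (haut Q hQ σ).1 h3
      obtain ⟨c, hc, ec⟩ := adj Q hQ hr (g⁻¹ * ap ι s) fun x hx => by
        have := e x hx
        rw [es x hx, ap_conj ι hs (hn'.1 hx)] at this
        rw [show g⁻¹ * ap ι s * ap ι x * (g⁻¹ * ap ι s)⁻¹ = g⁻¹ * (ap ι s * ap ι x * (ap ι s)⁻¹) * g by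
          group, this]; group
      refine mem_autInducedBy.2 ⟨s * c⁻¹, (hΛ' _ (S.mul_mem hs (S.inv_mem hc.1))).1 ?_, fun x hx => ?_⟩
      · rw [ap_mul ι hs (S.inv_mem hc.1), ap_inv ι hc.1, map_mul, map_inv, ec]; simp [h4]
      · rw [es x hx]
        conv_lhs => rw [← (mem_centralizerIn.1 (Subgroup.inv_mem _ hc)).2 x hx]
        group
    · obtain ⟨h1, h2, g, h3, eg⟩ := D.mor_iff.1 hφ
      obtain ⟨ψ, hψ, eψ⟩ := IsReceptive.ext hr h1 e
      obtain ⟨g', eg'⟩ := hP.real _ ψ hψ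
      obtain ⟨c, hc, ec⟩ := adj Q hQ hr (g' * g⁻¹) fun y hy => by
        obtain ⟨x, hx, rfl⟩ := h1.mem_img.1 (e ▸ hy)
        conv_rhs => rw [← eψ x hx, eg' x (h1.le_Next hx)]
        rw [eg x hx]; group
      have hle : Next T R φ ≤ Next S R φ := fun n hn => by
        obtain ⟨a, s, hs, b⟩ := mem_Next.1 hn
        exact mem_Next.2 ⟨normalizerIn_mono hT a, s, hT hs, b⟩
      refine ⟨fun y => c⁻¹ * ψ y * c⁻¹⁻¹, D.mor_iff.2 ⟨(hψ.mono hle).comp
        (mor_conj F le_rfl (S.inv_mem hc.1)) fun _ hy => hψ.mem (hle hy), Next_le,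
        (ap ι c)⁻¹ * g', by rw [map_mul, map_inv, ec]; simp [h3], fun y hy => ?_⟩, fun x hx => ?_⟩
      · rw [ap_conj ι (S.inv_mem hc.1) (hψ.mem (hle hy)), eg' y (hle hy), ap_inv ι hc.1]; group
      · beta_reduce
        rw [eψ x hx]
        exact (mem_centralizerIn.1 (Subgroup.inv_mem _ hc)).2 _ (e ▸ subset_img hx)
  · obtain ⟨g, eg⟩ := hP.real P _ ((mem_autGroup (hP'.trans hT)).1 hα)
    refine mem_of_pow_mem hc (j := 1) ((haut P hP' _).2 ⟨Subgroup.pow_mem _ hα _, g ^ p ^ 1,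
      by rw [map_pow, pow_one, hA], ?_⟩)
    generalize p ^ 1 = n
    induction n with
    | zero => simp [afun_one]
    | succ n ih =>
      intro x hx
      rw [pow_succ', afun_mul _ _ hx, eg _ (afun_mem _ hx), ih x hx, pow_succ']; group

theorem ppow_self (hF : F.IsSaturated p) : F.HasPPowerIndexIn F p :=
  ppow_iff.2 ⟨fun _ _ h => h, hyp_le, fun _ _ _ h _ => h⟩

theorem HasPPowerIndexIn.trans {E' : FusionSystem U} [Finite T] (h : E'.HasPPowerIndexIn E p)
    (h' : E.HasPPowerIndexIn F p) (hU : F.hyperfocalSubgroup p ≤ U) : E'.HasPPowerIndexIn F p :=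
  ppow_iff.2 ⟨IsSubsystemOf.trans h.1 h'.1, hU, fun _ hP _ hα hc => HasPPowerIndexIn.mem h hP
    (HasPPowerIndexIn.mem h' (hP.trans (IsSubsystemOf.le h.1)) hα hc) hc⟩

theorem exists_ppow_aux (n : ℕ) : ∀ (S : Subgroup Ω) [Finite S] (F : FusionSystem S),
    Nat.card S = n → IsPGroup p S → F.IsSaturated p → T ≤ S → F.hyperfocalSubgroup p ≤ T →
      ∃ E : FusionSystem T, E.IsSaturated p ∧ E.HasPPowerIndexIn F p := by
  induction n using Nat.strong_induction_on with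
  | _ n ih =>
    intro S _ F hn hS hF hT h
    rcases hT.eq_or_lt with rfl | hlt
    · exact ⟨F, hF, ppow_self hF⟩
    obtain ⟨M, hM, hTM⟩ := Solv.exists_coatom_ge (H := T.subgroupOf S)
      (mt Subgroup.subgroupOf_eq_top.1 hlt.not_ge)
    have e : (M.map S.subtype).subgroupOf S = M := Subgroup.comap_map_eq_self_of_injective
      S.subtype_injective M
    have hT' : T ≤ M.map S.subtype := fun x hx => ⟨⟨x, hT hx⟩, hTM hx, rfl⟩
    have hM' := Subgroup.map_subtype_le M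
    haveI := hS.isNilpotent
    haveI : ((M.map S.subtype).subgroupOf S).Normal := e.symm ▸ Solv.coatom_normal_of_nilpotent hM
    obtain ⟨E, h1, h2⟩ := exists_index_p hS hF hM' (e.symm ▸ Solv.index_eq_of_coatom_of_isPGroup hS hM)
      (h.trans hT')
    have := finite_of_le hM'
    obtain ⟨E', h3, h4⟩ := ih _ (hn ▸ card_lt_of_lt (lt_of_le_of_ne hM' fun e' => hM.1 (by
      rw [← e, e', Subgroup.subgroupOf_self]))) _ E rfl (pgroup_of_le hS hM') h1 hT'
      ((hyp_mono h2.1).trans h)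
    exact ⟨E', h3, HasPPowerIndexIn.trans h4 h2 h⟩

theorem exists_ppow (hS : IsPGroup p S) (hF : F.IsSaturated p) (hT : T ≤ S)
    (h : F.hyperfocalSubgroup p ≤ T) :
    ∃ E : FusionSystem T, E.IsSaturated p ∧ E.HasPPowerIndexIn F p :=
  exists_ppow_aux _ S F rfl hS hF hT h

theorem sub_of_coprime (hS : IsPGroup p S) (hF : F.IsSaturated p) {D : FusionSystem U} (hU : S ≤ U)
    (h : ∀ P, P ≤ S → F.IsFullyNormalized P → F.IsCentric P → F.IsRadical p P →
      ∀ α ∈ F.autGroup P, (orderOf α).Coprime p → α ∈ D.autGroup P) : F.IsSubsystemOf D := by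
  have D' : SysData S fun P f => Mor F P f ∧ Mor D P f :=
    SysData.ofSub F (fun h => h.1) (fun h => h.1.le) (fun h _ hx => h.1.mem hx)
      (fun h e => ⟨h.1.congr e, h.2.congr e⟩)
      (fun hP hs => ⟨mor_conj F hP hs, mor_conj D (hP.trans hU) (hU hs)⟩)
      (fun h1 h2 e => ⟨h1.1.comp h2.1 e, h1.2.comp h2.2 e⟩) (fun h hg e => ⟨hg, h.2.eq_inv e⟩)
  refine isSubsystemOf_iff.2 fun P f hf => (alperin_ind hS hF D' (fun P hP α hα => ?_) hf).2
  obtain ⟨h1, h2, h3⟩ := alperin_family hS hF hP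
  refine ⟨(mem_autGroup h1.1).1 hα, (mem_autGroup (h1.1.trans hU)).1 ?_⟩
  have := finite_of_le h1.1
  have := finite_mulAut P
  have hs := IsFullyAutomized.sylowIn (IsSaturated.fullyAutomized hS hF h1)
  have : F.autGroup P ≤ D.autGroup P := by
    rw [← Transfer.IsSyl.res_sup (p := p) ⟨hs.le, hs.pgroup, hs.not_dvd_relIndex⟩]
    exact sup_le (Transfer.res_le_iff.2 (h P h1.1 h1 h2 h3))
      ((autInducedBy_mono hU).trans (autInducedBy_le_autGroup D (h1.1.trans hU)))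
  exact this hα

theorem sub_of_ppow (hS : IsPGroup p S) (hE : E.IsSaturated p) (hEF : E.IsSubsystemOf F)
    {D : FusionSystem U} (hD : D.HasPPowerIndexIn F p) (hU : T ≤ U) : E.IsSubsystemOf D := by
  have := finite_of_le (IsSubsystemOf.le hEF)
  exact sub_of_coprime (pgroup_of_le hS (IsSubsystemOf.le hEF)) hE hU fun P hP _ _ _ α hα hc =>
    HasPPowerIndexIn.mem hD (hP.trans hU) (IsSubsystemOf.autGroup_le hEF hP hα) hc

theorem ppow_unique (hS : IsPGroup p S) (hE : E.IsSaturated p) (hD : D.IsSaturated p)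
    (h1 : E.HasPPowerIndexIn F p) (h2 : D.HasPPowerIndexIn F p) : E = D :=
  have := finite_of_le (IsSubsystemOf.le h1.1)
  sub_antisymm (sub_of_ppow hS hE h1.1 h2 le_rfl) (sub_of_ppow hS hD h2.1 h1 le_rfl)

theorem ppow_pres (hS : IsPGroup p S) (hE : E.IsSaturated p) (h : E.HasPPowerIndexIn F p)
    {γ : MulAut T} (hγ : γ ∈ F.autGroup T) : Pres E γ := by
  have hT := IsSubsystemOf.le h.1
  have := finite_of_le hT
  let X : Subgroup Ω → (Ω → Ω) → Prop := fun Q g =>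
    Q ≤ T ∧ ∃ α ∈ F.autGroup Q, (orderOf α).Coprime p ∧ g = afun α
  have hX : ∀ Q, Q ≤ T → ∀ α ∈ F.autGroup Q, (orderOf α).Coprime p →
      Mor (genSys E X) Q (afun α) := fun Q hQ α hα hc =>
    genSys_mem ((mem_autGroup hQ).1 (HasPPowerIndexIn.mem h hQ hα hc)) ⟨hQ, α, hα, hc, rfl⟩
  have e : E = genSys E X := sub_antisymm (sub_of_coprime (pgroup_of_le hS hT) hE le_rfl
    fun P hP _ _ _ α hα hc => (mem_autGroup hP).2
      (hX P hP α (IsSubsystemOf.autGroup_le h.1 hP hα) hc)) genSys_sub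
  rw [e]
  refine genSys_pres ?_
  rintro Q _ ⟨hQ, α, hα, hc, rfl⟩
  obtain ⟨τ, hτ, h2, -⟩ := (((mem_autGroup hT).1 hγ).mono hQ).exists_transport rfl
  exact ⟨(mem_autGroup hQ).1 (HasPPowerIndexIn.mem h hQ hα hc), _, hX _ (img_afun_le hQ) (τ α)
    ((h2 α).2 hα) (by rwa [τ.orderOf_eq]), hτ α⟩

theorem exists_res_aut (hT : F.StronglyClosed T) (hP : P ≤ S) {α : MulAut P}
    (hα : α ∈ F.autGroup P) : ∃ β ∈ F.autGroup (P ⊓ T), (∀ x ∈ P ⊓ T, afun α x = afun β x) ∧
      orderOf β ∣ orderOf α := by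
  have h1 := ((mem_autGroup hP).1 hα).mono (inf_le_left : P ⊓ T ≤ P)
  obtain ⟨β, hβ, e⟩ := h1.exists_aut (by
    rw [StronglyClosed.img_inf hT ((mem_autGroup hP).1 hα), img_afun])
  refine ⟨β, hβ, fun x hx => (e x hx).symm, orderOf_dvd_of_pow_eq_one (aut_ext fun x hx => ?_)⟩
  rw [← afun_pow_of_eq inf_le_left (fun x hx => (e x hx).symm) _ x hx, pow_orderOf_eq_one, afun_one,
    afun_one]

theorem ppow_frattini (hS : IsPGroup p S) (hF : F.IsSaturated p) (hT : F.StronglyClosed T)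
    (hE : E.IsSaturated p) (h : E.HasPPowerIndexIn F p) (hP : P ≤ T) (hf : Mor F P f) :
    ∃ α ∈ autInducedBy S T, ∃ g, Mor E P g ∧ ∀ x ∈ P, f x = afun α (g x) := by
  have hK : ∀ α ∈ autInducedBy S T, Pres E α := fun α hα =>
    ppow_pres hS hE h (autInducedBy_le_autGroup F hT.1 hα)
  have D := restrData (D := twist E hK) hT fun s hs => by
    obtain ⟨σ, e⟩ := exists_cAut (StronglyClosed.le_normalizer hT hs)
    exact ((mem_autGroup le_rfl).1 (le_twist_aut (mem_autInducedBy.2 ⟨s, hs, e⟩))).congr e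
  have h1 := (D.mor_iff.1 (hf.sub (sub_of_coprime hS hF le_rfl fun P hP _ _ _ α hα hc => by
    obtain ⟨β, hβ, e, hd⟩ := exists_res_aut hT hP hα
    exact (mem_autGroup hP).2 (D.mor_iff.2 ⟨(mem_autGroup hP).1 hα, (((mem_autGroup inf_le_right).1
      (HasPPowerIndexIn.mem h inf_le_right hβ (hc.coprime_dvd_left hd))).sub sub_twist).congr
        fun x hx => (e x hx).symm⟩)))).2
  rw [inf_eq_left.2 hP] at h1
  exact twist_mor.1 h1

theorem ppow_weaklyNormal (hS : IsPGroup p S) (hF : F.IsSaturated p) (hT : F.StronglyClosed T)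
    (hE : E.IsSaturated p) (h : E.HasPPowerIndexIn F p) : E.IsWeaklyNormalIn F p :=
  ⟨hE, hF, isInvariantIn_iff.2 ⟨h.1, hT, fun P f hf _ hα => ppow_pres hS hE h hα P f hf,
    fun P f hP hf => by
      obtain ⟨α, hα, h⟩ := ppow_frattini hS hF hT hE h hP hf
      exact ⟨α, autInducedBy_le_autGroup F hT.1 hα, h⟩⟩⟩

theorem normal_of_coprime (hS : IsPGroup p S) (hE : E.IsWeaklyNormalIn F p)
    (h : ∀ α ∈ E.autGroup T, (orderOf α).Coprime p → ∃ g, Mor F (T ⊔ centralizerIn S T) g ∧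
      (∀ x ∈ T, g x = afun α x) ∧ ∀ x ∈ T ⊔ centralizerIn S T, x⁻¹ * g x ∈ T) :
    E.IsNormalIn F p := by
  obtain ⟨h1, hF, h2⟩ := id hE
  have hT := h2.2.1
  have := finite_of_le hT.1
  have := finite_mulAut T
  refine isNormalIn_of hE fun α hα => ?_
  obtain ⟨a, ha, b, hb, e, ⟨k, hk⟩, hc⟩ := Transfer.exists_pPart p α
  have hb' := Subgroup.zpowers_le.2 hα hb
  have h3 : α ∈ (goodData hS hF hT h2.1).sys.autGroup T := e ▸ Subgroup.mul_mem _
    (good_pelt hS hF hT h1 h2.1 le_rfl (Subgroup.zpowers_le.2 hα ha) hk) ((mem_autGroup le_rfl).2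
      ((goodData hS hF hT h2.1).mor_iff.2 ⟨(mem_autGroup le_rfl).1 hb', fun _ => h b hb' hc⟩))
  obtain ⟨g, hg, g1, g2⟩ := ((goodData hS hF hT h2.1).mor_iff.1 ((mem_autGroup le_rfl).1 h3)).2
    (TC.top hT)
  exact ⟨g, hg, g1, fun c hc => g2 c (Subgroup.mem_sup_right hc)⟩

theorem exists_coprime_ext (hTU : T ≤ U) (hg : Mor F U g) (hU : img g U = U) {α : MulAut T}
    (e : ∀ x ∈ T, g x = afun α x) (hc : (orderOf α).Coprime p) :
    ∃ β ∈ F.autGroup U, (∃ m : ℕ, ∃ β₀ ∈ F.autGroup U, (∀ x ∈ U, afun β₀ x = g x) ∧ β = β₀ ^ m) ∧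
      (orderOf β).Coprime p ∧ ∀ x ∈ T, afun β x = afun α x := by
  obtain ⟨β₀, hβ₀, eβ₀⟩ := hg.exists_aut hU
  have := finite_of_le hg.le
  have := finite_mulAut U
  obtain ⟨m, hm1, hm2⟩ := exists_pow_coprime_ext β₀ hc
  exact ⟨β₀ ^ m, Subgroup.pow_mem _ hβ₀ m, ⟨m, β₀, hβ₀, eβ₀, rfl⟩, hm1, fun x hx => by
    rw [afun_pow_of_eq hTU (α := α) (fun x hx => by rw [eβ₀ x (hTU hx), e x hx]) m x hx,
      pow_eq_self_of_modEq hm2]⟩

theorem ppow_normal (hS : IsPGroup p S) (hF : F.IsSaturated p) (hT : F.StronglyClosed T)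
    (hE : E.IsSaturated p) (h : E.HasPPowerIndexIn F p) : E.IsNormalIn F p := by
  refine normal_of_coprime hS (ppow_weaklyNormal hS hF hT hE h) fun α hα hc => ?_
  obtain ⟨g, hg, e⟩ := (TC.top hT).ext hS hF hT (((mem_autGroup le_rfl).1 hα).sub h.1)
  have hU := stronglyClosed_sup_centralizer hS hF hT
  obtain ⟨β, hβ, -, h1, h2⟩ := exists_coprime_ext le_sup_left hg
    (StronglyClosed.img_eq hU hg le_rfl) e hc
  exact ⟨_, (mem_autGroup hU.1).1 hβ, h2, fun x hx => h.2.1 (mem_hyp hU.1 hβ h1 hx)⟩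

theorem hyp_le_of_res (hS : IsPGroup p S) (hF : F.IsSaturated p)
    (h : ∀ P, P ≤ F.hyperfocalSubgroup p → ∀ α ∈ F.autGroup P, (orderOf α).Coprime p →
      ∀ x ∈ P, x⁻¹ * afun α x ∈ U) : F.hyperfocalSubgroup p ≤ U :=
  hyp_le_iff.2 fun P hP α hα hc x hx => by
    haveI : Finite P := finite_of_le hP
    haveI : ((F.hyperfocalSubgroup p).subgroupOf P).Normal := ⟨fun a ha b => conj_mem_hyp (hP b.2) ha⟩
    obtain ⟨k, hk⟩ := (pgroup_of_le hS hP).exists_card_eq
    obtain ⟨c, hc', e⟩ := exists_comm_rep (C := (F.hyperfocalSubgroup p).subgroupOf P)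
      (hk ▸ hc.pow_right k) (fun y => by
        have := mem_hyp hP hα hc y.2
        rwa [afun_of_mem _ y.2] at this) ⟨x, hx⟩
    obtain ⟨β, hβ, eβ, hd⟩ := exists_res_aut (hyp_stronglyClosed hS hF) hP hα
    have := h _ inf_le_right β hβ (hc.coprime_dvd_left hd) c ⟨c.2, hc'⟩
    rw [← eβ _ ⟨c.2, hc'⟩, afun_of_mem _ c.2] at this
    rw [afun_of_mem _ hx]
    have e' := congrArg Subtype.val e
    simp only [Subgroup.coe_mul, Subgroup.coe_inv] at e'
    rwa [e']

theorem ppow_hyp (hS : IsPGroup p S) (hF : F.IsSaturated p) (h : E.HasPPowerIndexIn F p) :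
    E.hyperfocalSubgroup p = F.hyperfocalSubgroup p :=
  le_antisymm (hyp_mono h.1) (hyp_le_of_res hS hF fun _ hP _ hα hc _ hx =>
    mem_hyp (hP.trans h.2.1) (HasPPowerIndexIn.mem h (hP.trans h.2.1) hα hc) hc hx)

theorem exists_op (hS : IsPGroup p S) (hF : F.IsSaturated p) : ∃ E, F.IsPResidual p E :=
  exists_ppow hS hF hyp_le le_rfl

theorem IsPResidual.normal (hS : IsPGroup p S) (hF : F.IsSaturated p)
    {E : FusionSystem (F.hyperfocalSubgroup p)} (h : F.IsPResidual p E) : E.IsNormalIn F p :=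
  ppow_normal hS hF (hyp_stronglyClosed hS hF) h.1 h.2

end Cfsg.Agent.Fusion
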