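import Cfsg.Agent.Lib.Fusion.Invariant
import Cfsg.Agent.Lib.Fusion.Inner

/-! Simple fusion systems: transport along isomorphisms and a group-theoretic criterion. -/

set_option autoImplicit false

namespace Cfsg.Agent.Fusion

open Cfsg Cfsg.FusionSystem

section basic

variable {Ω : Type*} [Group Ω] {S : Subgroup Ω} {F : FusionSystem S} {P Q R T U : Subgroup Ω}
  {f g : Ω → Ω} {p : ℕ}

theorem IsCentric.of_sub {E : FusionSystem S} (hle : E.IsSubsystemOf F) (h : F.IsCentric Q) :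
    E.IsCentric Q :=
  isCentric_iff.2 ⟨h.1, fun f hf => (isCentric_iff.1 h).2 f (isSubsystemOf_iff.1 hle _ _ hf)⟩

theorem IsInvariantIn.eq_of_aut {E : FusionSystem S} (h : E.IsInvariantIn F)
    (ha : F.autGroup S ≤ E.autGroup S) (hf : Mor F P f) : Mor E P f := by
  obtain ⟨α, hα, g, hg, e⟩ := IsInvariantIn.frattini h hf.le hf
  exact (hg.comp ((mem_autGroup le_rfl).1 (ha hα)) fun x hx => hg.mem hx).congr
    fun x hx => (e x hx).symm

variable [Fact p.Prime] [Finite S]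

theorem mor_of_centric (hS : IsPGroup p S) (hF : F.IsSaturated p) {E : FusionSystem S}
    (hE : E.IsSaturated p) (hle : E.IsSubsystemOf F) (hf : Mor F P f) (hQ : F.IsCentric Q) :
    Q ≤ P → Mor E Q f → Mor E P f := by
  refine downward_induction (S := S) (C := fun Q => F.IsCentric Q → Q ≤ P → Mor E Q f → Mor E P f)
    (fun Q _ ih hQ hQP h => ?_) Q hQ.1 hQ
  rcases hQP.eq_or_lt with rfl | hlt
  · exact h
  have := finite_of_le hf.le
  have h1 := lt_normalizerIn (pgroup_of_le hS hf.le) hlt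
  have h2 : normalizerIn P Q ≤ S := normalizerIn_le.trans hf.le
  have := finite_of_le h2
  obtain ⟨g, hg, e⟩ := IsReceptive.ext (IsSaturated.receptive_of_centric hS hE (IsCentric.of_sub hle
    (isCentric_of_conj hQ (hf.mono hQP).isConj))) h rfl
  have h3 : normalizerIn P Q ≤ Next S Q f := fun s hs =>
    hf.mem_Next_of_ext hQP (fun _ _ => rfl) hs.1 hs.2
  obtain ⟨z, hz, ez⟩ := eq_conj_of_eq_on_centric hS hF hQ h1.le
    ((isSubsystemOf_iff.1 hle _ _ hg).mono h3) (hf.mono normalizerIn_le) e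
  refine ih _ h2 (card_lt_of_lt h1) (isCentric_of_le hQ h1.le h2) normalizerIn_le ?_
  have h4 : z ∈ normalizerIn P Q := h1.le hz.1
  exact ((mor_conj E h2 (h2 h4)).comp (hg.mono h3) fun x hx => Subgroup.mul_mem _
    (Subgroup.mul_mem _ h4 hx) (Subgroup.inv_mem _ h4)).congr fun x hx => (ez x hx).symm

theorem IsInvariantIn.pelt_mem (hS : IsPGroup p S) (hF : F.IsSaturated p) {E : FusionSystem S}
    (h : E.IsInvariantIn F) (hP : P ≤ S) {α : MulAut P} (hα : α ∈ F.autGroup P) {k : ℕ}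
    (hk : α ^ p ^ k = 1) : α ∈ E.autGroup P := by
  have hi := IsInvariantIn.strongInv h
  obtain ⟨Q, hc, hQ⟩ := exists_fullyNormalized F hP
  obtain ⟨φ, hφ, e⟩ := isConj_iff.1 (isConj_symm hc)
  obtain ⟨τ, h1, h2, -⟩ := hφ.exists_transport e
  obtain ⟨β, rfl⟩ := τ.surjective α
  have := finite_autGroup F hQ.1
  obtain ⟨c, hc, h3⟩ := (IsFullyAutomized.sylowIn (IsSaturated.fullyAutomized hS hF hQ)).conj
    (D := Subgroup.zpowers β) (Subgroup.zpowers_le.2 ((h2 β).1 hα))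
    (pgroup_zpowers (k := k) (τ.injective (by rw [map_pow, hk, map_one])))
  have h4 : β ∈ E.autGroup Q := by
    have := hi.conj_autGroup hQ.1 hQ.1 _ (Subgroup.inv_mem _ hc) _
      (autInducedBy_le_autGroup E hQ.1 (h3 β (Subgroup.mem_zpowers β)))
    rwa [show c⁻¹ * (c * β * c⁻¹) * c⁻¹⁻¹ = β by group] at this
  have := hi.mor ((mem_autGroup hQ.1).1 h4) le_rfl hQ.1 (fun x hx => afun_mem β hx) hφ
    (g := afun (τ β)) (h1 β)
  rw [e] at this
  exact (mem_autGroup hP).2 this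

theorem IsInvariantIn.primeToP (hS : IsPGroup p S) (hF : F.IsSaturated p) {E : FusionSystem S}
    (h : E.IsInvariantIn F) : E.HasPrimeToPIndexIn F p := by
  refine ⟨h.1, fun P hP => Subgroup.map_le_iff_le_comap.2 ((Subgroup.closure_le _).2 ?_)⟩
  rintro α ⟨k, hk⟩
  exact IsInvariantIn.pelt_mem hS hF h hP α.2 (k := k)
    (by rw [← hk]; exact congrArg Subtype.val (pow_orderOf_eq_one α))

theorem isSimple_of (hF : F.IsSaturated p) (h1 : S ≠ ⊥)
    (ha : ∀ T, F.StronglyClosed T → T = ⊥ ∨ T = S)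
    (hb : ∀ E : FusionSystem S, E.IsNormalIn F p → F.autGroup S ≤ E.autGroup S) : F.IsSimple p := by
  refine ⟨hF, h1, fun T E hE => (ha T (IsNormalIn.sc hE)).imp_right fun e => ?_⟩
  subst e
  exact ⟨rfl, hom_eq_iff.2 fun P f => ⟨isSubsystemOf_iff.1 (IsNormalIn.sub hE) P f,
    IsInvariantIn.eq_of_aut (IsNormalIn.inv hE) (hb E hE)⟩⟩

theorem simple_abelian_iff (hS : IsPGroup p S) (hF : F.IsSaturated p)
    (hab : ∀ x ∈ S, ∀ y ∈ S, x * y = y * x) :
    F.IsSimple p ↔ (Nat.card S = p ∧ ∀ P, F.Hom P = (innerFusionSystem S).Hom P) := by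
  refine ⟨fun h => ?_, fun ⟨h1, h2⟩ => isSimple_of hF (fun e => ?_) (fun T hT => ?_) fun E _ α hα => ?_⟩
  · have h1 := fun P => ((h.2.2 _ _ (inner_isNormalIn hS hF (normal_of_abelian hS hF
      (stronglyClosed_top F) hab))).resolve_left h.2.1).2 P |>.symm
    refine ⟨?_, h1⟩
    obtain ⟨z, hz⟩ := exists_prime_orderOf_dvd_card' (G := S) p
      (hS.card_eq_or_dvd.resolve_left fun e => h.2.1 (Subgroup.card_eq_one.1 e))
    have hc : Nat.card (Subgroup.zpowers z.1) = p := by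
      rw [Nat.card_zpowers, Subgroup.orderOf_coe, hz]
    have h2 : Subgroup.zpowers z.1 ≤ S := Subgroup.zpowers_le.2 z.2
    rcases h.2.2 _ _ (inner_isNormalIn hS hF (IsCentral.isNormal (central_of_fix hS hF h2
      fun P f hf x hx _ => by
        obtain ⟨s, hs, e⟩ := (isInner_iff_hom.2 h1).conj hf
        rw [e x hx, hab s hs x (hf.le hx), mul_inv_cancel_right]))) with e | e
    · rw [e, Subgroup.card_bot] at hc
      exact absurd hc.symm (Fact.out : p.Prime).ne_one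
    · rw [← e.1, hc]
  · rw [e, Subgroup.card_bot] at h1
    exact (Fact.out : p.Prime).ne_one h1.symm
  · have := Subgroup.card_dvd_of_le hT.1
    rw [h1, Nat.dvd_prime Fact.out] at this
    exact this.imp Subgroup.card_eq_one.1 fun e => Subgroup.eq_of_le_of_card_ge hT.1 (by omega)
  · obtain ⟨s, hs, e⟩ := (isInner_iff_hom.2 h2).conj ((mem_autGroup le_rfl).1 hα)
    exact (mem_autGroup le_rfl).2 ((mor_conj E le_rfl hs).congr fun x hx => (e x hx).symm)

end basic

section push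

variable {Ω Ω' : Type*} [Group Ω] [Group Ω'] {S : Subgroup Ω} {S' : Subgroup Ω'}
  {F : FusionSystem S} {F' : FusionSystem S'} {α : S →* Ω'} {P Q R T : Subgroup Ω}
  {P' Q' T' : Subgroup Ω'} {f g : Ω → Ω} {f' g' : Ω' → Ω'} {p : ℕ} {E : FusionSystem T}
  {E' : FusionSystem T'}

theorem ap_res (hT : T ≤ S) {x : Ω} (hx : x ∈ T) :
    ap (α.comp (Subgroup.inclusion hT)) x = ap α x := by
  rw [ap_of_mem _ hx, ap_of_mem _ (hT hx)]; rfl

theorem imageAlong_res (hT : T ≤ S) (hP : P ≤ T) :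
    imageAlong (α.comp (Subgroup.inclusion hT)) P = imageAlong α P := by
  ext y
  rw [mem_imageAlong' hP, mem_imageAlong' (hP.trans hT)]
  exact exists_congr fun x => and_congr_right fun hx => by rw [ap_res hT (hP hx)]

theorem Morph.mor' (h : Morph F F' α) (hf : Mor F P f) (e : ∀ x ∈ P, f' (ap α x) = ap α (f x)) :
    Mor F' (imageAlong α P) f' := by
  obtain ⟨g, hg, e'⟩ := h.mor hf
  refine hg.congr fun y hy => ?_
  obtain ⟨x, hx, rfl⟩ := (mem_imageAlong' hf.le).1 hy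
  rw [e x hx, e' x hx]

theorem Surj.lift' (h : Surj F F' α) (hf : Mor F' P' f') : ∃ P f, Mor F P f ∧ imageAlong α P = P' ∧
    ∀ x ∈ P, f' (ap α x) = ap α (f x) := by
  obtain ⟨f, h1, h2⟩ := h.lift hf
  exact ⟨_, f, h1, h.image_preimage hf.le, h2⟩

theorem exists_push [Finite T] (hα : Function.Injective α) (hT : T ≤ S) (E : FusionSystem T) :
    ∃ E' : FusionSystem (imageAlong α T), FIso E E' (α.comp (Subgroup.inclusion hT)) := by
  obtain ⟨E', h⟩ := exists_factor (α := α.comp (Subgroup.inclusion hT)) (stronglyClosed_bot E)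
    (preimage_bot_of_inj (hα.comp (Subgroup.inclusion_injective hT)))
    (S' := imageAlong α T) (by rw [← imageAlong_top, imageAlong_res hT le_rfl])
  exact ⟨E', FIso.of_factor h⟩

/-- `E'` is the image of the subsystem `E` under the isomorphism `α`. -/
structure Push (F : FusionSystem S) (F' : FusionSystem S') (α : S →* Ω') (E : FusionSystem T)
    (E' : FusionSystem T') : Prop where
  iso : FIso F F' α
  le : T ≤ S
  iso' : FIso E E' (α.comp (Subgroup.inclusion le))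

theorem Push.eq (h : Push F F' α E E') : imageAlong α T = T' := by
  rw [← h.iso'.range, ← imageAlong_top, imageAlong_res h.le le_rfl]

theorem Push.lift (h : Push F F' α E E') (hf : Mor E' P' f') :
    ∃ P f, Mor E P f ∧ imageAlong α P = P' ∧ ∀ x ∈ P, f' (ap α x) = ap α (f x) := by
  obtain ⟨P, f, h1, h2, h3⟩ := h.iso'.toSurj.lift' hf
  refine ⟨P, f, h1, by rw [← h2, imageAlong_res h.le h1.le], fun x hx => ?_⟩
  rw [← ap_res h.le (h1.le hx), h3 x hx, ap_res h.le (h1.mem hx)]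

theorem Push.mor' (h : Push F F' α E E') (hf : Mor E P f) (e : ∀ x ∈ P, f' (ap α x) = ap α (f x)) :
    Mor E' (imageAlong α P) f' := by
  rw [← imageAlong_res h.le hf.le]
  exact h.iso'.toMorph.mor' hf fun x hx => by
    rw [ap_res h.le (hf.le hx), e x hx, ap_res h.le (hf.mem hx)]

theorem Push.mor (h : Push F F' α E E') (hf : Mor E P f) :
    ∃ f', Mor E' (imageAlong α P) f' ∧ ∀ x ∈ P, f' (ap α x) = ap α (f x) := by
  obtain ⟨g, -, e⟩ := h.iso'.mor hf
  have e' : ∀ x ∈ P, g (ap α x) = ap α (f x) := fun x hx => by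
    rw [← ap_res h.le (hf.le hx), e x hx, ap_res h.le (hf.mem hx)]
  exact ⟨g, h.mor' hf e', e'⟩

theorem Push.mor_of (h : Push F F' α E E') (hP : P ≤ T) (hm : ∀ x ∈ P, f x ∈ T)
    (hf : Mor E' (imageAlong α P) f') (e : ∀ x ∈ P, f' (ap α x) = ap α (f x)) : Mor E P f := by
  rw [← imageAlong_res h.le hP] at hf
  exact h.iso'.mor_of hP hm hf fun x hx => by rw [ap_res h.le (hP hx), e x hx, ap_res h.le (hm x hx)]

theorem Push.sub (h : Push F F' α E E') (hE : E.IsSubsystemOf F) : E'.IsSubsystemOf F' := by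
  refine isSubsystemOf_iff.2 fun P' f' hf => ?_
  obtain ⟨P, f, h1, rfl, h3⟩ := h.lift hf
  exact h.iso.toMorph.mor' (isSubsystemOf_iff.1 hE _ _ h1) h3

theorem Push.strongInv (h : Push F F' α E E') (hE : StrongInv E F) : StrongInv E' F' := by
  intro P' Q' f' ψ' hf hPQ hQ hfQ hψ
  obtain ⟨P, f, h1, rfl, h3⟩ := h.lift hf
  obtain ⟨Q, ψ, h4, rfl, h6⟩ := h.iso.toSurj.lift' hψ
  have hP := h1.le.trans h.le
  rw [imageAlong_le_imageAlong_iff h.iso.inj hP h4.le] at hPQ
  rw [← h.eq, imageAlong_le_imageAlong_iff h.iso.inj h4.le h.le] at hQ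
  have h7 : ∀ x ∈ P, f x ∈ Q := fun x hx => (ap_mem_image_iff h.iso.inj h4.le (h.le (h1.mem hx))).1
    (h3 x hx ▸ hfQ _ (ap_mem_imageAlong hP hx))
  obtain ⟨g, hg, e⟩ := hE P Q f ψ h1 hPQ hQ h7 h4
  obtain ⟨g', hg', e'⟩ := h.mor hg
  refine ⟨g', by rwa [img_induced h4 h6 hPQ], fun y hy => ?_⟩
  obtain ⟨x, hx, rfl⟩ := (mem_imageAlong' hP).1 hy
  rw [h6 x (hPQ hx), e' _ (subset_img hx), e x hx, h3 x hx, h6 _ (h7 x hx)]

variable [Fact p.Prime] [Finite S]

theorem Push.weaklyNormal (h : Push F F' α E E') (hS : IsPGroup p S) (hE : E.IsWeaklyNormalIn F p) :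
    E'.IsWeaklyNormalIn F' p := by
  have := finite_of_le h.le
  have := h.iso.toSurj.finite
  have hF := h.iso.toSurj.saturated hS hE.2.1
  refine ⟨h.iso'.toSurj.saturated (pgroup_of_le hS h.le) hE.1, hF, isInvariantIn_of_strongInv
    (h.iso.toSurj.pgroup hS) hF (h.sub hE.2.2.1) ?_ (h.strongInv (IsInvariantIn.strongInv hE.2.2))⟩
  rw [← h.eq]
  exact (h.iso.stronglyClosed_iff h.le).2 hE.2.2.2.1

theorem Push.normal (h : Push F F' α E E') (hS : IsPGroup p S) (hE : E.IsNormalIn F p) :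
    E'.IsNormalIn F' p := by
  have := h.iso.toSurj.finite
  have := finite_of_le h.le
  refine isNormalIn_of (h.weaklyNormal hS hE.1) fun β hβ => ?_
  obtain ⟨P, f, h1, h2, h3⟩ := h.lift ((mem_autGroup le_rfl).1 hβ)
  obtain rfl := imageAlong_inj h.iso.inj (h1.le.trans h.le) h.le (h2.trans h.eq.symm)
  obtain ⟨γ, hγ, e⟩ := h1.exists_aut (h1.img_eq_self fun x hx => h1.mem hx)
  obtain ⟨g, hg, -, h4, h5⟩ := (isNormalIn_iff.1 hE).2 γ hγ
  obtain ⟨g', hg', e'⟩ := h.iso.mor hg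
  have h6 := imageAlong_centralizerIn h.iso.inj h.iso.range h.le
  rw [imageAlong_sup h.le centralizerIn_le, h6, h2] at hg'
  refine ⟨g', hg', fun y hy => ?_, fun c hc => ?_⟩
  · rw [← h2] at hy
    obtain ⟨x, hx, rfl⟩ := (mem_imageAlong' h.le).1 hy
    rw [e' x (Subgroup.mem_sup_left hx), h4 x hx, h3 x hx, e x hx]
  · rw [← h2, ← h6] at hc
    obtain ⟨x, hx, rfl⟩ := (mem_imageAlong' centralizerIn_le).1 hc
    rw [e' x (Subgroup.mem_sup_right hx), ← ap_inv _ hx.1, ← ap_mul _ (S.inv_mem hx.1)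
      (hg.mem (Subgroup.mem_sup_right hx)), ← h2]
    exact ap_mem_imageAlong h.le (h5 x hx)

theorem FIso.simple (h : FIso F F' α) (hS : IsPGroup p S) (hF : F.IsSimple p) : F'.IsSimple p := by
  have := h.toSurj.finite
  refine ⟨h.toSurj.saturated hS hF.1, fun e => hF.2.1 (imageAlong_inj h.inj le_rfl bot_le ?_),
    fun T' E' hE => ?_⟩
  · rw [imageAlong_top, h.range, e, imageAlong_bot]
  obtain ⟨κ, hκ, -⟩ := h.symm
  have hT := IsSubsystemOf.le (IsNormalIn.sub hE)
  have := finite_of_le hT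
  obtain ⟨E, hE'⟩ := exists_push hκ.inj hT E'
  have hp : Push F' F κ E' E := ⟨hκ, hT, hE'⟩
  rcases hF.2.2 _ E (hp.normal (h.toSurj.pgroup hS) hE) with e | ⟨e, e'⟩
  · exact Or.inl (imageAlong_inj hκ.inj hT bot_le (by rw [e, imageAlong_bot]))
  obtain rfl := imageAlong_inj hκ.inj hT le_rfl (e.trans (by rw [imageAlong_top, hκ.range]))
  refine Or.inr ⟨rfl, hom_eq_iff.2 fun P f => ⟨isSubsystemOf_iff.1 (IsNormalIn.sub hE) P f,
    fun hf => ?_⟩⟩
  obtain ⟨f', hf', e''⟩ := hκ.mor hf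
  exact hp.mor_of hf.le (fun x hx => hf.mem hx) ((hom_eq_iff.1 e' _ _).2 hf') e''

end push

section group

variable {G G' : Type*} [Group G] [Group G'] {p : ℕ} {S R : Subgroup G}

theorem group_iso (e : G ≃* G') (S : Subgroup G) : FIso (groupFusionSystem S)
    (groupFusionSystem (S.map e.toMonoidHom)) (e.toMonoidHom.comp S.subtype) := by
  have h : (e.toMonoidHom.comp S.subtype).range = S.map e.toMonoidHom := by
    rw [MonoidHom.range_comp, Subgroup.range_subtype]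
  have h' : ∀ x ∈ S, ap (e.toMonoidHom.comp S.subtype) x = e x := fun x hx => ap_of_mem _ hx
  rw [← h, ← isRealizedBy_iff_iso, isRealizedBy_iff]
  refine ⟨e.injective.comp S.subtype_injective, fun P f hP hf => ?_⟩
  rw [mor_group_iff]
  refine ⟨fun ⟨_, _, g, hg⟩ => ⟨e g, fun x hx => ?_⟩, fun ⟨g, hg⟩ => ⟨hP, hf, e.symm g, fun x hx =>
    e.injective ?_⟩⟩
  · rw [h' _ (hf x hx), h' _ (hP hx), hg x hx]; simp
  · rw [← h' _ (hf x hx), hg x hx, h' _ (hP hx)]; simp

variable [Fact p.Prime] [Finite G]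

theorem simple_of_equiv (e : G ≃* G') (hS : SylowIn p S ⊤) (h : (groupFusionSystem S).IsSimple p)
    (T : Sylow p G') : (groupFusionSystem (T : Subgroup G')).IsSimple p := by
  have := Finite.of_equiv _ e.toEquiv
  have h1 := hS.map e.toMonoidHom
  rw [Subgroup.map_top_of_surjective _ e.surjective] at h1
  obtain ⟨U, hU⟩ := h1.exists_sylow_top
  obtain ⟨g, rfl⟩ := MulAction.exists_smul_eq G' U T
  have h2 := (group_iso e S).simple hS.pgroup h
  rw [← hU] at h2
  exact (group_iso (MulAut.conj g) U).simple U.2 h2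

theorem group_centric (hR : R ≤ S) (hS : IsPGroup p S)
    (h : ∀ c ∈ Subgroup.centralizer (R : Set G), (∃ k, c ^ p ^ k = 1) → c ∈ R) :
    (groupFusionSystem S).IsCentric R := by
  refine isCentric_iff.2 ⟨hR, fun f hf c hc => ?_⟩
  obtain ⟨-, -, g, e⟩ := mor_group_iff.1 hf
  rw [img_congr e] at hc ⊢
  obtain ⟨k, hk⟩ := hS ⟨c, hc.1⟩
  refine mem_img_conj.2 (h _ (fun x hx => ?_) ⟨k, ?_⟩)
  · have := hc.2 _ (subset_img (f := fun x => g * x * g⁻¹) hx)
    calc x * (g⁻¹ * c * g) = g⁻¹ * (g * x * g⁻¹ * c) * g := by group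
      _ = _ := by rw [this]; group
  · have : g⁻¹ * c * g = g⁻¹ * c * g⁻¹⁻¹ := by rw [inv_inv]
    rw [this, conj_pow, show c ^ p ^ k = 1 from congrArg Subtype.val hk]; simp

/-- the subgroup generated by the `p`-elements normalizing `R` -/
def pNorm (p : ℕ) (R : Subgroup G) : Subgroup G :=
  Subgroup.closure {g | g ∈ Subgroup.normalizer (R : Set G) ∧ ∃ k : ℕ, g ^ p ^ k = 1}

theorem mor_of_pNorm (hS : SylowIn p S ⊤) {E : FusionSystem S}
    (hE : E.IsInvariantIn (groupFusionSystem S)) (hR : R ≤ S) {g : G} (hg : g ∈ pNorm p R) :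
    g ∈ Subgroup.normalizer (R : Set G) ∧ Mor E R fun x => g * x * g⁻¹ := by
  have hF : (groupFusionSystem S).IsSaturated p := groupFusionSystem_eq S ▸ sub_saturated hS
  have key : pNorm p R ≤ ((E.autGroup R).comap (cAut R)).map (Subgroup.subtype _) := by
    refine (Subgroup.closure_le _).2 ?_
    rintro g ⟨hg, k, hk⟩
    refine ⟨⟨g, hg⟩, IsInvariantIn.pelt_mem hS.pgroup hF hE hR ((mem_autGroup hR).2
      (mor_group_iff.2 ⟨hR, fun x hx => hR (afun_mem _ hx), g, fun x hx => afun_cAut _ hx⟩))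
      (k := k) ?_, rfl⟩
    rw [← map_pow, show (⟨g, hg⟩ : Subgroup.normalizer (R : Set G)) ^ p ^ k = 1 from Subtype.ext hk,
      map_one]
  obtain ⟨g, h1, rfl⟩ := key hg
  exact ⟨g.2, ((mem_autGroup hR).1 h1).congr fun x hx => afun_cAut _ hx⟩

/-- the elements of `N(S)` that lie in `O^{p'}(N(R))` for a centric `R`, or centralize `S` -/
def simpleGen (p : ℕ) (S : Subgroup G) : Subgroup G :=
  Subgroup.closure {g | g ∈ Subgroup.normalizer (S : Set G) ∧ (g ∈ Subgroup.centralizer (S : Set G) ∨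
    ∃ R, (groupFusionSystem S).IsCentric R ∧ g ∈ pNorm p R)}

theorem le_simpleGen (hS : IsPGroup p S) : S ≤ simpleGen p S := fun g hg =>
  Subgroup.subset_closure ⟨Subgroup.le_normalizer hg, Or.inr ⟨S, isCentric_top _,
    Subgroup.subset_closure ⟨Subgroup.le_normalizer hg, (hS ⟨g, hg⟩).imp fun _ h =>
      congrArg Subtype.val h⟩⟩⟩

theorem mor_of_simpleGen (hS : SylowIn p S ⊤) {E : FusionSystem S}
    (hE : E.IsWeaklyNormalIn (groupFusionSystem S) p) {g : G} (hg : g ∈ simpleGen p S) :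
    Mor E S fun x => g * x * g⁻¹ := by
  have key : simpleGen p S ≤ ((E.autGroup S).comap (cAut S)).map (Subgroup.subtype _) := by
    refine (Subgroup.closure_le _).2 ?_
    rintro g ⟨hg, h⟩
    refine ⟨⟨g, hg⟩, (mem_autGroup le_rfl).2 (Mor.congr (f := fun x => g * x * g⁻¹) ?_
      fun x hx => (afun_cAut ⟨g, hg⟩ hx).symm), rfl⟩
    rcases h with h | ⟨R, hR, h⟩
    · exact (mor_id E le_rfl).congr fun x hx => by rw [← h x hx, mul_inv_cancel_right]
    · exact mor_of_centric hS.pgroup hE.2.1 hE.1 hE.2.2.1 (mor_group_iff.2 ⟨le_rfl,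
        fun x hx => conj_mem_of_mem_normalizer hg hx, g, fun _ _ => rfl⟩) hR hR.1
        (mor_of_pNorm hS hE.2.2 hR.1 h).2
  obtain ⟨g, h1, rfl⟩ := key hg
  exact ((mem_autGroup le_rfl).1 h1).congr fun x hx => afun_cAut _ hx

theorem group_simple (hS : SylowIn p S ⊤) (h1 : S ≠ ⊥)
    (ha : ∀ T ≤ S, (∀ x ∈ T, ∀ g : G, g * x * g⁻¹ ∈ S → g * x * g⁻¹ ∈ T) → T ≠ ⊥ → S ≤ T)
    (hb : Subgroup.normalizer (S : Set G) ≤ simpleGen p S) : (groupFusionSystem S).IsSimple p := by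
  refine isSimple_of (groupFusionSystem_eq S ▸ sub_saturated hS) h1 (fun T hT => ?_)
    fun E hE α hα => ?_
  · rw [groupFusionSystem_eq, stronglyClosed_sub_iff] at hT
    exact or_iff_not_imp_left.2 fun h => hT.1.antisymm
      (ha T hT.1 (fun x hx g => hT.2 x hx g trivial) h)
  · obtain ⟨-, -, g, e⟩ := mor_group_iff.1 ((mem_autGroup le_rfl).1 hα)
    exact (mem_autGroup le_rfl).2 ((mor_of_simpleGen hS hE.1
      (hb (mem_normalizer_of_afun e))).congr fun x hx => (e x hx).symm)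

theorem simple_dichotomy (hS : SylowIn p S ⊤) (h : (groupFusionSystem S).IsSimple p) (N : Subgroup G)
    [hN : N.Normal] : S ⊓ N = ⊥ ∨ ∃ h : S ≤ N, ∀ P, (fusionSystemOfSubgroup N S h).Hom P =
      (groupFusionSystem S).Hom P := by
  rcases h.2.2 _ _ (groupFusionSystem_eq S ▸ sub_isNormalIn hS (H := N) le_top
    (Subgroup.normalizer_eq_top N).ge) with e | ⟨e, e'⟩
  · exact Or.inl e
  refine Or.inr ⟨inf_eq_left.1 e, hom_eq_iff.2 fun P f => ?_⟩
  rw [← hom_eq_iff.1 e', mor_subgroup_iff, mor_subgroup_iff, e]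

end group

end Cfsg.Agent.Fusion
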