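import Cfsg.Agent.Lib.Fusion.HSat
import Cfsg.Agent.Lib.Fusion.Simple

/-! Subsystems of index prime to `p`. -/

set_option autoImplicit false
set_option linter.unusedSectionVars false

namespace Cfsg.Agent.Fusion

open Cfsg Cfsg.FusionSystem

variable {Ω : Type*} [Group Ω] {S : Subgroup Ω} {F E D : FusionSystem S}
  {P Q R T U : Subgroup Ω} {f g : Ω → Ω} {p : ℕ} {X : Subgroup Ω → (Ω → Ω) → Prop}

theorem Mor.sub {E : FusionSystem T} (hf : Mor E P f) (h : E.IsSubsystemOf F) : Mor F P f :=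
  isSubsystemOf_iff.1 h P f hf

theorem Mor.eq_inv (hf : Mor F P f) (e : ∀ x ∈ P, g (f x) = x) : Mor F (img f P) g := by
  obtain ⟨i, hi, i1, -⟩ := hf.inv
  refine hi.congr fun y hy => ?_
  obtain ⟨x, hx, rfl⟩ := hf.mem_img.1 hy
  rw [i1 x hx, e x hx]

theorem genData (F : FusionSystem S) (X : Subgroup Ω → (Ω → Ω) → Prop) :
    SysData S (fun P f => Mor F P f ∧
      ∀ D : FusionSystem S, (∀ Q g, X Q g → Mor D Q g) → Mor D P f) :=
  SysData.ofSub F (fun h => h.1) (fun h => h.1.le) (fun h _ hx => h.1.mem hx)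
    (fun h e => ⟨h.1.congr e, fun D hD => (h.2 D hD).congr e⟩)
    (fun hP hs => ⟨mor_conj F hP hs, fun D _ => mor_conj D hP hs⟩)
    (fun h1 h2 e => ⟨h1.1.comp h2.1 e, fun D hD => (h1.2 D hD).comp (h2.2 D hD) e⟩)
    (fun h hg e => ⟨hg, fun D hD => (h.2 D hD).eq_inv e⟩)

/-- the subsystem generated by a family of maps -/
def genSys (F : FusionSystem S) (X : Subgroup Ω → (Ω → Ω) → Prop) : FusionSystem S :=
  (genData F X).sys

theorem genSys_sub : (genSys F X).IsSubsystemOf F :=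
  isSubsystemOf_iff.2 fun _ _ h => ((genData F X).mor_iff.1 h).1

theorem genSys_mem (hf : Mor F P f) (h : X P f) : Mor (genSys F X) P f :=
  (genData F X).mor_iff.2 ⟨hf, fun _ hD => hD P f h⟩

theorem genSys_le (h : ∀ Q g, X Q g → Mor D Q g) : (genSys F X).IsSubsystemOf D :=
  isSubsystemOf_iff.2 fun _ _ hf => ((genData F X).mor_iff.1 hf).2 D h

theorem fullData (F : FusionSystem S) (hT : T ≤ S) :
    SysData T (fun P f => Mor F P f ∧ P ≤ T ∧ ∀ x ∈ P, f x ∈ T) :=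
  SysData.ofSub F (fun h => h.1) (fun h => h.2.1) (fun h => h.2.2)
    (fun h e => ⟨h.1.congr e, h.2.1, fun x hx => e x hx ▸ h.2.2 x hx⟩)
    (fun hP hs => ⟨mor_conj F (hP.trans hT) (hT hs), hP, fun _ hx =>
      T.mul_mem (T.mul_mem hs (hP hx)) (T.inv_mem hs)⟩)
    (fun h1 h2 e => ⟨h1.1.comp h2.1 e, h1.2.1, fun x hx => h2.2.2 _ (e x hx)⟩)
    (fun h hg e => ⟨hg, img_le_iff.2 h.2.2, fun y hy => by
      obtain ⟨x, hx, rfl⟩ := h.1.mem_img.1 hy
      rw [e x hx]; exact h.2.1 hx⟩)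

/-- the full subsystem on a subgroup -/
def fullSys (F : FusionSystem S) (hT : T ≤ S) : FusionSystem T := (fullData F hT).sys

theorem fullSys_mor {hT : T ≤ S} :
    Mor (fullSys F hT) P f ↔ Mor F P f ∧ P ≤ T ∧ ∀ x ∈ P, f x ∈ T := (fullData F hT).mor_iff

theorem fullSys_sub {hT : T ≤ S} : (fullSys F hT).IsSubsystemOf F :=
  isSubsystemOf_iff.2 fun _ _ h => (fullSys_mor.1 h).1

theorem sub_fullSys {hT : T ≤ S} {E : FusionSystem U} (h : E.IsSubsystemOf F) (hU : U ≤ T) :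
    E.IsSubsystemOf (fullSys F hT) :=
  isSubsystemOf_iff.2 fun _ _ hf => fullSys_mor.2 ⟨hf.sub h, hf.le.trans hU, fun _ hx => hU (hf.mem hx)⟩

theorem fullSys_autGroup {hT : T ≤ S} (hP : P ≤ T) : (fullSys F hT).autGroup P = F.autGroup P := by
  ext α
  rw [mem_autGroup hP, mem_autGroup (hP.trans hT), fullSys_mor]
  exact ⟨fun h => h.1, fun h => ⟨h, hP, fun x hx => hP (afun_mem α hx)⟩⟩

/-- `α` carries maps of `E` to maps of `E` -/
def Pres (E : FusionSystem S) (α : MulAut S) : Prop :=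
  ∀ P f, Mor E P f → ∃ g, Mor E (img (afun α) P) g ∧ ∀ x ∈ P, g (afun α x) = afun α (f x)

theorem mem_img_afun {α : MulAut S} (hP : P ≤ S) {y : Ω} :
    y ∈ img (afun α) P ↔ ∃ x ∈ P, afun α x = y :=
  mem_img_of_mul fun _ hx _ hy => afun_map_mul α (hP hx) (hP hy)

theorem img_afun_le {α : MulAut S} (hP : P ≤ S) : img (afun α) P ≤ S :=
  img_le_iff.2 fun _ hx => afun_mem α (hP hx)

theorem afun_map_conj (α : MulAut S) {x y : Ω} (hx : x ∈ S) (hy : y ∈ S) :
    afun α (x * y * x⁻¹) = afun α x * afun α y * (afun α x)⁻¹ := by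
  rw [afun_map_mul α (S.mul_mem hx hy) (S.inv_mem hx), afun_map_mul α hx hy, afun_map_inv α hx]

theorem img_afun_inv {α : MulAut S} (hP : P ≤ S) : img (afun α⁻¹) (img (afun α) P) = P := by
  ext x
  rw [mem_img_afun (img_afun_le hP)]
  constructor
  · rintro ⟨y, hy, rfl⟩
    obtain ⟨z, hz, rfl⟩ := (mem_img_afun hP).1 hy
    rwa [afun_inv_afun α (hP hz)]
  · exact fun hx => ⟨_, subset_img hx, afun_inv_afun α (hP hx)⟩

theorem img_afun_inv' {α : MulAut S} (hP : P ≤ S) : img (afun α) (img (afun α⁻¹) P) = P := by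
  simpa using img_afun_inv (α := α⁻¹) hP

theorem img_img_afun {α : MulAut S} (hg : Mor E P g) (e : ∀ x ∈ P, f x = afun α (g x)) :
    img f P = img (afun α) (img g P) := by rw [img_congr e, hg.img_comp']

theorem Pres.mor {α : MulAut S} (h : Pres E α) (hf : Mor E P f)
    (e : ∀ x ∈ P, g (afun α x) = afun α (f x)) : Mor E (img (afun α) P) g := by
  obtain ⟨k, hk, ek⟩ := h P f hf
  refine hk.congr fun y hy => ?_
  obtain ⟨x, hx, rfl⟩ := (mem_img_afun hf.le).1 hy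
  rw [ek x hx, e x hx]

theorem pres_of_mem {α : MulAut S} (h : α ∈ F.autGroup S) : Pres F α := by
  intro P f hf
  have h1 := (mem_autGroup le_rfl).1 h
  have h2 := (mem_autGroup le_rfl).1 (Subgroup.inv_mem _ h)
  refine ⟨_, ((h2.mono (img_afun_le hf.le)).comp hf fun x hx => ?_).comp h1 fun x hx => hf.mem ?_,
    fun x hx => by rw [afun_inv_afun α (hf.le hx)]⟩
  all_goals rw [← img_afun_inv (α := α) hf.le]; exact subset_img hx

theorem IsInvariantIn.pres {E : FusionSystem T} (h : E.IsInvariantIn F) {α : MulAut T}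
    (hα : α ∈ F.autGroup T) : Pres E α := fun P f hf => (isInvariantIn_iff.1 h).2.2.1 P f hf α hα

theorem genSys_pres {α : MulAut S}
    (h : ∀ Q g, X Q g → Mor F Q g ∧ ∃ g', Mor (genSys F X) (img (afun α) Q) g' ∧
      ∀ x ∈ Q, g' (afun α x) = afun α (g x)) : Pres (genSys F X) α := by
  have D : SysData S (fun P f => Mor F P f ∧ ∃ g', Mor (genSys F X) (img (afun α) P) g' ∧
      ∀ x ∈ P, g' (afun α x) = afun α (f x)) :=
    SysData.ofSub F (fun h => h.1) (fun h => h.1.le) (fun h _ hx => h.1.mem hx)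
      (fun ⟨h, g, hg, eg⟩ e => ⟨h.congr e, g, hg, fun x hx => e x hx ▸ eg x hx⟩)
      (fun hP hs => ⟨mor_conj F hP hs, _, mor_conj _ (img_afun_le hP) (afun_mem α hs),
        fun x hx => (afun_map_conj α hs (hP hx)).symm⟩)
      (by
        rintro P Q f g ⟨h1, f', hf', ef⟩ ⟨h2, g', hg', eg⟩ e
        refine ⟨h1.comp h2 e, _, hf'.comp hg' fun y hy => ?_, fun x hx => ?_⟩
        · obtain ⟨x, hx, rfl⟩ := (mem_img_afun h1.le).1 hy
          rw [ef x hx]; exact subset_img (e x hx)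
        · show g' (f' _) = _
          rw [ef x hx, eg _ (e x hx)])
      (by
        rintro P f g ⟨h1, f', hf', ef⟩ hg e
        obtain ⟨i, hi, i1, -⟩ := hf'.inv
        have : img f' (img (afun α) P) = img (afun α) (img f P) := by
          rw [← h1.img_comp', ← img_congr ef]
          refine le_antisymm (img_le_iff.2 fun y hy => ?_) (img_le_iff.2 fun x hx =>
            subset_img (subset_img hx))
          obtain ⟨x, hx, rfl⟩ := (mem_img_afun h1.le).1 hy
          exact subset_img (f := fun x => f' (afun α x)) hx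
        refine ⟨hg, i, this ▸ hi, fun y hy => ?_⟩
        obtain ⟨x, hx, rfl⟩ := h1.mem_img.1 hy
        rw [← ef x hx, i1 _ (subset_img hx), e x hx])
  intro P f hf
  exact (D.mor_iff.1 (hf.sub (genSys_le fun Q g hX => D.mor_iff.2 (h Q g hX)))).2

theorem twistData (E : FusionSystem S) {K : Subgroup (MulAut S)} (hK : ∀ α ∈ K, Pres E α) :
    SysData S (fun P f => ∃ α ∈ K, ∃ g, Mor E P g ∧ ∀ x ∈ P, f x = afun α (g x)) where
  le := fun ⟨_, _, _, h, _⟩ => h.le
  mem := fun ⟨α, _, _, h, e⟩ x hx => e x hx ▸ afun_mem α (h.mem hx)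
  map_mul := fun ⟨α, _, _, h, e⟩ x hx y hy => by
    rw [e _ (Subgroup.mul_mem _ hx hy), e x hx, e y hy, h.map_mul hx hy,
      afun_map_mul α (h.mem hx) (h.mem hy)]
  inj := fun ⟨α, _, _, h, e⟩ x hx y hy e' =>
    h.inj hx hy (afun_inj α (h.mem hx) (h.mem hy) (by rw [← e x hx, ← e y hy, e']))
  congr := fun ⟨α, hα, g, h, e⟩ e' => ⟨α, hα, g, h, fun x hx => e' x hx ▸ e x hx⟩
  conj := fun hP hs => ⟨1, K.one_mem, _, mor_conj E hP hs, fun x _ => (afun_one _).symm⟩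
  comp := by
    rintro P Q f g ⟨α, hα, f', hf, ef⟩ ⟨β, hβ, g', hg, eg⟩ e
    obtain ⟨k, hk, ek⟩ := hK _ (K.inv_mem hα) Q g' hg
    have h1 : ∀ x ∈ P, f' x = afun α⁻¹ (f x) := fun x hx => by
      rw [ef x hx, afun_inv_afun α (hf.mem hx)]
    refine ⟨β * α, K.mul_mem hβ hα, _, hf.comp hk fun x hx => h1 x hx ▸ subset_img (e x hx),
      fun x hx => ?_⟩
    have h2 := hg.mem (e x hx)
    beta_reduce
    rw [eg _ (e x hx), h1 x hx, ek _ (e x hx), afun_mul _ _ (afun_mem _ h2), afun_afun_inv α h2]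
  inv := by
    rintro P f ⟨α, hα, f', hf, ef⟩
    obtain ⟨i, hi, i1, -⟩ := hf.inv
    obtain ⟨k, hk, ek⟩ := hK _ hα _ i hi
    refine ⟨fun x => afun α⁻¹ (k x), ⟨α⁻¹, K.inv_mem hα, k, img_img_afun hf ef ▸ hk, fun _ _ => rfl⟩,
      fun x hx => ?_⟩
    show afun α⁻¹ (k (f x)) = x
    rw [ef x hx, ek _ (subset_img hx), i1 x hx, afun_inv_afun α (hf.le hx)]

/-- the system generated by `E` and a group of automorphisms of `E` -/
def twist (E : FusionSystem S) {K : Subgroup (MulAut S)} (hK : ∀ α ∈ K, Pres E α) :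
    FusionSystem S := (twistData E hK).sys

variable {K : Subgroup (MulAut S)} {hK : ∀ α ∈ K, Pres E α}

theorem twist_mor : Mor (twist E hK) P f ↔
    ∃ α ∈ K, ∃ g, Mor E P g ∧ ∀ x ∈ P, f x = afun α (g x) := (twistData E hK).mor_iff

theorem sub_twist : E.IsSubsystemOf (twist E hK) :=
  isSubsystemOf_iff.2 fun _ f h => twist_mor.2 ⟨1, K.one_mem, f, h, fun _ _ => (afun_one _).symm⟩

theorem le_twist_aut : K ≤ (twist E hK).autGroup S := fun α hα =>
  (mem_autGroup le_rfl).2 (twist_mor.2 ⟨α, hα, _, mor_id E le_rfl, fun _ _ => rfl⟩)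

theorem twist_sub (h1 : E.IsSubsystemOf D) (h2 : K ≤ D.autGroup S) :
    (twist E hK).IsSubsystemOf D := by
  refine isSubsystemOf_iff.2 fun P f h => ?_
  obtain ⟨α, hα, g, hg, e⟩ := twist_mor.1 h
  exact ((hg.sub h1).comp ((mem_autGroup le_rfl).1 (h2 hα)) fun x hx => hg.mem hx).congr
    fun x hx => (e x hx).symm

theorem twist_aut [Finite S] {β : MulAut S} (h : β ∈ (twist E hK).autGroup S) :
    ∃ α ∈ K, ∃ γ ∈ E.autGroup S, β = α * γ := by
  obtain ⟨α, hα, g, hg, e⟩ := twist_mor.1 ((mem_autGroup le_rfl).1 h)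
  obtain ⟨γ, hγ, eγ⟩ := hg.exists_aut (hg.img_eq_self fun x hx => hg.mem hx)
  exact ⟨α, hα, γ, hγ, aut_ext fun x hx => by rw [e x hx, afun_mul _ _ hx, eγ x hx]⟩

theorem twist_pres {γ : MulAut S} (h1 : Pres E γ) (h2 : ∀ α ∈ K, γ * α * γ⁻¹ ∈ K) :
    Pres (twist E hK) γ := by
  intro P f hf
  obtain ⟨α, hα, g, hg, e⟩ := twist_mor.1 hf
  obtain ⟨k, hk, ek⟩ := h1 P g hg
  refine ⟨_, twist_mor.2 ⟨_, h2 α hα, k, hk, fun _ _ => rfl⟩, fun x hx => ?_⟩
  have h3 := hg.mem hx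
  rw [ek x hx, afun_mul _ _ (afun_mem γ h3), afun_inv_afun γ h3, afun_mul _ _ h3, e x hx]

theorem twist_receptive (hQ : Q ≤ S) (h : ∀ α ∈ K, E.IsReceptive (img (afun α) Q)) :
    (twist E hK).IsReceptive Q := by
  refine isReceptive_iff.2 ⟨hQ, fun P f hf e => ?_⟩
  obtain ⟨α, hα, g, hg, eg⟩ := twist_mor.1 hf
  obtain ⟨k, hk, ek⟩ := IsReceptive.ext (h _ (K.inv_mem hα)) hg
    (by rw [← e, img_img_afun hg eg, img_afun_inv hg.img_le])
  refine ⟨_, twist_mor.2 ⟨α, hα, k, hk.mono fun n hn => ?_, fun _ _ => rfl⟩, fun x hx => by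
    rw [ek x hx, eg x hx]⟩
  obtain ⟨h1, s, hs, es⟩ := mem_Next.1 hn
  refine mem_Next.2 ⟨h1, _, afun_mem α⁻¹ hs, fun x hx => ?_⟩
  have h2 := conj_mem_of_mem_normalizerIn h1 hx
  rw [← afun_inv_afun α (hg.mem h2), ← eg _ h2, es x hx, afun_map_conj _ hs (hf.mem hx), eg x hx,
    afun_inv_afun α (hg.mem hx)]

theorem centralizerIn_img_afun {α : MulAut S} (hP : P ≤ S) (h : centralizerIn S P ≤ P) :
    centralizerIn S (img (afun α) P) ≤ img (afun α) P := by
  intro c hc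
  rw [mem_centralizerIn] at hc
  rw [← afun_afun_inv α hc.1]
  refine subset_img (h (mem_centralizerIn.2 ⟨afun_mem _ hc.1, fun x hx => ?_⟩))
  conv_rhs => rw [← afun_inv_afun α (hP hx), ← hc.2 _ (subset_img hx),
    afun_map_conj _ hc.1 (afun_mem α (hP hx)), afun_inv_afun α (hP hx)]

theorem IsFullyNormalized.of_sub (h : E.IsSubsystemOf F) (hP : F.IsFullyNormalized P) :
    E.IsFullyNormalized P :=
  ⟨hP.1, fun Q hQ => hP.2 Q (by
    obtain ⟨f, hf, e⟩ := isConj_iff.1 hQ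
    exact e ▸ (hf.sub h).isConj)⟩

theorem isConj_sub {E : FusionSystem T} (h : E.IsSubsystemOf F) (hc : E.IsConj P Q) :
    F.IsConj P Q := by
  obtain ⟨f, hf, e⟩ := isConj_iff.1 hc
  exact e ▸ (hf.sub h).isConj

theorem primeToP_iff : E.HasPrimeToPIndexIn F p ↔ E.IsSubsystemOf F ∧
    ∀ P, P ≤ S → (Subgroup.closure {α : F.autGroup P | ∃ k : ℕ, orderOf α = p ^ k}).map
      (F.autGroup P).subtype ≤ E.autGroup P := Iff.rfl

variable [hp : Fact p.Prime]

theorem pgen_le_iff {Γ : Type*} [Group Γ] {A B : Subgroup Γ} :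
    (Subgroup.closure {α : A | ∃ k : ℕ, orderOf α = p ^ k}).map A.subtype ≤ B ↔
      ∀ α ∈ A, ∀ k, α ^ p ^ k = 1 → α ∈ B := by
  rw [Subgroup.map_le_iff_le_comap, Subgroup.closure_le]
  constructor
  · intro h α hα k hk
    obtain ⟨j, -, hj⟩ := (Nat.dvd_prime_pow hp.out).1
      (orderOf_dvd_of_pow_eq_one (x := (⟨α, hα⟩ : A)) (Subtype.ext hk))
    exact h (show (⟨α, hα⟩ : A) ∈ _ from ⟨j, hj⟩)
  · rintro h α ⟨k, hk⟩
    exact h α α.2 k (by rw [← hk]; exact congrArg Subtype.val (pow_orderOf_eq_one α))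

theorem HasPrimeToPIndexIn.mem (h : E.HasPrimeToPIndexIn F p) (hP : P ≤ S) {α : MulAut P}
    (hα : α ∈ F.autGroup P) {k : ℕ} (hk : α ^ p ^ k = 1) : α ∈ E.autGroup P :=
  pgen_le_iff.1 (h.2 P hP) α hα k hk

theorem primeToP_of (h : E.IsSubsystemOf F)
    (h' : ∀ P, P ≤ S → ∀ α ∈ F.autGroup P, ∀ k, α ^ p ^ k = 1 → α ∈ E.autGroup P) :
    E.HasPrimeToPIndexIn F p := ⟨h, fun P hP => pgen_le_iff.2 (h' P hP)⟩

variable [Finite S]

theorem fullyNormalized_img (hP : F.IsFullyNormalized P) (hg : Mor F (normalizerIn S P) g) :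
    F.IsFullyNormalized (img g P) := by
  have h1 := hg.mono (le_normalizerIn hP.1)
  refine ⟨h1.img_le, fun W hW => ?_⟩
  rw [← hg.img_normalizerIn hP, hg.card_img]
  exact hP.2 W (isConj_trans h1.isConj hW)

theorem twist_saturated (hS : IsPGroup p S) (hE : E.IsSaturated p)
    (h : (twist E hK).IsFullyAutomized p S) : (twist E hK).IsSaturated p :=
  isSaturated_of_stancu hS h fun P hP => twist_receptive hP.1 fun α hα =>
    IsSaturated.receptive' hS hE (IsFullyNormalized.of_sub sub_twist (fullyNormalized_img hP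
      (((mem_autGroup le_rfl).1 (le_twist_aut hα)).mono normalizerIn_le)))

/-- the subsystem generated by the `p`-elements of the automizers of a family -/
def ostar (F : FusionSystem S) (p : ℕ) (H : Subgroup Ω → Prop) : FusionSystem S :=
  genSys F fun Q g => Q ≤ S ∧ H Q ∧ ∃ α ∈ F.autGroup Q, (∃ k, α ^ p ^ k = 1) ∧ g = afun α

variable {H : Subgroup Ω → Prop}

theorem ostar_sub : (ostar F p H).IsSubsystemOf F := genSys_sub

theorem ostar_mem (hP : P ≤ S) (hH : H P) {α : MulAut P} (hα : α ∈ F.autGroup P) {k : ℕ}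
    (hk : α ^ p ^ k = 1) : α ∈ (ostar F p H).autGroup P :=
  (mem_autGroup hP).2 (genSys_mem ((mem_autGroup hP).1 hα) ⟨hP, hH, α, hα, ⟨k, hk⟩, rfl⟩)

theorem ostar_le (h : ∀ P, P ≤ S → H P → ∀ α ∈ F.autGroup P, ∀ k, α ^ p ^ k = 1 →
    α ∈ D.autGroup P) : (ostar F p H).IsSubsystemOf D :=
  genSys_le (by
    rintro Q _ ⟨hQ, hH, α, hα, ⟨k, hk⟩, rfl⟩
    exact (mem_autGroup hQ).1 (h Q hQ hH α hα k hk))

theorem exists_conj_aut {γ : MulAut S} (hP : P ≤ S) : ∃ τ : MulAut P ≃* MulAut (img (afun γ) P),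
    ∀ α, ∀ x ∈ P, afun (τ α) (afun γ x) = afun γ (afun α x) := by
  obtain ⟨τ, h, -⟩ := (((mem_autGroup le_rfl).1 (le_twist_aut (E := innerFusionSystem S) (K := ⊤)
    (hK := fun α _ P f hf => by
      obtain ⟨h1, s, hs, e⟩ := mor_inner_iff.1 hf
      exact ⟨_, mor_conj _ (img_afun_le h1) (afun_mem α hs), fun x hx => by
        rw [e x hx, afun_map_conj α hs (h1 hx)]⟩) (Subgroup.mem_top γ))).mono hP).exists_transport rfl
  exact ⟨τ, h⟩

theorem ostar_pres {γ : MulAut S} (h : Pres F γ) (hH : ∀ Q, Q ≤ S → H Q → H (img (afun γ) Q)) :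
    Pres (ostar F p H) γ := by
  refine genSys_pres ?_
  rintro Q _ ⟨hQ, hQH, α, hα, ⟨k, hk⟩, rfl⟩
  have h1 := (mem_autGroup hQ).1 hα
  obtain ⟨τ, hτ⟩ := exists_conj_aut (γ := γ) hQ
  have h2 := img_afun_le (α := γ) hQ
  exact ⟨h1, _, (mem_autGroup h2).1 (ostar_mem h2 (hH Q hQ hQH) ((mem_autGroup h2).2 (h.mor h1 (hτ α)))
    (k := k) (by rw [← map_pow, hk, map_one])), hτ α⟩

theorem ostar_pres' (hH : ∀ P Q, H P → F.IsConj P Q → H Q) :
    ∀ α ∈ F.autGroup S, Pres (ostar F p H) α := fun _ hα =>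
  ostar_pres (pres_of_mem hα) fun Q hQ h => hH _ _ h (((mem_autGroup le_rfl).1 hα).mono hQ).isConj

theorem frattini_of_ess (hS : IsPGroup p S) (hF : F.IsSaturated p) (hD : F.autGroup S ≤ D.autGroup S)
    (h : ∀ P, F.IsEssential p P → ∀ α ∈ F.autGroup P, ∀ k, α ^ p ^ k = 1 → α ∈ D.autGroup P) :
    F.IsSubsystemOf D := by
  have key : ∀ P, P ≤ S → ∀ f, Mor F P f → Mor D P f := by
    refine downward_induction fun P hP ih f hf => ?_
    rcases hP.eq_or_lt with rfl | hlt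
    · exact mor_top_of_autGroup_le hD hf
    refine alperin_step hS hlt (hF P hP) ih (fun P₀ h0 hA hr => ?_) hf
    rw [isConj_card h0] at ih
    have hlt' := eq_or_lt_of_card hr.1 hlt (isConj_card h0).symm
    rcases essential_dichotomy hS hF hlt' (fullyNormalized_of_automized_receptive hS hA hr) with
      ⟨-, e⟩ | ⟨he, -⟩
    · exact e ▸ extGen_le_of_ih ih
    intro α hα
    have := finite_autGroup F hr.1
    have hB : autInducedBy S P₀ ≤ F.autGroup P₀ ⊓ D.autGroup P₀ :=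
      le_inf (autInducedBy_le_autGroup F hr.1) (autInducedBy_le_autGroup D hr.1)
    obtain ⟨c, hc, ψ, hψ, e⟩ := exists_ext_mod hS hr ((IsFullyAutomized.sylowIn hA).of_le hB inf_le_left) le_rfl
      inf_le_left ((mem_autGroup hr.1).1 hα) (img_afun α) (N := normalizerIn S P₀) le_rfl (by
        intro n hn β hβ eβ
        obtain ⟨ν, eν⟩ := exists_cAut hn.2
        obtain ⟨k, hk⟩ := autInducedBy_pgroup hS P₀ ⟨ν, mem_autInducedBy.2 ⟨n, hn.1, eν⟩⟩
        have : β = α * ν * α⁻¹ := aut_ext fun x hx => by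
          have h2 := afun_mem α⁻¹ hx
          rw [afun_mul _ _ hx, afun_mul _ _ h2, eν _ h2, ← eβ _ h2, afun_afun_inv α hx]
        refine ⟨hβ, h P₀ he β hβ k ?_⟩
        rw [this, conj_pow, show ν ^ p ^ k = 1 from congrArg Subtype.val hk]; group)
    have := finite_of_le hψ.le
    have h1 := (ih _ hψ.le (card_lt_of_lt ((lt_normalizerIn hS hlt').trans_le le_sup_left)) ψ hψ).mono
      (le_sup_right : P₀ ≤ _)
    have h2 : c * α ∈ D.autGroup P₀ := h1.mem_autGroup fun x hx => by rw [e x hx, afun_mul _ _ hx]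
    simpa using Subgroup.mul_mem _ (Subgroup.inv_mem _ hc.2) h2
  exact isSubsystemOf_iff.2 fun P f hf => key P hf.le f hf

theorem ostar_invariant (hS : IsPGroup p S) (hF : F.IsSaturated p)
    (hH : ∀ P Q, H P → F.IsConj P Q → H Q) (hE : ∀ P, F.IsEssential p P → H P) :
    (ostar F p H).IsInvariantIn F :=
  isInvariantIn_iff.2 ⟨ostar_sub, stronglyClosed_top F, fun P f hf α hα => ostar_pres' hH α hα P f hf,
    fun _ _ _ hf => twist_mor.1 (hf.sub (frattini_of_ess hS hF (D := twist _ (ostar_pres' hH))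
      le_twist_aut fun P hP _ hα _ hk => IsSubsystemOf.autGroup_le sub_twist hP.1.1
        (ostar_mem hP.1.1 (hE P hP) hα hk)))⟩

/-- the subsystem generated by all `p`-elements of automizers -/
abbrev ost (F : FusionSystem S) (p : ℕ) : FusionSystem S := ostar F p fun _ => True

theorem ost_invariant (hS : IsPGroup p S) (hF : F.IsSaturated p) : (ost F p).IsInvariantIn F :=
  ostar_invariant hS hF (fun _ _ _ _ => trivial) fun _ _ => trivial

theorem ost_le (h : D.HasPrimeToPIndexIn F p) : (ost F p).IsSubsystemOf D :=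
  ostar_le fun _ hP _ _ hα _ hk => HasPrimeToPIndexIn.mem h hP hα hk

theorem ost_le_of (hS : IsPGroup p S) (hF : F.IsSaturated p)
    (hH : ∀ P Q, H P → F.IsConj P Q → H Q) (hE : ∀ P, F.IsEssential p P → H P)
    (h : ∀ P, P ≤ S → H P → ∀ α ∈ F.autGroup P, ∀ k, α ^ p ^ k = 1 → α ∈ D.autGroup P) :
    (ost F p).IsSubsystemOf D :=
  IsSubsystemOf.trans (ost_le (IsInvariantIn.primeToP hS hF (ostar_invariant hS hF hH hE)))
    (ostar_le h)

theorem primeToP_of_ost (h : (ost F p).IsSubsystemOf D) (h' : D.IsSubsystemOf F) :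
    D.HasPrimeToPIndexIn F p :=
  primeToP_of h' fun _ hP _ hα _ hk => IsSubsystemOf.autGroup_le h hP (ostar_mem hP trivial hα hk)

theorem ost_frattini (hS : IsPGroup p S) (hF : F.IsSaturated p) (hf : Mor F P f) :
    ∃ α ∈ F.autGroup S, ∃ g, Mor (ost F p) P g ∧ ∀ x ∈ P, f x = afun α (g x) :=
  IsInvariantIn.frattini (ost_invariant hS hF) hf.le hf

theorem centric_of_frattini {E : FusionSystem T} (hP : E.IsCentric P)
    (h : ∃ α : MulAut T, ∃ g, Mor E P g ∧ ∀ x ∈ P, f x = afun α (g x)) :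
    centralizerIn T (img f P) ≤ img f P := by
  obtain ⟨α, g, hg, e⟩ := h
  rw [img_img_afun hg e]
  exact centralizerIn_img_afun hg.img_le (hP.2 _ hg.isConj)

theorem centric_of_ost (hS : IsPGroup p S) (hF : F.IsSaturated p) (h : (ost F p).IsSubsystemOf D)
    (hP : D.IsCentric P) : F.IsCentric P :=
  isCentric_iff.2 ⟨hP.1, fun f hf => by
    obtain ⟨α, -, g, hg, e⟩ := ost_frattini hS hF hf
    exact centric_of_frattini hP ⟨α, g, hg.sub h, e⟩⟩

theorem hat_le_of_radical (hc : F.IsCentric P) (hr : F.IsRadical p P) : hat F p P ≤ P := by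
  intro s hs
  obtain ⟨h1, α, hα, e⟩ := mem_hat.1 hs
  exact mem_of_cAut_mem_Inn (IsCentric.cent_le hc) hc.1 h1 e (hr.2 ▸ hα)

theorem Mor.not_hat_le (hg : Mor F U g) (hP : P ≤ U) (hN : normalizerIn S P ≤ U)
    (h : ¬ hat F p P ≤ P) : ¬ hat F p (img g P) ≤ img g P := fun hh => h fun _ hx =>
  (hg.apply_mem_img_iff hP (hN (hat_le hx))).1 (hh (hg.hat_mem hP (hN (hat_le hx)) hx))

theorem hat_le_hat (h : D.HasPrimeToPIndexIn F p) (hP : P ≤ S) : hat F p P ≤ hat D p P := by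
  intro s hs
  obtain ⟨h1, α, hα, e⟩ := mem_hat.1 hs
  refine mem_hat.2 ⟨h1, α, le_autCore (fun β hβ => ?_) autCore_pgroup
    (fun a ha => autCore_conj a (IsSubsystemOf.autGroup_le h.1 hP ha)) hα, e⟩
  obtain ⟨k, hk⟩ := autCore_pgroup ⟨β, hβ⟩
  exact HasPrimeToPIndexIn.mem h hP (autCore_le hβ) (congrArg Subtype.val hk)

theorem ess_of_star (hS : IsPGroup p S) (hF : F.IsSaturated p)
    (hstar : ∀ P, F.IsCentric P → ¬ H P → ∃ Q, F.IsConj P Q ∧ ¬ hat F p Q ≤ Q)
    (hn : F.IsFullyNormalized P) (hc : F.IsCentric P) (hr : F.IsRadical p P) : H P := by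
  by_contra h
  obtain ⟨Q, hQ, hh⟩ := hstar P hc h
  obtain ⟨g, hg, e⟩ := IsSaturated.exists_normalizer_mor hS hF hn (isConj_symm hQ)
  exact (e ▸ hg.not_hat_le (le_normalizerIn (isConj_le_right hQ)) le_rfl hh) (hat_le_of_radical hc hr)

theorem twist_ost_up (hS : IsPGroup p S) (hF : F.IsSaturated p) {hK : ∀ α ∈ K, Pres (ost F p) α}
    (hKF : K ≤ F.autGroup S) (hH : ∀ P Q, H P → F.IsConj P Q → H Q)
    (h : ∀ α ∈ F.autGroup S, ∀ P, H P → Mor (ost F p) P (afun α) → α ∈ K)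
    (hP : H P) (hPQ : P ≤ Q) (hf : Mor F Q f) (hf' : Mor (twist _ hK) P f) :
    Mor (twist _ hK) Q f := by
  obtain ⟨β, hβ, g, hg, e⟩ := ost_frattini hS hF hf
  obtain ⟨α, hα, g', hg', e'⟩ := twist_mor.1 hf'
  obtain ⟨i, hi, i1, i2, -⟩ := (hg.mono hPQ).inv
  have := h _ (Subgroup.mul_mem _ (Subgroup.inv_mem _ (hKF hα)) hβ) _
    (hH _ _ hP ((hg.mono hPQ).sub ostar_sub).isConj) ((hi.comp hg' i2).congr fun y hy => by
      obtain ⟨x, hx, rfl⟩ := (hg.mono hPQ).mem_img.1 hy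
      rw [i1 x hx, afun_mul _ _ (hg.mem (hPQ hx)), ← e x (hPQ hx), e' x hx,
        afun_inv_afun α (hg'.mem hx)])
  exact twist_mor.2 ⟨β, by simpa using K.mul_mem hα this, g, hg, e⟩

theorem exists_ost_conj (hS : IsPGroup p S) (hF : F.IsSaturated p) (h : F.IsConj P Q) :
    ∃ α ∈ F.autGroup S, (ost F p).IsConj P (img (afun α) Q) := by
  obtain ⟨f, hf, rfl⟩ := isConj_iff.1 h
  obtain ⟨β, hβ, g, hg, e⟩ := ost_frattini hS hF hf
  refine ⟨β⁻¹, Subgroup.inv_mem _ hβ, ?_⟩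
  rw [img_img_afun hg e, img_afun_inv hg.img_le]
  exact hg.isConj

theorem twist_ost_saturated (hS : IsPGroup p S) (hF : F.IsSaturated p)
    {hK : ∀ α ∈ K, Pres (ost F p) α} (hKF : K ≤ F.autGroup S)
    (hH : ∀ P Q, H P → F.IsConj P Q → H Q)
    (hstar : ∀ P, F.IsCentric P → ¬ H P → ∃ Q, F.IsConj P Q ∧ ¬ hat F p Q ≤ Q)
    (h : ∀ α ∈ F.autGroup S, ∀ P, H P → Mor (ost F p) P (afun α) → α ∈ K) :
    (twist _ hK).IsSaturated p := by
  have hsub : (twist _ hK).IsSubsystemOf F := twist_sub ostar_sub hKF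
  have hi := primeToP_of_ost sub_twist hsub
  refine hsat (H := H) hS (fun P Q hP hc => hH P Q hP (isConj_sub hsub hc)) (fun P hP hPH => ?_)
    (fun E hE => ?_) fun P hc hP => ?_
  · obtain ⟨Q, hQ, hn⟩ := exists_fullyNormalized F hP
    obtain ⟨α, hα, hc⟩ := exists_ost_conj hS hF hQ
    have hn' := fullyNormalized_img hn (((mem_autGroup le_rfl).1 hα).mono normalizerIn_le)
    have hc' := isConj_sub (F := twist _ hK) sub_twist hc
    refine ⟨_, hc', isFullyAutomized_iff.2 ⟨hn'.1, (IsFullyAutomized.sylowIn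
      (IsSaturated.fullyAutomized hS hF hn')).of_le
      (autInducedBy_le_autGroup _ hn'.1) (IsSubsystemOf.autGroup_le hsub hn'.1)⟩,
      isReceptive_iff.2 ⟨hn'.1, fun R f hf e => ?_⟩⟩
    obtain ⟨g, hg, eg⟩ := IsReceptive.ext (IsSaturated.receptive' hS hF hn') (hf.sub hsub) e
    exact ⟨g, twist_ost_up hS hF hKF hH h (hH _ _ hPH (isConj_sub hsub (isConj_trans hc'
      (isConj_symm (e ▸ hf.isConj))))) hf.le_Next hg (hf.congr fun x hx => (eg x hx).symm), eg⟩
  · have hS' : H S := ess_of_star hS hF hstar (fullyNormalized_top F) (isCentric_top F)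
      (radical_top hS hF)
    refine le_iff_mor.2 (isSubsystemOf_iff.1 (twist_sub (ost_le_of hS hF hH (fun P hP => ?_)
      fun P hP hPH α hα k hk => (mem_autGroup hP).2 (hE P _ hPH ((mem_autGroup hP).1
        (HasPrimeToPIndexIn.mem hi hP hα hk)))) fun α hα => (mem_autGroup le_rfl).2
        (hE S _ hS' ((mem_autGroup le_rfl).1 (le_twist_aut hα)))))
    exact ess_of_star hS hF hstar hP.2.1 hP.1 (radical_of_essential hS hP)
  · obtain ⟨Q, hQ, hh⟩ := hstar P (centric_of_ost hS hF sub_twist hc) hP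
    obtain ⟨α, hα, hc⟩ := exists_ost_conj hS hF hQ
    refine ⟨_, isConj_sub sub_twist hc, fun h' => ((mem_autGroup le_rfl).1 hα).not_hat_le
      (isConj_le_right hQ) normalizerIn_le hh ((hat_le_hat hi (isConj_le_right hc)).trans h')⟩

/-- `Aut⁰` -/
def aut0 (F : FusionSystem S) (p : ℕ) : Subgroup (MulAut S) :=
  Subgroup.closure {α | α ∈ F.autGroup S ∧ ∃ P, F.IsCentric P ∧ Mor (ost F p) P (afun α)}

theorem aut0_le : aut0 F p ≤ F.autGroup S := (Subgroup.closure_le _).2 fun _ h => h.1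

/-- `O^{p'}(F)` -/
def opp (F : FusionSystem S) (p : ℕ) [Fact p.Prime] : FusionSystem S :=
  twist (ost F p) (K := aut0 F p) fun α hα => ostar_pres' (fun _ _ _ _ => trivial) α (aut0_le hα)

theorem opp_sub : (opp F p).IsSubsystemOf F := twist_sub ostar_sub aut0_le

theorem opp_saturated (hS : IsPGroup p S) (hF : F.IsSaturated p) : (opp F p).IsSaturated p :=
  twist_ost_saturated (H := F.IsCentric) hS hF aut0_le (fun _ _ => isCentric_of_conj)
    (fun _ h h' => (h' h).elim) fun _ hα P hP h => Subgroup.subset_closure ⟨hα, P, hP, h⟩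

theorem opp_primeToP : (opp F p).HasPrimeToPIndexIn F p := primeToP_of_ost sub_twist opp_sub

theorem opp_le (hS : IsPGroup p S) (hF : F.IsSaturated p) (hD : D.IsSaturated p)
    (h : D.HasPrimeToPIndexIn F p) : (opp F p).IsSubsystemOf D :=
  twist_sub (ost_le h) ((Subgroup.closure_le _).2 (by
    rintro α ⟨hα, P, hP, hm⟩
    exact (mem_autGroup le_rfl).2 (mor_of_centric hS hF hD h.1 ((mem_autGroup le_rfl).1 hα) hP hP.1
      (hm.sub (ost_le h)))))

theorem opp_spec (hS : IsPGroup p S) (hF : F.IsSaturated p) : F.IsPPrimeResidual p (opp F p) :=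
  ⟨opp_saturated hS hF, opp_primeToP, fun _ => opp_le hS hF⟩

theorem sub_antisymm (h1 : E.IsSubsystemOf F) (h2 : F.IsSubsystemOf E) : E = F :=
  sys_le_antisymm h1 h2

theorem IsPPrimeResidual.eq (hS : IsPGroup p S) (hF : F.IsSaturated p) (h : F.IsPPrimeResidual p D) :
    D = opp F p :=
  sub_antisymm (h.2.2 _ (opp_saturated hS hF) opp_primeToP) (opp_le hS hF h.1 h.2.1)

theorem centric_img {γ : MulAut S} (h' : Pres F γ⁻¹) (hP : F.IsCentric P) :
    F.IsCentric (img (afun γ) P) := by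
  refine isCentric_iff.2 ⟨img_afun_le hP.1, fun f hf => ?_⟩
  obtain ⟨g, hg, e⟩ := h' _ f hf
  rw [img_afun_inv hP.1] at hg
  have := centric_of_frattini (f := fun x => f (afun γ x)) hP ⟨γ, g, hg, fun x hx => by
    conv_rhs => rw [← afun_inv_afun γ (hP.1 hx), e _ (subset_img hx),
      afun_afun_inv γ (hf.mem (subset_img hx))]⟩
  have e2 : img (fun x => f (afun γ x)) P = img f (img (afun γ) P) :=
    le_antisymm (img_le_iff.2 fun x hx => subset_img (subset_img hx)) (img_le_iff.2 fun y hy => by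
      obtain ⟨x, hx, rfl⟩ := (mem_img_afun hP.1).1 hy
      exact subset_img (f := fun x => f (afun γ x)) hx)
  rwa [e2] at this

theorem Pres.conj_aut {γ α : MulAut S} (h : Pres F γ) (hα : α ∈ F.autGroup S) :
    γ * α * γ⁻¹ ∈ F.autGroup S := by
  have := h.mor ((mem_autGroup le_rfl).1 hα) (g := afun (γ * α * γ⁻¹)) fun x hx => by
    rw [afun_mul _ _ (afun_mem γ hx), afun_inv_afun γ hx, afun_mul _ _ hx]
  rw [img_afun] at this
  exact (mem_autGroup le_rfl).2 this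

theorem opp_pres {γ : MulAut S} (h : Pres F γ) (h' : Pres F γ⁻¹) : Pres (opp F p) γ := by
  have h1 : Pres (ost F p) γ := ostar_pres h fun _ _ _ => trivial
  refine twist_pres h1 fun α hα => ?_
  refine Subgroup.closure_induction (p := fun α _ => γ * α * γ⁻¹ ∈ aut0 F p) ?_ (by simp)
    (fun a b _ _ ha hb => by simpa using Subgroup.mul_mem _ ha hb)
    (fun a _ ha => by simpa [mul_assoc] using Subgroup.inv_mem _ ha) hα
  rintro α ⟨hα, P, hP, hm⟩
  refine Subgroup.subset_closure ⟨h.conj_aut hα, _, centric_img h' hP, h1.mor hm fun x hx => ?_⟩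
  rw [afun_mul _ _ (afun_mem γ (hP.1 hx)), afun_inv_afun γ (hP.1 hx), afun_mul _ _ (hP.1 hx)]

theorem HasPrimeToPIndexIn.frattini (hS : IsPGroup p S) (hF : F.IsSaturated p)
    (h : D.HasPrimeToPIndexIn F p) (hf : Mor F P f) :
    ∃ α ∈ F.autGroup S, ∃ g, Mor D P g ∧ ∀ x ∈ P, f x = afun α (g x) := by
  obtain ⟨α, hα, g, hg, e⟩ := ost_frattini hS hF hf
  exact ⟨α, hα, g, hg.sub (ost_le h), e⟩

theorem invariant_trans {E D : FusionSystem T} (hE : E.IsInvariantIn F) (hD : D.IsSubsystemOf E)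
    (h1 : ∀ P f, Mor E P f → ∃ α ∈ E.autGroup T, ∃ g, Mor D P g ∧ ∀ x ∈ P, f x = afun α (g x))
    (h2 : ∀ α ∈ F.autGroup T, Pres D α) : D.IsInvariantIn F := by
  refine isInvariantIn_iff.2 ⟨IsSubsystemOf.trans hD hE.1, hE.2.1, fun P f hf α hα => h2 α hα P f hf,
    fun P f hP hf => ?_⟩
  obtain ⟨α, hα, g, hg, e⟩ := IsInvariantIn.frattini hE hP hf
  obtain ⟨β, hβ, k, hk, e'⟩ := h1 P g hg
  exact ⟨α * β, Subgroup.mul_mem _ hα (IsSubsystemOf.autGroup_le hE.1 le_rfl hβ), k, hk,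
    fun x hx => by rw [e x hx, e' x hx, afun_mul _ _ (hk.mem hx)]⟩

theorem opp_weaklyNormal (hS : IsPGroup p S) {E : FusionSystem T} [Finite T]
    (hE : E.IsWeaklyNormalIn F p) : (opp E p).IsWeaklyNormalIn F p := by
  have hT := pgroup_of_le hS hE.2.2.2.1.1
  exact ⟨opp_saturated hT hE.1, hE.2.1, invariant_trans hE.2.2 opp_sub
    (fun _ _ => HasPrimeToPIndexIn.frattini hT hE.1 opp_primeToP) fun α hα =>
      opp_pres (IsInvariantIn.pres hE.2.2 hα) (IsInvariantIn.pres hE.2.2 (Subgroup.inv_mem _ hα))⟩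

theorem normal_of_weakly {E : FusionSystem T} (hE : E.IsWeaklyNormalIn F p)
    (h : centralizerIn S T ≤ T) : E.IsNormalIn F p :=
  isNormalIn_of hE fun α hα => ⟨afun α, by
    rw [sup_eq_left.2 h]
    exact ((mem_autGroup le_rfl).1 hα).sub hE.2.2.1, fun _ _ => rfl,
    fun c hc => T.mul_mem (T.inv_mem (h hc)) (afun_mem α (h hc))⟩

end Cfsg.Agent.Fusion
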