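import Cfsg.Agent.Lib.Fusion.PPrime
import Cfsg.Agent.Lib.Fusion.Focal
import Cfsg.Agent.Lib.Comp.Basic

/-! Weakly normal subsystems and their `p'`-residuals. -/

set_option autoImplicit false
set_option linter.unusedSectionVars false

namespace Cfsg.Agent.Fusion

open Cfsg Cfsg.FusionSystem

section grp
variable {Γ : Type*} [Group Γ] {p : ℕ} [hp : Fact p.Prime]

theorem mem_of_pow_mem {A : Subgroup Γ} {k : Γ} (hk : (orderOf k).Coprime p) {j : ℕ}
    (h : k ^ p ^ j ∈ A) : k ∈ A :=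
  (Subgroup.zpowers_le.2 h) (mem_zpowers_pow_iff.2 (hk.symm.pow_left j))

theorem pelt_mem_of_mul {A : Subgroup Γ} {k a : Γ} (hn : ∀ x ∈ A, k⁻¹ * x * k ∈ A)
    (hk : (orderOf k).Coprime p) (ha : a ∈ A) {j : ℕ} (h : (k * a) ^ p ^ j = 1) : k * a ∈ A := by
  have key : ∀ n : ℕ, (k ^ n)⁻¹ * (k * a) ^ n ∈ A := by
    intro n
    induction n with
    | zero => simp
    | succ n ih =>
      have := A.mul_mem (hn _ ih) ha
      rwa [show k⁻¹ * ((k ^ n)⁻¹ * (k * a) ^ n) * k * a = (k ^ (n + 1))⁻¹ * (k * a) ^ (n + 1) by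
        rw [pow_succ (k * a), pow_succ]; group] at this
  have := key (p ^ j)
  rw [h, mul_one, A.inv_mem_iff] at this
  exact A.mul_mem (mem_of_pow_mem hk this) ha

theorem exists_pow_coprime_ext [Finite Γ] (β : Γ) {n : ℕ} (hn : n.Coprime p) :
    ∃ m, (orderOf (β ^ m)).Coprime p ∧ m ≡ 1 [MOD n] := by
  obtain ⟨k, hk⟩ := Transfer.exists_pow_coprime (p := p) β
  obtain ⟨m, h1, h2⟩ := Nat.chineseRemainder (hn.pow_right k) 1 0
  refine ⟨m, ?_, h1⟩
  obtain ⟨c, rfl⟩ := (Nat.modEq_zero_iff_dvd).1 h2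
  rw [pow_mul]
  exact Nat.Coprime.coprime_dvd_left (orderOf_pow_dvd c) hk

theorem pow_eq_self_of_modEq {α : Γ} {m : ℕ} (h : m ≡ 1 [MOD orderOf α]) : α ^ m = α := by
  simpa using pow_eq_pow_iff_modEq.2 h

end grp

variable {Ω : Type*} [Group Ω] {S : Subgroup Ω} {F : FusionSystem S}
  {P Q R T U : Subgroup Ω} {E D : FusionSystem T} {f g : Ω → Ω} {p : ℕ}

/-- subgroups of `T` all of whose conjugates are self-centralizing in `T` -/
def TC (F : FusionSystem S) (T P : Subgroup Ω) : Prop :=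
  P ≤ T ∧ ∀ f, Mor F P f → centralizerIn T (img f P) ≤ img f P

theorem TC.cent (h : TC F T P) (hT : T ≤ S) : centralizerIn T P ≤ P := by
  simpa [img_id] using h.2 _ (mor_id F (h.1.trans hT))

theorem StronglyClosed.img_le (hT : F.StronglyClosed T) (hf : Mor F P f) (hP : P ≤ T) :
    img f P ≤ T := img_le_iff.2 fun _ hx => StronglyClosed.mem hT hf hx (hP hx)

theorem TC.image (hT : F.StronglyClosed T) (h : TC F T P) (hf : Mor F P f) : TC F T (img f P) :=
  ⟨StronglyClosed.img_le hT hf h.1, fun g hg => by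
    rw [← hf.img_comp']; exact h.2 _ (hf.comp hg fun _ hx => subset_img hx)⟩

theorem TC.conj (hT : F.StronglyClosed T) (h : TC F T P) (hc : F.IsConj P Q) : TC F T Q := by
  obtain ⟨f, hf, rfl⟩ := isConj_iff.1 hc
  exact h.image hT hf

theorem TC.mono (h : TC F T P) (hPQ : P ≤ Q) (hQ : Q ≤ T) : TC F T Q :=
  ⟨hQ, fun f hf => ((centralizerIn_anti (img_mono hPQ)).trans (h.2 f (hf.mono hPQ))).trans
    (img_mono hPQ)⟩

theorem IsInvariantIn.centric_iff (h : E.IsInvariantIn F) :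
    E.IsCentric P ↔ TC F T P := by
  refine ⟨fun hP => ⟨hP.1, fun f hf => ?_⟩, fun hP => isCentric_iff.2 ⟨hP.1, fun f hf =>
    hP.2 f (hf.sub h.1)⟩⟩
  obtain ⟨α, -, hg⟩ := IsInvariantIn.frattini h hP.1 hf
  exact centric_of_frattini hP ⟨α, hg⟩

theorem le_normalizer_centralizerIn (hP : P ≤ T) :
    centralizerIn S T ≤ Subgroup.normalizer (P : Set Ω) :=
  (centralizerIn_anti hP).trans (centralizerIn_le_normalizerIn.trans inf_le_right)

theorem mem_sup_cent (hP : P ≤ T) {x : Ω} :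
    x ∈ P ⊔ centralizerIn S T ↔ ∃ c ∈ centralizerIn S T, ∃ u ∈ P, c * u = x := by
  rw [sup_comm]; exact mem_sup_of_le_normalizer (le_normalizer_centralizerIn hP)

theorem TC.sup_inf (h : TC F T P) (hT : T ≤ S) {x : Ω} (hx : x ∈ P ⊔ centralizerIn S T)
    (hxT : x ∈ T) : x ∈ P := by
  obtain ⟨c, hc, u, hu, rfl⟩ := (mem_sup_cent h.1).1 hx
  have h1 : c ∈ T := (T.mul_mem_cancel_right (h.1 hu)).1 hxT
  exact P.mul_mem (h.cent hT (mem_centralizerIn.2 ⟨h1, fun x hx =>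
    (mem_centralizerIn.1 hc).2 x (h.1 hx)⟩)) hu

theorem TC.inf_cent (h : TC F T P) (hT : T ≤ S) :
    centralizerIn S T ⊓ P = centralizerIn S T ⊓ T :=
  le_antisymm (inf_le_inf_left _ h.1) fun _ hx =>
    ⟨hx.1, h.sup_inf hT (Subgroup.mem_sup_right hx.1) hx.2⟩

theorem conj_mod (hT : F.StronglyClosed T) {x t : Ω} (hx : x ∈ S) (ht : t ∈ T) :
    x⁻¹ * (t * x * t⁻¹) ∈ T := by
  simpa [mul_assoc] using T.mul_mem (StronglyClosed.conj_mem hT (S.inv_mem hx) ht) (T.inv_mem ht)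

theorem centralizerIn_conj_mem' (hT : F.StronglyClosed T) {s c : Ω} (hs : s ∈ S)
    (hn : s ∈ Subgroup.normalizer (P : Set Ω)) (hc : c ∈ centralizerIn T P) :
    s * c * s⁻¹ ∈ centralizerIn T P :=
  ⟨StronglyClosed.conj_mem hT hs hc.1,
    (centralizerIn_conj_mem (H := S) ⟨hs, hn⟩ (centralizerIn_mono hT.1 hc)).2⟩

theorem mem_of_same_conj (hf : Mor F P f) {a b : Ω} (ha : a ∈ T) (hb : b ∈ T)
    (hc : centralizerIn T (img f P) ≤ img f P)
    (e : ∀ x ∈ P, a * f x * a⁻¹ = b * f x * b⁻¹) : b⁻¹ * a ∈ img f P := by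
  refine hc (mem_centralizerIn.2 ⟨T.mul_mem (T.inv_mem hb) ha, fun y hy => ?_⟩)
  obtain ⟨x, hx, rfl⟩ := hf.mem_img.1 hy
  rw [show b⁻¹ * a * f x * (b⁻¹ * a)⁻¹ = b⁻¹ * (a * f x * a⁻¹) * b by group, e x hx]; group

variable [hp : Fact p.Prime] [Finite S]

theorem chain_mem_autCore (hS : IsPGroup p S) (hT : F.StronglyClosed T) (hR : R ≤ S)
    {a : MulAut R} (ha : a ∈ F.autGroup R) (h1 : ∀ x ∈ R, x ∈ T → afun a x = x)
    (h2 : ∀ x ∈ R, x⁻¹ * afun a x ∈ T) : a ∈ autCore F p R := by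
  have := finite_of_le hR
  let C : ℕ → Subgroup Ω := fun i => if i = 0 then T else ⊤
  have hinv : ∀ α ∈ F.autGroup R, ∀ i, ∀ x ∈ R, x ∈ C i → afun α x ∈ C i := by
    intro α hα i x hx h
    by_cases hi : i = 0
    · simp only [C, hi, if_true] at h ⊢
      exact StronglyClosed.mem hT ((mem_autGroup hR).1 hα) hx h
    · simp [C, hi]
  let L : Subgroup (MulAut R) := F.autGroup R ⊓ resPre (inf_le_left : R ⊓ T ≤ R) ⊥
  have hinv' : ∀ α ∈ L, ∀ i, ∀ x ∈ R, x ∈ C i → afun α x ∈ C i := fun α hα => hinv α hα.1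
  refine le_autCore (N := chainStab L C 1 hinv') (fun _ h => h.1.1)
    (chainStab_pgroup (pgroup_of_le hS hR) hinv' (by simp [C]) fun α hα => ⟨0, fun x hx h => ?_⟩)
    (chainStab_conj hinv' hinv fun b hb α hα => ⟨Subgroup.mul_mem _ (Subgroup.mul_mem _ hb hα.1)
      (Subgroup.inv_mem _ hb), resPre_conj _ hR (by simp) ⟨hb, fun x hx => ?_⟩ hα.2⟩)
    ⟨⟨ha, (mem_resPre _).2 ⟨1, Subgroup.one_mem _, fun x hx => by rw [h1 x hx.1 hx.2, afun_one]⟩⟩,
      fun i hi x hx _ => ?_⟩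
  · obtain ⟨β, hβ, e⟩ := (mem_resPre _).1 hα.1.2
    rw [pow_zero, pow_one, e x ⟨hx, by simpa [C] using h⟩, Subgroup.mem_bot.1 hβ, afun_one]
  · rw [Subgroup.mem_inf, Subgroup.mem_inf, StronglyClosed.mem_iff hT ((mem_autGroup hR).1 hb) hx]
    simp [hx, afun_mem]
  · obtain rfl : i = 0 := by omega
    simpa [C] using h2 x hx

theorem pelt_of_step (hP : IsPGroup p Q) [Finite Q] {η : MulAut Q} (hPQ : P ≤ Q)
    (h1 : ∀ x ∈ P, afun η x = x) (h2 : ∀ x ∈ Q, x⁻¹ * afun η x ∈ P) : ∃ k, η ^ p ^ k = 1 := by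
  obtain ⟨e, he⟩ := IsPGroup.iff_card.1 hP
  refine ⟨e, aut_ext fun x hx => ?_⟩
  have h3 := hPQ (h2 x hx)
  rw [afun_pow_of_step hx h3 (by group) (h1 _ (h2 x hx)), ← he, afun_one]
  have : (⟨_, h3⟩ : Q) ^ Nat.card Q = 1 := pow_card_eq_one'
  rw [show (x⁻¹ * afun η x) ^ Nat.card Q = 1 from congrArg Subtype.val this, mul_one]

theorem eq_one_of_coprime_pelt {Γ : Type*} [Group Γ] {η : Γ} (h : (orderOf η).Coprime p) {k : ℕ}
    (hk : η ^ p ^ k = 1) : η = 1 :=
  Subgroup.mem_bot.1 (mem_of_pow_mem h (Subgroup.mem_bot.2 hk))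

theorem star_of_not_tc (hS : IsPGroup p S) (hF : F.IsSaturated p) (hT : F.StronglyClosed T)
    (hP : P ≤ S) (h : ¬ TC F T (P ⊓ T)) : ∃ g, Mor F P g ∧ ¬ hat F p (img g P) ≤ img g P := by
  obtain ⟨g, hg, hn⟩ := IsSaturated.exists_normalizer_mor' hS hF (inf_le_left.trans hP : P ⊓ T ≤ S)
  have hPN : P ≤ normalizerIn S (P ⊓ T) := le_inf hP (le_normalizer_of_conj_mem fun s hs x hx =>
    ⟨P.mul_mem (P.mul_mem hs hx.1) (P.inv_mem hs), StronglyClosed.conj_mem hT (hP hs) hx.2⟩)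
  have hg' := hg.mono hPN
  have e := StronglyClosed.img_inf hT hg'
  refine ⟨g, hg', fun hh => h ⟨inf_le_right, fun f hf c hc => ?_⟩⟩
  have h1 : centralizerIn T (img g P ⊓ T) ≤ img g P := by
    refine le_of_normalizer_inf_le hS hg'.img_le (centralizerIn_le.trans hT.1)
      (le_normalizer_of_conj_mem fun s hs x hx => ?_) fun s hs hs' => hh ?_
    · refine centralizerIn_conj_mem' hT (hg'.img_le hs) ?_ hx
      exact le_normalizer_of_conj_mem (K := img g P) (fun s hs x hx => Subgroup.mem_inf.2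
        ⟨Subgroup.mul_mem _ (Subgroup.mul_mem _ hs hx.1) (Subgroup.inv_mem _ hs),
          StronglyClosed.conj_mem hT (hg'.img_le hs) hx.2⟩) hs
    · obtain ⟨σ, eσ⟩ := exists_cAut hs'
      refine mem_hat.2 ⟨hT.1 hs.1, σ, chain_mem_autCore hS hT hg'.img_le (autInducedBy_le_autGroup F
        hg'.img_le (mem_autInducedBy.2 ⟨s, hT.1 hs.1, eσ⟩)) (fun x hx hx' => ?_) fun x hx => ?_, eσ⟩
      · rw [eσ x hx, (mem_centralizerIn.1 hs).2 x ⟨hx, hx'⟩]
      · rw [eσ x hx]; exact conj_mod hT (hg'.img_le hx) hs.1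
  obtain ⟨i, hi, i1, i2, -, i4⟩ := hf.inv
  have hm := hi.comp (hg'.mono inf_le_left) i2
  obtain ⟨k, hk, ek⟩ := IsReceptive.ext (IsSaturated.receptive' hS hF hn) hm
    (by rw [hi.img_comp', i4])
  have hcN := centralizerIn_le_Next (f := fun x => g (i x)) (centralizerIn_mono hT.1 hc)
  have e' : img k (img f (P ⊓ T)) = img g P ⊓ T := by rw [img_congr ek, hi.img_comp', i4, e]
  have h2 := hk.mem_centralizer_img hm.le_Next hcN (mem_centralizerIn.1 hc).2
  have h3 := StronglyClosed.mem hT hk hcN hc.1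
  rw [e'] at h2
  exact (hk.apply_mem_img_iff hm.le_Next hcN).1 (e' ▸ ⟨h1 ⟨h3, h2.2⟩, h3⟩)

theorem TC.img_sup (hS : IsPGroup p S) (hF : F.IsSaturated p) (hT : F.StronglyClosed T)
    (h : TC F T P) (hg : Mor F (P ⊔ centralizerIn S T) g) :
    Fusion.img g (P ⊔ centralizerIn S T) = Fusion.img g P ⊔ centralizerIn S T := by
  have h' := h.image hT (hg.mono le_sup_left)
  have hle := sup_le (h'.1.trans hT.1) (centralizerIn_le : centralizerIn S T ≤ S)
  have := finite_of_le hle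
  refine hg.img_eq_of_card_le (hg.mem_of_sup (fun x hx => Subgroup.mem_sup_left (subset_img hx))
    fun c hc => ?_) (le_of_eq ?_)
  · have h1 := StronglyClosed.mem (stronglyClosed_sup_centralizer hS hF hT) hg
      (Subgroup.mem_sup_right hc) (Subgroup.mem_sup_right hc)
    obtain ⟨d, hd, t, ht, e⟩ := (mem_sup_cent le_rfl).1 h1
    have h2 := hg.mem_centralizer_img le_sup_left (Subgroup.mem_sup_right hc)
      fun x hx => (mem_centralizerIn.1 hc).2 x (h.1 hx)
    rw [← e] at h2 ⊢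
    refine Subgroup.mul_mem _ (Subgroup.mem_sup_right hd) (Subgroup.mem_sup_left
      (h'.cent hT.1 ⟨ht, ?_⟩))
    exact (Subgroup.mul_mem_cancel_left _ (centralizerIn_anti h'.1 hd).2).1 h2.2
  · have a := Comp.card_sup_mul_card_inf (le_normalizer_centralizerIn (S := S) h.1)
    have b := Comp.card_sup_mul_card_inf (le_normalizer_centralizerIn (S := S) h'.1)
    rw [h.inf_cent hT.1, sup_comm] at a
    rw [h'.inf_cent hT.1, (hg.mono le_sup_left).card_img, ← a, sup_comm] at b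
    have := finite_of_le (inf_le_left.trans centralizerIn_le : centralizerIn S T ⊓ T ≤ S)
    exact Nat.eq_of_mul_eq_mul_right Nat.card_pos b

theorem TC.ext (hS : IsPGroup p S) (hF : F.IsSaturated p) (hT : F.StronglyClosed T)
    (h : TC F T P) (hf : Mor F P f) :
    ∃ g, Mor F (P ⊔ centralizerIn S T) g ∧ ∀ x ∈ P, g x = f x := by
  obtain ⟨R, hR, hc⟩ := exists_fullyCentralized F hf.img_le
  obtain ⟨k, hk, rfl⟩ := isConj_iff.1 hR
  have key : ∀ P k, TC F T P → Mor F P k → F.IsReceptive (Fusion.img k P) →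
      ∃ g, Mor F (P ⊔ centralizerIn S T) g ∧ ∀ x ∈ P, g x = k x := fun P k h hk hr => by
    obtain ⟨g, hg, e⟩ := IsReceptive.ext hr hk rfl
    exact ⟨g, hg.mono (sup_le hk.le_Next ((centralizerIn_anti h.1).trans centralizerIn_le_Next)), e⟩
  have hr := IsSaturated.receptive hS hF hc
  obtain ⟨a, ha, ea⟩ := key _ k (h.image hT hf) hk hr
  obtain ⟨b, hb, eb⟩ := key P _ h (hf.comp hk fun _ hx => subset_img hx) (hf.img_comp' k ▸ hr)
  obtain ⟨i, hi, i1, -⟩ := ha.inv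
  refine ⟨_, hb.comp hi fun x hx => ?_, fun x hx => ?_⟩
  · rw [(h.image hT hf).img_sup hS hF hT ha, img_congr ea, ← hf.img_comp', ← img_congr eb,
      ← h.img_sup hS hF hT hb]
    exact subset_img hx
  · show i (b x) = _
    rw [eb x hx, ← ea _ (subset_img hx), i1 _ (Subgroup.mem_sup_left (subset_img hx))]

theorem TC.top (hT : F.StronglyClosed T) : TC F T T :=
  ⟨le_rfl, fun _ hf => by rw [StronglyClosed.img_eq hT hf le_rfl]; exact centralizerIn_le⟩

theorem TC.ext_up (hS : IsPGroup p S) (hF : F.IsSaturated p) (hT : F.StronglyClosed T) :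
    ∀ P, P ≤ T → TC F T P → ∀ δ ∈ F.autGroup (P ⊔ centralizerIn S T), (orderOf δ).Coprime p →
      (∀ x ∈ P, afun δ x = x) → ∃ g, Mor F (T ⊔ centralizerIn S T) g ∧ (∀ x ∈ T, g x = x) ∧
        ∀ x ∈ P ⊔ centralizerIn S T, g x = afun δ x := by
  have := finite_of_le hT.1
  refine downward_induction fun P hP ih h δ hδ hc e => ?_
  have hR := sup_le (hP.trans hT.1) (centralizerIn_le : centralizerIn S T ≤ S)
  have hmδ := (mem_autGroup hR).1 hδ
  rcases hP.eq_or_lt with rfl | hlt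
  · exact ⟨_, hmδ, e, fun _ _ => rfl⟩
  set N := normalizerIn T P
  have hPN : P < N := lt_normalizerIn (pgroup_of_le hS hT.1) hlt
  have hN : N ≤ normalizerIn S (P ⊔ centralizerIn S T) := fun n hn => ⟨hT.1 hn.1, by
    have := finite_of_le hR
    refine mem_normalizer_of_finite fun x hx => ?_
    obtain ⟨c, hc, u, hu, rfl⟩ := (mem_sup_cent hP).1 hx
    rw [show n * (c * u) * n⁻¹ = c * ((c⁻¹ * n * c⁻¹⁻¹) * u * n⁻¹) by group,
      (mem_centralizerIn.1 (Subgroup.inv_mem _ hc)).2 n hn.1]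
    exact (P ⊔ centralizerIn S T).mul_mem (Subgroup.mem_sup_right hc)
      (Subgroup.mem_sup_left (conj_mem_of_mem_normalizerIn hn hu))⟩
  obtain ⟨ψ, hψ, hn⟩ := IsSaturated.exists_normalizer_mor' hS hF hR
  have hRN := le_normalizerIn hR
  have hf := hmδ.comp hψ fun x hx => hRN (afun_mem δ hx)
  obtain ⟨k, hk, ek⟩ := IsReceptive.ext (IsSaturated.receptive' hS hF hn) hf
    (by rw [hmδ.img_comp', img_afun])
  have hNx : N ≤ Next S (P ⊔ centralizerIn S T) fun x => ψ (afun δ x) := by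
    intro n hn'
    obtain ⟨ν, eν⟩ := exists_cAut (hN hn').2
    have hν := autInducedBy_le_autGroup F hR (mem_autInducedBy.2 ⟨n, hT.1 hn'.1, eν⟩)
    have hl : δ * ν * δ⁻¹ * ν⁻¹ ∈ autCore F p (P ⊔ centralizerIn S T) := by
      have hν' : ν ∈ modKer F (P ⊔ centralizerIn S T) T := ⟨hν, fun x hx => by rw [eν x hx]; exact conj_mod hT (hR hx) hn'.1⟩
      have h1 := Subgroup.mul_mem _ (modKer_conj hT hR δ hδ ν hν') (Subgroup.inv_mem _ hν')
      refine chain_mem_autCore hS hT hR h1.1 (fun x hx hxT => ?_) h1.2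
      have hx' := h.sup_inf hT.1 hx hxT
      have h2 : afun ν⁻¹ x ∈ P := by
        have := conj_mem_of_mem_normalizerIn (Subgroup.inv_mem _ hn') hx'
        have e5 := afun_inv_afun ν (Subgroup.mem_sup_left this)
        rw [eν _ (Subgroup.mem_sup_left this), show n * (n⁻¹ * x * n⁻¹⁻¹) * n⁻¹ = x by group] at e5
        exact e5 ▸ this
      have h3 : afun δ⁻¹ (afun ν⁻¹ x) = afun ν⁻¹ x := by
        conv_lhs => rw [← e _ h2, afun_inv_afun δ (afun_mem _ hx)]
      rw [afun_mul _ _ hx, afun_mul _ _ (afun_mem _ hx), h3, afun_mul _ _ (afun_mem _ hx),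
        afun_afun_inv ν hx, e x hx']
    obtain ⟨τ, hτ, h2, -⟩ := (hψ.mono hRN).exists_transport rfl
    have := finite_autGroup F hn.1
    obtain ⟨s, hs, es⟩ := mem_autInducedBy.1 ((IsFullyAutomized.sylowIn
      (IsSaturated.fullyAutomized hS hF hn)).le_of_normal autCore_le autCore_pgroup autCore_conj
        (transport_autCore h2 hl))
    refine mem_Next.2 ⟨hN hn', s * ψ n, S.mul_mem hs (hψ.mem (hN hn')), fun x hx => ?_⟩
    have h3 := afun_mem δ hx
    have h4 := afun_mem ν h3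
    have h5 := hτ (δ * ν * δ⁻¹ * ν⁻¹) _ h4
    rw [es _ (subset_img h4), afun_mul _ _ h4, afun_inv_afun ν h3, afun_mul _ _ h3,
      afun_inv_afun δ hx, afun_mul _ _ hx, eν x hx, eν _ h3, hψ.map_conj (hN hn') (hRN h3)] at h5
    rw [← h5]; group
  have hNT : N ≤ T := normalizerIn_le
  have h' := h.mono hPN.le hNT
  have hle : N ⊔ centralizerIn S T ≤ normalizerIn S (P ⊔ centralizerIn S T) := sup_le hN (le_sup_right.trans hRN)
  have hk' := hk.mono (sup_le hNx (le_sup_right.trans hf.le_Next))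
  have hψ' := hψ.mono hle
  have hRle : (P ⊔ centralizerIn S T) ≤ N ⊔ centralizerIn S T := sup_le_sup_right hPN.le _
  have ekP : ∀ x ∈ P, k x = ψ x := fun x hx => by
    rw [ek x (Subgroup.mem_sup_left hx), e x hx]
  have hψP := hψ'.mono (hPN.le.trans le_sup_left)
  have h1 : ∀ n ∈ N, (ψ n)⁻¹ * k n ∈ img ψ P := fun n hn' =>
    mem_of_same_conj hψP (StronglyClosed.mem hT hk' (Subgroup.mem_sup_left hn') hn'.1)
      (StronglyClosed.mem hT hψ' (Subgroup.mem_sup_left hn') hn'.1) (h.2 ψ hψP) fun x hx => by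
        rw [← hψ'.map_conj (Subgroup.mem_sup_left hn') (Subgroup.mem_sup_left (hPN.le hx)),
          ← ekP _ (conj_mem_of_mem_normalizerIn hn' hx), ← ekP x hx,
          hk'.map_conj (Subgroup.mem_sup_left hn') (Subgroup.mem_sup_left (hPN.le hx))]
  obtain ⟨i, hi, i1, i2, i3, -⟩ := hψ'.inv
  have h2 : ∀ x ∈ N ⊔ centralizerIn S T, k x ∈ img ψ (N ⊔ centralizerIn S T) := by
    refine hk'.mem_of_sup (fun n hn' => ?_) fun c hc => ?_
    · have := Subgroup.mul_mem _ (subset_img (f := ψ) (Subgroup.mem_sup_left hn'))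
        (img_mono (hPN.le.trans (le_sup_left (b := centralizerIn S T))) (h1 n hn'))
      simpa using this
    · rw [ek c (Subgroup.mem_sup_right hc)]
      exact subset_img (hRle (afun_mem δ (Subgroup.mem_sup_right hc)))
  have hm := hk'.comp hi h2
  have := finite_of_le hk'.le
  obtain ⟨η, hη, eη⟩ := hm.exists_aut (hm.img_eq_self fun x hx => i2 _ (h2 x hx))
  have := finite_mulAut (N ⊔ centralizerIn S T)
  obtain ⟨m, hm1, hm2⟩ := exists_pow_coprime_ext η hc
  have e1 : ∀ x ∈ (P ⊔ centralizerIn S T), afun η x = afun δ x := fun x hx => by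
    rw [eη x (hRle hx), ek x hx, i1 _ (hRle (afun_mem δ hx))]
  have e2 : ∀ x ∈ (P ⊔ centralizerIn S T), afun (η ^ m) x = afun δ x := fun x hx => by
    rw [afun_pow_of_eq hRle e1 m x hx, pow_eq_self_of_modEq hm2]
  have e3 : ∀ n ∈ N, n⁻¹ * afun η n ∈ P := fun n hn' => by
    have h3 : n ∈ N ⊔ centralizerIn S T := Subgroup.mem_sup_left hn'
    rw [← hψ'.apply_mem_img_iff (hPN.le.trans le_sup_left)
      (Subgroup.mul_mem _ (Subgroup.inv_mem _ h3) (afun_mem η h3)),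
      hψ'.map_mul (Subgroup.inv_mem _ h3) (afun_mem η h3), hψ'.map_inv h3, eη n h3, i3 _ (h2 n h3)]
    exact h1 n hn'
  obtain ⟨η', eη'⟩ := exists_resAut le_sup_left (mem_stabAut_of_finite (β := η) le_sup_left
    fun n hn' => by simpa using N.mul_mem hn' (hPN.le (e3 n hn')))
  have := finite_of_le hNT
  obtain ⟨j, hj⟩ := pelt_of_step (pgroup_of_le hS (hNT.trans hT.1)) (η := η') hPN.le
    (fun x hx => by rw [← eη' x (hPN.le hx), e1 x (Subgroup.mem_sup_left hx), e x hx])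
    fun x hx => eη' x hx ▸ e3 x hx
  have e4 : ∀ n ∈ N, afun (η ^ m) n = n := by
    have h3 : η' ^ m = 1 := by
      refine eq_one_of_coprime_pelt (Nat.Coprime.coprime_dvd_left (orderOf_dvd_of_pow_eq_one
        (aut_ext fun x hx => ?_)) hm1) (k := j) (by rw [← pow_mul, mul_comm, pow_mul, hj, one_pow])
      rw [← afun_pow_of_eq le_sup_left (afun_pow_of_eq le_sup_left eη' m) _ x hx, pow_orderOf_eq_one,
        afun_one, afun_one]
    intro n hn'
    rw [afun_pow_of_eq le_sup_left eη' m n hn', h3, afun_one]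
  obtain ⟨g, hg, g1, g2⟩ := ih N hNT (card_lt_of_lt hPN) h' _ (Subgroup.pow_mem _ hη m) hm1 e4
  exact ⟨g, hg, g1, fun x hx => by rw [g2 x (hRle hx), e2 x hx]⟩

end Cfsg.Agent.Fusion
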