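import Cfsg.Agent.Lib.Fusion.PPrime2

/-! Craven's theorem and normal subsystems of index prime to `p`. -/

set_option autoImplicit false
set_option linter.unusedSectionVars false

namespace Cfsg.Agent.Fusion

open Cfsg Cfsg.FusionSystem

variable {Ω : Type*} [Group Ω] {S : Subgroup Ω} {F : FusionSystem S}
  {P Q R T U : Subgroup Ω} {E D : FusionSystem T} {f g : Ω → Ω} {p : ℕ}
  [hp : Fact p.Prime] [Finite S]

theorem pelt_conj (hS : IsPGroup p S) (hE : E.IsSaturated p) (hEF : E.IsSubsystemOf F) (hP : P ≤ T)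
    {α : MulAut P} (hα : α ∈ E.autGroup P) {k : ℕ} (hk : α ^ p ^ k = 1) :
    ∃ f, ∃ t ∈ T, Mor E P f ∧ ∀ x ∈ P, f (afun α x) = t * f x * t⁻¹ := by
  have hT := IsSubsystemOf.le hEF
  have := finite_of_le hT
  obtain ⟨R, hR, hA, -⟩ := hE P hP
  obtain ⟨φ, hφ, -, h⟩ := exists_pullAut_ge (pgroup_of_le hS hT) hA hR (Subgroup.zpowers_le.2 hα)
    (pgroup_zpowers hk)
  obtain ⟨t, ht, e⟩ := h (Subgroup.mem_zpowers α)
  exact ⟨φ, t, ht, hφ, e⟩

theorem StrongInv.mem_of_conj (h : StrongInv D F) (hT : F.StronglyClosed T) (hP : P ≤ T)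
    {α : MulAut P} (hf : Mor F P f) (hg : Mor D (img f P) g)
    (e : ∀ x ∈ P, f (afun α x) = g (f x)) : α ∈ D.autGroup P := by
  obtain ⟨i, hi, i1, -, -, i4⟩ := hf.inv
  have := h.mor hg le_rfl (StronglyClosed.img_le hT hf hP) (fun y hy => by
    obtain ⟨x, hx, rfl⟩ := hf.mem_img.1 hy
    rw [← e x hx]; exact subset_img (afun_mem α hx)) hi (g := afun α) fun y hy => by
    obtain ⟨x, hx, rfl⟩ := hf.mem_img.1 hy
    rw [← e x hx, i1 x hx, i1 _ (afun_mem α hx)]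
  rw [i4] at this
  exact (mem_autGroup hP).2 this

theorem pelt_mem_of_inv (hS : IsPGroup p S) (hE : E.IsSaturated p) (hEF : E.IsSubsystemOf F)
    (hD : D.IsInvariantIn F) (hP : P ≤ T) {α : MulAut P} (hα : α ∈ E.autGroup P) {k : ℕ}
    (hk : α ^ p ^ k = 1) : α ∈ D.autGroup P := by
  obtain ⟨f, t, ht, hf, e⟩ := pelt_conj hS hE hEF hP hα hk
  exact (IsInvariantIn.strongInv hD).mem_of_conj hD.2.1 hP (hf.sub hEF) (mor_conj D hf.img_le ht) e

theorem pelt_inner (hS : IsPGroup p S) (hF : F.IsSaturated p) {α : MulAut S}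
    (hα : α ∈ F.autGroup S) {k : ℕ} (hk : α ^ p ^ k = 1) : α ∈ autInducedBy S S := by
  have := finite_autGroup F le_rfl
  obtain ⟨c, -, h⟩ := (IsFullyAutomized.sylowIn (IsSaturated.fullyAutomized hS hF
    (fullyNormalized_top F))).conj (Subgroup.zpowers_le.2 hα) (pgroup_zpowers hk)
  rw [← Inn_eq_autInducedBy] at h ⊢
  simpa [mul_assoc] using Inn_conj (a := c⁻¹) (h α (Subgroup.mem_zpowers α))

theorem goodData (hS : IsPGroup p S) (hF : F.IsSaturated p) (hT : F.StronglyClosed T)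
    (hE : E.IsSubsystemOf F) : SysData T fun P f => Mor E P f ∧ (TC F T P →
      ∃ g, Mor F (P ⊔ centralizerIn S T) g ∧ (∀ x ∈ P, g x = f x) ∧
        ∀ x ∈ P ⊔ centralizerIn S T, x⁻¹ * g x ∈ T) :=
  SysData.ofSub E (fun h => h.1) (fun h => h.1.le) (fun h _ hx => h.1.mem hx)
    (fun h e => ⟨h.1.congr e, fun hP => by
      obtain ⟨k, hk, e1, e2⟩ := h.2 hP
      exact ⟨k, hk, fun x hx => (e1 x hx).trans (e x hx), e2⟩⟩)
    (fun hP hs => ⟨mor_conj E hP hs, fun _ => by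
      have := sup_le (hP.trans hT.1) (centralizerIn_le : centralizerIn S T ≤ S)
      exact ⟨_, mor_conj F this (hT.1 hs), fun _ _ => rfl, fun x hx => conj_mod hT (this hx) hs⟩⟩)
    (by
      intro P Q f g h1 h2 e
      refine ⟨h1.1.comp h2.1 e, fun hP => ?_⟩
      obtain ⟨k, hk, e1, e2⟩ := h1.2 hP
      have h3 := img_le_iff.2 e
      obtain ⟨l, hl, e3, e4⟩ := h2.2 ((hP.image hT (h1.1.sub hE)).mono h3 h2.1.le)
      have h4 : ∀ x ∈ P ⊔ centralizerIn S T, k x ∈ Q ⊔ centralizerIn S T := fun x hx =>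
        sup_le_sup_right h3 _ (by
          rw [← img_congr e1, ← hP.img_sup hS hF hT hk]; exact subset_img hx)
      refine ⟨_, hk.comp hl h4, fun x hx => ?_, fun x hx => ?_⟩
      · show l (k x) = _
        rw [e1 x hx, e3 _ (e x hx)]
      · simpa [mul_assoc] using T.mul_mem (e2 x hx) (e4 _ (h4 x hx)))
    (by
      intro P f g h1 hg e
      refine ⟨hg, fun hP' => ?_⟩
      have hP : TC F T P := by
        have := hP'.image hT (hg.sub hE)
        rwa [h1.1.img_inv_img le_rfl e] at this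
      obtain ⟨k, hk, e1, e2⟩ := h1.2 hP
      obtain ⟨i, hi, i1, -⟩ := hk.inv
      have h3 := hP.img_sup hS hF hT hk
      rw [img_congr e1] at h3
      refine ⟨i, h3 ▸ hi, fun y hy => ?_, fun y hy => ?_⟩
      · obtain ⟨x, hx, rfl⟩ := h1.1.mem_img.1 hy
        rw [e x hx, ← e1 x hx, i1 x (Subgroup.mem_sup_left hx)]
      · obtain ⟨x, hx, rfl⟩ := hk.mem_img.1 (h3 ▸ hy)
        rw [i1 x hx]
        simpa using T.inv_mem (e2 x hx))

theorem good_pelt (hS : IsPGroup p S) (hF : F.IsSaturated p) (hT : F.StronglyClosed T)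
    (hE : E.IsSaturated p) (hEF : E.IsSubsystemOf F) (hP : P ≤ T) {α : MulAut P}
    (hα : α ∈ E.autGroup P) {k : ℕ} (hk : α ^ p ^ k = 1) :
    α ∈ (goodData hS hF hT hEF).sys.autGroup P := by
  refine (mem_autGroup hP).2 ((goodData hS hF hT hEF).mor_iff.2 ⟨(mem_autGroup hP).1 hα, fun h => ?_⟩)
  obtain ⟨f, t, ht, hf, e⟩ := pelt_conj hS hE hEF hP hα hk
  obtain ⟨k, hk, ek⟩ := h.ext hS hF hT (hf.sub hEF)
  obtain ⟨i, hi, i1, i2, i3, -⟩ := hk.inv
  have h1 := hk.comp (mor_conj F le_rfl (hT.1 ht)) fun x hx => hk.mem hx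
  have h2 : ∀ x ∈ P ⊔ centralizerIn S T, t * k x * t⁻¹ ∈ img k (P ⊔ centralizerIn S T) := fun x hx => by
    have := subset_img (f := fun x => t * k x * t⁻¹) hx
    rw [h.img_sup hS hF hT h1] at this
    rw [h.img_sup hS hF hT hk]
    refine sup_le_sup_right (img_le_iff.2 fun y hy => ?_) _ this
    show t * k y * t⁻¹ ∈ _
    rw [ek y hy, ← e y hy, ← ek _ (afun_mem α hy)]
    exact subset_img (afun_mem α hy)
  refine ⟨_, h1.comp hi h2, fun x hx => ?_, fun x hx => ?_⟩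
  · show i (t * k x * t⁻¹) = _
    rw [ek x hx, ← e x hx, ← ek _ (afun_mem α hx), i1 _ (Subgroup.mem_sup_left (afun_mem α hx))]
  · have h3 := i2 _ (h2 x hx)
    rw [← StronglyClosed.mem_iff hT hk (Subgroup.mul_mem _ (Subgroup.inv_mem _ hx) h3),
      hk.map_mul (Subgroup.inv_mem _ hx) h3, hk.map_inv hx, i3 _ (h2 x hx)]
    exact conj_mod hT (hk.mem hx) ht

theorem good_up (hS : IsPGroup p S) (hF : F.IsSaturated p) (hT : F.StronglyClosed T)
    (hE : E.IsSaturated p) (hEF : E.IsSubsystemOf F) (hP : TC F T P) {α : MulAut T}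
    (hα : α ∈ E.autGroup T) (h : Mor (goodData hS hF hT hEF).sys P (afun α)) :
    α ∈ (goodData hS hF hT hEF).sys.autGroup T := by
  have := finite_of_le hT.1
  have := finite_mulAut T
  obtain ⟨a, ha, b, hb, e, ⟨k, hk⟩, hc⟩ := Transfer.exists_pPart p α
  have ha' := good_pelt hS hF hT hE hEF le_rfl (Subgroup.zpowers_le.2 hα ha) hk
  have hb' : b ∈ E.autGroup T := Subgroup.zpowers_le.2 hα hb
  have h1 : Mor (goodData hS hF hT hEF).sys P (afun b) :=
    (h.comp ((mem_autGroup le_rfl).1 (Subgroup.inv_mem _ ha')) fun x hx => h.mem hx).congr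
      fun x hx => by rw [e, afun_mul _ _ (hP.1 hx), afun_inv_afun a (afun_mem b (hP.1 hx))]
  refine e ▸ Subgroup.mul_mem _ ha' ((mem_autGroup le_rfl).2 ((goodData hS hF hT hEF).mor_iff.2
    ⟨(mem_autGroup le_rfl).1 hb', fun hTC => ?_⟩))
  obtain ⟨g, hg, g1, g2⟩ := ((goodData hS hF hT hEF).mor_iff.1 h1).2 hP
  obtain ⟨k, hk, ek⟩ := hTC.ext hS hF hT (((mem_autGroup le_rfl).1 hb').sub hEF)
  have hU := stronglyClosed_sup_centralizer hS hF hT
  obtain ⟨β₀, hβ₀, eβ₀⟩ := hk.exists_aut (StronglyClosed.img_eq hU hk le_rfl)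
  have := finite_of_le hU.1
  have := finite_mulAut (T ⊔ centralizerIn S T)
  obtain ⟨m, hm1, hm2⟩ := exists_pow_coprime_ext β₀ hc
  set β := β₀ ^ m
  have eβ : ∀ x ∈ T, afun β x = afun b x := fun x hx => by
    rw [afun_pow_of_eq le_sup_left (α := b) (fun x hx => by
      rw [eβ₀ x (Subgroup.mem_sup_left hx), ek x hx]) m x hx, pow_eq_self_of_modEq hm2]
  have hβ : β ∈ F.autGroup _ := Subgroup.pow_mem _ hβ₀ m
  have mβ := fun n : ℤ => (mem_autGroup hU.1).1 (Subgroup.zpow_mem _ hβ n)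
  have hle : P ⊔ centralizerIn S T ≤ T ⊔ centralizerIn S T := sup_le_sup_right hP.1 _
  have hgU : ∀ x ∈ P ⊔ centralizerIn S T, g x ∈ T ⊔ centralizerIn S T := fun x hx =>
    StronglyClosed.mem hU hg hx (hle hx)
  have hm := hg.comp ((mem_autGroup hU.1).1 (Subgroup.inv_mem _ hβ)) hgU
  have e1 : ∀ x ∈ P, afun β⁻¹ (g x) = x := fun x hx => by
    rw [g1 x hx, ← eβ x (hP.1 hx), afun_inv_afun β (Subgroup.mem_sup_left (hP.1 hx))]
  obtain ⟨δ, hδ, eδ⟩ := hm.exists_aut (by rw [hP.img_sup hS hF hT hm, img_of_eq_id e1])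
  have := finite_of_le hg.le
  have := finite_mulAut (P ⊔ centralizerIn S T)
  obtain ⟨n, hn1, hn2⟩ := exists_pow_coprime_ext δ hm1
  have e2 : ∀ j : ℕ, ∀ x ∈ P ⊔ centralizerIn S T, x⁻¹ * afun (β ^ j) (afun (δ ^ j) x) ∈ T := by
    intro j
    induction j with
    | zero => simp [afun_one]
    | succ j ih =>
      intro x hx
      have h2 := afun_mem (δ ^ j) hx
      have h3 := StronglyClosed.mem hT (mβ j) (Subgroup.mul_mem _ (Subgroup.inv_mem _ (hle h2))
        (hgU _ h2)) (g2 _ h2)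
      rw [zpow_natCast, afun_map_mul _ (Subgroup.inv_mem _ (hle h2)) (hgU _ h2),
        afun_map_inv _ (hle h2)] at h3
      rw [pow_succ' δ, afun_mul _ _ hx, eδ _ h2, pow_succ, afun_mul _ _ (afun_mem _ (hgU _ h2)),
        afun_afun_inv β (hgU _ h2)]
      simpa [mul_assoc] using T.mul_mem (ih x hx) h3
  obtain ⟨l, hl, l1, l2⟩ := TC.ext_up hS hF hT P hP.1 hP _ (Subgroup.pow_mem _ hδ n) hn1 fun x hx => by
    rw [afun_pow_of_eq le_sup_left (α := 1) (fun x hx => by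
      rw [eδ x (Subgroup.mem_sup_left hx), e1 x hx, afun_one]) n x hx, one_pow, afun_one]
  have hlU : ∀ x ∈ T ⊔ centralizerIn S T, l x ∈ T ⊔ centralizerIn S T := fun x hx =>
    StronglyClosed.mem hU hl hx hx
  have hm' := hl.comp ((mem_autGroup hU.1).1 hβ) hlU
  refine ⟨_, hm', fun x hx => by rw [l1 x hx, eβ x hx], fun x hx => ?_⟩
  obtain ⟨c, hc, u, hu, rfl⟩ := (mem_sup_cent le_rfl).1 hx
  have h2 := e2 n c (Subgroup.mem_sup_right hc)
  rw [pow_eq_self_of_modEq hn2, ← l2 c (Subgroup.mem_sup_right hc)] at h2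
  rw [hm'.map_mul (Subgroup.mem_sup_right hc) (Subgroup.mem_sup_left hu), l1 u hu, eβ u hu]
  simpa [mul_assoc] using T.mul_mem (T.mul_mem (T.inv_mem hu) h2) (afun_mem b hu)

theorem opp_normal [Finite T] (hS : IsPGroup p S) (hE : E.IsWeaklyNormalIn F p) :
    (opp E p).IsNormalIn F p := by
  obtain ⟨h1, hF, h2⟩ := id hE
  have hT := h2.2.1
  have h3 : (ost E p).IsSubsystemOf (goodData hS hF hT h2.1).sys :=
    ostar_le fun P hP _ α hα k hk => good_pelt hS hF hT h1 h2.1 hP hα hk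
  have h4 : (opp E p).IsSubsystemOf (goodData hS hF hT h2.1).sys :=
    twist_sub h3 ((Subgroup.closure_le _).2 (by
      rintro α ⟨hα, P, hP, hm⟩
      exact good_up hS hF hT h1 h2.1 ((IsInvariantIn.centric_iff h2).1 hP) hα (hm.sub h3)))
  refine isNormalIn_of (opp_weaklyNormal hS hE) fun α hα => ?_
  obtain ⟨g, hg, g1, g2⟩ := ((goodData hS hF hT h2.1).mor_iff.1
    (((mem_autGroup le_rfl).1 hα).sub h4)).2 (TC.top hT)
  exact ⟨g, hg, g1, fun c hc => g2 c (Subgroup.mem_sup_right hc)⟩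

theorem StrongInv.of_sub {F' : FusionSystem U} (h : StrongInv E F) (h' : F'.IsSubsystemOf F) :
    StrongInv E F' := fun P Q f ψ hf h1 h2 h3 hψ => h P Q f ψ hf h1 h2 h3 (hψ.sub h')

theorem IsWeaklyNormalIn.of_sub {F' : FusionSystem U} (hS : IsPGroup p S)
    (h : E.IsWeaklyNormalIn F p) (hF' : F'.IsSaturated p) (h1 : E.IsSubsystemOf F')
    (h2 : F'.IsSubsystemOf F) : E.IsWeaklyNormalIn F' p := by
  have := finite_of_le (IsSubsystemOf.le h2)
  exact ⟨h.1, hF', isInvariantIn_of_strongInv (pgroup_of_le hS (IsSubsystemOf.le h2)) hF' h1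
    (StronglyClosed.of_sub h2 h.2.2.2.1 (IsSubsystemOf.le h1))
    ((IsInvariantIn.strongInv h.2.2).of_sub h2)⟩

theorem exists_join (hS : IsPGroup p S) (hE : E.IsWeaklyNormalIn F p)
    (hD : D.IsWeaklyNormalIn F p) : ∃ J : FusionSystem T, J.IsSaturated p ∧ J.IsSubsystemOf F ∧
      E.IsSubsystemOf J ∧ D.IsSubsystemOf J := by
  have hT := hE.2.2.2.1
  have := finite_of_le hT.1
  have hT' := pgroup_of_le hS hT.1
  have hDF := IsSubsystemOf.autGroup_le hD.2.2.1 (le_refl T)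
  have hK : ∀ α ∈ D.autGroup T, Pres E α := fun α hα => IsInvariantIn.pres hE.2.2 (hDF hα)
  refine ⟨twist E hK, twist_saturated hT' hE.1 (isFullyAutomized_iff.2 ⟨le_rfl,
    autInducedBy_le_autGroup _ le_rfl, autInducedBy_pgroup hT' _, fun B hB hp' _ x hx => ?_⟩), ?_,
    sub_twist, frattini_of_ess hT' hD.1 le_twist_aut fun P hP α hα k hk =>
      IsSubsystemOf.autGroup_le sub_twist hP.1.1
        (pelt_mem_of_inv hS hD.1 hD.2.2.1 hE.2.2 hP.1.1 hα hk)⟩
  · obtain ⟨k, hk, a, ha, rfl⟩ := twist_aut (hB hx)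
    obtain ⟨j, hj⟩ := hp' ⟨_, hx⟩
    replace hj : (k * a) ^ p ^ j = 1 := congrArg Subtype.val hj
    have := finite_mulAut T
    obtain ⟨b, hb, c, hc, e, ⟨i, hi⟩, hc'⟩ := Transfer.exists_pPart p k
    have hc1 : c ∈ D.autGroup T := Subgroup.zpowers_le.2 hk hc
    have hb1 := autInducedBy_le_autGroup E le_rfl
      (pelt_inner hT' hD.1 (Subgroup.zpowers_le.2 hk hb) hi)
    have hn := fun γ (hγ : γ ∈ D.autGroup T) => fun x hx => (hK γ hγ).conj_aut (α := x) hx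
    refine pelt_inner hT' hE.1 ?_ hj
    have e2 : k * a = c * (c⁻¹ * b * c⁻¹⁻¹ * a) := by rw [e]; group
    rw [e2] at hj ⊢
    exact pelt_mem_of_mul (fun x hx => by simpa using hn _ (Subgroup.inv_mem _ hc1) x hx) hc'
      (Subgroup.mul_mem _ (hn _ (Subgroup.inv_mem _ hc1) b hb1) ha) hj
  · refine IsSubsystemOf.trans (twist_sub (sub_fullSys hE.2.2.1 le_rfl) ?_) (fullSys_sub (hT := hT.1))
    rwa [fullSys_autGroup le_rfl]

theorem opp_le_of_weakly [Finite T] (hS : IsPGroup p S) (hE : E.IsWeaklyNormalIn F p)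
    (hD : D.IsWeaklyNormalIn F p) : (opp E p).IsSubsystemOf D := by
  obtain ⟨J, h1, h2, h3, h4⟩ := exists_join hS hE hD
  have hT' := pgroup_of_le hS hE.2.2.2.1.1
  have a := IsInvariantIn.primeToP hT' h1 (IsWeaklyNormalIn.of_sub hS hE h1 h3 h2).2.2
  have b := IsInvariantIn.primeToP hT' h1 (IsWeaklyNormalIn.of_sub hS hD h1 h4 h2).2.2
  refine IsSubsystemOf.trans (opp_le hT' hE.1 (opp_saturated hT' h1) (primeToP_of
    (opp_le hT' h1 hE.1 a) fun P hP α hα k hk => ?_)) (opp_le hT' h1 hD.1 b)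
  exact HasPrimeToPIndexIn.mem opp_primeToP hP (IsSubsystemOf.autGroup_le h3 hP hα) hk

theorem restrData (hT : F.StronglyClosed T)
    (hc : ∀ s ∈ S, Mor D T fun x => s * x * s⁻¹) :
    SysData S fun P f => Mor F P f ∧ Mor D (P ⊓ T) f :=
  SysData.ofSub F (fun h => h.1) (fun h => h.1.le) (fun h _ hx => h.1.mem hx)
    (fun h e => ⟨h.1.congr e, h.2.congr fun x hx => e x hx.1⟩)
    (fun hP hs => ⟨mor_conj F hP hs, (hc _ hs).mono inf_le_right⟩)
    (fun h1 h2 e => ⟨h1.1.comp h2.1 e, h1.2.comp h2.2 fun x hx => ⟨e x hx.1, h1.2.mem hx⟩⟩)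
    (fun h hg e => ⟨hg, StronglyClosed.img_inf hT h.1 ▸ h.2.eq_inv fun x hx => e x hx.1⟩)

/-- data for a normal subsystem of index prime to `p` -/
structure KData (F : FusionSystem S) (E : FusionSystem T) (p : ℕ) (K : Subgroup (MulAut T)) :
    Prop where
  wn : E.IsWeaklyNormalIn F p
  le : K ≤ F.autGroup T
  conj : ∀ a ∈ F.autGroup T, ∀ k ∈ K, a * k * a⁻¹ ∈ K
  ge : E.autGroup T ≤ K
  pelt : ∀ a ∈ F.autGroup T, ∀ k, a ^ p ^ k = 1 → a ∈ K

variable {K : Subgroup (MulAut T)}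

theorem KData.pres (h : KData F E p K) : ∀ α ∈ K, Pres E α :=
  fun _ hα => IsInvariantIn.pres h.wn.2.2 (h.le hα)

theorem KData.sc (h : KData F E p K) : F.StronglyClosed T := h.wn.2.2.2.1

theorem KData.sub (h : KData F E p K) : (twist E h.pres).IsSubsystemOf F := by
  refine IsSubsystemOf.trans (twist_sub (sub_fullSys h.wn.2.2.1 le_rfl) ?_)
    (fullSys_sub (hT := h.sc.1))
  rw [fullSys_autGroup le_rfl]; exact h.le

theorem KData.inv (h : KData F E p K) : (twist E h.pres).IsInvariantIn F :=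
  isInvariantIn_iff.2 ⟨h.sub, h.sc, fun P f hf α hα =>
    twist_pres (IsInvariantIn.pres h.wn.2.2 hα) (h.conj α hα) P f hf, fun P f hP hf => by
    obtain ⟨α, hα, g, hg, e⟩ := IsInvariantIn.frattini h.wn.2.2 hP hf
    exact ⟨α, hα, g, hg.sub sub_twist, e⟩⟩

theorem KData.aut (h : KData F E p K) : (twist E h.pres).autGroup T = K := by
  have := finite_of_le h.sc.1
  refine le_antisymm (fun β hβ => ?_) le_twist_aut
  obtain ⟨α, hα, γ, hγ, rfl⟩ := twist_aut hβ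
  exact K.mul_mem hα (h.ge hγ)

theorem KData.conj_mor (hS : IsPGroup p S) (h : KData F E p K) {s : Ω} (hs : s ∈ S) :
    Mor (twist E h.pres) T fun x => s * x * s⁻¹ := by
  obtain ⟨σ, e⟩ := exists_cAut (StronglyClosed.le_normalizer h.sc hs)
  have h1 := mem_autInducedBy.2 ⟨s, hs, e⟩
  obtain ⟨k, hk⟩ := autInducedBy_pgroup hS T ⟨σ, h1⟩
  exact ((mem_autGroup le_rfl).1 (le_twist_aut (h.pelt σ (autInducedBy_le_autGroup F h.sc.1 h1) k
    (congrArg Subtype.val hk)))).congr e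

theorem KData.pelt_mem (hS : IsPGroup p S) (h : KData F E p K) (hP : P ≤ T) {α : MulAut P}
    (hα : α ∈ F.autGroup P) {k : ℕ} (hk : α ^ p ^ k = 1) : α ∈ (twist E h.pres).autGroup P := by
  obtain ⟨f, t, ht, hf, e⟩ := pelt_conj hS h.wn.2.1 (fun _ _ h => h) (hP.trans h.sc.1) hα hk
  exact (IsInvariantIn.strongInv h.inv).mem_of_conj h.sc hP hf
    ((h.conj_mor hS ht).mono (StronglyClosed.img_le h.sc hf hP)) e

theorem KData.up (hS : IsPGroup p S) (h : KData F E p K) : ∀ P, P ≤ T → TC F T P →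
    ∀ γ ∈ F.autGroup T, Mor (twist E h.pres) P (afun γ) → γ ∈ K := by
  have hT := h.sc
  have := finite_of_le hT.1
  have hT' := pgroup_of_le hS hT.1
  refine downward_induction fun P hP ih hc γ hγ hm => ?_
  rcases hP.eq_or_lt with rfl | hlt
  · exact h.aut ▸ (mem_autGroup le_rfl).2 hm
  obtain ⟨k, hk, φ, hφ, e⟩ := twist_mor.1 hm
  have hγ' := Subgroup.mul_mem _ (Subgroup.inv_mem _ (h.le hk)) hγ
  set γ' := k⁻¹ * γ
  have h1 : Mor E P (afun γ') := hφ.congr fun x hx => by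
    rw [afun_mul _ _ (hP hx), e x hx, afun_inv_afun k (hφ.mem hx)]
  suffices γ' ∈ K by simpa [γ'] using K.mul_mem hk this
  have hPN := lt_normalizerIn hT' hlt
  set N := normalizerIn T P
  have hNT : N ≤ T := normalizerIn_le
  obtain ⟨θ, hθ, hn⟩ := IsSaturated.exists_normalizer_mor' hT' h.wn.1 h1.img_le
  have mγ := ((mem_autGroup hT.1).1 hγ').mono hNT
  have h2 : ∀ x ∈ N, afun γ' x ∈ normalizerIn T (img (afun γ') P) := fun x hx =>
    ⟨afun_mem _ hx.1, (mγ.mem_normalizer_img hPN.le hx hx.2).2⟩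
  have hf := mγ.comp (hθ.sub h.wn.2.2.1) h2
  have hfP := h1.comp hθ fun x hx => h2 x (hPN.le hx)
  obtain ⟨ψ, hψ, eψ⟩ := IsReceptive.ext (IsSaturated.receptive' hT' h.wn.1 hn) hfP (h1.img_comp' θ)
  replace hψ := hψ.mono (show N ≤ _ from fun n hn => mem_Next.2 ⟨hn, _, hθ.mem (h2 n hn),
    fun x hx => hf.map_conj hn (hPN.le hx)⟩)
  have hψF := hψ.sub h.wn.2.2.1
  have h3 : ∀ n ∈ N, (ψ n)⁻¹ * θ (afun γ' n) ∈ img ψ P := fun n hn' =>
    mem_of_same_conj (hψF.mono hPN.le) (hθ.mem (h2 n hn')) (hψ.mem hn') (hc.2 ψ (hψF.mono hPN.le))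
      fun x hx => by
        rw [← hψ.map_conj hn' (hPN.le hx), eψ _ (conj_mem_of_mem_normalizerIn hn' hx), eψ x hx,
          hf.map_conj hn' (hPN.le hx)]
  obtain ⟨i, hi, i1, i2, i3, -⟩ := hψF.inv
  have h4 : ∀ n ∈ N, θ (afun γ' n) ∈ img ψ N := fun n hn' => by
    simpa using Subgroup.mul_mem _ (subset_img (f := ψ) hn') (img_mono hPN.le (h3 n hn'))
  have hm' := hf.comp hi h4
  have := finite_of_le hNT
  obtain ⟨η, hη, eη⟩ := hm'.exists_aut (hm'.img_eq_self fun x hx => i2 _ (h4 x hx))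
  obtain ⟨j, hj⟩ := pelt_of_step (pgroup_of_le hT' hNT) (η := η) hPN.le
    (fun x hx => by rw [eη x (hPN.le hx), ← eψ x hx, i1 x (hPN.le hx)]) fun n hn' => by
      rw [← hψ.apply_mem_img_iff hPN.le (N.mul_mem (N.inv_mem hn') (afun_mem η hn')),
        hψ.map_mul (N.inv_mem hn') (afun_mem η hn'), hψ.map_inv hn', eη n hn', i3 _ (h4 n hn')]
      exact h3 n hn'
  obtain ⟨l, hl, l1, -⟩ := hθ.inv
  refine ih N hNT (card_lt_of_lt hPN) (hc.mono hPN.le hNT) γ' hγ'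
    (((((mem_autGroup hNT).1 (h.pelt_mem hS hNT hη hj)).comp (hψ.sub sub_twist)
      fun x hx => afun_mem η hx).comp (hl.sub sub_twist) fun x hx => ?_).congr fun x hx => ?_)
  · rw [eη x hx, i3 _ (h4 x hx)]; exact subset_img (h2 x hx)
  · rw [eη x hx, i3 _ (h4 x hx), l1 _ (h2 x hx)]

theorem KData.ost_mor (hS : IsPGroup p S) (h : KData F E p K) (hf : Mor (ost F p) P f) :
    Mor (twist E h.pres) (P ⊓ T) f := by
  have D := restrData h.sc fun s hs => h.conj_mor hS hs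
  refine (D.mor_iff.1 (hf.sub (ostar_le fun P hP _ α hα k hk => (mem_autGroup hP).2
    (D.mor_iff.2 ⟨(mem_autGroup hP).1 hα, ?_⟩)))).2
  have h1 := ((mem_autGroup hP).1 hα).mono (inf_le_left : P ⊓ T ≤ P)
  obtain ⟨β, hβ, e⟩ := h1.exists_aut (by
    rw [StronglyClosed.img_inf h.sc ((mem_autGroup hP).1 hα), img_afun])
  refine ((mem_autGroup inf_le_right).1 (h.pelt_mem hS inf_le_right hβ (k := k)
    (aut_ext fun x hx => ?_))).congr e
  rw [← afun_pow_of_eq inf_le_left (fun x hx => (e x hx).symm) _ x hx, hk, afun_one, afun_one]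

theorem KData.exists_sys (hS : IsPGroup p S) (h : KData F E p K) : ∃ F₀ : FusionSystem S,
    F₀.IsNormalIn F p ∧ F₀.HasPrimeToPIndexIn F p ∧ E.IsSubsystemOf F₀ ∧ F₀.autGroup T = K ∧
      ∀ α, α ∈ F₀.autGroup S ↔ α ∈ F.autGroup S ∧ α ∈ resPre h.sc.1 K := by
  have hT := h.sc
  have hF := h.wn.2.1
  have := finite_of_le hT.1
  have hK : ∀ α ∈ F.autGroup S ⊓ resPre hT.1 K, Pres (ost F p) α :=
    fun α hα => ostar_pres' (fun _ _ _ _ => trivial) α hα.1
  have hst : ∀ α ∈ F.autGroup S, α ∈ stabAut S T := fun α hα x hx =>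
    StronglyClosed.mem_iff hT ((mem_autGroup le_rfl).1 hα) hx
  have key : ∀ α ∈ F.autGroup S, ∀ P, TC F T P → Mor (twist E h.pres) P (afun α) →
      α ∈ F.autGroup S ⊓ resPre hT.1 K := fun α hα P hP hm => by
    obtain ⟨γ, e⟩ := exists_resAut hT.1 (hst α hα)
    exact ⟨hα, (mem_resPre _).2 ⟨γ, h.up hS P hP.1 hP γ (resImg_le_autGroup hT.1 le_rfl le_rfl
      ((mem_resImg _).2 ⟨α, hα, e⟩)) (hm.congr fun x hx => e x (hP.1 hx)), e⟩⟩
  have key2 : ∀ P f, TC F T P → Mor (twist E h.pres) P f → Mor (twist _ hK) P f := by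
    intro P f hP hf
    obtain ⟨β, hβ, g, hg, e⟩ := ost_frattini hS hF (hf.sub h.sub)
    have h1 := h.ost_mor hS hg
    rw [inf_eq_left.2 hP.1] at h1
    obtain ⟨i, hi, i1, i2, -⟩ := h1.inv
    refine twist_mor.2 ⟨β, key β hβ _ (hP.image hT (hg.sub ostar_sub)) ((hi.comp hf i2).congr
      fun y hy => ?_), g, hg, e⟩
    obtain ⟨x, hx, rfl⟩ := hg.mem_img.1 hy
    rw [i1 x hx, e x hx]
  have hsub : (twist _ hK).IsSubsystemOf F := twist_sub ostar_sub inf_le_left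
  have hsat : (twist _ hK).IsSaturated p := twist_ost_saturated (H := fun P => P ≤ S ∧ TC F T (P ⊓ T))
    hS hF inf_le_left (fun P Q hP hc => by
      obtain ⟨f, hf, rfl⟩ := isConj_iff.1 hc
      exact ⟨hf.img_le, StronglyClosed.img_inf hT hf ▸ hP.2.image hT (hf.mono inf_le_left)⟩)
    (fun P hc hP => by
      obtain ⟨g, hg, h⟩ := star_of_not_tc hS hF hT hc.1 fun h => hP ⟨hc.1, h⟩
      exact ⟨_, hg.isConj, h⟩)
    fun α hα P hP hm => key α hα _ hP.2 (h.ost_mor hS hm)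
  have hi := primeToP_of_ost sub_twist hsub
  have key3 : ∀ f, Mor (twist _ hK) T f → Mor (twist E h.pres) T f := fun f hf => by
    obtain ⟨β, hβ, g, hg, e⟩ := twist_mor.1 hf
    obtain ⟨γ, hγ, eγ⟩ := (mem_resPre _).1 hβ.2
    have h1 := h.ost_mor hS hg
    rw [inf_idem] at h1
    exact (h1.comp ((mem_autGroup le_rfl).1 (le_twist_aut hγ)) fun x hx => h1.mem hx).congr
      fun x hx => by rw [e x hx, eγ _ (h1.mem hx)]
  refine ⟨twist _ hK, normal_of_weakly ⟨hsat, hF, invariant_trans (isNormalIn_self hF).1.2.2 hsub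
    (fun _ _ => HasPrimeToPIndexIn.frattini hS hF hi) fun α hα => twist_pres
      (ostar_pres' (fun _ _ _ _ => trivial) α hα) fun k hk => ⟨Subgroup.mul_mem _
        (Subgroup.mul_mem _ hα hk.1) (Subgroup.inv_mem _ hα), resPre_conj _ le_rfl h.conj
          ⟨hα, hst α hα⟩ hk.2⟩⟩ centralizerIn_le, hi, ?_, le_antisymm (fun γ hγ => ?_) fun γ hγ => ?_,
    fun α => ⟨fun hα => ?_, fun hα => le_twist_aut hα⟩⟩
  · refine IsSubsystemOf.trans (alperin (E := fullSys (twist _ hK) hT.1) (pgroup_of_le hS hT.1) h.wn.1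
      fun P hP α hα => ?_) fullSys_sub
    have h1 := (alperin_family (pgroup_of_le hS hT.1) h.wn.1 hP).2.1
    rw [fullSys_autGroup h1.1, mem_autGroup (h1.1.trans hT.1)]
    exact key2 P _ ((IsInvariantIn.centric_iff h.wn.2.2).1 h1)
      (((mem_autGroup h1.1).1 hα).sub sub_twist)
  · exact h.aut ▸ (mem_autGroup le_rfl).2 (key3 _ ((mem_autGroup hT.1).1 hγ))
  · exact (mem_autGroup hT.1).2 (key2 T _ (TC.top hT) ((mem_autGroup le_rfl).1 (le_twist_aut hγ)))
  · exact key α (IsSubsystemOf.autGroup_le hsub le_rfl hα) T (TC.top hT)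
      (key3 _ (((mem_autGroup le_rfl).1 hα).mono hT.1))

end Cfsg.Agent.Fusion
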