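import Cfsg.Agent.Lib.Fusion.MCyc3
import Cfsg.Agent.Lib.Fusion.HSub
import Cfsg.Agent.Lib.Solv.Mod

/-! Supersoluble fusion systems. -/

set_option autoImplicit false
set_option linter.unusedSectionVars false
set_option linter.unusedVariables false
open Cfsg

namespace Cfsg.Agent.SSol

open Subgroup Cfsg.Agent.BG Cfsg.Agent.Fusion Cfsg.Agent.MCyc
open scoped commutatorElement

universe u
variable {G : Type u} [Group G] [Finite G] {p : ℕ} [hp : Fact p.Prime]

/-- Chains of normal subgroups with cyclic steps starting at `B`. -/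
inductive NC (B : Subgroup G) : Subgroup G → Prop
  | base : B.Normal → NC B B
  | step {N : Subgroup G} (x : G) : NC B N → (N ⊔ zpowers x).Normal → NC B (N ⊔ zpowers x)

omit [Finite G] in
theorem NC.normal {B A : Subgroup G} (h : NC B A) : A.Normal := by
  cases h <;> assumption

/-- The elements which have to act trivially on cyclic factors. -/
def Tr (p : ℕ) (g : G) : Prop :=
  (orderOf g).Coprime p ∧ (g ∈ _root_.commutator G ∨ ∃ h : G, g = h ^ (p - 1))

theorem NC.comm {B A : Subgroup G} (h : NC B A) (hA : IsPGroup p A) {g : G} (hg : Tr p g) :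
    ⁅A, zpowers g⁆ ≤ B := by
  induction h with
  | base h => exact commutator_le_left _ _
  | @step N x h hn ih =>
    have := h.normal
    let π := QuotientGroup.mk' N
    have sj : Function.Surjective π := QuotientGroup.mk'_surjective N
    have e : (N ⊔ zpowers x).map π = zpowers (π x) := by
      rw [Subgroup.map_sup, (Solv.map_mk_eq_bot_iff N).2 le_rfl, bot_sup_eq, MonoidHom.map_zpowers]
    have hn' : (zpowers (π x)).Normal := e ▸ hn.map π sj
    have h1 : π g ∈ Ct(zpowers (π x)) := by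
      rcases hg.2 with h2 | ⟨y, rfl⟩
      · refine Solv.commutator_le_centralizer_of_isCyclic (L := ⊤) inferInstance
          (fun y _ => nm_top _ y) ?_
        rw [← map_top_of_surjective π sj, ← map_commutator]
        exact mem_map_of_mem π h2
      · obtain ⟨k, hk⟩ := HSub.cyc_pow (C := zpowers (π x)) inferInstance (e ▸ hA.map π)
        exact Solv.mem_of_pow_mem_of_coprime_orderOf (map_pow π y _ ▸ hk _ (nm_top _ (π y)))
          ((hg.1.coprime_dvd_left (orderOf_map_dvd π _)).pow_right k)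
    have h2 : ⁅N ⊔ zpowers x, zpowers g⁆ ≤ N := by
      rw [← Solv.map_mk_eq_bot_iff N, map_commutator, e, commutator_comm, commutator_eq_bot_iff_le,
        MonoidHom.map_zpowers, zpowers_le]
      exact h1
    obtain ⟨n, hn'⟩ := IsPGroup.iff_card.1 hA
    rw [← Solv.coprime_commutator_commutator (fun y _ => nm_top _ y) (by
      rw [hn', Nat.card_zpowers]; exact hg.1.pow_right n)
      (.inr (haveI := hA.isNilpotent; inferInstance))]
    exact (commutator_mono h2 le_rfl).trans (ih (hA.to_le le_sup_left))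

theorem NC.cent {A B : Subgroup G} (h : NC B A) (hB : B ≤ Ph A) (hA : IsPGroup p A) {g : G}
    (hg : Tr p g) : g ∈ Ct(A) :=
  haveI := h.normal
  cent_of_chain hA hg.1 (U := A) (commutator_le_left _ _) ((h.comm hA hg).trans hB)

theorem exists_nc {T : Subgroup G} [T.Normal] (hT : IsPGroup p T) (h1 : _root_.commutator G ≤ T)
    (h2 : ∀ g : G, g ^ (p - 1) ∈ T) : NC ⊥ T := by
  obtain ⟨M, -, ⟨a, b⟩, hmax⟩ := Solv.exists_maximal_ge (P := fun M : Subgroup G => M ≤ T ∧ NC ⊥ M)
    (N := ⊥) ⟨bot_le, .base inferInstance⟩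
  have := b.normal
  by_contra hne
  have hM : ¬ T ≤ M := fun h => hne (le_antisymm a h ▸ b)
  let π := QuotientGroup.mk' M
  have hs : Function.Surjective π := QuotientGroup.mk'_surjective M
  have : (T.map π).Normal := Normal.map inferInstance _ hs
  obtain ⟨V, h3, h4, h5, h6⟩ := Solv.exists_minimal_normal_le (T.map π)
    (by rwa [Ne, Solv.map_mk_eq_bot_iff])
  have hV : IsPGroup p V := (hT.map π).to_le h3
  have := hV.isNilpotent
  obtain ⟨hc, q, hq', he⟩ := Solv.minimal_normal_elementary V inferInstance h5 h6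
  obtain rfl : q = p := by
    obtain ⟨x, hx, hx1⟩ := Solv.exists_ne_one_of_ne_bot h5
    have := Fact.mk hq'
    exact Solv.eq_of_isPGroup_of_dvd hV hq'
      (orderOf_eq_prime (he x hx) hx1 ▸ Solv.orderOf_dvd_card_of_mem hx)
  have h7 : T.map π ≤ Ct(V) := by
    rw [le_Ct_comm, ← inf_eq_left]
    exact (h6 _ inferInstance inf_le_left).resolve_left
      (Comp.inf_centralizer_ne_bot (hT.map π) hV le_normalizer_of_normal h5)
  have h8 := Solv.card_eq_prime_of_irreducible (p := q) ⟨hc, he⟩ h5 (L := ⊤) le_normalizer_of_normal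
    (fun a _ => h7 (by
      obtain ⟨a, rfl⟩ := hs a
      exact ⟨a ^ (q - 1), h2 a, map_pow _ _ _⟩))
    (le_trans (by rw [← map_top_of_surjective π hs, ← map_commutator]; exact map_mono h1) h7)
    fun U a b => h6 U (normalizer_eq_top_iff.1 (eq_top_iff.2 b)) a
  obtain ⟨v, hv1, rfl⟩ := (el_one_iff.2 h8).exists_zpowers
  obtain ⟨g, hg, rfl⟩ := h3 (mem_zpowers v)
  have h9 := h4.comap π
  rw [← MonoidHom.map_zpowers, comap_map_eq, QuotientGroup.ker_mk', sup_comm] at h9
  refine h5 ?_
  rw [zpowers_eq_bot]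
  exact (QuotientGroup.eq_one_iff _).2 ((hmax _ ⟨sup_le a (zpowers_le.2 hg), .step g b h9⟩
    le_sup_left).le (mem_sup_right (mem_zpowers g)))

/-- All `p'`-groups of automorphisms are abelian of exponent dividing `p - 1`. -/
def AE (p : ℕ) (X : Type*) [Group X] : Prop :=
  ∀ H : Subgroup (MulAut X), (Nat.card H).Coprime p → IsMulCommutative H ∧ ∀ h ∈ H, h ^ (p - 1) = 1

omit hp in
theorem AE.equiv {X Y : Type*} [Group X] [Group Y] (h : AE p X) (e : X ≃* Y) : AE p Y := fun H hH => by
  let φ := (MulAut.congr e).symm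
  obtain ⟨h1, h2⟩ := h (H.map φ.toMonoidHom) (by rwa [card_map_of_injective φ.injective])
  refine ⟨⟨⟨fun a b => Subtype.ext (φ.injective ?_)⟩⟩, fun a ha => φ.injective ?_⟩
  · rw [coe_mul, coe_mul, map_mul, map_mul]
    exact congrArg Subtype.val (h1.is_comm.comm ⟨φ a, a, a.2, rfl⟩ ⟨φ b, b, b.2, rfl⟩)
  · simpa using h2 (φ a) ⟨a, ha, rfl⟩

open SemidirectProduct in
theorem ae_of {X : Type u} [Group X] [Finite X] (hX : IsPGroup p X)
    (h : ∀ H : Subgroup (MulAut X), (Nat.card H).Coprime p → ∃ B : Subgroup (X ⋊[H.subtype] H),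
      B ≤ Ph inl.range ∧ NC B inl.range) : AE p X := fun H hH => by
  obtain ⟨B, h1, h2⟩ := h H hH
  have : Finite (X ⋊[H.subtype] H) := Finite.of_equiv _ SemidirectProduct.equivProd.symm
  have key : ∀ a : H, (inr a ∈ _root_.commutator (X ⋊[H.subtype] H) ∨ ∃ y : X ⋊[H.subtype] H,
      inr a = y ^ (p - 1)) → a = 1 := fun a ha => by
    have := h2.cent h1 (hX.of_equiv (MonoidHom.ofInjective inl_injective)) ⟨by
      rw [orderOf_injective _ inr_injective]
      exact hH.coprime_dvd_left (orderOf_dvd_natCard a), ha⟩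
    refine Subtype.ext (MulEquiv.ext fun x => inl_injective (φ := H.subtype) ?_)
    rw [show a.1 x = H.subtype a x from rfl, inl_aut, ← this _ ⟨x, rfl⟩]; simp
  refine ⟨⟨⟨fun a b => commutatorElement_eq_one_iff_mul_comm.1 (key _ (.inl ?_))⟩⟩, fun a ha =>
    congrArg Subtype.val (key (⟨a, ha⟩ ^ (p - 1)) (.inr ⟨_, map_pow _ _ _⟩))⟩
  rw [map_commutatorElement]
  exact commutator_mem_commutator (mem_top _) (mem_top _)

section Sys

open Cfsg.FusionSystem

variable {Ω : Type u} [Group Ω] {S : Subgroup Ω} {F : FusionSystem S} {P : Subgroup Ω}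

/-- Chains of strongly closed subgroups with cyclic steps. -/
inductive SC (F : FusionSystem S) : Subgroup Ω → Prop
  | base : SC F ⊥
  | step {N : Subgroup Ω} (x : Ω) : SC F N → x ∈ S → F.StronglyClosed (N ⊔ zpowers x) →
      SC F (N ⊔ zpowers x)

theorem SC.sc {N : Subgroup Ω} (h : SC F N) : F.StronglyClosed N := by
  cases h
  exacts [stronglyClosed_bot F, ‹_›]

theorem sc_iff {N : Subgroup Ω} : (∃ (m : ℕ) (c : Fin (m + 1) → Subgroup Ω), c 0 = ⊥ ∧
    c (Fin.last m) = N ∧ (∀ i : Fin (m + 1), F.StronglyClosed (c i)) ∧ ∀ i : Fin m,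
      c i.castSucc ≤ c i.succ ∧ ∃ x ∈ S, c i.succ = c i.castSucc ⊔ zpowers x) ↔ SC F N := by
  constructor
  · rintro ⟨m, c, h0, rfl, h1, h2⟩
    suffices ∀ i, SC F (c i) from this _
    refine Fin.induction (h0 ▸ .base) fun i ih => ?_
    obtain ⟨-, x, hx, e⟩ := h2 i
    exact e ▸ .step x ih hx (e ▸ h1 _)
  · intro h
    induction h with
    | base => exact ⟨0, fun _ => ⊥, rfl, rfl, fun _ => stronglyClosed_bot F, fun i => i.elim0⟩
    | @step N x h hx hs ih =>
      obtain ⟨m, c, h0, rfl, h1, h2⟩ := ih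
      refine ⟨m + 1, Fin.snoc c (c (Fin.last m) ⊔ zpowers x), ?_, by simp, Fin.lastCases (by simpa)
        (by simpa), Fin.lastCases ?_ fun i => ?_⟩
      · rw [← Fin.castSucc_zero, Fin.snoc_castSucc, h0]
      · simpa using ⟨x, hx, rfl⟩
      · rw [Fin.succ_castSucc, Fin.snoc_castSucc, Fin.snoc_castSucc]
        exact h2 i

theorem SC.nc {L : Type u} [Group L] {R N : Subgroup Ω} (hR : R ≤ S) (j : R →* L)
    (hj : ∀ X, F.StronglyClosed X → ((X.subgroupOf R).map j).Normal) (h : SC F N) :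
    NC ⊥ ((N.subgroupOf R).map j) := by
  induction h with
  | base => simpa using NC.base (inferInstance : (⊥ : Subgroup L).Normal)
  | @step N x h hx hs ih =>
    have := StronglyClosed.subgroupOf_normal h.sc
    obtain ⟨k, hk⟩ := Solv.exists_comap_sup_zpowers (inclusion hR) (N.subgroupOf S) ⟨x, hx⟩
    have e : (N ⊔ zpowers x).subgroupOf R = N.subgroupOf R ⊔ zpowers k := by
      rw [← comap_inclusion_subgroupOf hR N, ← hk, ← comap_inclusion_subgroupOf hR,
        subgroupOf_sup h.sc.1 (zpowers_le.2 hx)]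
      congr 2
      exact map_injective (subtype_injective S) (by
        rw [subgroupOf_map_subtype, MonoidHom.map_zpowers, inf_eq_left.2 (zpowers_le.2 hx)]; rfl)
    have := hj _ hs
    rw [e, Subgroup.map_sup, MonoidHom.map_zpowers] at this ⊢
    exact .step _ ih this

variable [Finite S]

theorem SC.normal (hS : IsPGroup p S) (hF : F.IsSaturated p) (h : SC F S) : F.IsNormal S := by
  refine normal_of_le_family hS hF (StronglyClosed.weaklyClosed (stronglyClosed_top F))
    fun R h1 h2 h3 => ?_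
  have hE := normSys_spec F h1.1
  have : Finite (normalizerIn S R) := finite_of_le normalizerIn_le
  obtain ⟨L, _, ι, hL⟩ := exists_model (pgroup_of_le hS normalizerIn_le)
    (normSys_constrained hS hF h1 (IsCentric.cent_le h2) hE)
  have := hL.1
  have hi := hL.2.1.1
  have e := IsModel.image_core hL
  rw [normSys_core hS h2 h3 hE] at e
  have hR := le_normalizerIn h1.1
  have nc := h.nc h1.1 (ι.comp (inclusion hR)) fun X hX => ⟨by
    rintro _ ⟨r, hr, rfl⟩ g
    obtain ⟨y, hy, e1⟩ := (mem_imageAlong' hR).1 (e.ge ((inferInstance : (pCore p L).Normal).conj_mem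
      _ (e.le ⟨inclusion hR r, r.2, rfl⟩) g))
    have sc := IsRealizedBy.sc_image hL.2.1 (T := X ⊓ normalizerIn S R) (stronglyClosed_iff.2
      ⟨inf_le_right, fun Q f hf x hx h => ⟨StronglyClosed.mem hX (isSubsystemOf_iff.1
        (normSys_sub hE) _ _ hf) hx h.1, hf.mem hx⟩⟩)
    obtain ⟨z, hz, e2⟩ := (mem_imageAlong' inf_le_right).1 (sc.2 _ ⟨inclusion hR r, ⟨hr, hR r.2⟩, rfl⟩
      g (e1 ▸ ap_mem_range ι (hR hy)))
    exact ⟨⟨y, hy⟩, show y ∈ X from ap_inj hi hz.2 (hR hy) (e2.trans e1.symm) ▸ hz.1,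
      (ap_of_mem ι (hR hy)).symm.trans e1⟩⟩
  have e' : (S.subgroupOf R).map (ι.comp (inclusion hR)) = pCore p L := by
    rw [subgroupOf_eq_top.2 h1.1, ← MonoidHom.range_eq_map, ← MonoidHom.map_range, inclusion_range,
      ← e]; rfl
  rw [e'] at nc
  have h4 : _root_.commutator L ≤ pCore p L := Solv.le_pCore (pgroup_of_coprime fun g hg hc => by
    have := hL.2.2.2 (nc.cent bot_le (Solv.isPGroup_pCore p L) ⟨hc, .inl hg⟩)
    obtain ⟨k, hk⟩ := Solv.isPGroup_iff_forall_mem.1 (Solv.isPGroup_pCore p L) g this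
    exact orderOf_eq_one_iff.1 (Nat.eq_one_of_dvd_coprimes (hc.pow_right k) dvd_rfl
      (orderOf_dvd_of_pow_eq_one hk)))
  have h5 : ι.range ≤ pCore p L :=
    haveI := Normal.of_commutator_le L (h4.trans (IsModel.pCore_le hL))
    Solv.le_pCore (IsModel.sylowIn hL).pgroup
  exact le_of_normalizer_inf_le hS h1.1 le_rfl (h1.1.trans le_normalizer) fun s a b =>
    (imageAlong_le_imageAlong_iff hi le_rfl hR).1 (imageAlong_le_range.trans (e ▸ h5)) ⟨a, b⟩

theorem exists_real {L : Type*} [Group L] [Finite L] {ι : S →* L} (hi : Function.Injective ι)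
    (hT : SylowIn p ι.range ⊤) : ∃ F : FusionSystem S, F.IsRealizedBy ι ∧ F.IsSaturated p := by
  let e := (MonoidHom.ofInjective hi).symm
  let α : ι.range →* Ω := S.subtype.comp e.toMonoidHom
  obtain ⟨F, hF⟩ := exists_factor (F := groupFusionSystem ι.range) (α := α) (S' := S)
    (stronglyClosed_bot _) (preimage_bot_of_inj (S.subtype_injective.comp e.injective)) (by
      rw [← MonoidHom.map_range, MonoidHom.range_eq_top.2 e.surjective, ← MonoidHom.range_eq_map,
        range_subtype])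
  obtain ⟨κ, h1, h2, -⟩ := (FIso.of_factor hF).symm
  obtain rfl : κ = ι := MonoidHom.ext fun s => by
    have := h2 (ι s) ⟨s, rfl⟩
    rw [ap_of_mem α ⟨s, rfl⟩, show α ⟨ι s, s, rfl⟩ = s from congrArg Subtype.val
      (e.symm.injective (by simp [e]; rfl)), ap_of_mem κ s.2] at this
    exact this
  have := isRealizedBy_iff_iso.2 h1
  exact ⟨F, this, realized_saturated this hT.exists_sylow_top⟩

theorem sc_of_nc {L : Type u} [Group L] [Finite L] {ι : S →* L} (hL : F.IsRealizedBy ι) {D : Subgroup L}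
    (h : NC ⊥ D) (hD : D ≤ ι.range) : ∃ N, SC F N ∧ imageAlong ι N = D := by
  induction h with
  | base => exact ⟨⊥, .base, by simp [imageAlong]⟩
  | @step D y h hn ih =>
    obtain ⟨N, h1, rfl⟩ := ih (le_sup_left.trans hD)
    obtain ⟨x, rfl⟩ := hD (mem_sup_right (mem_zpowers y))
    have hx := zpowers_le.2 x.2
    have e : imageAlong ι (N ⊔ zpowers (x : Ω)) = imageAlong ι N ⊔ zpowers (ι x) := by
      rw [imageAlong_sup h1.sc.1 hx, ← MonoidHom.map_zpowers, show zpowers x =
        (zpowers (x : Ω)).subgroupOf S from ?_]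
      · rfl
      symm
      exact map_injective (subtype_injective S) (by
        rw [subgroupOf_map_subtype, MonoidHom.map_zpowers, inf_eq_left.2 hx]; rfl)
    exact ⟨_, .step x.1 h1 x.2 (((isRealizedBy_iff_iso.1 hL).stronglyClosed_iff
      (sup_le h1.sc.1 hx)).1 (e ▸ sc_group ⟨hD, fun a ha g _ => hn.conj_mem a ha g⟩)), e⟩

theorem sc_of_normal (hS : IsPGroup p S) (hF : F.IsSaturated p) (hn : F.IsNormal S) (h : AE p S) :
    SC F S := by
  obtain ⟨L, _, ι, hL⟩ := exists_model hS (isConstrained_of hF hn centralizerIn_le)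
  have := hL.1
  have hi := hL.2.1.1
  have hT := IsModel.sylowIn hL
  have hN : ι.range.Normal := imageAlong_top (α := ι) ▸ IsModel.image_normal hL hn
  have hC : Ct(ι.range) ≤ ι.range :=
    (centralizer_le (IsModel.pCore_le hL)).trans (hL.2.2.2.trans (IsModel.pCore_le hL))
  obtain ⟨T, hT'⟩ := hT.exists_sylow_top
  obtain ⟨n, hn'⟩ := IsPGroup.iff_card.1 hT.pgroup
  have cop : ι.range.index.Coprime p :=
    (hp.out.coprime_iff_not_dvd.2 (hT' ▸ T.not_dvd_index)).symm
  obtain ⟨H, hH⟩ := exists_right_complement'_of_coprime (N := ι.range) (hn' ▸ cop.symm.pow_left n)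
  let φ : L →* MulAut ι.range := MulAut.conjNormal
  obtain ⟨h1, h2⟩ := h.equiv (MonoidHom.ofInjective hi) (H.map φ)
    (cop.coprime_dvd_left (hH.symm.index_eq_card ▸ card_map_dvd H φ))
  have k : ∀ {g}, φ g = 1 → g ∈ ι.range := fun {g} e => hC fun x hx => by
    have := congrArg (fun a : MulAut ι.range => (a ⟨x, hx⟩ : L)) e
    exact (mul_inv_eq_iff_eq_mul.1 this).symm
  let π := QuotientGroup.mk' ι.range
  have sj : ∀ g : L, ∃ a ∈ H, π g = π a := fun g => by
    obtain ⟨⟨t, a⟩, rfl⟩ := hH.2 g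
    exact ⟨a, a.2, by simp [π, (QuotientGroup.eq_one_iff _).2 t.2]⟩
  obtain ⟨N, h3, h4⟩ := sc_of_nc hL.2.1 (exists_nc hT.pgroup (commutator_le.2 fun x _ y _ => by
    obtain ⟨a, ha, ea⟩ := sj x
    obtain ⟨b, hb, eb⟩ := sj y
    rw [← QuotientGroup.eq_one_iff, ← QuotientGroup.mk'_apply, map_commutatorElement, ea, eb,
      ← map_commutatorElement]
    refine (QuotientGroup.eq_one_iff _).2 (k ?_)
    rw [map_commutatorElement, commutatorElement_eq_one_iff_mul_comm]
    exact congrArg Subtype.val (h1.is_comm.comm ⟨_, a, ha, rfl⟩ ⟨_, b, hb, rfl⟩)) fun x => by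
    obtain ⟨a, ha, ea⟩ := sj x
    rw [← QuotientGroup.eq_one_iff, ← QuotientGroup.mk'_apply, map_pow, ea, ← map_pow]
    exact (QuotientGroup.eq_one_iff _).2 (k (map_pow φ a _ ▸ h2 _ ⟨a, ha, rfl⟩))) le_rfl
  exact imageAlong_inj hi h3.sc.1 le_rfl (h4.trans imageAlong_top.symm) ▸ h3

open SemidirectProduct in
theorem ae_of_sc (hS : IsPGroup p S) (h : ∀ F : FusionSystem S, F.IsSaturated p → SC F S) :
    AE p S := ae_of hS fun H hH => by
  have : Finite (S ⋊[H.subtype] H) := Finite.of_equiv _ SemidirectProduct.equivProd.symm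
  have hn : (inl : S →* S ⋊[H.subtype] H).range.Normal := by
    rw [range_inl_eq_ker_rightHom]; infer_instance
  obtain ⟨F, h1, h2⟩ := exists_real (p := p) (ι := (inl : S →* S ⋊[H.subtype] H)) inl_injective
    (sylowIn_top ((hS.of_equiv (MonoidHom.ofInjective inl_injective)).toSylow (by
      rw [range_inl_eq_ker_rightHom, index_ker,
        MonoidHom.range_eq_top.2 rightHom_surjective, card_top]
      exact hp.out.coprime_iff_not_dvd.1 hH.symm)))
  have := (h F h2).nc le_rfl inl fun X hX => ⟨fun a ha g =>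
    (IsRealizedBy.sc_image h1 hX).2 a ha g (hn.conj_mem _ (imageAlong_le_range ha) g)⟩
  rw [subgroupOf_self, ← MonoidHom.range_eq_map] at this
  exact ⟨⊥, bot_le, this⟩

theorem main (hS : IsPGroup p S) : (∀ F : FusionSystem S, F.IsSaturated p → SC F S) ↔
    (∀ F : FusionSystem S, F.IsSaturated p → F.IsNormal S) ∧ AE p S :=
  ⟨fun h => ⟨fun F hF => (h F hF).normal hS hF, ae_of_sc hS h⟩,
    fun h F hF => sc_of_normal hS hF (h.1 F hF) h.2⟩

end Sys

end Cfsg.Agent.SSol
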