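import Cfsg.Agent.Lib.Fusion.Comp2
import Cfsg.Agent.Lib.Fusion.Iso2
import Cfsg.Agent.Lib.Fusion.SSol
import Cfsg.Agent.Lib.Fusion.NormModel
import Cfsg.Agent.Lib.Comp.SPE

/-! `p`-solvable fusion systems. -/

set_option autoImplicit false
set_option linter.unusedSectionVars false
set_option linter.unusedVariables false
open Cfsg Cfsg.FusionSystem

namespace Cfsg.Agent.Fusion

universe u

section grp
variable {G G' : Type u} [Group G] [Finite G] [Group G'] [Finite G'] {p : ℕ} [hp : Fact p.Prime]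

theorem chain_of_pSol (n : ℕ) : ∀ N : Subgroup G, N.Normal → Nat.card N = n → Comp.PSol p N →
    ∃ (k : ℕ) (H : Fin (k + 1) → Subgroup G), H 0 = ⊥ ∧ H (Fin.last k) = N ∧ Monotone H ∧
      (∀ i, (H i).Normal) ∧ ∀ i : Fin k, (∃ m, (H i.castSucc).relIndex (H i.succ) = p ^ m) ∨
        ((H i.castSucc).relIndex (H i.succ)).Coprime p := by
  induction n using Nat.strong_induction_on with
  | _ n ih =>
  intro N hN e h
  by_cases h0 : N = ⊥
  · exact ⟨0, fun _ => ⊥, rfl, h0.symm, monotone_const, fun _ => inferInstance, fun i => i.elim0⟩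
  obtain ⟨M, hM, hlt, hi⟩ : ∃ M : Subgroup G, M.Normal ∧ M < N ∧
      ((∃ m, M.relIndex N = p ^ m) ∨ (M.relIndex N).Coprime p) := by
    by_cases a : Comp.Res p N = N
    · exact ⟨Comp.Resp p N, inferInstance, lt_of_le_of_ne (Comp.ResPi_le _ _)
        fun b => h0 (h N le_rfl a b), Or.inr (Comp.relIndex_Resp N)⟩
    · exact ⟨Comp.Res p N, inferInstance, lt_of_le_of_ne (Comp.ResPi_le _ _) a,
        Or.inl (Comp.relIndex_Res N)⟩
  obtain ⟨k, H, h1, h2, h3, h4, h5⟩ := ih _ (e ▸ card_lt_of_lt hlt) M hM rfl (h.of_le hlt.le)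
  refine ⟨k + 1, Fin.snoc (α := fun _ => Subgroup G) H N, ?_, Fin.snoc_last _ _,
    Fin.monotone_iff_le_succ.2 fun i => ?_, fun i => ?_, fun i => ?_⟩
  · rw [← Fin.castSucc_zero, Fin.snoc_castSucc, h1]
  · induction i using Fin.lastCases with
    | last => rw [Fin.succ_last, Fin.snoc_last, Fin.snoc_castSucc, h2]; exact hlt.le
    | cast i =>
      rw [Fin.succ_castSucc, Fin.snoc_castSucc, Fin.snoc_castSucc]; exact h3 (Fin.castSucc_le_succ i)
  · induction i using Fin.lastCases with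
    | last => rwa [Fin.snoc_last]
    | cast i => rw [Fin.snoc_castSucc]; exact h4 i
  · induction i using Fin.lastCases with
    | last => rwa [Fin.succ_last, Fin.snoc_last, Fin.snoc_castSucc, h2]
    | cast i => rw [Fin.succ_castSucc, Fin.snoc_castSucc, Fin.snoc_castSucc]; exact h5 i

theorem pSolvable_iff : IsPSolvable p G ↔ Comp.PSol p (⊤ : Subgroup G) :=
  ⟨Comp.pSol_top_of_isPSolvable, chain_of_pSol _ ⊤ inferInstance rfl⟩

theorem pSol_top_iff {M : Subgroup G} : Comp.PSol p (⊤ : Subgroup M) ↔ Comp.PSol p M := by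
  refine ⟨fun h => ?_, fun h K _ a b => ?_⟩
  · have := h.map M.subtype
    rwa [← MonoidHom.range_eq_map, Subgroup.range_subtype] at this
  · exact (Subgroup.map_eq_bot_iff_of_injective _ M.subtype_injective).1 (h _ (Subgroup.map_subtype_le _)
      (by rw [← Comp.map_Res, a]) (by rw [← Comp.map_Resp, b]))

theorem rr_ker {K L : Subgroup G} (a : Comp.Res p K = K) (b : Comp.Resp p K = K) (hL : K ≤ L)
    (f : L →* G') {M : Subgroup G'} (hM : Comp.PSol p M)
    (h : ∀ k (hk : k ∈ K), (orderOf k).Coprime p → f ⟨k, hL hk⟩ ∈ M) :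
    ∀ k (hk : k ∈ K), f ⟨k, hL hk⟩ = 1 := by
  have e := Subgroup.map_subgroupOf_eq_of_le hL
  have a' : Comp.Res p (K.subgroupOf L) = K.subgroupOf L :=
    Subgroup.map_injective L.subtype_injective (by rw [Comp.map_Res, e, a])
  have b' : Comp.Resp p (K.subgroupOf L) = K.subgroupOf L :=
    Subgroup.map_injective L.subtype_injective (by rw [Comp.map_Resp, e, b])
  have := hM ((K.subgroupOf L).map f) (by
    rw [← a', Comp.Res_eq_closure, Subgroup.map_le_iff_le_comap, Subgroup.closure_le]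
    exact fun x hx => h x hx.1 (by rw [Subgroup.orderOf_coe]; exact hx.2))
    (by rw [← Comp.map_Res, a']) (by rw [← Comp.map_Resp, b'])
  exact fun k hk => (Subgroup.map_eq_bot_iff _).1 this (show (⟨k, hL hk⟩ : L) ∈ K.subgroupOf L from hk)

theorem rr_bot {K : Subgroup G} (a : Comp.Res p K = K)
    (h : ∀ k ∈ K, (orderOf k).Coprime p → k = 1) : K = ⊥ := by
  rw [← a, Comp.Res_eq_closure, eq_bot_iff, Subgroup.closure_le]
  exact fun x hx => h x hx.1 hx.2

theorem group_pSol (h : Comp.PSol p (⊤ : Subgroup G)) {S P : Subgroup G} (hP : P ≤ S) :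
    Comp.PSol p ((groupFusionSystem S).autGroup P) := by
  have := finite_mulAut P
  refine ((pSol_top_iff.2 (h.of_le (N := Subgroup.normalizer (P : Set G)) le_top)).map
    (cAut P)).of_le fun α hα => ?_
  obtain ⟨-, -, g, eg⟩ := mor_group_iff.1 ((mem_autGroup hP).1 hα)
  exact ⟨⟨g, mem_normalizer_of_afun eg⟩, trivial, aut_ext fun x hx => by rw [afun_cAut _ hx, eg x hx]⟩

theorem exists_pelt_conj {W : Subgroup G} {σ : MulAut W} {k : ℕ} (hc : σ ^ p ^ k = 1) {g : G}
    (e : ∀ x ∈ W, afun σ x = g * x * g⁻¹) :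
    ∃ g : G, (∃ j, orderOf g = p ^ j) ∧ ∀ x ∈ W, afun σ x = g * x * g⁻¹ := by
  obtain ⟨a, ha, b, hb, eg, ⟨j, hj⟩, hb'⟩ := Transfer.exists_pPart p (⟨g, mem_normalizer_of_afun e⟩ :
    Subgroup.normalizer (W : Set G))
  have e1 : cAut W ⟨g, mem_normalizer_of_afun e⟩ = σ :=
    aut_ext fun x hx => by rw [afun_cAut _ hx, e x hx]
  have e2 : cAut W b = 1 := by
    obtain ⟨n, rfl⟩ := hb
    refine eq_one_of_coprime_pelt (hb'.coprime_dvd_left (orderOf_map_dvd _ _)) (k := k) ?_
    beta_reduce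
    rw [map_zpow, e1, ← zpow_natCast, ← zpow_mul, mul_comm, zpow_mul, zpow_natCast, hc, one_zpow]
  obtain ⟨i, -, hi⟩ := (Nat.dvd_prime_pow hp.out).1 (orderOf_dvd_of_pow_eq_one hj)
  refine ⟨a, ⟨i, by rw [Subgroup.orderOf_coe, hi]⟩, fun x hx => ?_⟩
  rw [← e1, eg, map_mul, e2, mul_one, afun_cAut _ hx]

end grp

variable {Ω : Type u} [Group Ω] {S T : Subgroup Ω} {F : FusionSystem S} {p : ℕ} [hp : Fact p.Prime]
  [Finite S] {G : Type u} [Group G] {ι : S →* G}

theorem model_pSol (hS : IsPGroup p S) (h : F.IsModel p G ι) :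
    haveI := h.1; haveI := finite_of_le (core_le F); haveI := finite_mulAut F.core
    Comp.PSol p (⊤ : Subgroup G) ↔ Comp.PSol p (F.autGroup F.core) := by
  have := h.1
  have := finite_of_le (core_le F)
  have := finite_mulAut F.core
  obtain ⟨pr, hd⟩ := IsModel.modelData h
  rw [← pSol_top_iff (M := F.autGroup F.core)]
  refine ⟨fun h1 => ?_, fun h1 K _ a b => rr_bot a fun k hk hc => ?_⟩
  · have := h1.map pr
    rwa [Subgroup.map_top_of_surjective _ hd.surj] at this
  · obtain ⟨z, -, rfl⟩ := hd.ker k (rr_ker a b le_top (pr.comp (Subgroup.subtype _)) h1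
      (fun _ _ _ => trivial) k hk)
    obtain ⟨j, hj⟩ := hS z
    exact eq_one_of_coprime_pelt hc (k := j) (by rw [← map_pow, hj, map_one])

theorem model_of_pSol [Finite G] (h : F.IsRealizedBy ι) (hT : SylowIn p ι.range ⊤)
    (hG : Comp.PSol p (⊤ : Subgroup G)) :
    F.IsModel p (G ⧸ pPrimeCore p G) ((QuotientGroup.mk' _).comp ι) ∧
      Comp.PSol p (⊤ : Subgroup (G ⧸ pPrimeCore p G)) := by
  have hs := QuotientGroup.mk'_surjective (pPrimeCore p G)
  have h1 := hG.map (QuotientGroup.mk' (pPrimeCore p G))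
  rw [Subgroup.map_top_of_surjective _ hs] at h1
  have e := MonoidHom.range_comp (QuotientGroup.mk' (pPrimeCore p G)) ι
  refine ⟨⟨inferInstance, isRealizedBy_iff_iso.2 ⟨e ▸ IsRealizedBy.surj_quot h hT _ hs, fun a b hab => ?_⟩,
    ?_, Comp.charP_top_iff.1 (h1.charP ?_)⟩, h1⟩
  · exact h.1 (eq_of_mk_pPrimeCore hT.pgroup ⟨a, rfl⟩ ⟨b, rfl⟩ (QuotientGroup.eq.1 hab))
  · obtain ⟨R, hR⟩ := hT.exists_sylow_top
    exact ⟨R.mapSurjective hs, by rw [e, ← hR]; rfl⟩
  · rw [Comp.Opp_top]; exact Comp.pPrimeCore_quotient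

/-- All automizers are `p`-solvable. -/
def PSF (F : FusionSystem S) (p : ℕ) : Prop := ∀ P, P ≤ S → Comp.PSol p (F.autGroup P)

omit [Finite S] in
theorem PSF.sub {E : FusionSystem T} (h : PSF F p) (hE : E.IsSubsystemOf F) : PSF E p :=
  fun P hP K a => h P (hP.trans (IsSubsystemOf.le hE)) K (a.trans (IsSubsystemOf.autGroup_le hE hP))

theorem psf_of_real [Finite G] (h : F.IsRealizedBy ι) (hG : Comp.PSol p (⊤ : Subgroup G)) :
    PSF F p := fun P hP => by
  have := finite_of_le hP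
  have := finite_mulAut P
  have := finite_mulAut (imageAlong ι P)
  have hi := isRealizedBy_iff_iso.1 h
  obtain ⟨τ, -, h2, -⟩ := hi.exists_autEquiv hP rfl
  exact ((group_pSol hG (hi.toSurj.image_le hP)).map τ.symm.toMonoidHom).of_le fun α hα =>
    ⟨τ α, (h2 α).2 hα, τ.symm_apply_apply α⟩

theorem PSF.of_primeToP {E : FusionSystem S} (h : PSF E p) (hE : E.HasPrimeToPIndexIn F p) :
    PSF F p := fun P hP K hK a b => by
  have := finite_of_le hP
  have := finite_mulAut P
  refine h P hP K ?_ a b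
  rw [← b, Comp.Resp_eq_closure, Subgroup.closure_le]
  rintro x ⟨h1, k, h2⟩
  exact HasPrimeToPIndexIn.mem hE hP (hK h1) (k := k) (by rw [← h2, pow_orderOf_eq_one])

theorem PSF.of_ppow (hS : IsPGroup p S) {E : FusionSystem T} (h : PSF E p)
    (hE : E.HasPPowerIndexIn F p) (hT : F.StronglyClosed T) : PSF F p := fun P hP K hK a b => by
  have := finite_of_le hP
  have := finite_mulAut P
  have := finite_of_le (inf_le_left : P ⊓ T ≤ P)
  have := finite_mulAut (P ⊓ T : Subgroup Ω)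
  have hL : K ≤ stabAut P (P ⊓ T) := fun α hα => by
    obtain ⟨β, -, e, -⟩ := exists_res_aut hT hP (hK hα)
    exact mem_stabAut_of_eq inf_le_left e
  have h1 := rr_ker a b hL (resAut inf_le_left) (h _ inf_le_right) fun k hk hc => by
    obtain ⟨β, b1, e, b2⟩ := exists_res_aut hT hP (hK hk)
    rw [show resAut inf_le_left ⟨k, hL hk⟩ = β from
      aut_ext fun x hx => by rw [afun_resAut _ _ hx, e x hx]]
    exact HasPPowerIndexIn.mem hE inf_le_right b1 (hc.coprime_dvd_left b2)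
  refine rr_bot a fun k hk hc => aut_ext fun x hx => ?_
  have m : x⁻¹ * afun k x ∈ P ⊓ T :=
    ⟨P.mul_mem (P.inv_mem hx) (afun_mem _ hx), hE.2.1 (mem_hyp hP (hK hk) hc hx)⟩
  rw [afun_one x]
  refine afun_fix_step (pgroup_of_le hS hP) hc hx ?_
  have := afun_resAut inf_le_left ⟨k, hL hk⟩ m
  rw [h1 k hk, afun_one] at this
  exact this.symm

theorem bot_of_perfect (hS : IsPGroup p S) (hF : F.IsConstrained p) (h : PSF F p)
    (h1 : F.hyperfocalSubgroup p = S)
    (h2 : ∀ D : FusionSystem S, D.IsSaturated p → D.HasPrimeToPIndexIn F p → F.IsSubsystemOf D) :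
    S = ⊥ := by
  obtain ⟨G, _, ι, hG⟩ := exists_model hS hF
  have := hG.1
  have hT := IsModel.sylowIn hG
  have hi := isRealizedBy_iff_iso.1 hG.2.1
  have hs : Comp.SylIn p ι.range ⊤ := by
    obtain ⟨R, hR⟩ := hT.exists_sylow_top
    exact hR ▸ Comp.sylIn_top R
  have a : Comp.Res p (⊤ : Subgroup G) = ⊤ := by
    have e := hi.toSurj.hyp_eq (p := p)
    rw [h1, imageAlong_top, groupFusionSystem_eq, hyp_sub hT] at e
    refine le_antisymm le_top (hs.Res_sup.ge.trans (sup_le le_rfl ?_))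
    rw [← e, ← Comp.map_pResidual]
    exact inf_le_right
  have hH : ι.range ≤ Comp.Resp p ⊤ := Comp.le_Resp le_top hT.pgroup
  let j := ι.codRestrict (Comp.Resp p ⊤) fun x => hH ⟨x, rfl⟩
  have ej : ∀ x ∈ S, ((ap j x : Comp.Resp p (⊤ : Subgroup G)) : G) = ap ι x := fun x hx => by
    rw [ap_of_mem _ hx, ap_of_mem _ hx]; rfl
  obtain ⟨D, d1, d2⟩ := SSol.exists_real (p := p) (ι := j)
    (fun a b e => hG.2.1.1 (congrArg Subtype.val e)) (by
      have := (hT.of_le hH le_top).subgroupOf le_rfl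
      rw [Subgroup.subgroupOf_self] at this
      convert this using 1
      ext x
      exact ⟨fun ⟨y, e⟩ => ⟨y, congrArg Subtype.val e⟩, fun ⟨y, e⟩ => ⟨y, Subtype.ext e⟩⟩)
  have h3 := h2 D d2 (primeToP_of (isSubsystemOf_iff.2 fun P f hf => ?_) fun P hP α hα k hk => ?_)
  · have b : Comp.Resp p (⊤ : Subgroup G) = ⊤ := top_le_iff.1 fun g _ => by
      have hn := IsModel.image_normal hG (core_isNormal F)
      obtain ⟨f, f1, f2⟩ := IsRealizedBy.exists_mor hG.2.1 (core_le F) g fun x hx =>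
        hi.toSurj.image_le (core_le F) (hn.conj_mem _ (ap_mem_imageAlong (core_le F) hx) g)
      obtain ⟨k, hk⟩ := IsRealizedBy.exists_elt d1 (f1.sub h3)
      refine (Subgroup.mul_mem_cancel_left _ (inv_mem k.2)).1 (hH (IsModel.pCore_le hG (hG.2.2.2 ?_)))
      rw [← IsModel.image_core hG]
      intro y hy
      obtain ⟨x, hx, rfl⟩ := (mem_imageAlong' (core_le F)).1 hy
      have := congrArg Subtype.val (hk x hx)
      simp only [Subgroup.coe_mul, Subgroup.coe_inv] at this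
      rw [ej _ (f1.mem hx), ej _ (core_le F hx), f2 x hx] at this
      calc _ = (k : G)⁻¹ * (k * ap ι x * (k : G)⁻¹) * g := by group
        _ = _ := by rw [← this]; group
    have := (model_pSol hS hG).2 (h _ (core_le F)) ⊤ le_rfl a b
    refine eq_bot_iff.2 fun x hx => ?_
    exact congrArg Subtype.val (hG.2.1.1 (a₁ := ⟨x, hx⟩) (a₂ := 1)
      ((Subgroup.mem_bot.1 (this.le trivial)).trans (map_one _).symm))
  · obtain ⟨k, hk⟩ := IsRealizedBy.exists_elt d1 hf
    refine (IsRealizedBy.mor_iff hG.2.1 hf.le fun x hx => hf.mem hx).2 ⟨k, fun x hx => ?_⟩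
    rw [← ej _ (hf.mem hx), ← ej _ (hf.le hx), hk x hx]; rfl
  · obtain ⟨τ, t1, t2, -⟩ := hi.exists_autEquiv hP rfl
    obtain ⟨-, -, g, eg⟩ := mor_group_iff.1 ((mem_autGroup (hi.toSurj.image_le hP)).1 ((t2 α).2 hα))
    obtain ⟨g, hg, eg⟩ := exists_pelt_conj (k := k) (by rw [← map_pow, hk, map_one]) eg
    have m : g ∈ Comp.Resp p (⊤ : Subgroup G) := by
      rw [Comp.Resp_eq_closure]; exact Subgroup.subset_closure ⟨trivial, hg⟩
    refine (mem_autGroup hP).2 ((IsRealizedBy.mor_iff d1 hP fun x hx => hP (afun_mem _ hx)).2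
      ⟨⟨g, m⟩, fun x hx => Subtype.ext ?_⟩)
    simp only [Subgroup.coe_mul, Subgroup.coe_inv]
    rw [ej _ (hP (afun_mem _ hx)), ej _ (hP hx), ← t1 α x hx, eg _ (ap_mem_imageAlong hP hx)]

omit [Finite S] in
theorem term_of_psf (n : ℕ) : ∀ (S : Subgroup Ω) [Finite S] (F : FusionSystem S), Nat.card S = n →
    IsPGroup p S → F.IsConstrained p → PSF F p → F.HasTerminatingResidualSeries p := by
  induction n using Nat.strong_induction_on with
  | _ n ih =>
  intro S _ F e hS hF h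
  by_cases h0 : S = ⊥
  · exact .trivial F p h0
  have h1 := opp_spec hS hF.1
  have h2 := constrained_of_sub hS hF h1.1 opp_sub (stronglyClosed_top F)
  obtain ⟨D, d1, d2⟩ := exists_ppow hS h1.1 hyp_le le_rfl
  have := finite_of_le (hyp_le (F := opp F p) (p := p))
  refine .step F _ p D h1 ⟨d1, d2⟩ (ih _ (e ▸ card_lt_of_lt (lt_of_le_of_ne hyp_le fun e' => h0 ?_)) _ D
    rfl (pgroup_of_le hS hyp_le) (constrained_of_sub hS h2 d1 d2.1 (hyp_stronglyClosed hS h1.1))
    ((h.sub opp_sub).sub d2.1))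
  refine bot_of_perfect hS h2 (h.sub opp_sub) e' fun C c1 c2 => h1.2.2 C c1
    (primeToP_of (IsSubsystemOf.trans c2.1 opp_sub) fun P hP α hα k hk =>
      HasPrimeToPIndexIn.mem c2 hP (HasPrimeToPIndexIn.mem h1.2.1 hP hα hk) hk)

omit [Finite S] hp in
theorem psf_of_term (h : F.HasTerminatingResidualSeries p) (hp : p.Prime) (hf : Finite S)
    (hS : IsPGroup p S) (hF : F.IsSaturated p) : F.IsConstrained p ∧ PSF F p := by
  induction h with
  | @trivial S F p e =>
    have := Fact.mk hp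
    subst e
    refine ⟨isConstrained_of hF (core_isNormal F) (le_trans inf_le_left bot_le), fun P hP K _ _ _ => ?_⟩
    obtain rfl := le_bot_iff.1 hP
    exact eq_bot_iff.2 fun α _ => Subgroup.mem_bot.2 (Subsingleton.elim _ _)
  | @step S F E p D h1 h2 _ ih =>
    have := Fact.mk hp
    have := finite_of_le (hyp_le (F := E) (p := p))
    obtain ⟨i1, i2⟩ := ih hp this (pgroup_of_le hS hyp_le) h2.1
    have h3 := IsPResidual.normal hS h1.1 h2
    have h4 := constrained_of_hyp hS h1.1 h3.1.2.2 le_rfl i1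
    refine ⟨isConstrained_of hF (Q := E.core) ?_ (isConstrained_iff.1 h4).2,
      (i2.of_ppow hS h2.2 h3.1.2.2.2.1).of_primeToP h1.2.1⟩
    obtain rfl := IsPPrimeResidual.eq hS hF h1
    exact IsInvariantIn.core_normal hS hF (opp_weaklyNormal hS (isNormalIn_self hF).1).2.2

end Cfsg.Agent.Fusion
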