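import Cfsg.Agent.Lib.Fusion.QdB
import Cfsg.Agent.Lib.Fusion.WC2
import Cfsg.Agent.Lib.Transfer.Stab

/-! `p`-stable groups and fusion systems. -/

set_option autoImplicit false
open Cfsg

universe u

namespace Cfsg.Agent.Fusion

open Cfsg.FusionSystem
open scoped commutatorElement

section Sys

variable {Ω : Type u} [Group Ω] {S T P Q R : Subgroup Ω} {F : FusionSystem S} {p : ℕ} {f : Ω → Ω}

/-- quadratic automorphisms -/
def QA {Q : Type*} [Group Q] (χ : MulAut Q) : Prop := ∀ a, χ a⁻¹ * a * χ a⁻¹ * χ (χ a) = 1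

theorem qa_iff {Q : Type*} [Group Q] {χ : MulAut Q} :
    QA χ ↔ ∀ a, χ (a⁻¹ * χ a) = a⁻¹ * χ a := forall_congr' fun a => by
  rw [mul_assoc, ← map_mul, mul_eq_one_iff_eq_inv', eq_comm]
  simp [eq_comm]

theorem QA.pow {Q : Type*} [Group Q] {χ : MulAut Q} (h : QA χ) (a : Q) (n : ℕ) :
    (χ ^ n) a = a * (a⁻¹ * χ a) ^ n := by
  induction n with
  | zero => simp
  | succ n ih =>
    rw [pow_succ', MulAut.mul_apply, ih, map_mul, map_pow, qa_iff.1 h, pow_succ', ← mul_assoc,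
      mul_inv_cancel_left]

/-- stability at `Q` -/
def StAt (p : ℕ) (F : FusionSystem S) (Q : Subgroup Ω) : Prop :=
  ∀ χ : MulAut Q, χ ∈ F.autGroup Q → QA χ → χ ∈ autCore F p Q

/-- `p`-stable fusion systems -/
def FSt (p : ℕ) (F : FusionSystem S) : Prop := ∀ Q, F.IsFullyNormalized Q → StAt p F Q

theorem StAt.of_mor (hf : Mor F P f) (h : StAt p F (img f P)) : StAt p F P := fun χ h1 h2 => by
  obtain ⟨τ, t1, t2, -⟩ := hf.exists_transport rfl
  have h3 := h (τ χ) ((t2 χ).2 h1) (qa_iff.2 fun ⟨y, hy⟩ => by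
    obtain ⟨x, hx, rfl⟩ := hf.mem_img.1 hy
    have e := congrArg Subtype.val (qa_iff.1 h2 ⟨x, hx⟩)
    have h4 := P.mul_mem (P.inv_mem hx) (afun_mem χ hx)
    refine Subtype.ext ?_
    rw [← afun_coe] at e ⊢
    simp only [Subgroup.coe_mul, Subgroup.coe_inv, ← afun_coe] at e ⊢
    rw [t1 _ _ hx, ← hf.map_inv hx, ← hf.map_mul (P.inv_mem hx) (afun_mem χ hx), t1 _ _ h4, e])
  exact le_autCore (N := (autCore F p _).comap τ.toMonoidHom) (fun a ha => (t2 a).1 (autCore_le ha))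
    (autCore_pgroup.comap_of_injective _ τ.injective) (fun a ha n hn => by
      simpa using autCore_conj _ ((t2 a).2 ha) _ hn) h3

theorem FSt.at [Finite S] (h : FSt p F) (hQ : Q ≤ S) : StAt p F Q := by
  obtain ⟨R, h1, h2⟩ := exists_fullyNormalized F hQ
  obtain ⟨f, hf, rfl⟩ := isConj_iff.1 h1
  exact (h _ h2).of_mor hf

theorem StAt.sub {E : FusionSystem T} (h : StAt p F Q) (hE : E.IsSubsystemOf F) (hQ : Q ≤ T) :
    StAt p E Q := fun χ h1 h2 =>
  have h3 := IsSubsystemOf.autGroup_le hE hQ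
  le_autCore (N := autCore F p Q ⊓ E.autGroup Q) inf_le_right (autCore_pgroup.to_le inf_le_left)
    (fun a ha n hn => ⟨autCore_conj a (h3 ha) n hn.1, Subgroup.mul_mem _ (Subgroup.mul_mem _ ha hn.2)
      (Subgroup.inv_mem _ ha)⟩)
    ⟨h χ (h3 h1) h2, h1⟩

theorem StAt.of_eq {E : FusionSystem T} (h : StAt p E Q) (e : E.autGroup Q = F.autGroup Q) :
    StAt p F Q := by
  unfold StAt autCore at *
  rwa [← e]

theorem FSt.norm [Finite S] (h : FSt p F) {N : FusionSystem (normalizerIn S R)}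
    (hN : F.IsNormalizerSystem R N) : FSt p N := fun _ hQ =>
  (h.at (hQ.1.trans normalizerIn_le)).sub (normSys_sub hN) hQ.1

theorem stAt_cyclic [Fact p.Prime] [Finite Q] (hQ : IsPGroup p Q) [IsCyclic Q] : StAt p F Q :=
  fun χ h1 h2 => by
    obtain ⟨n, hn⟩ := hQ.exists_card_eq
    refine le_autCore (Subgroup.zpowers_le.2 h1) (pgroup_zpowers (k := n) (MulEquiv.ext fun a => ?_))
      (fun a _ b hb => ?_) (Subgroup.mem_zpowers χ)
    · rw [h2.pow, ← hn, pow_card_eq_one']; simp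
    · rwa [show a * b = b * a from (IsCyclic.mulAutMulEquiv Q).injective (by
        rw [map_mul, map_mul, mul_comm]), mul_inv_cancel_right]

variable [Fact p.Prime] [Finite S]

theorem fst_of_local (hS : IsPGroup p S) (hF : F.IsSaturated p)
    (h : ∀ R, (hR : F.IsFullyNormalized R) → F.IsCentric R → F.IsRadical p R →
      FSt p (normSys F hR.1)) : FSt p F := fun Q hQ => by
  let Good : Subgroup Ω → Prop := fun R => F.IsCentric R ∧ ∃ f, Mor F Q f ∧ img f Q ≤ R ∧
    ∀ α ∈ F.autGroup (img f Q), ∃ g, Mor F R g ∧ img g R = R ∧ ∀ x ∈ img f Q, g x = afun α x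
  have hc : ∀ {g}, Mor F (Q ⊔ centralizerIn S Q) g → img g (Q ⊔ centralizerIn S Q) =
      img g Q ⊔ centralizerIn S (img g Q) := fun hg => by
    rw [hg.img_sup, hg.img_centralizerIn le_sup_left le_sup_right
      (IsSaturated.fullyCentralized hS hF hQ)]
  have h0 : Good (Q ⊔ centralizerIn S Q) := by
    have hl := sup_le hQ.1 (centralizerIn_le (P := Q))
    refine ⟨isCentric_iff.2 ⟨hl, fun g hg => ?_⟩, fun x => x, mor_id F hQ.1, ?_⟩
    · rw [hc hg]
      exact (centralizerIn_anti le_sup_left).trans le_sup_right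
    · rw [img_id]
      refine ⟨le_sup_left, fun α hα => ?_⟩
      have h1 := (mem_autGroup hQ.1).1 hα
      obtain ⟨g, hg, e⟩ := IsReceptive.ext (IsSaturated.receptive' hS hF hQ) h1 (img_afun α)
      have h2 := sup_le h1.le_Next centralizerIn_le_Next
      exact ⟨g, hg.mono h2, by rw [hc (hg.mono h2), img_congr e, img_afun α], e⟩
  obtain ⟨R, hR, hm⟩ : ∃ R, Good R ∧ ∀ R', Good R' → Nat.card R' ≤ Nat.card R := by
    obtain ⟨R, hR, hm⟩ := Set.exists_max_image {R : Subgroup S | Good (R.map S.subtype)}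
      (fun R => Nat.card (R.map S.subtype)) (Set.toFinite _)
      ⟨Subgroup.subgroupOf _ S, by rwa [Set.mem_setOf_eq, Subgroup.map_subgroupOf_eq_of_le h0.1.1]⟩
    refine ⟨_, hR, fun R' h' => ?_⟩
    have := hm (R'.subgroupOf S) (by rwa [Set.mem_setOf_eq, Subgroup.map_subgroupOf_eq_of_le h'.1.1])
    rwa [Subgroup.map_subgroupOf_eq_of_le h'.1.1] at this
  obtain ⟨U, hU, hUn⟩ := exists_fullyNormalized F hR.1.1
  obtain ⟨k, hk, rfl⟩ := isConj_iff.1 hU
  have hG : Good (img k R) := by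
    obtain ⟨h1, f, hf, h2, h3⟩ := hR
    have hf' := hf.comp hk fun x hx => h2 (subset_img hx)
    refine ⟨isCentric_of_conj h1 hU, _, hf', ?_⟩
    rw [hf.img_comp' k]
    refine ⟨img_mono h2, fun α hα => ?_⟩
    obtain ⟨τ, t1, t2, -⟩ := (hk.mono h2).exists_transport rfl
    obtain ⟨α, rfl⟩ := τ.surjective α
    obtain ⟨g, g1, g2, g3⟩ := h3 α ((t2 α).1 hα)
    obtain ⟨k', k1, k2, k3, -, k5⟩ := hk.inv
    have g4 : ∀ x ∈ R, g x ∈ R := fun x hx => g2 ▸ subset_img hx
    refine ⟨fun x => k (g (k' x)), (k1.comp g1 k3).comp hk fun x hx => g4 _ (k3 x hx), ?_,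
      fun x hx => ?_⟩
    · rw [(k1.comp g1 k3).img_comp' k, k1.img_comp' g, k5, g2]
    · obtain ⟨x, hx', rfl⟩ := (hk.mono h2).mem_img.1 hx
      beta_reduce
      rw [k2 x (h2 hx'), g3 x hx', t1 _ _ hx']
  replace hm : ∀ R', Good R' → Nat.card R' ≤ Nat.card (img k R) := by rwa [hk.card_img]
  generalize img k R = U at hG hm hUn
  obtain ⟨h1, f, hf, h2, h3⟩ := hG
  have hN := normSys_spec F hUn.1
  have := finite_of_le (normalizerIn_le : normalizerIn S U ≤ S)
  have h4 := IsNormal.le_core (normSys_normal hN hUn.1)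
  have h5 := (core_le (normSys F hUn.1)).trans normalizerIn_le
  have h6 : ∀ α ∈ F.autGroup (img f Q), ∃ g, Mor (normSys F hUn.1) (normSys F hUn.1).core g ∧
      img g (normSys F hUn.1).core = (normSys F hUn.1).core ∧ ∀ x ∈ img f Q, g x = afun α x :=
    fun α hα => by
      obtain ⟨g, g1, g2, g3⟩ := h3 α hα
      obtain ⟨g', g4, g5, g6⟩ := IsNormal.ext (core_isNormal _)
        (normSys_mor_of hN (le_normalizerIn hUn.1) g1 le_rfl le_rfl g2)
      exact ⟨g', g4.mono le_sup_right, g6, fun x hx => (g5 x (h2 hx)).trans (g3 x hx)⟩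
  have h7 := finite_of_le h5
  have h8 := Subgroup.eq_of_le_of_card_ge h4 (hm _ ⟨isCentric_of_le h1 h4 h5, f, hf, h2.trans h4,
    fun α hα => (h6 α hα).imp fun g a => ⟨isSubsystemOf_iff.1 (normSys_sub hN) _ _ a.1, a.2⟩⟩)
  have h9 := core_radical (pgroup_of_le hS normalizerIn_le)
    (normSys_constrained hS hF hUn (IsCentric.cent_le h1) hN)
  rw [← h8] at h9
  have h10 := h2.trans (le_normalizerIn hUn.1)
  refine StAt.of_mor hf (((h U hUn h1 ⟨hUn.1, normSys_autGroup hN hUn.1 ▸ h9.2⟩).at h10).of_eq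
    (le_antisymm (IsSubsystemOf.autGroup_le (normSys_sub hN) h10) fun α hα => ?_))
  obtain ⟨g, g1, -, g2⟩ := h6 α hα
  exact (mem_autGroup h10).2 ((g1.mono (h2.trans h4)).congr g2)

end Sys

section Grp

open Subgroup Transfer

variable {G : Type u} [Group G] [Finite G] {p : ℕ} [hp : Fact p.Prime] {B S : Subgroup G} {g : G}

/-- stability of `N_G(B)` on `B` -/
def GSt (p : ℕ) (B : Subgroup G) : Prop := ∀ g ∈ normalizer (B : Set G),
  ⁅⁅B, zpowers g⁆, zpowers g⁆ = ⊥ → InOp p (zpowers g) B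

theorem mk_iff_inOp (hg : g ∈ normalizer (B : Set G)) : (QuotientGroup.mk
    (s := (centralizer (B : Set G)).subgroupOf (normalizer (B : Set G))) ⟨g, hg⟩) ∈ pCore p _ ↔
      InOp p (zpowers g) B := by
  rw [← inOp_iff (zpowers_le.2 hg), show (zpowers g).subgroupOf (normalizer (B : Set G)) =
    zpowers ⟨g, hg⟩ by
      rw [← map_subtype_inj, map_subgroupOf_eq_of_le (zpowers_le.2 hg), MonoidHom.map_zpowers]; rfl,
    MonoidHom.map_zpowers, zpowers_le]
  rfl

theorem nst_iff : IsNormalizerPStable p G ↔ ∀ B : Subgroup G, IsPGroup p B → GSt p B :=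
  forall₂_congr fun _ _ => forall₂_congr fun _ hg => imp_congr_right fun _ => mk_iff_inOp hg

theorem GSt.of_cj (a : G) (h : GSt p (cj a B)) : GSt p B := fun g hg hq => by
  obtain ⟨D, d1, d2, d3, d4⟩ := h _ (cj_normalizer a B ▸ conj_mem_cj hg) (by
    rw [← cj_zpowers, ← cj_commutator, ← cj_commutator, hq, cj_bot])
  rw [← cj_normalizer] at d2 d3
  rw [← cj_centralizer] at d4
  exact ⟨cj a⁻¹ D, cj_le_iff_le_cj_inv.1 (cj_zpowers a g ▸ d1), le_cj_iff_cj_inv_le.1 d2,
    cj_normalizer a⁻¹ D ▸ cj_le_iff_le_cj_inv.1 d3, by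
      rw [cj, ← map_res]; exact le_cj_iff_cj_inv_le.1 d4⟩

theorem nst_sub (h : IsNormalizerPStable p G) (H : Subgroup G) : IsNormalizerPStable p H :=
  nst_iff.2 fun B hB g hg hq => by
    obtain ⟨D, d1, d2, d3, d4⟩ := nst_iff.1 h _ (hB.map H.subtype) g
      (le_normalizer_map _ (mem_map_of_mem _ hg)) (by
        rw [← H.coe_subtype, ← MonoidHom.map_zpowers, ← map_commutator, ← map_commutator, hq,
          Subgroup.map_bot])
    refine ⟨D.subgroupOf H ⊓ normalizer (B : Set H),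
      zpowers_le.2 ⟨d1 (mem_zpowers _), hg⟩, inf_le_right, fun x hx => mem_normalizer_inf
        (mem_normalizer_of_conj_mem fun y hy => Transfer.conj_mem_of_mem_normalizer (H := D)
          (d3 (le_normalizer_map _ (mem_map_of_mem _ hx))) hy) (le_normalizer hx), fun x hx y hy =>
      Subtype.ext (d4 (res_mono (map_le_iff_le_comap.2 inf_le_left)
        ((map_res H.subtype _).le (mem_map_of_mem _ hx))) _ (mem_map_of_mem _ hy))⟩

theorem nst_quot (h : IsNormalizerPStable p G) {N : Subgroup G} [N.Normal]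
    (hN : (Nat.card N).Coprime p) : IsNormalizerPStable p (G ⧸ N) :=
  nst_iff.2 fun B hB g hg hq => by
    obtain ⟨T, hT⟩ := exists_isSyl p (B.comap (QuotientGroup.mk' N))
    have e := hT.map (QuotientGroup.mk' N)
    rw [map_comap_eq_self_of_surjective (QuotientGroup.mk'_surjective N)] at e
    have e' := e.eq_of_le hB le_rfl e.le
    clear e
    replace hT := hT.pgroup
    subst e'
    rw [← map_mk_normalizer hN hT] at hg
    obtain ⟨g, hg, rfl⟩ := hg
    have h1 := Solv.commutator_le_left_of_le_normalizer (zpowers_le.2 hg)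
    obtain ⟨D, d1, d2, d3, d4⟩ := nst_iff.1 h _ hT g hg (eq_bot_iff.2 (le_trans (le_inf
      ((commutator_mono h1 le_rfl).trans h1) ((Subgroup.map_eq_bot_iff _).1
          (by rwa [map_commutator, map_commutator, MonoidHom.map_zpowers])))
        (inf_ker_mk_eq_bot hN hT).le))
    refine ⟨D.map (QuotientGroup.mk' N), (MonoidHom.map_zpowers _ g).ge.trans (map_mono d1), ?_, ?_, ?_⟩
    · exact (map_mono d2).trans (le_normalizer_map _)
    · rw [← map_mk_normalizer hN hT]; exact (map_mono d3).trans (le_normalizer_map _)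
    · rw [← map_res, ← map_mk_centralizer hN hT]; exact map_mono d4

theorem quad_iff_qa (hg : g ∈ normalizer (B : Set G)) :
    ⁅⁅B, zpowers g⁆, zpowers g⁆ = ⊥ ↔ QA (cAut B ⟨g, hg⟩) := by
  refine ⟨fun h => qa_iff.2 fun a => Subtype.ext ?_, fun h => ?_⟩
  · have := (commute_of_quad h (B.inv_mem a.2)).inv_right.eq
    change g * ((a : G)⁻¹ * (g * a * g⁻¹)) * g⁻¹ = (a : G)⁻¹ * (g * a * g⁻¹)
    rw [mul_inv_eq_iff_eq_mul]
    simpa [commutatorElement_def, mul_assoc] using this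
  · rw [commutator_eq_bot_iff_le_centralizer, commutator_le]
    intro a ha _ hy
    obtain ⟨n, rfl⟩ := mem_powers_iff_mem_zpowers.2 hy
    have h1 := congrArg Subtype.val (h.pow ⟨a⁻¹, B.inv_mem ha⟩ n)
    have h2 := congrArg Subtype.val (qa_iff.1 h ⟨a⁻¹, B.inv_mem ha⟩)
    rw [← map_pow] at h1
    change g ^ n * a⁻¹ * (g ^ n)⁻¹ = a⁻¹ * (a⁻¹⁻¹ * (g * a⁻¹ * g⁻¹)) ^ n at h1
    change g * (a⁻¹⁻¹ * (g * a⁻¹ * g⁻¹)) * g⁻¹ = a⁻¹⁻¹ * (g * a⁻¹ * g⁻¹) at h2
    rw [commutatorElement_def, mul_assoc, mul_assoc, ← mul_assoc (g ^ n), h1, mul_inv_cancel_left]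
    refine pow_mem (Solv.zpowers_le_centralizer_iff.1 (le_centralizer_iff.1
      (Solv.zpowers_le_centralizer_iff.2 ?_))) n
    rintro _ ⟨k, rfl⟩
    exact (Commute.zpow_left (mul_inv_eq_iff_eq_mul.1 h2).symm k).eq

theorem gst_iff (hB : B ≤ S) : GSt p B ↔ StAt p (groupFusionSystem S) B := by
  have e : (groupFusionSystem S).autGroup B = (cAut B).range := by
    rw [groupFusionSystem_eq, autGroup_sub hB, autInducedBy_eq_map, top_subgroupOf,
      MonoidHom.range_eq_map]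
  have key : ∀ (g) (hg : g ∈ normalizer (B : Set G)), InOp p (zpowers g) B ↔
      cAut B ⟨g, hg⟩ ∈ autCore (groupFusionSystem S) p B := fun g hg => by
    rw [← mk_iff_inOp hg, mk_mem_pCore_iff, ← normalizerMonoidHom_ker, ← mk_mem_pCore_iff, autCore, e,
      ← Solv.map_pCore_equiv (QuotientGroup.quotientKerEquivRange (cAut B))]
    exact ⟨fun h => ⟨_, ⟨_, h, rfl⟩, rfl⟩, fun ⟨_, ⟨y, h, rfl⟩, h'⟩ =>
      (QuotientGroup.quotientKerEquivRange (cAut B)).injective (a₁ := y)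
        (a₂ := QuotientGroup.mk ⟨g, hg⟩) (Subtype.ext h') ▸ h⟩
  refine ⟨fun h χ h1 h2 => ?_, fun h g hg hq => (key g hg).2 (h _ (e ▸ ⟨_, rfl⟩)
    ((quad_iff_qa hg).1 hq))⟩
  obtain ⟨⟨g, hg⟩, rfl⟩ := e ▸ h1
  exact (key g hg).1 (h g hg ((quad_iff_qa hg).2 h2))

theorem nst_iff_fst (P : Sylow p G) : IsNormalizerPStable p G ↔ FSt p (groupFusionSystem P.1) :=
  nst_iff.trans ⟨fun h Q hQ => (gst_iff hQ.1).1 (h Q (P.2.to_le hQ.1)), fun h B hB => by
    obtain ⟨a, ha⟩ := exists_cj_le_sylow P hB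
    exact GSt.of_cj a ((gst_iff ha).2 (h.at ha))⟩

end Grp

end Cfsg.Agent.Fusion
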