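import Cfsg.Agent.Lib.Fusion.PStab

/-! Control of fusion by `ZJ` of a strongly closed subgroup in `p`-stable groups. -/

set_option autoImplicit false
open Cfsg

universe u

namespace Cfsg.Agent.Fusion

open Cfsg.FusionSystem

variable {G : Type u} [Group G] [Finite G] {p : ℕ} [hp : Fact p.Prime] {S Q D : Subgroup G}

theorem local_real (hS : SylowIn p S ⊤) (hQ : (groupFusionSystem S).IsFullyNormalized Q)
    {N : FusionSystem (normalizerIn S Q)} (hN : (groupFusionSystem S).IsNormalizerSystem Q N) :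
    ∃ ι : normalizerIn S Q →* Subgroup.normalizer (Q : Set G) ⧸
      pPrimeCore p (Subgroup.normalizer (Q : Set G)), N.IsRealizedBy ι ∧ SylowIn p ι.range ⊤ := by
  have h1 := (fullyNormalized_group_iff hS hQ.1).1 hQ
  let j := Subgroup.inclusion h1.le
  have h2 : N.IsRealizedBy j := isRealizedBy_iff.2 ⟨Subgroup.inclusion_injective _,
    fun P f hP hm => ⟨fun hf => ?_, fun ⟨g, e⟩ => ?_⟩⟩
  rotate_left
  · obtain ⟨k, hk, e1, e2⟩ := normSys_ext hN hf
    obtain ⟨-, -, g, e⟩ := mor_group_iff.1 hk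
    refine ⟨⟨g, mem_normalizer_of_finite fun x hx => e x (Subgroup.mem_sup_right hx) ▸ e2 ▸
      subset_img hx⟩, fun x hx => Subtype.ext ?_⟩
    simp only [j, Subgroup.coe_mul, Subgroup.coe_inv, coe_ap_inclusion _ (hP hx),
      coe_ap_inclusion _ (hm x hx)]
    rw [← e1 x hx, e x (Subgroup.mem_sup_left hx)]
  · have e' : ∀ x ∈ P, f x = g * x * g.1⁻¹ := fun x hx => by
      simpa [j, coe_ap_inclusion _ (hP hx), coe_ap_inclusion _ (hm x hx)] using
        congrArg Subtype.val (e x hx)
    refine (normSys_mor_of hN hP (U := P ⊔ Q) (g := fun x => g * x * g.1⁻¹) (mor_group_iff.2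
      ⟨sup_le (hP.trans normalizerIn_le) hQ.1, fun x hx => (sup_le
        (c := S.comap (MulAut.conj g.1).toMonoidHom) (fun x hx => (e' x hx ▸ hm x hx).1)
        (fun x hx => hQ.1 (conj_mem_of_mem_normalizer g.2 hx))) hx, g, fun _ _ => rfl⟩)
      le_sup_left le_sup_right ?_).congr fun x hx => (e' x hx).symm
    rw [img_conj]; exact Subgroup.mem_normalizer_iff_map_conj_eq.1 g.2
  have h3 : SylowIn p j.range ⊤ := by
    simpa [j, Subgroup.inclusion_range] using h1.subgroupOf le_rfl
  let π := QuotientGroup.mk' (pPrimeCore p (Subgroup.normalizer (Q : Set G)))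
  have h4 := IsRealizedBy.surj_quot h2 h3 π (QuotientGroup.mk'_surjective _)
  have h5 : Function.Injective (π.comp j) := (injective_iff_map_eq_one _).2 fun a ha =>
    Subgroup.inclusion_injective h1.le (by
      obtain ⟨n, hn⟩ := IsPGroup.iff_card.1 h3.pgroup
      have := Solv.inf_eq_bot_of_coprime' (H := j.range) (K := pPrimeCore p _) (hn ▸
        (hp.out.coprime_iff_not_dvd.2 Solv.not_dvd_card_pPrimeCore).pow_left n)
      exact (Subgroup.mem_bot.1 (this.le ⟨⟨a, rfl⟩, (QuotientGroup.eq_one_iff _).1 ha⟩)).trans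
        (map_one j).symm)
  rw [MonoidHom.map_range] at h4
  have h6 : SylowIn p (π.comp j).range ⊤ := by
    have := h3.map π
    rwa [Subgroup.map_top_of_surjective _ (QuotientGroup.mk'_surjective _), MonoidHom.map_range]
      at this
  exact ⟨_, isRealizedBy_iff_iso.2 ⟨h4, h5⟩, h6⟩

theorem sc_control {W : ∀ (Q : Type u) [Group Q], Subgroup Q} (hW : IsCharPFunctor p W)
    (hb : ∀ (L : Type u) [Group L] [Finite L], Con p L → IsNormalizerPStable p L →
      ∀ (P : Sylow p L) (D : Subgroup L), IsStronglyClosed D P → (inducedFunctor W D).Normal)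
    (P : Sylow p G) (hD : IsStronglyClosed D P) (hst : IsNormalizerPStable p G)
    (hc : ∀ U, U ≤ P.1 → U ≠ ⊥ → IsPConstrained p (Subgroup.normalizer (U : Set G))) :
    (groupFusionSystem P.1).IsNormal (inducedFunctor W D) := by
  have hU := (ind_le W D).trans hD.1
  by_cases h0 : D = ⊥
  · rw [eq_bot_iff.2 ((ind_le W D).trans h0.le)]; exact isNormal_bot _
  have hs := sc_group hD
  have hn : P.1 ≤ Subgroup.normalizer (D : Set G) := fun x hx =>
    mem_normalizer_of_finite fun y hy => hD.2 y hy x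
      (P.1.mul_mem (P.1.mul_mem hx (hD.1 hy)) (P.1.inv_mem hx))
  have : (W D).Characteristic := Subgroup.characteristic_iff_map_eq.2 (hW.2 _ _ (P.2.to_le hD.1))
  have hn' := hn.trans (Transfer.normalizer_le_normalizer_map_of_characteristic (W D))
  refine normal_of_nSys (hQ := hU) (hn := hn') (isSubsystemOf_iff.2 fun A f hf => control P.2
    (group_saturated P) (fun T => inducedFunctor W (T ⊓ D)) (fun Q hQ _ => ?_)
    (fun T _ => (ind_le _ _).trans inf_le_left)
    (fun T f hf => by rw [ind_img hW P.2 (hf.mono inf_le_left), StronglyClosed.img_inf hs hf])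
    (by rw [inf_eq_right.2 hD.1]; exact fun A g hg h1 _ h2 => nSys_mor_of hg le_rfl h1 h2)
    (fun Q h1 hQ h A g hg h2 h3 h4 => ?_) hf)
  · refine ind_ne_bot hW (P.2.to_le (inf_le_right.trans hD.1)) fun e => ?_
    exact Transfer.inf_centralizer_ne_bot P.2 hD.1 hn h0 (eq_bot_iff.2 fun x hx => e.le
      ⟨⟨hD.1 hx.1, Subgroup.centralizer_le_normalizer _ (Subgroup.centralizer_le hQ hx.2)⟩, hx.1⟩)
  · have hN := normSys_spec (groupFusionSystem P.1) hQ.1
    obtain ⟨ι, h5, h6⟩ := local_real (sylowIn_top P) hQ hN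
    obtain ⟨T, hT⟩ := h6.exists_sylow_top
    have h7 : (normSys _ hQ.1).StronglyClosed (normalizerIn P.1 Q ⊓ D) :=
      stronglyClosed_iff.2 ⟨inf_le_left, fun _ _ hf _ hx h => ⟨hf.mem hx,
        StronglyClosed.mem hs (isSubsystemOf_iff.1 (normSys_sub hN) _ _ hf) hx h.2⟩⟩
    have h8 := hb _ (Transfer.charP_quot_of_constrained (hc Q hQ.1 h1))
      (nst_quot (nst_sub hst _) (Solv.coprime_card_pPrimeCore p)) T _
      (hT ▸ IsRealizedBy.sc_image h5 h7)
    rw [← ind_image hW (P.2.to_le normalizerIn_le) h5.1 inf_le_left] at h8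
    obtain ⟨k, k1, k2, k3⟩ := IsNormal.ext (IsRealizedBy.normal_of h5
      ((ind_le _ _).trans inf_le_left) h8) (normSys_mor_of hN h3 hg le_rfl h2 h4)
    exact ((h _ k (isSubsystemOf_iff.1 (normSys_sub hN) _ _ k1) le_sup_right k1.le
      (fun _ hx => k1.mem hx) k3).mono le_sup_left).congr k2

end Cfsg.Agent.Fusion
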