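import Cfsg.Agent.Lib.Fusion.Marks
import Cfsg.Agent.Lib.Fusion.Morph

/-! The characteristic biset of a fusion system and the finite group it defines. -/

set_option autoImplicit false

namespace Cfsg.Agent.Fusion

open Cfsg Cfsg.FusionSystem MulAction

universe u v

variable {Ω : Type u} [Group Ω] {S : Subgroup Ω} {F : FusionSystem S} {P Q U : Subgroup Ω}
  {p : ℕ} {f g : Ω → Ω} {D E K L : Subgroup (S × S)}

/-- first projection of a subgroup of `S × S` -/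
def pr1 (K : Subgroup (S × S)) : Subgroup Ω := K.map (S.subtype.comp (MonoidHom.fst S S))

theorem mem_pr1 {x : Ω} : x ∈ pr1 K ↔ ∃ a ∈ K, (a.1 : Ω) = x := Iff.rfl

theorem fst_mem_pr1 {a : S × S} (h : a ∈ K) : (a.1 : Ω) ∈ pr1 K := ⟨a, h, rfl⟩

theorem pr1_le : pr1 K ≤ S := by rintro _ ⟨a, -, rfl⟩; exact a.1.2

theorem pr1_mono (h : K ≤ L) : pr1 K ≤ pr1 L := Subgroup.map_mono h

/-- `K` is the graph of a map of the system -/
def IsGraph (F : FusionSystem S) (K : Subgroup (S × S)) : Prop :=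
  ∃ f, Mor F (pr1 K) f ∧ ∀ a ∈ K, f a.1 = a.2

def GRel (F : FusionSystem S) (K L : Subgroup (S × S)) : Prop :=
  ∃ f, Mor F (pr1 K) f ∧ ∃ t : S, ∀ b, b ∈ L ↔ ∃ a ∈ K, (b.1 : Ω) = f a.1 ∧ b.2 = t * a.2 * t⁻¹

theorem exists_psi (hf : Mor F U f) {N : Subgroup (S × S)} (hN : pr1 N ≤ U) (t : S) :
    ∃ ψ : N →* S × S, Function.Injective ψ ∧
      ∀ n, ((ψ n).1 : Ω) = f n.1.1 ∧ (ψ n).2 = t * n.1.2 * t⁻¹ := by
  have h := fun n : N => hN (fst_mem_pr1 n.2)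
  refine ⟨MonoidHom.mk' (fun n => (⟨f n.1.1, hf.mem (h n)⟩, t * n.1.2 * t⁻¹)) fun a b => ?_,
    fun a b e => ?_, fun n => ⟨rfl, rfl⟩⟩
  · exact Prod.ext (Subtype.ext (hf.map_mul (h a) (h b))) (by simp [mul_assoc])
  · exact Subtype.ext (Prod.ext (Subtype.ext (hf.inj (h a) (h b)
      (congrArg (fun z : S × S => (z.1 : Ω)) e))) (by simpa using congrArg Prod.snd e))

theorem gRel_map (hf : Mor F U f) {N : Subgroup (S × S)} (hN : pr1 N ≤ U) {t : S}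
    {ψ : N →* S × S} (h : ∀ n, ((ψ n).1 : Ω) = f n.1.1 ∧ (ψ n).2 = t * n.1.2 * t⁻¹) (hK : K ≤ N) :
    GRel F K ((K.subgroupOf N).map ψ) :=
  ⟨f, hf.mono ((pr1_mono hK).trans hN), t, fun b =>
    ⟨by rintro ⟨n, hn, rfl⟩; exact ⟨n.1, hn, h n⟩, fun ⟨a, ha, e1, e2⟩ => ⟨⟨a, hK ha⟩, ha,
      Prod.ext (Subtype.ext ((h _).1.trans e1.symm)) ((h _).2.trans e2.symm)⟩⟩⟩

theorem GRel.pr1_eq {t : S} (hf : Mor F (pr1 K) f)
    (h : ∀ b, b ∈ L ↔ ∃ a ∈ K, (b.1 : Ω) = f a.1 ∧ b.2 = t * a.2 * t⁻¹) :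
    img f (pr1 K) = pr1 L := by
  ext y
  rw [hf.mem_img, mem_pr1]
  constructor
  · rintro ⟨_, ⟨a, ha, rfl⟩, rfl⟩
    exact ⟨(⟨_, hf.mem (fst_mem_pr1 ha)⟩, t * a.2 * t⁻¹), (h _).2 ⟨a, ha, rfl, rfl⟩, rfl⟩
  · rintro ⟨b, hb, rfl⟩
    obtain ⟨a, ha, e, -⟩ := (h b).1 hb
    exact ⟨_, fst_mem_pr1 ha, e.symm⟩

def gSetoid (F : FusionSystem S) : Setoid (Subgroup (S × S)) where
  r := GRel F
  iseqv :=
    { refl := fun K => ⟨_, mor_id F pr1_le, 1, fun b => ⟨fun hb => ⟨b, hb, rfl, by simp⟩,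
        fun ⟨a, ha, e1, e2⟩ => (Prod.ext (Subtype.ext e1) (by simpa using e2) : b = a) ▸ ha⟩⟩
      symm := by
        rintro K L ⟨f, hf, t, h⟩
        obtain ⟨g, hg, e1, -⟩ := hf.inv' (GRel.pr1_eq hf h)
        refine ⟨g, hg, t⁻¹, fun a => ⟨fun ha => ⟨(⟨_, hf.mem (fst_mem_pr1 ha)⟩, t * a.2 * t⁻¹),
          (h _).2 ⟨a, ha, rfl, rfl⟩, (e1 _ (fst_mem_pr1 ha)).symm, by simp [mul_assoc]⟩, ?_⟩⟩
        rintro ⟨b, hb, e2, e3⟩
        obtain ⟨c, hc, e4, e5⟩ := (h b).1 hb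
        rw [e4, e1 _ (fst_mem_pr1 hc)] at e2
        exact (Prod.ext (Subtype.ext e2) (by simpa [e5, mul_assoc] using e3) : a = c) ▸ hc
      trans := by
        rintro K L M ⟨f, hf, t, h⟩ ⟨g, hg, u, h'⟩
        refine ⟨_, hf.comp hg fun x hx => GRel.pr1_eq hf h ▸ subset_img hx, u * t, fun c => ?_⟩
        rw [h']
        constructor
        · rintro ⟨b, hb, e1, e2⟩
          obtain ⟨a, ha, e3, e4⟩ := (h b).1 hb
          exact ⟨a, ha, by rw [e1, e3], by rw [e2, e4]; group⟩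
        · rintro ⟨a, ha, e1, e2⟩
          exact ⟨(⟨_, hf.mem (fst_mem_pr1 ha)⟩, t * a.2 * t⁻¹), (h _).2 ⟨a, ha, rfl, rfl⟩, e1,
            by rw [e2]; group⟩ }

theorem GRel.card_eq (h : GRel F K L) : Nat.card K = Nat.card L := by
  obtain ⟨f, hf, t, h⟩ := h
  obtain ⟨ψ, hψ, e⟩ := exists_psi hf le_rfl t
  have : L = ψ.range := by
    ext b; rw [h]
    exact ⟨fun ⟨a, ha, e1, e2⟩ => ⟨⟨a, ha⟩, Prod.ext (Subtype.ext ((e _).1.trans e1.symm))
      ((e _).2.trans e2.symm)⟩, by rintro ⟨n, rfl⟩; exact ⟨n.1, n.2, e n⟩⟩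
  rw [this]
  exact Nat.card_congr (MonoidHom.ofInjective hψ).toEquiv

theorem gRel_conj (F : FusionSystem S) (g : S × S) (h : ∀ k, k ∈ D ↔ g⁻¹ * k * g ∈ E) :
    GRel F D E :=
  ⟨_, mor_conj F pr1_le (g.1⁻¹).2, g.2⁻¹, fun b => ⟨fun hb => ⟨g * b * g⁻¹,
    (h _).2 (by simpa [mul_assoc] using hb), by simp [mul_assoc], by simp [mul_assoc]⟩,
    fun ⟨a, ha, e1, e2⟩ => (Prod.ext (Subtype.ext (by simpa using e1)) (by simpa using e2) :
      b = g⁻¹ * a * g) ▸ (h a).1 ha⟩⟩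

theorem IsGraph.rel (hD : IsGraph F D) (h : GRel F D E) : IsGraph F E := by
  obtain ⟨φ, hφ, e⟩ := hD
  obtain ⟨f, hf, t, h⟩ := h
  obtain ⟨g, hg, e1, e2, -⟩ := hf.inv' (GRel.pr1_eq hf h)
  refine ⟨_, (hg.comp hφ e2).comp (mor_conj F le_rfl t.2) fun x hx => hφ.mem (e2 x hx), fun b hb => ?_⟩
  obtain ⟨a, ha, e3, e4⟩ := (h b).1 hb
  rw [e3, e1 _ (fst_mem_pr1 ha), e _ ha, e4]; rfl

theorem IsGraph.of_conj (hE : IsGraph F E) {g : S × S} (h : ∀ k ∈ K, g⁻¹ * k * g ∈ E) :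
    IsGraph F K := by
  obtain ⟨φ, hφ, e⟩ := hE
  have h1 : ∀ x ∈ pr1 K, (g.1⁻¹ : S) * x * ((g.1⁻¹ : S) : Ω)⁻¹ ∈ pr1 E := by
    rintro _ ⟨a, ha, rfl⟩
    simpa using fst_mem_pr1 (h a ha)
  refine ⟨_, ((mor_conj F pr1_le (g.1⁻¹).2).comp hφ h1).comp (mor_conj F le_rfl g.2.2)
    fun x hx => hφ.mem (h1 x hx), fun a ha => ?_⟩
  have := e _ (h a ha)
  simp only [Prod.fst_mul, Prod.fst_inv, Subgroup.coe_mul, InvMemClass.coe_inv, Prod.snd_mul,
    Prod.snd_inv, inv_inv] at this ⊢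
  rw [this]; group

theorem IsGraph.card_eq (hD : IsGraph F D) : Nat.card D = Nat.card (pr1 D) := by
  obtain ⟨φ, -, e⟩ := hD
  refine Nat.card_congr (Equiv.ofBijective (fun a => ⟨a.1.1, fst_mem_pr1 a.2⟩) ⟨fun a b h => ?_, ?_⟩)
  · have h : (a.1.1 : Ω) = b.1.1 := congrArg (fun z : pr1 D => (z : Ω)) h
    exact Subtype.ext (Prod.ext (Subtype.ext h) (Subtype.ext (by rw [← e _ a.2, ← e _ b.2, h])))
  · rintro ⟨_, a, ha, rfl⟩; exact ⟨⟨a, ha⟩, rfl⟩

/-- graph of an automorphism of `S` -/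
def dlt (α : MulAut S) : Subgroup (S × S) := α.toMonoidHom.graph

theorem mem_dlt {α : MulAut S} {a : S × S} : a ∈ dlt α ↔ α a.1 = a.2 := Iff.rfl

theorem pr1_dlt (α : MulAut S) : pr1 (dlt α) = S :=
  le_antisymm pr1_le fun x hx => ⟨(⟨x, hx⟩, α ⟨x, hx⟩), rfl, rfl⟩

theorem isGraph_dlt {α : MulAut S} (h : α ∈ F.autGroup S) : IsGraph F (dlt α) :=
  ⟨afun α, by rw [pr1_dlt]; exact (mem_autGroup le_rfl).1 h, fun a ha => by
    rw [afun_of_mem _ a.1.2, ← mem_dlt.1 ha]⟩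

variable [Finite S] [Fintype (Subgroup (S × S))]

theorem IsGraph.card_le (hD : IsGraph F D) : Nat.card D ≤ Nat.card S :=
  hD.card_eq ▸ Subgroup.card_le_of_le pr1_le

theorem IsGraph.eq_dlt (hD : IsGraph F D) (h : Nat.card S ≤ Nat.card D) :
    ∃ α ∈ F.autGroup S, D = dlt α := by
  have h1 : pr1 D = S := Subgroup.eq_of_le_of_card_ge pr1_le (hD.card_eq ▸ h)
  obtain ⟨φ, hφ, e⟩ := hD
  rw [h1] at hφ
  obtain ⟨α, hα, e'⟩ := hφ.exists_aut (hφ.img_eq_self fun x hx => hφ.mem hx)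
  refine ⟨α, hα, Subgroup.eq_of_le_of_card_ge (fun a ha => Subtype.ext ?_) ?_⟩
  · rw [← e a ha, ← e' _ a.1.2, afun_of_mem _ a.1.2]; rfl
  · exact (isGraph_dlt hα).card_le.trans h

theorem mark_eq_zero_of {c : Subgroup (S × S) → ℕ} (hc : ∀ E, c E ≠ 0 → IsGraph F E)
    (hK : ¬ IsGraph F K) : mark c K = 0 :=
  mark_eq_zero fun E _ h => by_contra fun h0 => hK ((hc E h0).of_conj h)

theorem mark_eq_of {c : Subgroup (S × S) → ℕ} (hc : ∀ E, c E ≠ 0 → IsGraph F E) {k : ℕ}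
    (hb : ∀ D E, GRel F D E → IsGraph F D → k ≤ Nat.card D → mark c D = mark c E)
    (h : GRel F D E) (hk : k ≤ Nat.card D) : mark c D = mark c E := by
  by_cases hD : IsGraph F D
  · exact hb D E h hD hk
  · rw [mark_eq_zero_of hc hD, mark_eq_zero_of hc fun hE => hD (hE.rel ((gSetoid F).symm h))]

theorem exists_div [Fact p.Prime] (hS : IsPGroup p S) (hF : F.IsSaturated p)
    {c : Subgroup (S × S) → ℕ} (hc : ∀ E, c E ≠ 0 → IsGraph F E) {k : ℕ}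
    (hb : ∀ D E, GRel F D E → IsGraph F D → k + 1 ≤ Nat.card D → mark c D = mark c E)
    (hD : IsGraph F D) (hk : Nat.card D = k) : ∃ M : ℤ, ∀ E, GRel F D E →
      ((E.relIndex (Subgroup.normalizer (E : Set (S × S))) : ℕ) : ℤ) ∣ M - mark c E := by
  obtain ⟨φ, hφ, e⟩ := hD
  obtain ⟨g, hg, hn⟩ := IsSaturated.exists_normalizer_mor' hS hF hφ.img_le
  have hQ : img φ (pr1 D) ≤ normalizerIn S (img φ (pr1 D)) := le_normalizerIn hφ.img_le
  have h1 := hφ.comp hg fun x hx => hQ (subset_img hx)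
  obtain ⟨ψ₀, -, e₀⟩ := exists_psi h1 le_rfl 1
  refine ⟨mark c ψ₀.range, fun E hE => ?_⟩
  have hcard := hE.card_eq
  obtain ⟨f, hf, t, h⟩ := (gSetoid F).symm hE
  have h2 := GRel.pr1_eq hf h
  have h3 := hf.comp h1 fun x hx => h2 ▸ subset_img hx
  have h4 : ∀ a ∈ E, φ (f a.1) = t * a.2 * t⁻¹ := fun a ha =>
    e (⟨_, hf.mem (fst_mem_pr1 ha)⟩, t * a.2 * t⁻¹) ((h _).2 ⟨a, ha, rfl, rfl⟩)
  obtain ⟨θ, hθ, eθ⟩ := IsReceptive.ext (IsSaturated.receptive' hS hF hn) h3 (by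
    rw [hf.img_comp' (fun y => g (φ y)), h2, hφ.img_comp'])
  haveI : Finite (pr1 E) := finite_of_le pr1_le
  haveI : Finite (img φ (pr1 D)) := finite_of_le hφ.img_le
  have h5 : pr1 (Subgroup.normalizer (E : Set (S × S))) ≤
      Next S (pr1 E) (fun x => g (φ (f x))) := by
    rintro _ ⟨n, hn, rfl⟩
    have h6 : ∀ a ∈ E, n * a * n⁻¹ ∈ E := fun a ha => conj_mem_of_mem_normalizer hn ha
    have h4' : ∀ a ∈ E, φ (f (n * a * n⁻¹).1) =
        (t * n.2 * t⁻¹ : S) * φ (f a.1) * ((t * n.2 * t⁻¹ : S) : Ω)⁻¹ := fun a ha => by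
      rw [h4 _ (h6 a ha), h4 a ha]; simp [mul_assoc]
    have h7 : ((t * n.2 * t⁻¹ : S) : Ω) ∈ normalizerIn S (img φ (pr1 D)) := by
      refine ⟨(t * n.2 * t⁻¹).2, mem_normalizer_of_finite fun y hy => ?_⟩
      rw [← h2, ← hf.img_comp', (hf.comp hφ fun x hx => h2 ▸ subset_img hx).mem_img] at hy ⊢
      obtain ⟨_, ⟨a, ha, rfl⟩, rfl⟩ := hy
      exact ⟨_, fst_mem_pr1 (h6 a ha), h4' a ha⟩
    refine mem_Next.2 ⟨⟨n.1.2, mem_normalizer_of_finite ?_⟩, g _, hg.mem h7, ?_⟩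
    · rintro _ ⟨a, ha, rfl⟩; exact fst_mem_pr1 (h6 a ha)
    · rintro _ ⟨a, ha, rfl⟩
      exact ((hg.map_conj h7 (hQ (subset_img (h2 ▸ subset_img (fst_mem_pr1 ha))))).symm.trans
        (congrArg g (h4' a ha).symm)).symm
  obtain ⟨ψ, -, eψ⟩ := exists_psi hθ h5 t
  have h8 : (E.subgroupOf _).map ψ = ψ₀.range := by
    ext b
    constructor
    · rintro ⟨n, hn, rfl⟩
      have hn : n.1 ∈ E := hn
      refine ⟨⟨(⟨_, hf.mem (fst_mem_pr1 hn)⟩, t * n.1.2 * t⁻¹), (h _).2 ⟨n, hn, rfl, rfl⟩⟩,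
        Prod.ext (Subtype.ext ?_) ?_⟩
      · rw [(e₀ _).1, (eψ _).1, eθ _ (fst_mem_pr1 hn)]
      · rw [(e₀ _).2, (eψ _).2]; simp
    · rintro ⟨d, rfl⟩
      obtain ⟨a, ha, e1, e2⟩ := (h d).1 d.2
      refine ⟨⟨a, Subgroup.le_normalizer ha⟩, ha, Prod.ext (Subtype.ext ?_) ?_⟩
      · rw [(e₀ _).1, (eψ _).1, eθ _ (fst_mem_pr1 ha), e1]
      · rw [(e₀ _).2, (eψ _).2, e2]; simp
  refine dvd_mark_sub c rfl ψ (fun n => mem_normalizer_of_finite ?_)
    (fun n hn => h8 ▸ ⟨n, hn, rfl⟩) fun n hn => ?_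
  · rw [← h8]
    rintro _ ⟨m, hm, rfl⟩
    exact ⟨n * m * n⁻¹, conj_mem_of_mem_normalizer (P := E) n.2 hm, by simp⟩
  · have h9 : E ⊔ Subgroup.zpowers n.1 ≤ Subgroup.normalizer (E : Set (S × S)) :=
      sup_le Subgroup.le_normalizer (Subgroup.zpowers_le.2 n.2)
    have := gRel_map hθ h5 eψ h9
    rw [Subgroup.subgroupOf_sup Subgroup.le_normalizer (Subgroup.zpowers_le.2 n.2),
      Subgroup.map_sup, h8, show (Subgroup.zpowers n.1).subgroupOf _ = Subgroup.zpowers n from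
        Subgroup.map_injective (Subgroup.subtype_injective _) (by
          rw [Subgroup.map_subgroupOf_eq_of_le (Subgroup.zpowers_le.2 n.2), MonoidHom.map_zpowers]
          rfl), MonoidHom.map_zpowers] at this
    refine mark_eq_of hc hb this ?_
    have := card_lt_of_lt (left_lt_sup.2 fun h => hn (h (Subgroup.mem_zpowers n.1)))
    omega

theorem balance_all (F : FusionSystem S) (I : ℕ → (Subgroup (S × S) → ℕ) → Prop)
    (hI : ∀ k c, I (k + 1) c → (∀ E, c E ≠ 0 → IsGraph F E) →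
      (∀ D E, GRel F D E → IsGraph F D → k + 1 ≤ Nat.card D → mark c D = mark c E) →
      ∃ n : ℕ, (∀ D, IsGraph F D → Nat.card D = k → ∃ M : ℤ, ∀ E, GRel F D E →
        ((E.relIndex (Subgroup.normalizer (E : Set (S × S))) : ℕ) : ℤ) ∣ M - mark (n • c) E) ∧
        ∀ d : Subgroup (S × S) → ℕ, (∀ E, d E ≠ 0 → IsGraph F E ∧ Nat.card E = k) →
          I k (n • c + d)) (k : ℕ) : ∀ c, I k c → (∀ E, c E ≠ 0 → IsGraph F E) →
      (∀ D E, GRel F D E → IsGraph F D → k ≤ Nat.card D → mark c D = mark c E) →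
      ∃ c, I 0 c ∧ (∀ E, c E ≠ 0 → IsGraph F E) ∧ ∀ D E, GRel F D E → mark c D = mark c E := by
  induction k with
  | zero => exact fun c h1 h2 h3 => ⟨c, h1, h2, fun D E h => mark_eq_of h2 h3 h (Nat.zero_le _)⟩
  | succ k ih =>
    intro c h1 h2 h3
    obtain ⟨n, h4, h5⟩ := hI k c h1 h2 h3
    obtain ⟨d, h6, h7⟩ := balance_step (gSetoid F) {D | IsGraph F D} (fun _ _ h => h.card_eq)
      (fun _ _ g h => gRel_conj F g h) (fun _ _ h h' => h'.rel h) (n • c) k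
      (fun D E h hD hk => by rw [mark_smul, mark_smul, h3 D E h hD hk]) h4
    refine ih _ (h5 d h6) (fun E h => by_contra fun h' => h ?_) h7
    have e1 : c E = 0 := by_contra fun h => h' (h2 E h)
    have e2 : d E = 0 := by_contra fun h => h' (h6 E h).1
    simp [e1, e2]

theorem exists_balanced (F : FusionSystem S) : ∃ c : Subgroup (S × S) → ℕ, mark c (dlt 1) ≠ 0 ∧
    (∀ E, c E ≠ 0 → IsGraph F E) ∧ ∀ D E, GRel F D E → mark c D = mark c E := by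
  classical
  refine balance_all F (fun _ c => mark c (dlt 1) ≠ 0) (fun k c h _ _ => ⟨Nat.card (S × S),
    fun D _ _ => ⟨0, fun E _ => ?_⟩, fun d _ => ?_⟩) (Nat.card S + 1) (Pi.single (dlt 1) 1) ?_
    (fun E h => ?_) fun D E _ hD h => absurd hD.card_le (by omega)
  · rw [mark_smul, zero_sub, dvd_neg, Int.natCast_dvd_natCast]
    exact ((Subgroup.index_dvd_card _).trans (Subgroup.card_subgroup_dvd_card _)).mul_right _
  · rw [mark_add, mark_smul]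
    have := Nat.mul_ne_zero (Nat.card_pos (α := S × S)).ne' h
    omega
  · rw [mark, Finset.sum_eq_single (dlt 1) (fun E _ h => by simp [h]) (by simp), mk1_self]
    simpa [Subgroup.relIndex] using Subgroup.index_ne_zero_of_finite
  · by_cases hE : E = dlt 1
    · exact hE ▸ isGraph_dlt (one_mem _)
    · simp [hE] at h

omit [Fintype (Subgroup (S × S))] in
theorem mk1_dlt_self (α : MulAut S) : mk1 (dlt α) (dlt α) = mk1 (dlt (1 : MulAut S)) (dlt 1) := by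
  have : dlt α = (dlt 1).map ((MulEquiv.refl S).prodCongr α).toMonoidHom := by
    ext a
    exact ⟨fun h => ⟨(a.1, a.1), rfl, Prod.ext rfl h⟩, by rintro ⟨b, hb, rfl⟩; exact congrArg α hb⟩
  rw [mk1_self, mk1_self, this, ← Subgroup.map_equiv_normalizer_eq,
    Subgroup.relIndex_map_map_of_injective _ _ (MulEquiv.injective _)]

theorem exists_balanced_sat [hp : Fact p.Prime] (hS : IsPGroup p S) (hF : F.IsSaturated p) :
    ∃ c : Subgroup (S × S) → ℕ, (mark c (dlt 1) ≠ 0 ∧ ∃ n, ¬ p ∣ n ∧ mark c ⊥ = Nat.card S * n) ∧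
    (∀ E, c E ≠ 0 → IsGraph F E) ∧ ∀ D E, GRel F D E → mark c D = mark c E := by
  classical
  haveI := finite_autGroup F (le_refl S)
  let B := (autInducedBy S S).subgroupOf (F.autGroup S)
  haveI := Fintype.ofFinite (F.autGroup S ⧸ B)
  let δ : F.autGroup S ⧸ B → Subgroup (S × S) := fun τ => dlt τ.out.1
  let c : Subgroup (S × S) → ℕ := fun E => (Finset.univ.filter (δ · = E)).card
  have hc : ∀ K, mark c K = ∑ τ, mk1 (δ τ) K := fun K => by
    rw [← Finset.sum_fiberwise (g := δ) Finset.univ]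
    refine Finset.sum_congr rfl fun E _ => ?_
    rw [Finset.sum_congr rfl (g := fun _ => mk1 E K) fun τ h => by rw [(Finset.mem_filter.1 h).2],
      Finset.sum_const, smul_eq_mul]
  have hc' : ∀ α : F.autGroup S, mark c (dlt α.1) = mk1 (dlt (1 : MulAut S)) (dlt 1) := fun α => by
    rw [hc, Finset.sum_eq_single (α : F.autGroup S ⧸ B)]
    · obtain ⟨b, hb⟩ := QuotientGroup.mk_out_eq_mul B α
      obtain ⟨s, hs, e⟩ := mem_autInducedBy.1 b.2
      rw [← mk1_dlt_self (α : F.autGroup S ⧸ B).out.1]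
      refine mk1_conj _ (1, (α.1 ⟨s, hs⟩)) fun k => ?_
      have e' : b.1.1 k.1 = ⟨s, hs⟩ * k.1 * ⟨s, hs⟩⁻¹ :=
        Subtype.ext ((afun_of_mem _ k.1.2).symm.trans (e _ k.1.2))
      simp [mem_dlt, hb, e']
    · intro τ _ hτ
      by_contra h0
      obtain ⟨g, hg⟩ := exists_of_mk1 h0
      refine hτ (τ.out_eq.symm.trans (QuotientGroup.eq.2 (mem_autInducedBy.2
        ⟨(τ.out.1⁻¹ g.2 * g.1⁻¹ : S), Subtype.prop _, fun x hx => ?_⟩)))
      have := mem_dlt.1 (hg (⟨x, hx⟩, α.1 ⟨x, hx⟩) rfl)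
      simp only [Prod.fst_mul, Prod.fst_inv, Prod.snd_mul, Prod.snd_inv] at this
      have e : (τ.out.1⁻¹ * α.1) ⟨x, hx⟩ = τ.out.1⁻¹ g.2 * g.1⁻¹ * ⟨x, hx⟩ *
          (τ.out.1⁻¹ g.2 * g.1⁻¹)⁻¹ := τ.out.1.injective (by
        rw [show τ.out.1⁻¹ g.2 * g.1⁻¹ * ⟨x, hx⟩ * (τ.out.1⁻¹ g.2 * g.1⁻¹)⁻¹ =
          τ.out.1⁻¹ g.2 * (g.1⁻¹ * ⟨x, hx⟩ * g.1) * (τ.out.1⁻¹ g.2)⁻¹ by group, map_mul, map_mul, this]
        simp [mul_assoc])
      exact (afun_of_mem _ hx).trans (congrArg Subtype.val e)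
    · simp
  have hidx : ∀ E : Subgroup (S × S), E.index * Nat.card E = Nat.card S * Nat.card S := fun E => by
    rw [E.index_mul_card, Nat.card_prod]
  obtain ⟨c', ⟨-, h1⟩, h2⟩ := balance_all F (fun k c => k ≤ Nat.card S ∧ mark c (dlt 1) ≠ 0 ∧
      ∃ n, ¬ p ∣ n ∧ mark c ⊥ = Nat.card S * n) (fun k c ⟨h1, h2, n, h3, h4⟩ hc hb => ⟨1,
      fun D hD hk => by simpa using exists_div hS hF hc hb hD hk, fun d hd => ⟨by omega, by
        rw [mark_add, one_smul]; omega, by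
        obtain ⟨m, hm⟩ : Nat.card S * p ∣ mark d ⊥ := Finset.dvd_sum fun E _ => by
          by_cases h : d E = 0
          · simp [h]
          obtain ⟨h5, h6⟩ := hd E h
          refine Dvd.dvd.mul_left ?_ _
          have h7 := hidx E
          rw [mk1_bot]
          rw [h5.card_eq] at h6 h7
          haveI : Finite (pr1 E) := finite_of_le pr1_le
          obtain ⟨j, hj⟩ := (pgroup_of_le hS (pr1_le (K := E))).exists_card_eq
          obtain ⟨i, hi⟩ := hS.exists_card_eq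
          have hji : j < i := (Nat.pow_lt_pow_iff_right hp.out.one_lt).1 (by omega)
          obtain ⟨l, rfl⟩ := Nat.exists_eq_add_of_lt hji
          rw [hj, hi] at h7
          rw [hi]
          exact ⟨p ^ l, Nat.eq_of_mul_eq_mul_right (pow_pos hp.out.pos j) (by rw [h7]; ring)⟩
        exact ⟨n + p * m, fun h => h3 ((Nat.dvd_add_left (dvd_mul_right p m)).1 h), by
          rw [mark_add, one_smul, h4, hm]; ring⟩⟩⟩) (Nat.card S) c ⟨le_rfl, by
        rw [show (1 : MulAut S) = (1 : F.autGroup S).1 from rfl, hc', mk1_self]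
        exact Subgroup.index_ne_zero_of_finite, B.index,
        (IsFullyAutomized.sylowIn (IsSaturated.fullyAutomized hS hF
          (fullyNormalized_top F))).not_dvd_relIndex, by
        rw [hc, Finset.sum_congr rfl (g := fun _ => Nat.card S) fun τ _ => ?_]
        · simp [Subgroup.index, mul_comm]
        · have := hidx (δ τ)
          rw [(isGraph_dlt τ.out.2).card_eq, pr1_dlt] at this
          rw [mk1_bot]; exact Nat.eq_of_mul_eq_mul_right Nat.card_pos this⟩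
      (fun E h => by
        obtain ⟨τ, hτ⟩ := Finset.card_ne_zero.1 h
        exact (Finset.mem_filter.1 hτ).2 ▸ isGraph_dlt τ.out.2) fun D E h hD hk => by
      obtain ⟨α, hα, rfl⟩ := hD.eq_dlt hk
      obtain ⟨β, hβ, rfl⟩ := (hD.rel h).eq_dlt (h.card_eq ▸ hk)
      exact (hc' ⟨α, hα⟩).trans (hc' ⟨β, hβ⟩).symm
  exact ⟨c', h1, h2⟩

/-- `G` realizes the maps of `F`; `H` contains the image of `S` and retracts onto it, and all the
maps obtained by conjugating into `H` and retracting lie in `F`. -/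
structure Park (F : FusionSystem S) {G : Type*} [Group G] (ι : S →* G) (H : Subgroup G)
    (π : H →* S) : Prop where
  real : ∀ P f, Mor F P f → ∃ g : G, ∀ x ∈ P, ap ι (f x) = g * ap ι x * g⁻¹
  mem : ∀ s, ι s ∈ H
  sec : ∀ s, π ⟨ι s, mem s⟩ = s
  mor : ∀ (g : G) (P : Subgroup Ω), P ≤ S → (∀ x ∈ P, g⁻¹ * ap ι x * g ∈ H) →
    ∃ f, Mor F P f ∧ ∀ x ∈ P, ∀ h : g⁻¹ * ap ι x * g ∈ H, f x = π ⟨_, h⟩

theorem exists_park_of_balanced {c : Subgroup (S × S) → ℕ} (h0 : mark c (dlt 1) ≠ 0)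
    (hc : ∀ E, c E ≠ 0 → IsGraph F E) (hb : ∀ D E, GRel F D E → mark c D = mark c E) :
    ∃ (G : Type u) (_ : Group G) (_ : Finite G) (ι : S →* G) (H : Subgroup G) (π : H →* S),
      Park F ι H π ∧ H.index * Nat.card S = mark c ⊥ := by
  let X := XSet c
  let ρ : S × S →* Equiv.Perm X := toPermHom _ _
  have hst : ∀ x : X, IsGraph F (stb ρ x) := fun x => by
    by_contra h
    have := mark_eq_zero_of hc h
    rw [← ncard_XSet, Set.ncard_eq_zero] at this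
    exact (this ▸ (fun k hk => hk : x ∈ {y : XSet c | ∀ k ∈ stb ρ x, k • y = y}) : x ∈ (∅ : Set X))
  let R : S →* Equiv.Perm X := ρ.comp (MonoidHom.inr S S)
  have hR : ∀ t x, R t x = x → t = 1 := fun t x h => by
    obtain ⟨f, hf, e⟩ := hst x
    exact Subtype.ext ((e (1, t) h).symm.trans hf.map_one)
  have hR' : ∀ t u x, R t x = R u x → t = u := fun t u x h =>
    (inv_mul_eq_one.1 (hR (u⁻¹ * t) x (by simp [h]))).symm
  let G := Subgroup.centralizer (R.range : Set (Equiv.Perm X))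
  have hG : ∀ β : Equiv.Perm X, β ∈ G ↔ ∀ t x, β (R t x) = R t (β x) := fun β =>
    ⟨fun h t x => (congrArg (· x) (h _ ⟨t, rfl⟩)).symm, by
      rintro h _ ⟨t, rfl⟩; exact Equiv.ext fun x => (h t x).symm⟩
  have hρ : ∀ (s t : S) x, ρ (s, t) x = ρ (s, 1) (R t x) := fun s t x => by
    change _ = (ρ (s, 1) * ρ (1, t)) x
    rw [← map_mul]; simp
  let ι : S →* G := (ρ.comp (MonoidHom.inl S S)).codRestrict G fun s => (hG _).2 fun t x => by
    change (ρ (s, 1) * ρ (1, t)) x = (ρ (1, t) * ρ (s, 1)) x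
    rw [← map_mul, ← map_mul]; simp
  have hι : ∀ s x, (ι s).1 x = ρ (s, 1) x := fun _ _ => rfl
  obtain ⟨x₀, hx₀⟩ : ∃ x₀ : X, ∀ s, ρ (s, s) x₀ = x₀ := by
    rw [← ncard_XSet] at h0
    obtain ⟨x, hx⟩ := Set.nonempty_of_ncard_ne_zero h0
    exact ⟨x, fun s => hx (s, s) rfl⟩
  let H : Subgroup G :=
    { carrier := {g | ∃ t, R t (g.1 x₀) = x₀}
      one_mem' := ⟨1, by simp⟩
      mul_mem' := by
        rintro a b ⟨t, e⟩ ⟨u, e'⟩
        refine ⟨t * u, ?_⟩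
        rw [map_mul, Equiv.Perm.mul_apply, Subgroup.coe_mul, Equiv.Perm.mul_apply,
          ← (hG _).1 a.2, e', e]
      inv_mem' := by
        rintro a ⟨t, e⟩
        refine ⟨t⁻¹, ?_⟩
        rw [← (hG _).1 (a⁻¹).2, map_inv, Equiv.Perm.inv_eq_iff_eq.2 e.symm]; simp }
  have hπ : ∀ a : H, R a.2.choose (a.1.1 x₀) = x₀ := fun a => a.2.choose_spec
  let π : H →* S := MonoidHom.mk' (fun a => a.2.choose) fun a b => hR' _ _ ((a * b).1.1 x₀) (by
    rw [hπ, map_mul, Equiv.Perm.mul_apply]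
    change _ = R _ (R _ (a.1.1 (b.1.1 x₀)))
    rw [← (hG _).1 a.1.2, hπ, hπ])
  have hπ' : ∀ (a : H) t, R t (a.1.1 x₀) = x₀ → π a = t := fun a t h =>
    hR' _ _ _ ((hπ a).trans h.symm)
  have hm : ∀ s, R s ((ι s).1 x₀) = x₀ := fun s => by
    rw [← (hG _).1 (ι s).2, hι, ← hρ, hx₀]
  refine ⟨G, inferInstance, inferInstance, ι, H, π, ⟨fun P f hf => ?_, fun s => ⟨s, hm s⟩,
    fun s => hπ' _ _ (hm s), fun g P hP h => ?_⟩, ?_⟩
  · let N : Subgroup (S × S) := (P.subgroupOf S).prod ⊤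
    have hN : pr1 N ≤ P := by rintro _ ⟨a, ha, rfl⟩; exact ha.1
    obtain ⟨ψ, -, e⟩ := exists_psi hf hN 1
    haveI : Nonempty X := ⟨x₀⟩
    obtain ⟨β, hβ⟩ := exists_perm_of_marks (ρ.comp N.subtype) (ρ.comp ψ) fun K => by
      have := hb _ _ (gRel_map hf hN e (Subgroup.map_subtype_le K))
      rw [← ncard_XSet, ← ncard_XSet, Subgroup.subgroupOf,
        Subgroup.comap_map_eq_self_of_injective N.subtype_injective] at this
      refine (congrArg Set.ncard (Set.ext fun x => ?_)).trans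
        (this.trans (congrArg Set.ncard (Set.ext fun x => ?_)))
      · exact ⟨by rintro h _ ⟨k, hk, rfl⟩; exact h hk, fun h k hk => h _ ⟨k, hk, rfl⟩⟩
      · exact ⟨fun h k hk => h _ ⟨k, hk, rfl⟩, by rintro h _ ⟨k, hk, rfl⟩; exact h hk⟩
    refine ⟨⟨β, (hG _).2 fun t x => ?_⟩, fun x hx => ?_⟩
    · have e1 : ψ ⟨(1, t), one_mem _, trivial⟩ = (1, t) :=
        Prod.ext (Subtype.ext ((e _).1.trans hf.map_one)) (by simpa using (e _).2)
      have := hβ ⟨(1, t), one_mem _, trivial⟩ x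
      rwa [MonoidHom.comp_apply ρ ψ, e1] at this
    · have e1 : ψ ⟨(⟨x, hf.le hx⟩, 1), hx, trivial⟩ = (⟨f x, hf.mem hx⟩, 1) :=
        Prod.ext (Subtype.ext (e _).1) (by simpa using (e _).2)
      rw [eq_mul_inv_iff_mul_eq, ap_of_mem _ (hf.mem hx), ap_of_mem _ (hf.le hx)]
      refine Subtype.ext (Equiv.ext fun y => ?_)
      have := hβ ⟨(⟨x, hf.le hx⟩, 1), hx, trivial⟩ y
      rw [MonoidHom.comp_apply ρ ψ, e1] at this
      exact this.symm
  · obtain ⟨f, hf, e⟩ := hst (g.1 x₀)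
    have key : ∀ x (hx : x ∈ P) (h : g⁻¹ * ap ι x * g ∈ H),
        ((⟨x, hP hx⟩ : S), π ⟨_, h⟩) ∈ stb ρ (g.1 x₀) := fun x hx h => by
      have := hπ ⟨_, h⟩
      rw [← (hG _).1 (Subtype.prop _)] at this
      change g.1⁻¹ ((ap ι x).1 (g.1 (R (π ⟨_, h⟩) x₀))) = x₀ at this
      rw [Equiv.Perm.inv_eq_iff_eq, (hG _).1 g.2, congrArg Subtype.val (ap_of_mem ι (hP hx))] at this
      rw [mem_stb, hρ]; exact this
    exact ⟨f, hf.mono fun x hx => fst_mem_pr1 (key x hx (h x hx)), fun x hx h => e _ (key x hx h)⟩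
  · haveI : IsPretransitive G X := ⟨fun x y => by
      have hs : ∀ x, stb R x = ⊥ := fun x => eq_bot_iff.2 fun t h => hR t x h
      obtain ⟨β, h1, h2⟩ := exists_perm_of_stb R ((hs y).trans (hs x).symm)
      exact ⟨⟨β, (hG _).2 h1⟩, h2⟩⟩
    have h1 : stabilizer G x₀ ≤ H := fun g hg => ⟨1, by rw [map_one]; exact hg⟩
    have h2 : (stabilizer G x₀).subgroupOf H = π.ker := by
      ext a
      exact ⟨fun h => hπ' a 1 (by rw [map_one]; exact h), fun h => by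
        have := hπ a
        change R (π a) _ = _ at this
        rw [h, map_one] at this; exact this⟩
    have h3 : π.range = ⊤ := MonoidHom.range_eq_top.2 fun s => ⟨⟨_, s, hm s⟩, hπ' _ _ (hm s)⟩
    have h4 := Subgroup.relIndex_mul_index h1
    rw [Subgroup.relIndex, h2, Subgroup.index_ker, h3, Subgroup.card_top,
      index_stabilizer_of_transitive] at h4
    rw [mul_comm, h4, ← ncard_XSet, ← Set.ncard_univ]
    congr 1; ext; simp

omit [Fintype (Subgroup (S × S))]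

theorem exists_park_any (F : FusionSystem S) :
    ∃ (G : Type u) (_ : Group G) (_ : Finite G) (ι : S →* G) (H : Subgroup G) (π : H →* S),
      Park F ι H π := by
  haveI := Fintype.ofFinite (Subgroup (S × S))
  obtain ⟨c, h0, hc, hb⟩ := exists_balanced F
  obtain ⟨G, _, _, ι, H, π, h, -⟩ := exists_park_of_balanced h0 hc hb
  exact ⟨G, _, ‹_›, ι, H, π, h⟩

theorem exists_park [Fact p.Prime] (hS : IsPGroup p S) (hF : F.IsSaturated p) :
    ∃ (G : Type u) (_ : Group G) (_ : Finite G) (ι : S →* G) (H : Subgroup G) (π : H →* S),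
      Park F ι H π ∧ ¬ p ∣ H.index := by
  haveI := Fintype.ofFinite (Subgroup (S × S))
  obtain ⟨c, ⟨h0, n, h1, h2⟩, hc, hb⟩ := exists_balanced_sat hS hF
  obtain ⟨G, _, _, ι, H, π, h, e⟩ := exists_park_of_balanced h0 hc hb
  rw [h2, mul_comm] at e
  exact ⟨G, _, ‹_›, ι, H, π, h, Nat.eq_of_mul_eq_mul_left Nat.card_pos e ▸ h1⟩

theorem Park.isRealizedBy {G : Type*} [Group G] {ι : S →* G} {H : Subgroup G} {π : H →* S}
    (h : Park F ι H π) : F.IsRealizedBy ι := by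
  refine ⟨fun a b e => by rw [← h.sec a, ← h.sec b]; simp only [e], fun P hP φ hφ =>
    ⟨fun h1 => ?_, fun ⟨g, e⟩ => ?_⟩⟩
  · obtain ⟨g, e⟩ := h.real P _ (mor_hfun h1)
    refine ⟨g, fun x => ?_⟩
    have := e x x.2
    rwa [hfun_of_mem _ x.2, ap_of_mem _ (hφ x), ap_of_mem _ (hP x.2)] at this
  · have e' : ∀ x (hx : x ∈ P), g⁻¹⁻¹ * ap ι x * g⁻¹ = ι ⟨φ ⟨x, hx⟩, hφ _⟩ := fun x hx => by
      rw [e, inv_inv, ap_of_mem _ (hP hx)]
    obtain ⟨f, hf, e1⟩ := h.mor g⁻¹ P hP fun x hx => e' x hx ▸ h.mem _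
    refine hf.mem_Hom fun x => ?_
    rw [e1 x x.2 (e' x x.2 ▸ h.mem _)]
    simp only [e' x x.2, h.sec]

end Cfsg.Agent.Fusion
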