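import Cfsg.Agent.Lib.Fusion.Comp3

/-! Direct products of fusion systems. -/

set_option autoImplicit false
set_option linter.unusedSectionVars false

namespace Cfsg.Agent.Fusion

open Cfsg Cfsg.FusionSystem

section
variable {Ω₁ Ω₂ : Type*} [Group Ω₁] [Group Ω₂] {S₁ : Subgroup Ω₁} {S₂ : Subgroup Ω₂}
  {F₁ : FusionSystem S₁} {F₂ : FusionSystem S₂} {P Q : Subgroup (Ω₁ × Ω₂)}
  {f g : Ω₁ × Ω₂ → Ω₁ × Ω₂} {p : ℕ}

def PrMor (F₁ : FusionSystem S₁) (F₂ : FusionSystem S₂) (P : Subgroup (Ω₁ × Ω₂))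
    (f : Ω₁ × Ω₂ → Ω₁ × Ω₂) : Prop :=
  ∃ P₁ P₂ f₁ f₂, Mor F₁ P₁ f₁ ∧ Mor F₂ P₂ f₂ ∧ (∀ x ∈ P, x.1 ∈ P₁ ∧ x.2 ∈ P₂) ∧
    ∀ x ∈ P, f x = (f₁ x.1, f₂ x.2)

theorem fst_mem_map {x : Ω₁ × Ω₂} (hx : x ∈ P) : x.1 ∈ P.map (MonoidHom.fst Ω₁ Ω₂) :=
  ⟨x, hx, rfl⟩

theorem snd_mem_map {x : Ω₁ × Ω₂} (hx : x ∈ P) : x.2 ∈ P.map (MonoidHom.snd Ω₁ Ω₂) :=
  ⟨x, hx, rfl⟩

theorem PrMor.proj (h : PrMor F₁ F₂ P f) : ∃ f₁ f₂, Mor F₁ (P.map (MonoidHom.fst Ω₁ Ω₂)) f₁ ∧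
    Mor F₂ (P.map (MonoidHom.snd Ω₁ Ω₂)) f₂ ∧ ∀ x ∈ P, f x = (f₁ x.1, f₂ x.2) := by
  obtain ⟨P₁, P₂, f₁, f₂, h1, h2, h3, h4⟩ := h
  refine ⟨f₁, f₂, h1.mono ?_, h2.mono ?_, h4⟩
  · rintro _ ⟨x, hx, rfl⟩; exact (h3 x hx).1
  · rintro _ ⟨x, hx, rfl⟩; exact (h3 x hx).2

theorem PrMor.map_mul (h : PrMor F₁ F₂ P f) : ∀ x ∈ P, ∀ y ∈ P, f (x * y) = f x * f y := by
  obtain ⟨P₁, P₂, f₁, f₂, h1, h2, h3, h4⟩ := h
  intro x hx y hy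
  rw [h4 _ (P.mul_mem hx hy), h4 x hx, h4 y hy, Prod.fst_mul, Prod.snd_mul,
    h1.map_mul (h3 x hx).1 (h3 y hy).1, h2.map_mul (h3 x hx).2 (h3 y hy).2]
  rfl

theorem PrMor.congr (h : PrMor F₁ F₂ P f) (e : ∀ x ∈ P, f x = g x) : PrMor F₁ F₂ P g := by
  obtain ⟨P₁, P₂, f₁, f₂, h1, h2, h3, h4⟩ := h
  exact ⟨P₁, P₂, f₁, f₂, h1, h2, h3, fun x hx => (e x hx).symm.trans (h4 x hx)⟩

theorem PrMor.le (h : PrMor F₁ F₂ P f) : P ≤ S₁.prod S₂ := by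
  obtain ⟨P₁, P₂, f₁, f₂, h1, h2, h3, h4⟩ := h
  exact fun x hx => Subgroup.mem_prod.2 ⟨h1.le (h3 x hx).1, h2.le (h3 x hx).2⟩

theorem prSysData (F₁ : FusionSystem S₁) (F₂ : FusionSystem S₂) :
    SysData (S₁.prod S₂) (PrMor F₁ F₂) where
  le := PrMor.le
  mem := by
    rintro P f ⟨P₁, P₂, f₁, f₂, h1, h2, h3, h4⟩ x hx
    rw [h4 x hx]
    exact Subgroup.mem_prod.2 ⟨h1.mem (h3 x hx).1, h2.mem (h3 x hx).2⟩
  map_mul := PrMor.map_mul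
  inj := by
    rintro P f ⟨P₁, P₂, f₁, f₂, h1, h2, h3, h4⟩ x hx y hy e
    rw [h4 x hx, h4 y hy, Prod.mk.injEq] at e
    exact Prod.ext (h1.inj (h3 x hx).1 (h3 y hy).1 e.1) (h2.inj (h3 x hx).2 (h3 y hy).2 e.2)
  congr := PrMor.congr
  conj := by
    intro P s hP hs
    exact ⟨S₁, S₂, _, _, mor_conj F₁ le_rfl (Subgroup.mem_prod.1 hs).1,
      mor_conj F₂ le_rfl (Subgroup.mem_prod.1 hs).2, fun x hx => Subgroup.mem_prod.1 (hP hx),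
      fun x _ => rfl⟩
  comp := by
    intro P Q f g hf hg h
    obtain ⟨f₁, f₂, h1, h2, h4⟩ := hf.proj
    obtain ⟨Q₁, Q₂, g₁, g₂, k1, k2, k3, k4⟩ := hg
    refine ⟨_, _, _, _, h1.comp k1 ?_, h2.comp k2 ?_,
      fun x hx => ⟨fst_mem_map hx, snd_mem_map hx⟩, fun x hx => ?_⟩
    · rintro _ ⟨x, hx, rfl⟩
      have := (k3 _ (h x hx)).1
      rwa [h4 x hx] at this
    · rintro _ ⟨x, hx, rfl⟩
      have := (k3 _ (h x hx)).2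
      rwa [h4 x hx] at this
    · beta_reduce; rw [k4 _ (h x hx), h4 x hx]
  inv := by
    intro P f hf
    have hm := hf.map_mul
    obtain ⟨P₁, P₂, f₁, f₂, h1, h2, h3, h4⟩ := hf
    obtain ⟨g₁, k1, e1, -⟩ := h1.inv
    obtain ⟨g₂, k2, e2, -⟩ := h2.inv
    refine ⟨fun x => (g₁ x.1, g₂ x.2), ⟨_, _, g₁, g₂, k1, k2, fun y hy => ?_, fun _ _ => rfl⟩,
      fun x hx => ?_⟩
    · obtain ⟨x, hx, rfl⟩ := (mem_img_of_mul hm).1 hy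
      rw [h4 x hx]
      exact ⟨subset_img (h3 x hx).1, subset_img (h3 x hx).2⟩
    · rw [h4 x hx]
      show (g₁ (f₁ x.1), g₂ (f₂ x.2)) = x
      rw [e1 _ (h3 x hx).1, e2 _ (h3 x hx).2]

def prodSys (F₁ : FusionSystem S₁) (F₂ : FusionSystem S₂) : FusionSystem (S₁.prod S₂) :=
  (prSysData F₁ F₂).sys

theorem mor_prodSys : Mor (prodSys F₁ F₂) P f ↔ PrMor F₁ F₂ P f := (prSysData F₁ F₂).mor_iff

theorem isProductSystem_iff {E : FusionSystem (S₁.prod S₂)} :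
    IsProductSystem F₁ F₂ E ↔ ∀ P f, Mor E P f ↔ PrMor F₁ F₂ P f := by
  have key := hom_eq_iff_of_pred (E := E) (M := PrMor F₁ F₂)
    (H := fun P => {φ | P ≤ S₁.prod S₂ ∧
      ∃ φ₁ ∈ F₁.Hom (P.map (MonoidHom.fst Ω₁ Ω₂)), ∃ φ₂ ∈ F₂.Hom (P.map (MonoidHom.snd Ω₁ Ω₂)),
        ∀ (x : P) (h₁ : (x : Ω₁ × Ω₂).1 ∈ P.map (MonoidHom.fst Ω₁ Ω₂))
          (h₂ : (x : Ω₁ × Ω₂).2 ∈ P.map (MonoidHom.snd Ω₁ Ω₂)),
          φ x = (φ₁ ⟨(x : Ω₁ × Ω₂).1, h₁⟩, φ₂ ⟨(x : Ω₁ × Ω₂).2, h₂⟩)})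
    (fun P φ => by
      constructor
      · rintro ⟨-, φ₁, h1, φ₂, h2, e⟩
        refine ⟨_, _, _, _, mor_hfun h1, mor_hfun h2,
          fun x hx => ⟨fst_mem_map hx, snd_mem_map hx⟩, fun x hx => ?_⟩
        rw [hfun_of_mem _ hx, hfun_of_mem _ (fst_mem_map hx), hfun_of_mem _ (snd_mem_map hx)]
        exact e ⟨x, hx⟩ _ _
      · intro h
        obtain ⟨f₁, f₂, ⟨φ₁, h1, e1⟩, ⟨φ₂, h2, e2⟩, h4⟩ := h.proj
        refine ⟨h.le, φ₁, h1, φ₂, h2, fun x h₁ h₂ => ?_⟩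
        rw [e1, e2, ← h4 x x.2, hfun_of_mem _ x.2])
    PrMor.congr PrMor.map_mul
  rw [← key]
  constructor
  · intro h P; ext φ; exact h P φ
  · intro h P φ; rw [h P]; rfl

theorem prodSys_spec (F₁ : FusionSystem S₁) (F₂ : FusionSystem S₂) :
    IsProductSystem F₁ F₂ (prodSys F₁ F₂) :=
  isProductSystem_iff.2 fun _ _ => mor_prodSys

theorem IsProductSystem.eq {E : FusionSystem (S₁.prod S₂)} (h : IsProductSystem F₁ F₂ E) :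
    E = prodSys F₁ F₂ :=
  sys_ext fun P f => (isProductSystem_iff.1 h P f).trans mor_prodSys.symm

instance finite_prod [Finite S₁] [Finite S₂] : Finite (S₁.prod S₂) :=
  Finite.of_equiv _ (Subgroup.prodEquiv S₁ S₂).toEquiv.symm

theorem pgroup_prod (h₁ : IsPGroup p S₁) (h₂ : IsPGroup p S₂) : IsPGroup p (S₁.prod S₂) := by
  rintro ⟨x, hx⟩
  obtain ⟨a, ha⟩ := h₁ ⟨x.1, (Subgroup.mem_prod.1 hx).1⟩
  obtain ⟨b, hb⟩ := h₂ ⟨x.2, (Subgroup.mem_prod.1 hx).2⟩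
  refine ⟨a + b, Subtype.ext (Prod.ext ?_ ?_)⟩
  · have : x.1 ^ p ^ a = 1 := congrArg Subtype.val ha
    show x.1 ^ p ^ (a + b) = 1
    rw [pow_add, pow_mul, this, one_pow]
  · have : x.2 ^ p ^ b = 1 := congrArg Subtype.val hb
    show x.2 ^ p ^ (a + b) = 1
    rw [add_comm, pow_add, pow_mul, this, one_pow]

theorem ap_csub {Ω Ω' : Type*} [Group Ω] [Group Ω'] {S : Subgroup Ω} (π : Ω →* Ω')
    {x : Ω} (hx : x ∈ S) : ap (π.comp S.subtype) x = π x := by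
  rw [ap_of_mem _ hx]; rfl

theorem imageAlong_comp_subtype {Ω Ω' : Type*} [Group Ω] [Group Ω'] {S P : Subgroup Ω}
    (π : Ω →* Ω') (hP : P ≤ S) : imageAlong (π.comp S.subtype) P = P.map π := by
  ext y
  rw [mem_imageAlong' hP]
  constructor
  · rintro ⟨x, hx, rfl⟩; exact ⟨x, hx, (ap_csub π (hP hx)).symm⟩
  · rintro ⟨x, hx, rfl⟩; exact ⟨x, hx, ap_csub π (hP hx)⟩

theorem morph_fst : Morph (prodSys F₁ F₂) F₁
    ((MonoidHom.fst Ω₁ Ω₂).comp (S₁.prod S₂).subtype) where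
  mem x hx := by rw [ap_csub _ hx]; exact (Subgroup.mem_prod.1 hx).1
  mor := by
    intro P f hf
    obtain ⟨f₁, f₂, h1, h2, h4⟩ := (mor_prodSys.1 hf).proj
    rw [imageAlong_comp_subtype _ hf.le]
    refine ⟨f₁, h1, fun x hx => ?_⟩
    rw [ap_csub _ (hf.le hx), ap_csub _ (hf.mem hx), h4 x hx]; rfl

theorem morph_snd : Morph (prodSys F₁ F₂) F₂
    ((MonoidHom.snd Ω₁ Ω₂).comp (S₁.prod S₂).subtype) where
  mem x hx := by rw [ap_csub _ hx]; exact (Subgroup.mem_prod.1 hx).2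
  mor := by
    intro P f hf
    obtain ⟨f₁, f₂, h1, h2, h4⟩ := (mor_prodSys.1 hf).proj
    rw [imageAlong_comp_subtype _ hf.le]
    refine ⟨f₂, h2, fun x hx => ?_⟩
    rw [ap_csub _ (hf.le hx), ap_csub _ (hf.mem hx), h4 x hx]; rfl

end

section
variable {Ω Ω' : Type*} [Group Ω] [Group Ω'] {S : Subgroup Ω} {S' : Subgroup Ω'}
  {F : FusionSystem S} {F' : FusionSystem S'} {α : S →* Ω'} {P : Subgroup Ω} {p : ℕ}
  [Fact p.Prime] [Finite S] [Finite S']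

theorem Morph.exists_pull (h : Morph F F' α) (hS' : IsPGroup p S') (hF' : F'.IsSaturated p)
    (hP : P ≤ S) {B : Subgroup (MulAut P)} (hB : B ≤ F.autGroup P) (hp : IsPGroup p B) :
    ∃ φ, Mor F' (imageAlong α P) φ ∧ F'.IsReceptive (img φ (imageAlong α P)) ∧
      ∀ β ∈ B, ∃ s ∈ S', ∀ x ∈ P, φ (ap α (afun β x)) = s * φ (ap α x) * s⁻¹ := by
  obtain ⟨ρ, h1, h2⟩ := h.exists_autHom hP rfl
  obtain ⟨Q, hc, hA, hr⟩ := hF' _ (h.image_le hP)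
  obtain ⟨φ, hφ, e, hle⟩ := exists_pullAut_ge hS' hA hc (B := (B.subgroupOf (F.autGroup P)).map ρ)
    (by rintro _ ⟨β, -, rfl⟩; exact h1 β) ((pgroup_subgroupOf hp).map ρ)
  refine ⟨φ, hφ, e ▸ hr, fun β hβ => ?_⟩
  obtain ⟨s, hs, e'⟩ := hle ⟨⟨β, hB hβ⟩, hβ, rfl⟩
  refine ⟨s, hs, fun x hx => ?_⟩
  rw [← e' _ (ap_mem_imageAlong hP hx), h2 _ x hx]

theorem automized_of_pull (hS : IsPGroup p S) {f : Ω → Ω} (hf : Mor F P f)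
    {B : Subgroup (MulAut P)} (hB : SylowIn p B (F.autGroup P)) (h : B ≤ pullAut S P f) :
    F.IsFullyAutomized p (img f P) := by
  have e1 : ∀ U : Subgroup Ω, stabAut U U = ⊤ := fun U =>
    top_le_iff.1 fun β _ x hx => ⟨fun _ => hx, fun _ => afun_mem β hx⟩
  have := sylow_stab_of hS hf le_rfl (B := B) (by rw [e1, inf_top_eq]; exact hB) h
  rw [e1, inf_top_eq, inf_top_eq] at this
  exact isFullyAutomized_iff.2 ⟨hf.img_le, this⟩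
end

section
variable {Ω₁ Ω₂ : Type*} [Group Ω₁] [Group Ω₂] {S₁ : Subgroup Ω₁} {S₂ : Subgroup Ω₂}
  {F₁ : FusionSystem S₁} {F₂ : FusionSystem S₂} {P Q : Subgroup (Ω₁ × Ω₂)}
  {f g : Ω₁ × Ω₂ → Ω₁ × Ω₂} {p : ℕ} [Fact p.Prime] [Finite S₁] [Finite S₂]

theorem img_proj_fst {f₁ : Ω₁ → Ω₁} (hf : Mor (prodSys F₁ F₂) P f)
    (h1 : Mor F₁ (P.map (MonoidHom.fst Ω₁ Ω₂)) f₁) (e : ∀ x ∈ P, (f x).1 = f₁ x.1) :
    img f₁ (P.map (MonoidHom.fst Ω₁ Ω₂)) = (img f P).map (MonoidHom.fst Ω₁ Ω₂) := by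
  ext y
  rw [h1.mem_img]
  constructor
  · rintro ⟨_, ⟨x, hx, rfl⟩, rfl⟩; exact ⟨f x, subset_img hx, e x hx⟩
  · rintro ⟨z, hz, rfl⟩
    obtain ⟨x, hx, rfl⟩ := hf.mem_img.1 hz
    exact ⟨x.1, fst_mem_map hx, (e x hx).symm⟩

theorem img_proj_snd {f₂ : Ω₂ → Ω₂} (hf : Mor (prodSys F₁ F₂) P f)
    (h1 : Mor F₂ (P.map (MonoidHom.snd Ω₁ Ω₂)) f₂) (e : ∀ x ∈ P, (f x).2 = f₂ x.2) :
    img f₂ (P.map (MonoidHom.snd Ω₁ Ω₂)) = (img f P).map (MonoidHom.snd Ω₁ Ω₂) := by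
  ext y
  rw [h1.mem_img]
  constructor
  · rintro ⟨_, ⟨x, hx, rfl⟩, rfl⟩; exact ⟨f x, subset_img hx, e x hx⟩
  · rintro ⟨z, hz, rfl⟩
    obtain ⟨x, hx, rfl⟩ := hf.mem_img.1 hz
    exact ⟨x.2, snd_mem_map hx, (e x hx).symm⟩

theorem map_mem_normalizer {Ω Ω' : Type*} [Group Ω] [Group Ω'] {P : Subgroup Ω} (π : Ω →* Ω')
    {g : Ω} (hg : g ∈ Subgroup.normalizer (P : Set Ω)) :
    π g ∈ Subgroup.normalizer (P.map π : Set Ω') :=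
  Subgroup.le_normalizer_map π ⟨g, hg, rfl⟩

theorem prod_receptive (hQ : Q ≤ S₁.prod S₂) (h1 : F₁.IsReceptive (Q.map (MonoidHom.fst Ω₁ Ω₂)))
    (h2 : F₂.IsReceptive (Q.map (MonoidHom.snd Ω₁ Ω₂))) : (prodSys F₁ F₂).IsReceptive Q := by
  refine isReceptive_iff.2 ⟨hQ, fun P f hf e => ?_⟩
  obtain ⟨f₁, f₂, k1, k2, k4⟩ := (mor_prodSys.1 hf).proj
  obtain ⟨g₁, l1, e1⟩ := IsReceptive.ext h1 k1
    (by rw [img_proj_fst hf k1 (fun x hx => by rw [k4 x hx]), e])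
  obtain ⟨g₂, l2, e2⟩ := IsReceptive.ext h2 k2
    (by rw [img_proj_snd hf k2 (fun x hx => by rw [k4 x hx]), e])
  refine ⟨fun x => (g₁ x.1, g₂ x.2), mor_prodSys.2 ⟨_, _, g₁, g₂, l1, l2, fun s hs => ?_,
    fun _ _ => rfl⟩, fun x hx => ?_⟩
  · obtain ⟨hn, h, hh, e'⟩ := mem_Next.1 hs
    refine ⟨mem_Next.2 ⟨⟨(Subgroup.mem_prod.1 hn.1).1,
        map_mem_normalizer (MonoidHom.fst Ω₁ Ω₂) hn.2⟩, h.1, (Subgroup.mem_prod.1 hh).1, ?_⟩,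
      mem_Next.2 ⟨⟨(Subgroup.mem_prod.1 hn.1).2,
        map_mem_normalizer (MonoidHom.snd Ω₁ Ω₂) hn.2⟩, h.2, (Subgroup.mem_prod.1 hh).2, ?_⟩⟩
    · rintro _ ⟨x, hx, rfl⟩
      have := congrArg Prod.fst (e' x hx)
      rw [k4 _ (conj_mem_of_mem_normalizerIn hn hx), k4 x hx] at this
      exact this
    · rintro _ ⟨x, hx, rfl⟩
      have := congrArg Prod.snd (e' x hx)
      rw [k4 _ (conj_mem_of_mem_normalizerIn hn hx), k4 x hx] at this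
      exact this
  · show (g₁ x.1, g₂ x.2) = f x
    rw [e1 _ (fst_mem_map hx), e2 _ (snd_mem_map hx), k4 x hx]

theorem prod_saturated (h₁ : IsPGroup p S₁) (h₂ : IsPGroup p S₂) (hF₁ : F₁.IsSaturated p)
    (hF₂ : F₂.IsSaturated p) : (prodSys F₁ F₂).IsSaturated p := by
  intro P hP
  obtain ⟨B, hB, -⟩ := exists_sylowIn_ge (p := p) (bot_le : ⊥ ≤ (prodSys F₁ F₂).autGroup P)
    IsPGroup.of_bot
  obtain ⟨φ₁, k1, r1, e1⟩ := morph_fst.exists_pull h₁ hF₁ hP hB.le hB.pgroup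
  obtain ⟨φ₂, k2, r2, e2⟩ := morph_snd.exists_pull h₂ hF₂ hP hB.le hB.pgroup
  rw [imageAlong_comp_subtype _ hP] at k1 r1 k2 r2
  have hφ : Mor (prodSys F₁ F₂) P fun x => (φ₁ x.1, φ₂ x.2) :=
    mor_prodSys.2 ⟨_, _, φ₁, φ₂, k1, k2, fun x hx => ⟨fst_mem_map hx, snd_mem_map hx⟩,
      fun _ _ => rfl⟩
  refine ⟨_, hφ.isConj, automized_of_pull (pgroup_prod h₁ h₂) hφ hB fun β hβ => ?_,
    prod_receptive hφ.img_le ?_ ?_⟩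
  · obtain ⟨s, hs, es⟩ := e1 β hβ
    obtain ⟨t, ht, et⟩ := e2 β hβ
    refine ⟨(s, t), Subgroup.mem_prod.2 ⟨hs, ht⟩, fun x hx => Prod.ext ?_ ?_⟩
    · have := es x hx
      rw [ap_csub _ (hP hx), ap_csub _ (hP (afun_mem β hx))] at this
      exact this
    · have := et x hx
      rw [ap_csub _ (hP hx), ap_csub _ (hP (afun_mem β hx))] at this
      exact this
  · rw [← img_proj_fst hφ k1 fun _ _ => rfl]; exact r1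
  · rw [← img_proj_snd hφ k2 fun _ _ => rfl]; exact r2

end

end Cfsg.Agent.Fusion
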