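import Cfsg.Agent.Lib.Fusion.QdA
import Cfsg.Agent.Lib.Fusion.KFoc2

/-! The groups `Qd`, and their involvement in groups that are not `p`-stable. -/

set_option autoImplicit false
open Cfsg

namespace Cfsg.Agent.Qd

open Subgroup Cfsg.Agent.Transfer Cfsg.Agent.Fusion Matrix
open scoped commutatorElement

section Def

variable {F : Type*} [Field F] {A B : SL2 F} {v w : Fin 2 → F}

theorem mem_qd {M : Matrix.SpecialLinearGroup (Fin 3) F} :
    M ∈ qdOver F ↔ M.1 2 0 = 0 ∧ M.1 2 1 = 0 ∧ M.1 2 2 = 1 := by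
  refine ⟨fun h => ?_, fun h => subset_closure h⟩
  induction h using closure_induction'' with
  | mem x hx => exact hx
  | one => simp
  | inv_mem x hx =>
    have h := congrArg (fun N : Matrix.SpecialLinearGroup (Fin 3) F => N.1 2) (mul_inv_cancel x)
    have h' := fun j => congrFun h j
    simp only [Matrix.SpecialLinearGroup.coe_mul, mul_apply, Fin.sum_univ_three, hx.1, hx.2.1,
      hx.2.2, zero_mul, one_mul, zero_add] at h'
    exact ⟨(h' 0).trans (by simp), (h' 1).trans (by simp), (h' 2).trans (by simp)⟩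
  | mul x y _ _ h1 h2 => simp [mul_apply, Fin.sum_univ_three, h1, h2]

/-- The affine map `x ↦ A x + v`. -/
def mkQ (A : SL2 F) (v : Fin 2 → F) : qdOver F :=
  ⟨⟨!![A.1 0 0, A.1 0 1, v 0; A.1 1 0, A.1 1 1, v 1; 0, 0, 1], by
    simp [det_fin_three, sl2_det]⟩, mem_qd.2 (by simp)⟩

theorem coe_mkQ : (mkQ A v).1.1 = !![A.1 0 0, A.1 0 1, v 0; A.1 1 0, A.1 1 1, v 1; 0, 0, 1] := rfl

theorem mkQ_mul : mkQ A v * mkQ B w = mkQ (A * B) (v + A.1 *ᵥ w) := by
  refine Subtype.ext (Subtype.ext ?_)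
  change (mkQ A v).1.1 * (mkQ B w).1.1 = _
  simp only [coe_mkQ, sl2_mul]
  ext i j; fin_cases i <;> fin_cases j <;> simp [mul_apply, Fin.sum_univ_three, mulVec, dotProduct]
  all_goals ring

theorem mkQ_inj : mkQ A v = mkQ B w ↔ A = B ∧ v = w := by
  refine ⟨fun h => ?_, fun h => by rw [h.1, h.2]⟩
  have := fun i j => congrArg (fun q : qdOver F => q.1.1 i j) h
  exact ⟨sl2_ext (this 0 0) (this 0 1) (this 1 0) (this 1 1), funext fun i => by
    fin_cases i; exacts [this 0 2, this 1 2]⟩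

theorem mkQ_one : mkQ (1 : SL2 F) 0 = 1 := by
  refine Subtype.ext (Subtype.ext ?_)
  rw [coe_mkQ]
  ext i j; fin_cases i <;> fin_cases j <;> simp

theorem mkQ_surj (q : qdOver F) : ∃ A v, q = mkQ A v := by
  obtain ⟨h1, h2, h3⟩ := mem_qd.1 q.2
  refine ⟨⟨!![q.1.1 0 0, q.1.1 0 1; q.1.1 1 0, q.1.1 1 1], ?_⟩, ![q.1.1 0 2, q.1.1 1 2],
    Subtype.ext (Subtype.ext ?_)⟩
  · have := q.1.2
    rw [det_fin_three, h1, h2, h3] at this
    rw [det_fin_two_of]; linear_combination this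
  · refine Eq.trans ?_ coe_mkQ.symm
    ext i j; fin_cases i <;> fin_cases j <;> simp [h1, h2, h3]

theorem sl2_mulVec_mulVec : A.1 *ᵥ (B.1 *ᵥ v) = (A * B).1 *ᵥ v := mulVec_mulVec _ _ _

theorem mkQ_inv : (mkQ A v)⁻¹ = mkQ A⁻¹ (-((A⁻¹).1 *ᵥ v)) := by
  rw [inv_eq_iff_mul_eq_one, mkQ_mul, mulVec_neg, sl2_mulVec_mulVec, mul_inv_cancel, ← mkQ_one]
  simp

theorem mkQ_conj : mkQ A v * mkQ 1 w * (mkQ A v)⁻¹ = mkQ 1 (A.1 *ᵥ w) := by
  rw [mul_inv_eq_iff_eq_mul, mkQ_mul, mkQ_mul]; simp [add_comm]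

theorem sl2_trans (hv : v ≠ 0) (hw : w ≠ 0) : ∃ M : SL2 F, M.1 *ᵥ v = w := by
  have key : ∀ v : Fin 2 → F, v ≠ 0 → ∃ M : SL2 F, M.1 *ᵥ ![1, 0] = v := fun v hv => by
    by_cases h : v 0 = 0
    · have h1 : v 1 ≠ 0 := fun h1 => hv (funext fun i => by fin_cases i; exacts [h, h1])
      exact ⟨⟨!![0, -(v 1)⁻¹; v 1, 0], by simp [det_fin_two, h1]⟩, funext fun i => by
        fin_cases i <;> simp [h]⟩
    · exact ⟨⟨!![v 0, 0; v 1, (v 0)⁻¹], by simp [det_fin_two, h]⟩, funext fun i => by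
        fin_cases i <;> simp⟩
  obtain ⟨M, rfl⟩ := key v hv
  obtain ⟨N, rfl⟩ := key w hw
  exact ⟨N * M⁻¹, by rw [sl2_mulVec_mulVec, inv_mul_cancel_right]⟩

theorem sl2_eq_of_mulVec (h : ∀ v, A.1 *ᵥ v = B.1 *ᵥ v) : A = B :=
  Subtype.ext (Matrix.ext_iff_mulVec.2 h)

/-- The linear part. -/
def lin : qdOver F →* SL2 F :=
  MonoidHom.mk' (fun q => ⟨!![q.1.1 0 0, q.1.1 0 1; q.1.1 1 0, q.1.1 1 1], by
    obtain ⟨A, v, rfl⟩ := mkQ_surj q
    simp [coe_mkQ, det_fin_two, sl2_det]⟩) fun a b => by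
    obtain ⟨A, v, rfl⟩ := mkQ_surj a
    obtain ⟨B, w, rfl⟩ := mkQ_surj b
    rw [mkQ_mul]
    refine Eq.trans (b := A * B) (sl2_ext rfl rfl rfl rfl) ?_
    congr 1 <;> exact sl2_ext rfl rfl rfl rfl

theorem lin_mkQ : lin (mkQ A v) = A := sl2_ext rfl rfl rfl rfl

theorem lin_surj : Function.Surjective (lin (F := F)) := fun A => ⟨mkQ A 0, lin_mkQ⟩

theorem mem_ker_lin {q : qdOver F} : q ∈ (lin (F := F)).ker ↔ ∃ v, q = mkQ 1 v := by
  obtain ⟨A, v, rfl⟩ := mkQ_surj q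
  rw [MonoidHom.mem_ker, lin_mkQ]
  exact ⟨fun h => ⟨v, by rw [h]⟩, fun ⟨_, h⟩ => (mkQ_inj.1 h).1⟩

theorem tr_mul : mkQ (1 : SL2 F) v * mkQ 1 w = mkQ 1 (v + w) := by rw [mkQ_mul]; simp

theorem tr_pow (n : ℕ) : mkQ (1 : SL2 F) v ^ n = mkQ 1 (n • v) := by
  induction n with
  | zero => simp [mkQ_one]
  | succ n ih => rw [pow_succ, ih, tr_mul, succ_nsmul]

theorem cc_ker_le : centralizer ((lin (F := F)).ker : Set (qdOver F)) ≤ lin.ker := fun q hq => by
  obtain ⟨A, v, rfl⟩ := mkQ_surj q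
  rw [MonoidHom.mem_ker, lin_mkQ]
  refine sl2_eq_of_mulVec fun w => ?_
  have := hq _ (mem_ker_lin.2 ⟨w, rfl⟩)
  rw [eq_comm, ← mul_inv_eq_iff_eq_mul, mkQ_conj] at this
  simpa using (mkQ_inj.1 this).2

theorem chief_ker : IsChiefFactor (lin (F := F)).ker ⊥ := by
  refine ⟨bot_lt_iff_ne_bot.2 fun e => ?_, inferInstance, inferInstance, fun N hN _ h => ?_⟩
  · have := mem_bot.1 (e.le (mem_ker_lin.2 ⟨![1, 0], rfl⟩))
    rw [← mkQ_one, mkQ_inj] at this
    simpa using congrFun this.2 0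
  · refine or_iff_not_imp_left.2 fun hb => le_antisymm h fun q hq => ?_
    obtain ⟨x, hx, hx1⟩ := (bot_or_exists_ne_one N).resolve_left hb
    obtain ⟨v, rfl⟩ := mem_ker_lin.1 (h hx)
    obtain ⟨w, rfl⟩ := mem_ker_lin.1 hq
    by_cases hw : w = 0
    · rw [hw, mkQ_one]; exact N.one_mem
    obtain ⟨M, rfl⟩ := sl2_trans (v := v) (fun e => hx1 (by rw [e, mkQ_one])) hw
    exact mkQ_conj (A := M) (v := 0) ▸ hN.conj_mem _ hx _

theorem ker_pgroup {p : ℕ} [CharP F p] : IsPGroup p (lin (F := F)).ker := fun q => ⟨1, by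
  obtain ⟨v, hv⟩ := mem_ker_lin.1 q.2
  refine Subtype.ext ?_
  rw [coe_pow, hv, pow_one, tr_pow, ← Nat.cast_smul_eq_nsmul F, CharP.cast_eq_zero, zero_smul,
    mkQ_one]; rfl⟩

theorem pCore_qd {p : ℕ} [Fact p.Prime] [CharP F p] [Finite F] :
    pCore p (qdOver F) = lin.ker := by
  refine le_antisymm ((Subgroup.map_eq_bot_iff _).1 ?_) (le_pCore inferInstance ker_pgroup)
  have := (pCore_normal p (qdOver F)).map _ lin_surj
  exact sl2_normal_pgroup ((pCore_pgroup _).map _) one_ne_zero (MS.nn_normal (mem_top _))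
    (MS.nn_normal (mem_top _))

theorem con_qd {p : ℕ} [Fact p.Prime] [CharP F p] [Finite F] : Fusion.Con p (qdOver F) := by
  unfold Fusion.Con; rw [pCore_qd]; exact cc_ker_le

theorem quad_qd [Finite F] : ⁅⁅(lin (F := F)).ker, zpowers (mkQ (upU (1 : F)) 0)⁆,
    zpowers (mkQ (upU (1 : F)) 0)⁆ ≤ ⊥ ∧
    ¬ ⁅(lin (F := F)).ker, zpowers (mkQ (upU (1 : F)) 0)⁆ ≤ ⊥ := by
  have hc : IsMulCommutative (lin (F := F)).ker := comm_iff.2 fun a ha b hb => by
    obtain ⟨v, rfl⟩ := mem_ker_lin.1 ha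
    obtain ⟨w, rfl⟩ := mem_ker_lin.1 hb
    rw [tr_mul, tr_mul, add_comm]
  refine ⟨?_, fun h => ?_⟩
  · rw [le_bot_iff, commutator_comm, commutator_eq_bot_iff_le_centralizer, zpowers_le]
    intro x hx
    obtain ⟨y, hy, rfl⟩ := (mem_commutator_zpowers hc (MS.nn_normal (mem_top _))).1 hx
    obtain ⟨v, rfl⟩ := mem_ker_lin.1 hy
    rw [commutatorElement_def, mkQ_conj, mkQ_inv, inv_one, tr_mul, eq_comm, ← mul_inv_eq_iff_eq_mul,
      mkQ_conj]
    congr 1
    ext i; fin_cases i <;> simp [upU, mulVec, dotProduct]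
  · rw [le_bot_iff, commutator_comm, commutator_eq_bot_iff_le_centralizer, zpowers_le] at h
    have := cc_ker_le h
    rw [MonoidHom.mem_ker, lin_mkQ, upU_eq_one] at this
    exact one_ne_zero this

end Def

theorem involves_of_graph {G Q : Type*} [Group G] [Group Q] (Z : Subgroup (G × Q))
    (h1 : ∀ q, ∃ g, (g, q) ∈ Z) (h2 : ∀ q, (1, q) ∈ Z → q = 1) : Involves Q G := by
  let f := (MonoidHom.fst G Q).comp Z.subtype
  let g := (MonoidHom.snd G Q).comp Z.subtype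
  refine involves_iff.2 ⟨f.range, f.rangeRestrict.liftOfSurjective f.rangeRestrict_surjective
    ⟨g, fun z hz => h2 _ ?_⟩, fun q => ?_⟩
  · have : z.1.1 = 1 := congrArg Subtype.val hz
    exact this ▸ z.2
  · obtain ⟨x, hx⟩ := h1 q
    exact ⟨f.rangeRestrict ⟨_, hx⟩, MonoidHom.liftOfRightInverse_comp_apply _ _ _ _ _⟩

variable {G : Type*} [Group G] [Finite G] {p : ℕ} [hp : Fact p.Prime]

theorem involves_of_nat (hp2 : p ≠ 2) {B : Subgroup G} (hB : IsPGroup p B)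
    {π : G → Fin 2 → ZMod p} (h1 : ∀ x ∈ B, ∀ y ∈ B, π (x * y) = π x + π y)
    (h2 : ∃ x ∈ B, π x ≠ 0) (h3 : ∀ M : SL2 (ZMod p), ∃ h ∈ normalizer (B : Set G),
      ∀ x ∈ B, π (h * x * h⁻¹) = M.1 *ᵥ π x) : Involves (qd p) G := by
  let Act : G → SL2 (ZMod p) → Prop := fun g M =>
    g ∈ normalizer (B : Set G) ∧ ∀ x ∈ B, π (g * x * g⁻¹) = M.1 *ᵥ π x
  have h0 : π 1 = 0 := by simpa using h1 1 B.one_mem 1 B.one_mem
  have hi : ∀ x ∈ B, π x⁻¹ = -π x := fun x hx => by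
    rw [eq_neg_iff_add_eq_zero, ← h1 _ (B.inv_mem hx) _ hx, inv_mul_cancel, h0]
  have hs : ∀ v, ∃ x ∈ B, π x = v := fun v => by
    by_cases hv : v = 0
    · exact ⟨1, B.one_mem, h0.trans hv.symm⟩
    obtain ⟨x, hx, hx'⟩ := h2
    obtain ⟨M, rfl⟩ := sl2_trans hx' hv
    obtain ⟨h, a, b⟩ := h3 M
    exact ⟨_, Fusion.conj_mem_of_mem_normalizer a hx, b x hx⟩
  have am : ∀ {g k M N}, Act g M → Act k N → Act (g * k) (M * N) := fun {g k M N} a b =>
    ⟨mul_mem a.1 b.1, fun x hx => by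
      rw [← sl2_mulVec_mulVec, ← b.2 x hx, ← a.2 _ (Fusion.conj_mem_of_mem_normalizer b.1 hx)]
      congr 1; group⟩
  have ai : ∀ {g M}, Act g M → Act g⁻¹ M⁻¹ := fun {g M} a => ⟨inv_mem a.1, fun x hx => by
    have := a.2 _ (Fusion.conj_mem_of_mem_normalizer (inv_mem a.1) hx)
    rw [show g * (g⁻¹ * x * g⁻¹⁻¹) * g⁻¹ = x by group] at this
    rw [this, sl2_mulVec_mulVec, inv_mul_cancel]; simp⟩
  have aB : ∀ b ∈ B, Act b 1 := fun b hb => ⟨le_normalizer hb, fun x hx => by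
    rw [h1 _ (mul_mem hb hx) _ (inv_mem hb), h1 _ hb _ hx, hi _ hb]; simp⟩
  have au : ∀ {g M N}, Act g M → Act g N → M = N := fun {g M N} a b =>
    sl2_eq_of_mulVec fun v => by obtain ⟨x, hx, rfl⟩ := hs v; rw [← a.2 x hx, b.2 x hx]
  let D : Subgroup G :=
    { carrier := {g | Act g 1 ∨ Act g (-1)}
      one_mem' := .inl (aB 1 B.one_mem)
      mul_mem' := by
        rintro a b (ha | ha) (hb | hb) <;> have := am ha hb <;> simp at this <;> simp [this]
      inv_mem' := by rintro a (ha | ha) <;> have := ai ha <;> simp at this <;> simp [this] }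
  obtain ⟨h, hh⟩ := h3 (-1)
  obtain ⟨m, ⟨j, hj⟩, hm, -⟩ := exists_pow_pelement (p := 2) (isOfFinOrder_of_finite h) 1
  have ap : ∀ n : ℕ, Act (h ^ n) ((-1) ^ n) := fun n => by
    induction n with
    | zero => simpa using aB 1 B.one_mem
    | succ n ih => rw [pow_succ, pow_succ]; exact am ih hh
  have ht : Act (h ^ m) (-1) := by
    have := ap m
    rwa [Odd.neg_one_pow (Nat.odd_iff.2 hm)] at this
  obtain ⟨T, hT, hle⟩ := exists_sylowIn_ge (C := D) (zpowers_le.2 (.inr ht)) (pgroup_zpowers hj)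
  have htT := hle (mem_zpowers _)
  have hN : ∀ M, ∃ n ∈ normalizer (T : Set G), Act n M := fun M => by
    obtain ⟨g, hg⟩ := h3 M
    obtain ⟨k, hk, n, hn, rfl⟩ := (SylowIn.isSyl hT).frattini (g := g) (mem_normalizer_of_finite
      fun d hd => hd.imp (fun a => by simpa using am (am hg a) (ai hg))
        fun a => by simpa using am (am hg a) (ai hg))
    rcases hk with hk | hk
    · exact ⟨n, hn, by simpa using am (ai hk) hg⟩
    · exact ⟨h ^ m * n, mul_mem (le_normalizer htT) hn, by simpa using am ht (am (ai hk) hg)⟩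
  let Z : Subgroup (G × qdOver (ZMod p)) :=
    { carrier := {z | ∃ b ∈ B, ∃ n ∈ normalizer (T : Set G), ∃ M, Act n M ∧ z = (b * n, mkQ M (π b))}
      one_mem' := ⟨1, B.one_mem, 1, one_mem _, 1, aB 1 B.one_mem, by rw [h0, mkQ_one, mul_one]; rfl⟩
      mul_mem' := by
        rintro _ _ ⟨b, hb, n, hn, M, a, rfl⟩ ⟨c, hc, k, hk, N, a', rfl⟩
        have := Fusion.conj_mem_of_mem_normalizer a.1 hc
        exact ⟨b * (n * c * n⁻¹), mul_mem hb this, n * k, mul_mem hn hk, _, am a a', by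
          rw [Prod.mk_mul_mk, mkQ_mul, h1 _ hb _ this, a.2 c hc]; congr 1; group⟩
      inv_mem' := by
        rintro _ ⟨b, hb, n, hn, M, a, rfl⟩
        exact ⟨_, Fusion.conj_mem_of_mem_normalizer (ai a).1 (inv_mem hb), n⁻¹, inv_mem hn, _, ai a,
          by rw [Prod.inv_mk, mkQ_inv, (ai a).2 _ (inv_mem hb), hi b hb, mulVec_neg]; congr 1; group⟩ }
  refine involves_of_graph Z (fun q => ?_) ?_
  · obtain ⟨M, v, rfl⟩ := mkQ_surj q
    obtain ⟨b, hb, rfl⟩ := hs v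
    obtain ⟨n, hn, a⟩ := hN M
    exact ⟨_, b, hb, n, hn, M, a, rfl⟩
  · rintro q ⟨b, hb, n, hn, M, a, e⟩
    obtain ⟨e1, rfl⟩ := Prod.ext_iff.1 e
    obtain rfl : n = b⁻¹ := eq_inv_of_mul_eq_one_right e1.symm
    have e2 : b⁻¹ * h ^ m * b⁻¹⁻¹ * (h ^ m)⁻¹ = 1 := mem_bot.1 ((IsPGroup.disjoint_of_ne p 2 hp2 _ _
      hB hT.pgroup).le_bot ⟨by
        simpa [mul_assoc] using mul_mem (inv_mem hb) (Fusion.conj_mem_of_mem_normalizer ht.1 hb),
        T.mul_mem (Fusion.conj_mem_of_mem_normalizer hn htT) (T.inv_mem htT)⟩)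
    have e3 := ht.2 b hb
    rw [show h ^ m * b * (h ^ m)⁻¹ = b * (b⁻¹ * h ^ m * b⁻¹⁻¹ * (h ^ m)⁻¹) by group, e2,
      mul_one] at e3
    have e4 : (2 : ZMod p) • π b = 0 := by
      rw [two_smul]; nth_rewrite 1 [e3]; simp [neg_mulVec]
    change mkQ M (π b) = 1
    rw [au a (aB _ (inv_mem hb)), (smul_eq_zero.1 e4).resolve_left (two_ne_zero_of_char hp2),
      mkQ_one]

/-- Groups not involving `Qd(p)` are `p`-stable. -/
theorem stable_of_free (hp2 : p ≠ 2) (h : ¬ Involves (qd p) G) : IsNormalizerPStable p G :=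
  fun B hB g hg hq => mk_mem_pCore_of_pairs fun x => by
    by_contra hn
    let H : Subgroup G := closure {g, x.1 * g * x.1⁻¹}
    have hH : H ≤ normalizer (B : Set G) := (closure_le _).2 (by
      rintro _ (rfl | rfl)
      exacts [hg, mul_mem (mul_mem x.2 hg) (inv_mem x.2)])
    obtain ⟨π, h1, h2, h3⟩ := exists_nat hp2 hB hH (subset_closure (by simp))
      (subset_closure (by simp)) rfl hq (quad_cj x.2 hq) fun h' => hn (res_le_iff.2 fun y hy hc =>
        h' (mem_res (by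
          have := mem_map_of_mem (normalizer (B : Set G)).subtype hy
          rwa [MonoidHom.map_closure, Set.image_pair] at this) (by simpa using hc)))
    exact h (involves_of_nat hp2 hB h1 h2 fun M => (h3 M).imp fun _ a => ⟨hH a.1, a.2⟩)

open MS in
theorem not_stable' {M : Type*} [Group M] (q : G →* M) (hq : Function.Surjective q)
    {U V : Subgroup G} (hV : q.ker = V) (c : IsChiefFactor U V) (hU : IsPGroup p U) {g : G}
    (h1 : ⁅⁅U, zpowers g⁆, zpowers g⁆ ≤ V) (h2 : ¬ ⁅U, zpowers g⁆ ≤ V) :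
    ¬ IsNormalizerPStable p M := fun h => by
  have := c.2.1
  have := Normal.map c.2.1 q hq
  have := Finite.of_surjective q hq
  have hn : ∀ x, x ∈ NN (U.map q) := fun x => nn_normal (mem_top x)
  have h3 := h (U.map q) (hU.map q) (q g) (hn _) (by
    rw [← MonoidHom.map_zpowers, ← map_commutator, ← map_commutator, Subgroup.map_eq_bot_iff]
    exact h1.trans hV.ge)
  let f := (QuotientGroup.mk' ((CC (U.map q)).subgroupOf (NN (U.map q)))).comp
    (q.codRestrict _ fun x => hn _)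
  have := Fusion.pCore_normal p (NN (U.map q) ⧸ (CC (U.map q)).subgroupOf (NN (U.map q)))
  let N := (pCore p _).comap f
  have h4 : res p N ≤ f.ker := (isPGroup_map_iff_res_le f).1
    ((Fusion.pCore_pgroup _).to_le (map_comap_le _ _))
  have h5 : ⁅U, res p N⁆ ≤ V := by
    rw [← hV, ← Subgroup.map_eq_bot_iff, map_commutator, commutator_comm,
      commutator_eq_bot_iff_le_centralizer]
    rintro _ ⟨x, hx, rfl⟩
    exact (QuotientGroup.eq_one_iff (N := (CC (U.map q)).subgroupOf (NN (U.map q))) _).1 (h4 hx)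
  exact h2 ((commutator_mono le_rfl (show zpowers g ≤ N from zpowers_le.2 h3)).trans
    (KInf.chief_comm' c hU h5))

/-- All sections are `p`-stable. -/
def SecStable (p : ℕ) (G : Type*) [Group G] : Prop :=
  ∀ (K R : Subgroup G) [(R.subgroupOf K).Normal], IsNormalizerPStable p (K ⧸ R.subgroupOf K)

theorem SecStable.chief {G₀ : Type*} [Group G₀] (h : SecStable p G₀) (hG : Involves G G₀)
    {U V : Subgroup G} (c : IsChiefFactor U V) (hU : IsPGroup p U) {g : G}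
    (h1 : ⁅⁅U, zpowers g⁆, zpowers g⁆ ≤ V) : ⁅U, zpowers g⁆ ≤ V := by
  have := c.2.2.1
  obtain ⟨K, R, _, ⟨e⟩⟩ := Involves.trans (involves_quot V) hG
  by_contra h2
  refine not_stable' (e.symm.toMonoidHom.comp (QuotientGroup.mk' V))
    (e.symm.surjective.comp (QuotientGroup.mk'_surjective V)) ?_ c hU h1 h2 (h K R)
  ext x; simp

theorem free_iff (hp2 : p ≠ 2) : ¬ Involves (qd p) G ↔ SecStable p G :=
  ⟨fun h K R _ => stable_of_free hp2 fun h' => h (Involves.trans h' (involves_sec K R)),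
    fun h h' => quad_qd.2 (h.chief (G := qdOver (ZMod p)) h' chief_ker ker_pgroup quad_qd.1)⟩

end Cfsg.Agent.Qd
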