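import Cfsg.Agent.Lib.Fusion.Qd
import Cfsg.Agent.Lib.Fusion.Strong

/-! Sylow subgroups of `Qd`, and control of fusion in groups not involving `Qd(p)`. -/

set_option autoImplicit false
open Cfsg

namespace Cfsg.Agent.Qd

open Subgroup Cfsg.Agent.Transfer Cfsg.Agent.Fusion Matrix
open scoped commutatorElement

universe u

section Def

variable {F : Type*} [Field F] {s t : F} {v w : Fin 2 → F}

theorem upU_inj : upU s = upU t ↔ s = t :=
  ⟨fun h => congrArg (fun x : SL2 F => x.1 0 1) h, fun h => by rw [h]⟩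

theorem upU_mulVec : (upU t).1 *ᵥ v = ![v 0 + t * v 1, v 1] := by
  ext i; fin_cases i <;> simp [upU, mulVec, dotProduct]

/-- The unitriangular matrix with entries `t, x, y`. -/
def ut (t x y : F) : qdOver F := mkQ (upU t) ![x, y]

theorem ut_mul (t x y t' x' y' : F) : ut t x y * ut t' x' y' = ut (t + t') (x + x' + t * y') (y + y') := by
  rw [ut, ut, mkQ_mul, upU_mul, upU_mulVec, ut]; congr 1
  ext i; fin_cases i <;> simp [add_assoc]

theorem ut_inj {t x y t' x' y' : F} : ut t x y = ut t' x' y' ↔ t = t' ∧ x = x' ∧ y = y' := by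
  simp [ut, mkQ_inj, upU_inj]

theorem ut_zero : ut (0 : F) 0 0 = 1 := by
  rw [← mkQ_one, ut, mkQ_inj]; exact ⟨upU_eq_one.2 rfl, by simp⟩

theorem ut_inv (t x y : F) : (ut t x y)⁻¹ = ut (-t) (t * y - x) (-y) := by
  rw [inv_eq_iff_mul_eq_one, ut_mul, ← ut_zero, ut_inj]; exact ⟨by ring, by ring, by ring⟩

theorem ut_pow (t x y : F) (n : ℕ) :
    ut t x y ^ n = ut (n * t) (n * x + n.choose 2 * t * y) (n * y) := by
  induction n with
  | zero => simp [ut_zero]
  | succ n ih =>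
    rw [pow_succ, ih, ut_mul, ut_inj, Nat.choose_succ_succ' n 1]
    push_cast; simp only [Nat.choose_one_right]; exact ⟨by ring, by ring, by ring⟩

theorem lin_ut (t x y : F) : lin (ut t x y) = upU t := lin_mkQ

/-- The unitriangular group. -/
def uni (F : Type*) [Field F] : Subgroup (qdOver F) where
  carrier := {q | ∃ t x y, q = ut t x y}
  one_mem' := ⟨_, _, _, ut_zero.symm⟩
  mul_mem' := by rintro _ _ ⟨t, x, y, rfl⟩ ⟨t', x', y', rfl⟩; exact ⟨_, _, _, ut_mul ..⟩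
  inv_mem' := by rintro _ ⟨t, x, y, rfl⟩; exact ⟨_, _, _, ut_inv ..⟩

theorem mem_uni {q : qdOver F} : q ∈ uni F ↔ ∃ t, lin q = upU t := by
  refine ⟨fun ⟨t, x, y, e⟩ => ⟨t, e ▸ lin_ut t x y⟩, fun ⟨t, e⟩ => ?_⟩
  obtain ⟨A, v, rfl⟩ := mkQ_surj q
  rw [lin_mkQ] at e
  exact ⟨t, v 0, v 1, by rw [e, ut]; congr 1; ext i; fin_cases i <;> rfl⟩

theorem ker_le_uni : (lin (F := F)).ker ≤ uni F := fun _ h =>
  mem_uni.2 ⟨0, (MonoidHom.mem_ker.1 h).trans (upU_eq_one.2 rfl).symm⟩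

theorem ut_mem_ker {t x y : F} : ut t x y ∈ (lin (F := F)).ker ↔ t = 0 := by
  rw [MonoidHom.mem_ker, lin_ut, upU_eq_one]

/-- Coordinates on the unitriangular group. -/
noncomputable def uniEquiv : F × F × F ≃ uni F :=
  Equiv.ofBijective (fun a => ⟨ut a.1 a.2.1 a.2.2, _, _, _, rfl⟩)
    ⟨fun a b h => by simpa [ut_inj, Prod.ext_iff] using congrArg Subtype.val h,
      fun ⟨_, t, x, y, rfl⟩ => ⟨(t, x, y), rfl⟩⟩

/-- The graph automorphism. -/
def flip (q : uni F) : uni F := ⟨ut (-q.1.1.1 1 2) (q.1.1.1 0 1 * q.1.1.1 1 2 - q.1.1.1 0 2)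
  (-q.1.1.1 0 1), _, _, _, rfl⟩

theorem flip_ut {q : uni F} {t x y : F} (h : q.1 = ut t x y) :
    (flip q).1 = ut (-y) (t * y - x) (-t) := by
  obtain ⟨q, hq⟩ := q
  subst h; rfl

theorem flip_flip (q : uni F) : flip (flip q) = q := by
  obtain ⟨t, x, y, e⟩ := q.2
  exact Subtype.ext (by rw [flip_ut (flip_ut e), e, ut_inj]; exact ⟨by ring, by ring, by ring⟩)

/-- The graph automorphism. -/
def flipAut : MulAut (uni F) := ⟨⟨flip, flip, flip_flip, flip_flip⟩, fun a b => by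
  obtain ⟨t, x, y, e⟩ := a.2
  obtain ⟨t', x', y', e'⟩ := b.2
  refine Subtype.ext ?_
  change (flip _).1 = (flip a).1 * (flip b).1
  rw [flip_ut ((coe_mul _ a b).trans (by rw [e, e', ut_mul])), flip_ut e, flip_ut e', ut_mul, ut_inj]
  exact ⟨by ring, by ring, by ring⟩⟩

variable {p : ℕ} [Fact p.Prime] [CharP F p] [Finite F]

theorem uni_syl : SylowIn p (uni F) ⊤ := by
  refine ⟨le_top, fun q => ?_, fun D _ hD h q hq => mem_uni.2 ?_⟩
  · obtain ⟨t, e⟩ := mem_uni.1 q.2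
    obtain ⟨k, hk⟩ := ker_pgroup (p := p) ⟨q.1 ^ p, by
      rw [MonoidHom.mem_ker, map_pow, e, upU_pow_char]⟩
    exact ⟨k + 1, Subtype.ext (by rw [pow_succ', pow_mul]; simpa using hk)⟩
  · have tr : ∀ x ∈ D, (lin x).1 0 0 + (lin x).1 1 1 = 2 := fun x hx => by
      obtain ⟨k, hk⟩ := IsPGroup.pow_eq_one_of_mem hD hx
      exact sl2_trace_of_pow p (k := k) (by rw [← map_pow, hk, map_one])
    have h1 := tr _ (D.mul_mem hq (h ⟨1, 0, 0, rfl⟩))
    have h2 := tr _ hq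
    simp only [map_mul, lin_ut, sl2_mul, upU_00, upU_01, upU_10, upU_11] at h1
    have h10 : (lin q).1 1 0 = 0 := by linear_combination h1 - h2
    have hd := sl2_det (lin q)
    have : ((lin q).1 0 0 - 1) ^ 2 = 0 := by
      rw [h10] at hd; linear_combination (lin q).1 0 0 * h2 - hd
    exact ⟨_, sl2_eq_upU h10 (sub_eq_zero.1 (pow_eq_zero_iff two_ne_zero |>.1 this))⟩

theorem exists_equiv_uni {L : Type*} [Group L] (e : L ≃* qdOver F) (T : Sylow p L) :
    ∃ e' : L ≃* qdOver F, T.1.map e'.toMonoidHom = uni F := by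
  obtain ⟨P, hP⟩ := (uni_syl (F := F) (p := p)).exists_sylow_top
  exact hP ▸ exists_equiv_sylow e T P

/-- No nontrivial characteristic subgroup of a Sylow subgroup of `Qd` is normal. -/
theorem not_normal_char {L : Type*} [Group L] (e : L ≃* qdOver F) (T : Sylow p L)
    {U : Subgroup T.1} (hb : U ≠ ⊥) (hc : ∀ σ : MulAut T.1, U.map σ.toMonoidHom = U) :
    ¬ (U.map T.1.subtype).Normal := fun hn => by
  obtain ⟨e, he⟩ := exists_equiv_uni e T
  let φ : T.1 ≃* uni F := (e.subgroupMap T.1).trans (MulEquiv.subgroupCongr he)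
  have h1 := hn.map e.toMonoidHom e.surjective
  have h2 : (U.map T.1.subtype).map e.toMonoidHom = lin.ker := (chief_ker.2.2.2 _ h1 bot_le
    ((le_pCore h1 (((T.isPGroup'.to_subgroup U).map _).map _)).trans pCore_qd.le)).resolve_left
      fun h => hb (by
        rwa [Subgroup.map_eq_bot_iff_of_injective _ e.injective,
          Subgroup.map_eq_bot_iff_of_injective _ T.1.subtype_injective] at h)
  obtain ⟨_, ⟨x, hx, rfl⟩, ex⟩ := h2.ge (ut_mem_ker (x := 0) (y := 1).2 rfl)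
  have h3 := h2.le ⟨_, ⟨_, (hc ((φ.trans flipAut).trans φ.symm)).le ⟨x, hx, rfl⟩, rfl⟩, rfl⟩
  change (φ (φ.symm (flip (φ x)))).1 ∈ _ at h3
  rw [φ.apply_symm_apply, flip_ut ex, ut_mem_ker] at h3
  simp at h3

end Def

variable {G : Type u} [Group G] [Finite G] {p : ℕ} [hp : Fact p.Prime]

theorem not_normal_ind {W : ∀ (Q : Type u) [Group Q], Subgroup Q} (hW : IsCharPFunctor p W)
    (e : G ≃* qd p) (T : Sylow p G) : ¬ (inducedFunctor W T.1).Normal :=
  not_normal_char (F := ZMod p) e T (hW.1 _ T.isPGroup' ((nontrivial_iff_ne_bot _).2 fun h => by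
    obtain ⟨e, he⟩ := exists_equiv_uni (F := ZMod p) e T
    have := he.ge (⟨1, 0, 0, rfl⟩ : ut 1 0 0 ∈ uni (ZMod p))
    rw [h, Subgroup.map_bot, mem_bot, ← ut_zero, ut_inj] at this
    exact one_ne_zero this.1)) (hW.2 _ _ T.isPGroup')

theorem not_csf {W : ∀ (Q : Type u) [Group Q], Subgroup Q} (hW : IsCharPFunctor p W)
    (e : G ≃* qd p) (T : Sylow p G) : ¬ ControlsStrongFusion p (inducedFunctor W T.1) := fun h =>
  not_normal_ind hW e T (normal_of_csf (Con.equiv (con_qd (F := ZMod p)) e.symm)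
    ((pCore_le_sylow T).trans (ind_le_normalizer hW T.isPGroup')) h)

theorem uni_max {H : Subgroup (qdOver (ZMod p))} (h1 : uni _ ≤ H) (h2 : H ≠ ⊤) :
    H ≤ normalizer (uni (ZMod p) : Set (qdOver (ZMod p))) := fun q hq => by
  have hd := sl2_det (lin q)
  by_cases hc : (lin q).1 1 0 = 0
  · refine mem_normalizer_of_finite fun x hx => mem_uni.2 ?_
    obtain ⟨t, e⟩ := mem_uni.1 hx
    refine ⟨(lin q).1 0 0 ^ 2 * t, ?_⟩
    rw [map_mul, map_mul, map_inv, e, mul_inv_eq_iff_eq_mul]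
    rw [hc] at hd
    refine sl2_ext ?_ ?_ ?_ ?_ <;> simp only [sl2_mul, upU_00, upU_01, upU_10, upU_11, hc]
    · ring
    · linear_combination (-(lin q).1 0 0 * t) * hd
    · ring
    · ring
  · refine absurd ?_ h2
    let r := ut (-(lin q).1 0 0 / (lin q).1 1 0) 0 0 * q
    have hr : r ∈ H := H.mul_mem (h1 ⟨_, _, _, rfl⟩) hq
    have h0 : (lin r).1 0 0 = 0 := by
      simp only [r, map_mul, lin_ut, sl2_mul, upU_00, upU_01]; field_simp; ring
    have h3 : (lin r).1 1 0 = (lin q).1 1 0 := by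
      simp only [r, map_mul, lin_ut, sl2_mul, upU_10, upU_11]; ring
    have h4 : lin (r * ut 1 0 0 * r⁻¹) = loU (-(lin q).1 1 0 ^ 2) := by
      rw [map_mul, map_mul, map_inv, lin_ut, mul_inv_eq_iff_eq_mul, ← h3]
      have hd := sl2_det (lin r)
      rw [h0] at hd
      refine sl2_ext ?_ ?_ ?_ ?_ <;> simp only [sl2_mul, upU_00, upU_01, upU_10, upU_11, loU_00,
        loU_01, loU_10, loU_11, h0]
      · ring
      · ring
      · ring
      · linear_combination (-(lin r).1 1 0) * hd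
    have h5 : H.map lin = ⊤ := sl2_zmod_eq_top one_ne_zero (neg_ne_zero.2 (pow_ne_zero 2 hc))
      ⟨_, h1 ⟨1, 0, 0, rfl⟩, lin_ut ..⟩
      ⟨_, H.mul_mem (H.mul_mem hr (h1 ⟨1, 0, 0, rfl⟩)) (H.inv_mem hr), h4⟩
    rw [← comap_map_eq_self (ker_le_uni.trans h1), h5, comap_top]

omit [Finite G] in
theorem syl_max {G : Type*} [Group G] (e : G ≃* qd p) (T : Sylow p G) {H : Subgroup G}
    (h1 : T.1 ≤ H) (h2 : H ≠ ⊤) : H ≤ normalizer (T.1 : Set G) := by
  obtain ⟨e, he⟩ := exists_equiv_uni (F := ZMod p) e T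
  have := uni_max (H := H.map e.toMonoidHom) (he ▸ map_mono h1) fun h => h2 (by
    rw [← comap_map_eq_self_of_injective (f := e.toMonoidHom) e.injective H, h, comap_top])
  rwa [← he, ← map_equiv_normalizer_eq, map_le_map_iff_of_injective e.injective] at this

omit [Finite G] in
theorem syl_ne_top {G : Type*} [Group G] (e : G ≃* qd p) (T : Sylow p G) :
    normalizer (T.1 : Set G) ≠ ⊤ := fun h => by
  refine not_normal_char (F := ZMod p) e T (U := ⊤) (fun h' => ?_)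
    (fun σ => map_top_of_surjective _ σ.surjective) ?_
  · obtain ⟨e, he⟩ := exists_equiv_uni (F := ZMod p) e T
    obtain ⟨x, hx, e'⟩ := he.ge (⟨1, 0, 0, rfl⟩ : ut 1 0 0 ∈ uni (ZMod p))
    have : x = 1 := congrArg Subtype.val (mem_bot.1 (h'.le (mem_top (⟨x, hx⟩ : T.1))))
    rw [this, map_one, ← ut_zero, ut_inj] at e'
    exact zero_ne_one e'.1
  · rw [← MonoidHom.range_eq_map, range_subtype]; exact normalizer_eq_top_iff.1 h

theorem not_fsf {𝓦 : Set (∀ (Q : Type u) [Group Q], Subgroup Q)}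
    (h𝓦 : ∀ W ∈ 𝓦, IsCharPFunctor p W) (e : G ≃* qd p) :
    ¬ FamilyControlsStrongFusionIn p (indF 𝓦 G) ⊤ := fun h => by
  obtain ⟨T⟩ : Nonempty (Sylow p G) := inferInstance
  refine syl_ne_top e T (eq_top_of_fsf (indF_cf h𝓦) (Con.equiv (con_qd (F := ZMod p)) e.symm) T
    ((pCore_le_sylow T).trans le_normalizer) ?_ h)
  rintro _ ⟨W, hW, rfl⟩
  exact syl_max e T (ind_le_normalizer (h𝓦 W hW) T.isPGroup') fun h' =>
    not_normal_ind (h𝓦 W hW) e T (normalizer_eq_top_iff.1 h')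

section

variable {G : Type*} [Group G] [Finite G]

theorem involves_sl2 : Involves (SL2 (ZMod p)) (qd p) :=
  Involves.of_surjective involves_refl (lin (F := ZMod p)) lin_surj

theorem sl2_of_quad (hp2 : p ≠ 2) {B H : Subgroup G} (hB : IsPGroup p B)
    (hH : H ≤ normalizer (B : Set G)) {a b : G} (ha : a ∈ H) (hb : b ∈ H) (hab : H = closure {a, b})
    (hqa : ⁅⁅B, zpowers a⁆, zpowers a⁆ = ⊥) (hqb : ⁅⁅B, zpowers b⁆, zpowers b⁆ = ⊥)
    (hn : ¬ res p H ≤ centralizer (B : Set G)) : ∃ (K L : Subgroup G) (_ : (L.subgroupOf K).Normal),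
      K ≤ H ∧ Nonempty ((K ⧸ L.subgroupOf K) ≃* SL2 (ZMod p)) := by
  obtain ⟨K, _, _, _, μ, φ, h0, h1, h2, -⟩ := exists_sl2_of_quadratic hB hH ha hb hab hqa hqb hn
  obtain ⟨c, hc⟩ := dickson_pos p hp2 φ.range (one_lt_card_sylow h0 ⟨_, h1⟩ ⟨_, h2⟩)
  exact exists_section φ ((Perm.GL2.cjSL c).comp (Matrix.SpecialLinearGroup.map _))
    ((Perm.GL2.cjSL_injective c).comp (sl2_map_injective (RingHom.injective _)))
    (by rintro _ ⟨g, rfl⟩; exact hc g)

omit [Finite G] in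
theorem stableOn (h : IsNormalizerPStable p G) (P : Subgroup G) [P.Normal] (hP : IsPGroup p P) :
    IsPStableOn p P := fun a ha => by
  have hn : ∀ x, x ∈ normalizer (P : Set G) := fun x => le_normalizer_of_normal (mem_top x)
  let f := QuotientGroup.map ((centralizer (P : Set G)).subgroupOf (normalizer (P : Set G)))
    (centralizer (P : Set G)) (normalizer (P : Set G)).subtype le_rfl
  exact le_pCore ((pCore_normal p _).map f fun y => by
    obtain ⟨y, rfl⟩ := QuotientGroup.mk_surjective y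
    exact ⟨QuotientGroup.mk ⟨y, hn y⟩, rfl⟩) ((pCore_pgroup _).map f) ⟨_, h P hP a (hn a) ha, rfl⟩

theorem zj_of_free (hp2 : p ≠ 2) {n : ℕ} (hn : n = p ∨ n = 0) (h : ¬ Involves (qd p) G)
    (hc : Fusion.Con p G) (S : Sylow p G) : (centerThompsonOf n S.1).Normal :=
  ZJ_normal hp2 hn hc (fun P _ => stableOn (stable_of_free hp2 h) P) S

/-- A section with a normal `p`-subgroup is covered by a `p`-local subgroup. -/
theorem exists_cover {Q : Type*} [Group Q] (h : Involves Q G) {V : Subgroup Q} [V.Normal]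
    (hV : IsPGroup p V) : ∃ (K : Subgroup G) (φ : K →* Q) (U : Subgroup K), IsPGroup p U ∧
      U.map φ = V ∧ ∀ q, ∃ k ∈ normalizer (U : Set K), φ k = q := by
  obtain ⟨K, φ, hφ⟩ := involves_iff.1 h
  obtain ⟨U, hU, -⟩ := exists_sylowIn_ge (p := p) (C := V.comap φ) bot_le IsPGroup.of_bot
  have h1 := hU.map φ
  rw [map_comap_eq_self_of_surjective hφ] at h1
  have h2 : U.map φ = V := le_antisymm h1.le (h1.max _ le_rfl hV h1.le)
  refine ⟨K, φ, U, hU.pgroup, h2, fun q => ?_⟩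
  obtain ⟨g, rfl⟩ := hφ q
  obtain ⟨k, hk, n, hn, rfl⟩ := (SylowIn.isSyl hU).frattini (g := g)
    (le_normalizer_of_normal (mem_top _))
  obtain ⟨u, hu, e⟩ := h2.ge hk
  exact ⟨u * n, mul_mem (le_normalizer hu) hn, by rw [map_mul, map_mul, e]⟩

/-- The natural action of `SL₂(p)` on a quotient of `B`. -/
def NatAct (p : ℕ) {G : Type*} [Group G] (B : Subgroup G) (π : G → Fin 2 → ZMod p) : Prop :=
  (∀ x ∈ B, ∀ y ∈ B, π (x * y) = π x + π y) ∧ (∃ x ∈ B, π x ≠ 0) ∧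
    ∀ M : SL2 (ZMod p), ∃ h ∈ normalizer (B : Set G), ∀ x ∈ B, π (h * x * h⁻¹) = M.1 *ᵥ π x

theorem exists_natAct (h : Involves (qd p) G) :
    ∃ (B : Subgroup G) (π : G → Fin 2 → ZMod p), IsPGroup p B ∧ NatAct p B π := by
  classical
  have h' : Involves (qdOver (ZMod p)) G := h
  obtain ⟨K, φ, U, h1, h2, h3⟩ := exists_cover h' (V := lin.ker) ker_pgroup
  let π : G → Fin 2 → ZMod p := fun g i => if h : g ∈ K then (φ ⟨g, h⟩).1.1 i.castSucc 2 else 0
  have hπ : ∀ {x : K} {v}, φ x = mkQ 1 v → π x = v := fun {x v} e => by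
    ext i; simp only [π, dif_pos x.2, e]; fin_cases i <;> rfl
  have hU : ∀ x ∈ U, ∃ v, φ x = mkQ 1 v := fun x hx => mem_ker_lin.1 (h2.le ⟨x, hx, rfl⟩)
  refine ⟨U.map K.subtype, π, h1.map _, ?_, ?_, fun M => ?_⟩
  · rintro _ ⟨x, hx, rfl⟩ _ ⟨y, hy, rfl⟩
    obtain ⟨v, a⟩ := hU x hx
    obtain ⟨w, b⟩ := hU y hy
    exact (hπ (x := x * y) (by rw [map_mul, a, b, tr_mul])).trans (by rw [← hπ a, ← hπ b]; rfl)
  · obtain ⟨x, hx, e⟩ := h2.ge (mem_ker_lin.2 ⟨![1, 0], rfl⟩)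
    exact ⟨x, ⟨x, hx, rfl⟩, by rw [hπ e]; simp⟩
  · obtain ⟨k, hk, e⟩ := h3 (mkQ M 0)
    refine ⟨k, le_normalizer_map _ ⟨k, hk, rfl⟩, ?_⟩
    rintro _ ⟨x, hx, rfl⟩
    obtain ⟨v, a⟩ := hU x hx
    exact (hπ (x := k * x * k⁻¹) (by rw [map_mul, map_mul, map_inv, a, e, mkQ_conj])).trans
      (by rw [← hπ a]; rfl)

end

theorem kinf_normal {G₀ : Type*} [Group G₀] (h : SecStable p G₀) (hG : Involves G G₀)
    (hc : Fusion.Con p G) (S : Sylow p G) : (inducedFunctor kInfLower S.1).Normal ∧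
      (inducedFunctor kInfUpper S.1).Normal := by
  by_contra hn
  obtain ⟨g, -, -, -, -, h1⟩ := KInf.exists_quartic S (not_and_or.1 hn)
  obtain ⟨U, V, c, a, b, d⟩ := h1 hc
  exact d (h.chief hG c ((pCore_pgroup G).to_le a) b)

theorem zj_fusion (hp2 : p ≠ 2) {n : ℕ} (hn : n = p ∨ n = 0) (h : ¬ Involves (qd p) G)
    (S : Sylow p G) : (groupFusionSystem S.1).IsNormal (centerThompsonOf n S.1) :=
  (zj_char hn).2 S.1 ▸ sec_normal (zj_char hn).1 (fun L _ _ a b P => ((zj_char hn).2 P.1).symm ▸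
    zj_of_free hp2 hn (fun h' => h (Involves.trans h' a)) b P) involves_refl S

theorem solvable_of_free (hp2 : p ≠ 2) {Ω : Type u} [Group Ω] {S : Subgroup Ω} [Finite S]
    {F : FusionSystem S} (hS : IsPGroup p S) (hF : F.IsSaturated p)
    (h : F.IsSectionFree p (qd p)) : F.IsSolvableSystem :=
  solvable_of_functor (Bad := fun (H : Type) _ => Involves (qd p) H) (zj_char (.inr rfl)).1
    (fun L _ _ P a b => ((zj_char (p := p) (.inr rfl)).2 P.1).symm ▸
      zj_of_free hp2 (.inr rfl) (b _ involves_refl) a P) hS hF (free_involves h)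

end Cfsg.Agent.Qd
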