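import Cfsg.Agent.Lib.Transfer.Quad
import Cfsg.Agent.Lib.Perm.Dick9

/-! Quadratic pairs and Dickson's theorem, with the module structure kept. -/

set_option autoImplicit false
open Cfsg

namespace Cfsg.Agent.Qd

section
open Cfsg.Agent.Perm Cfsg.Agent.Perm.GL2 Cfsg.Agent.Perm.Tri Subgroup MulAction
open Matrix.SpecialLinearGroup (toGL)

theorem exists_SL_pos {F K : Type*} [Field F] [Field K] (f : K →+* F) {c : PGL2 F}
    {H : Subgroup (SL2 F)} (h1 : -1 ∈ H) (h : cjs c (RS f) ≤ H.map ph) :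
    ∃ c, ∀ g, cjSL c (Matrix.SpecialLinearGroup.map f g) ∈ H := by
  obtain ⟨c, rfl⟩ := mkP_surj c
  refine ⟨c, fun g => ?_⟩
  rw [← comap_map_eq_self (ker_le h1), mem_comap]
  refine h ⟨_, ⟨_, ⟨g, rfl⟩, rfl⟩, ?_⟩
  change mkP c * mkP _ * (mkP c)⁻¹ = mkP (toGL (cjSL c _))
  rw [toGL_cjSL, map_mul, map_mul, map_inv]
  congr 3
  exact Units.ext rfl

theorem dickson_pos {F : Type*} [Field F] [Fintype F] (p : ℕ) [Fact p.Prime] [CharP F p] (hp : p ≠ 2) (H : Subgroup (Matrix.SpecialLinearGroup (Fin 2) F)) (hH : 1 < Nat.card (Sylow p H)) : ∃ c, ∀ g, cjSL c (Matrix.SpecialLinearGroup.map (pf F p) g) ∈ H := by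
  have h2 : (2 : F) ≠ 0 := two_ne_of_char hp
  have hpp : p.Prime := Fact.out
  have hd : p ∣ Nat.card H := by
    by_contra hd
    have : ∀ P : Sylow p H, (P : Subgroup H) = ⊥ := fun P => by
      rw [← card_eq_one, P.card_eq_multiplicity, Nat.factorization_eq_zero_of_not_dvd hd, pow_zero]
    haveI : Subsingleton (Sylow p H) := ⟨fun P Q => Sylow.ext ((this P).trans (this Q).symm)⟩
    have := Finite.card_le_one_iff_subsingleton.2 this
    omega
  obtain ⟨g, hg⟩ := exists_prime_orderOf_dvd_card' p hd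
  have hneg : ∀ k, (-1 : SL2 F) ^ p ^ k ≠ 1 := fun k => by
    rw [(hpp.odd_of_ne_two hp).pow.neg_one_pow]; exact neg_one_ne_one_SL h2
  have hg2 : orderOf (⟨ph g, mem_map_of_mem _ g.2⟩ : H.map ph) = p := by
    rw [orderOf_mk]
    have h1 : (g : SL2 F) ^ p = 1 := congrArg Subtype.val (orderOf_dvd_iff_pow_eq_one.1 hg.dvd)
    refine orderOf_eq_prime (by rw [← map_pow, h1, map_one]) fun e => ?_
    rcases ph_eq_one.1 e with e | e
    · rw [show g = 1 from Subtype.ext e, orderOf_one] at hg; exact hpp.one_lt.ne hg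
    · exact hneg 1 (by rwa [pow_one, ← e])
  have hd2 : p ∣ Nat.card (H.map ph) := hg2 ▸ _root_.orderOf_dvd_natCard _
  have fin : ∀ c, cjs c (RS (pf F p)) ≤ H.map ph →
      ∃ c, ∀ g, cjSL c (Matrix.SpecialLinearGroup.map (pf F p) g) ∈ H := fun c hc =>
    exists_SL_pos _ (neg_mem_of_even h2 ((two_dvd_card_RS _ c (by
      rw [Nat.card_zmod]; have := hpp.two_le; omega)).trans (card_dvd_of_le hc))) hc
  rcases dickson p (H.map ph) with h | h | ⟨-, x, hx⟩ | h | ⟨h, ⟨e⟩⟩ | ⟨L, c, -, h⟩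
  · exact absurd hd2 h.2
  · exact absurd h (not_dih hp hg2)
  · exfalso
    have key : ∀ (P : Sylow p H), ∀ a ∈ P, ∃ k, (a : SL2 F) ^ p ^ k = 1 := fun P a ha => by
      obtain ⟨k, hk⟩ := P.isPGroup' ⟨a, ha⟩
      exact ⟨k, congrArg (fun z : (P : Subgroup H) => ((z : H) : SL2 F)) hk⟩
    haveI : Subsingleton (Sylow p H) := ⟨fun P Q => by
      have hn : (P : Subgroup H) ≤ normalizer ((Q : Subgroup H) : Set H) :=
        le_trans (fun a ha => mem_centralizer_iff.2 fun b hb => by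
          obtain ⟨k, hk⟩ := key P a ha
          obtain ⟨l, hl⟩ := key Q b hb
          have := comm_of_fix (p := p) x (ph a) (ph b) (hx _ (mem_map_of_mem _ a.2)) (hx _ (mem_map_of_mem _ b.2))
            (pow_eq_one_of_pow (by rw [← map_pow, hk, map_one])) (pow_eq_one_of_pow (by rw [← map_pow, hl, map_one]))
          rw [← mul_inv_eq_one, ← map_mul, ← map_mul, ← map_inv, ← map_mul, ph_eq_one] at this
          rcases this with e | e
          · exact Subtype.ext (mul_inv_eq_one.1 e).symm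
          · exfalso
            apply hneg l
            have e2 : (a : SL2 F) * b * (a : SL2 F)⁻¹ = -1 * b := by rw [← e]; group
            have := congrArg (· ^ p ^ l) e2
            simp only [conj_pow, hl] at this
            rw [(Commute.neg_one_left _).mul_pow, hl] at this
            simpa using this.symm) (centralizer_le_normalizer _)
      have := IsPGroup.to_sup_of_normal_right' P.isPGroup' Q.isPGroup' hn
      exact Sylow.ext ((P.3 this le_sup_left).symm.trans (Q.3 this le_sup_right))⟩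
    have := Finite.card_le_one_iff_subsingleton.2 this
    omega
  · exact absurd hd2 h.1
  · obtain rfl : p = 3 := h.resolve_left (not_not.2 hd2)
    obtain ⟨Y, h1, ⟨e'⟩⟩ := exists_sub_iso e A4_le_A5
    obtain ⟨c, hc⟩ := A4_le_pf (p := 3) h2 e'
    refine fin c ((eq_of_le_of_card_ge hc ?_).ge.trans h1)
    have := card_RS' (pf F 3) c
    rw [Nat.card_zmod, show oP 3 = 24 from rfl, show Nat.gcd 2 (3 - 1) = 2 from rfl] at this
    rw [Nat.card_congr e'.toEquiv, card_A4]; omega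
  · refine fin c ((cjs_mono c (RS_pf_le L.subtype)).trans ?_)
    rcases h with h | h
    · rw [h]; exact cjs_mono c (RS_le_RG _)
    · exact h.ge

end

section
open Subgroup Cfsg.Agent.Transfer
variable {K W H : Type*} [Field K] [AddCommGroup W] [Module K W] [Group H]

theorem exists_hom_sl2' (ρ : H →* Module.End K W) {a b : H} (hab : closure {a, b} = ⊤)
    (ha : ∀ w, ρ a (ρ a w - w) = ρ a w - w) (hb : ∀ w, ρ b (ρ b w - w) = ρ b w - w)
    {μ : K} (hμ : μ ≠ 0) {v : W} (hv : v ≠ 0) (hav : ρ a v = v)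
    (hz : ρ a (ρ b v - v) - (ρ b v - v) = μ • v) :
    ∃ φ : H →* SL2 K, φ a = upU 1 ∧ φ b = loU μ ∧ ∃ v e : W, (∀ s t : K, s • v + t • e = 0 →
      s = 0 ∧ t = 0) ∧ ∀ h, ρ h v = (φ h).1 0 0 • v + (φ h).1 1 0 • e ∧
        ρ h e = (φ h).1 0 1 • v + (φ h).1 1 1 • e := by
  obtain ⟨e, he⟩ : ∃ e, e = μ⁻¹ • (ρ b v - v) := ⟨_, rfl⟩
  have hae : ρ a e = e + v := by
    rw [he, map_smul, sub_eq_iff_eq_add'.1 hz, smul_add, smul_smul, inv_mul_cancel₀ hμ, one_smul]
  have hbe : ρ b e = e := by rw [he, map_smul, hb]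
  have he' : ρ b v - v = μ • e := by rw [he, smul_smul, mul_inv_cancel₀ hμ, one_smul]
  have hbv : ρ b v = v + μ • e := by rw [← he', add_sub_cancel]
  have hind : ∀ s t : K, s • v + t • e = 0 → s = 0 ∧ t = 0 := fun s t h => by
    have h1 := congrArg (ρ a) h
    rw [map_add, map_smul, map_smul, hav, hae, smul_add, ← add_assoc, h, zero_add, map_zero] at h1
    have ht := (smul_eq_zero.1 h1).resolve_right hv
    rw [ht, zero_smul, add_zero] at h
    exact ⟨(smul_eq_zero.1 h).resolve_right hv, ht⟩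
  let R : H → SL2 K → Prop := fun h M =>
    ρ h v = M.1 0 0 • v + M.1 1 0 • e ∧ ρ h e = M.1 0 1 • v + M.1 1 1 • e
  have huniq : ∀ h M N, R h M → R h N → M = N := fun h M N h1 h2 => by
    have a1 := hind (M.1 0 0 - N.1 0 0) (M.1 1 0 - N.1 1 0) (by
      rw [sub_smul, sub_smul, sub_add_sub_comm, ← h1.1, ← h2.1, sub_self])
    have a2 := hind (M.1 0 1 - N.1 0 1) (M.1 1 1 - N.1 1 1) (by
      rw [sub_smul, sub_smul, sub_add_sub_comm, ← h1.2, ← h2.2, sub_self])
    exact sl2_ext (sub_eq_zero.1 a1.1) (sub_eq_zero.1 a2.1) (sub_eq_zero.1 a1.2) (sub_eq_zero.1 a2.2)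
  have hone : R 1 1 := by simp [R]
  have hmul : ∀ g h M N, R g M → R h N → R (g * h) (M * N) := fun g h M N h1 h2 => by
    refine ⟨?_, ?_⟩
    · rw [map_mul, Module.End.mul_apply, h2.1, map_add, map_smul, map_smul, h1.1, h1.2, sl2_mul, sl2_mul]
      module
    · rw [map_mul, Module.End.mul_apply, h2.2, map_add, map_smul, map_smul, h1.1, h1.2, sl2_mul, sl2_mul]
      module
  have hRa : R a (upU 1) := ⟨by simp [hav], by simp [hae, add_comm]⟩
  have hRb : R b (loU μ) := ⟨by simp [hbv], by simp [hbe]⟩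
  have hex : ∀ g : H, ∃ M, R g M := by
    intro g
    have hg : g ∈ closure {a, b} := hab ▸ mem_top g
    induction hg using closure_induction'' with
    | mem g hg =>
      rcases hg with rfl | rfl
      exacts [⟨_, hRa⟩, ⟨_, hRb⟩]
    | inv_mem g hg =>
      rcases hg with rfl | rfl
      · refine ⟨upU (-1), ?_, ?_⟩ <;> rw [rep_inv_apply ρ ha] <;> simp [hav, hae]
        abel
      · refine ⟨loU (-μ), ?_, ?_⟩ <;> rw [rep_inv_apply ρ hb] <;> simp [hbv, hbe]
        abel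
    | one => exact ⟨1, hone⟩
    | mul g k _ _ h1 h2 =>
      obtain ⟨M, hM⟩ := h1
      obtain ⟨N, hN⟩ := h2
      exact ⟨_, hmul _ _ _ _ hM hN⟩
  choose φ hφ using hex
  exact ⟨MonoidHom.mk' φ fun g h => huniq _ _ _ (hφ _) (hmul _ _ _ _ (hφ g) (hφ h)),
    huniq _ _ _ (hφ a) hRa, huniq _ _ _ (hφ b) hRb, v, e, hind, hφ⟩

theorem exists_hom_sl2_of_splits' (ρ : H →* Module.End K W) {a b : H} (hab : closure {a, b} = ⊤)
    (ha : ∀ w, ρ a (ρ a w - w) = ρ a w - w) (hb : ∀ w, ρ b (ρ b w - w) = ρ b w - w)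
    {f : Polynomial K} (hf : f.Splits) (hf0 : f ≠ 0) (h : Polynomial.aeval (ρ (a * b)) f = 0)
    (hn : ∃ g, ¬ IsNilpotent (ρ g - 1)) :
    ∃ μ : K, μ ≠ 0 ∧ ∃ φ : H →* SL2 K, φ a = upU 1 ∧ φ b = loU μ ∧ ∃ v e : W, (∀ s t : K, s • v + t • e = 0 →
      s = 0 ∧ t = 0) ∧ ∀ h, ρ h v = (φ h).1 0 0 • v + (φ h).1 1 0 • e ∧
        ρ h e = (φ h).1 0 1 • v + (φ h).1 1 1 • e := by
  obtain ⟨g, hg⟩ := hn
  have hz : ∀ w, ((ρ a - 1) * (ρ b - 1) + (ρ b - 1) * (ρ a - 1)) w =
      ρ (a * b) w + ρ (a * b)⁻¹ w - 2 • w := fun w => by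
    rw [mul_inv_rev, map_mul, map_mul, Module.End.mul_apply, Module.End.mul_apply,
      rep_inv_apply ρ ha, rep_inv_apply ρ hb]
    simp only [LinearMap.add_apply, Module.End.mul_apply, LinearMap.sub_apply, Module.End.one_apply,
      map_sub]
    abel
  have h1 : ¬ IsNilpotent (ρ (a * b) - 1) := fun h1 => by
    refine hg (isNilpotent_of_quadratic ρ hab ha hb ?_ g)
    have : (ρ a - 1) * (ρ b - 1) + (ρ b - 1) * (ρ a - 1) =
        ρ (a * b)⁻¹ * ((ρ (a * b) - 1) * (ρ (a * b) - 1)) := by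
      refine LinearMap.ext fun w => ?_
      rw [hz]
      simp only [Module.End.mul_apply, LinearMap.sub_apply, Module.End.one_apply, map_sub]
      simp only [← Module.End.mul_apply, ← map_mul, inv_mul_cancel_left, inv_mul_cancel, map_one,
        Module.End.one_apply]
      abel
    rw [this]
    have hc : Commute (ρ (a * b)⁻¹) (ρ (a * b) - 1) :=
      ((Commute.refl _).inv_left.map ρ).sub_right (Commute.one_right _)
    exact (hc.mul_right hc).isNilpotent_mul_left ((Commute.refl _).isNilpotent_mul_left h1)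
  obtain ⟨l, hl, v, hv, hcv⟩ := exists_eigen_of_splits _ hf hf0 h h1
  have hl0 : l ≠ 0 := by
    rintro rfl
    have := congrArg (ρ (a * b)⁻¹) hcv
    rw [← Module.End.mul_apply, ← map_mul, inv_mul_cancel, map_one, zero_smul, map_zero] at this
    exact hv this
  have hcv' : ρ (a * b)⁻¹ v = l⁻¹ • v := by
    have := congrArg (ρ (a * b)⁻¹) hcv
    rw [← Module.End.mul_apply, ← map_mul, inv_mul_cancel, map_one, map_smul] at this
    rw [eq_inv_smul_iff₀ hl0, ← this]; rfl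
  have hμ : l + l⁻¹ - 2 ≠ 0 := fun h0 => by
    have : (l - 1) ^ 2 = 0 := by field_simp at h0; linear_combination h0
    exact hl (sub_eq_zero.1 (pow_eq_zero_iff (by decide) |>.1 this))
  have hzv := hz v
  rw [hcv, hcv'] at hzv
  simp only [LinearMap.add_apply, Module.End.mul_apply, LinearMap.sub_apply,
    Module.End.one_apply] at hzv
  have fin : ∀ u : W, u ≠ 0 → ρ a u = u →
      ρ a (ρ b u - u) - (ρ b u - u) = (l + l⁻¹ - 2) • u →
      ∃ μ : K, μ ≠ 0 ∧ ∃ φ : H →* SL2 K, φ a = upU 1 ∧ φ b = loU μ ∧ ∃ v e : W, (∀ s t : K, s • v + t • e = 0 →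
      s = 0 ∧ t = 0) ∧ ∀ h, ρ h v = (φ h).1 0 0 • v + (φ h).1 1 0 • e ∧
        ρ h e = (φ h).1 0 1 • v + (φ h).1 1 1 • e := by
    intro u h1 h2 h3
    exact ⟨_, hμ, exists_hom_sl2' ρ hab ha hb hμ h1 h2 h3⟩
  by_cases hxv : ρ a v - v = 0
  · refine fin v hv (sub_eq_zero.1 hxv) ?_
    rw [hxv] at hzv
    simp only [map_zero, sub_self, add_zero] at hzv
    rw [hzv]; module
  · refine fin _ hxv (ha v) ?_
    have := congrArg (fun w => ρ a w - w) hzv
    simp only [map_add, ha] at this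
    rw [map_sub (ρ a) (l • v + l⁻¹ • v), map_add, map_smul, map_smul, map_nsmul] at this
    refine Eq.trans ?_ (this.trans ?_)
    · abel
    · module

variable {G : Type*} [Group G] [Finite G] {p : ℕ} [hp : Fact p.Prime]

theorem one_lt_card_sylow [Finite K] [CharP K p] {Γ : Subgroup (SL2 K)} {μ : K} (hμ : μ ≠ 0)
    (h1 : upU 1 ∈ Γ) (h2 : loU μ ∈ Γ) : 1 < Nat.card (Sylow p Γ) := by
  by_contra! h
  have := Finite.card_le_one_iff_subsingleton.1 h
  obtain ⟨P, hP⟩ := (show IsPGroup p (zpowers (⟨_, h1⟩ : Γ)) from IsPGroup.of_card (n := 1) (by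
    rw [Nat.card_zpowers, orderOf_mk, orderOf_upU (p := p) one_ne_zero, pow_one])).exists_le_sylow
  have hn : (P : Subgroup Γ).Normal := Sylow.normal_of_subsingleton P
  have h3 : Γ ≤ normalizer (((P : Subgroup Γ).map Γ.subtype : Subgroup _) : Set (SL2 K)) :=
    (normal_subgroupOf_iff_le_normalizer (map_subtype_le _)).1 (by
      rwa [subgroupOf, comap_map_eq_self_of_injective Γ.subtype_injective])
  have := sl2_normal_pgroup (P.isPGroup'.map Γ.subtype) hμ (h3 h1) (h3 h2)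
  exact one_ne_zero (upU_eq_one.1 (mem_bot.1 (this.le ⟨_, hP (mem_zpowers _), rfl⟩)))

open Matrix in
/-- A quadratic pair gives a natural `SL₂(p)`-module. -/
theorem exists_nat (hp2 : p ≠ 2) {B H : Subgroup G} (hB : IsPGroup p B)
    (hH : H ≤ normalizer (B : Set G)) {a b : G} (ha : a ∈ H) (hb : b ∈ H) (hab : H = closure {a, b})
    (hqa : ⁅⁅B, zpowers a⁆, zpowers a⁆ = ⊥) (hqb : ⁅⁅B, zpowers b⁆, zpowers b⁆ = ⊥)
    (hn : ¬ res p H ≤ centralizer (B : Set G)) : ∃ π : G → Fin 2 → ZMod p,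
      (∀ x ∈ B, ∀ y ∈ B, π (x * y) = π x + π y) ∧ (∃ x ∈ B, π x ≠ 0) ∧
      ∀ M : SL2 (ZMod p), ∃ h ∈ H, ∀ x ∈ B, π (h * x * h⁻¹) = M.1 *ᵥ π x := by
  classical
  let f : Polynomial (ZMod p) := Polynomial.X ^ Nat.card G - 1
  let K := f.SplittingField
  haveI : Finite K := Module.finite_of_finite (ZMod p)
  haveI : CharP K p := charP_of_injective_algebraMap (algebraMap (ZMod p) K).injective p
  obtain ⟨g, hg, hg1, hg2⟩ := exists_notMem_of_not_res_le hn
  obtain ⟨μ, hμ, φ, h1, h2, v, e, h3, h4⟩ := exists_hom_sl2_of_splits'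
    ((dualRep K B).comp (inclusion hH))
    (closure_pair_subgroupOf ha hb hab) (dualRep_quadratic ⟨a, hH ha⟩ hqa)
    (dualRep_quadratic ⟨b, hH hb⟩ hqb) (Polynomial.SplittingField.splits f)
    (by
      rw [Ne, Polynomial.map_eq_zero]
      exact Polynomial.X_pow_sub_C_ne_zero Nat.card_pos 1)
    (by
      simp only [f, Polynomial.map_sub, Polynomial.map_pow, Polynomial.map_X, Polynomial.map_one,
        map_sub, map_pow, Polynomial.aeval_X, map_one]
      rw [← map_pow, show ((⟨a, ha⟩ : H) * ⟨b, hb⟩) ^ Nat.card G = 1 from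
        Subtype.ext (pow_card_eq_one' (G := G)), map_one, sub_self])
    ⟨⟨g, hg⟩, fun h => hg2 (mem_centralizer_of_dualRep hB ⟨g, hH hg⟩ hg1 h)⟩
  let := Fintype.ofFinite K
  obtain ⟨c, hc⟩ := dickson_pos p hp2 φ.range (one_lt_card_sylow hμ ⟨_, h1⟩ ⟨_, h2⟩)
  let r : B → Fin 2 → K := fun x => ![v.1 x, e.1 x] ᵥ* (c : Matrix (Fin 2) (Fin 2) K)
  obtain ⟨x₀, j, hj⟩ : ∃ x j, r x j ≠ 0 := by
    by_contra! h
    refine one_ne_zero (h3 1 0 (Subtype.ext (funext fun x => ?_))).1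
    have : r x ᵥ* ((c⁻¹ : GL (Fin 2) K) : Matrix (Fin 2) (Fin 2) K) = 0 := by
      rw [show r x = 0 from funext (h x), zero_vecMul]
    rw [vecMul_vecMul, Units.mul_inv, vecMul_one] at this
    simpa using congrFun this 0
  obtain ⟨l, hl⟩ := not_forall.1 (mt (Module.forall_dual_apply_eq_zero_iff (ZMod p) _).1 hj)
  refine ⟨fun x i => if h : x ∈ B then l (r ⟨x, h⟩ i) else 0, fun x hx y hy => funext fun i => ?_,
    ⟨x₀, x₀.2, fun h => hl (by simpa using congrFun h j)⟩, fun M => ?_⟩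
  · simp only [hx, hy, B.mul_mem hx hy, dif_pos, Pi.add_apply, r]
    rw [← map_add, ← Pi.add_apply, ← add_vecMul]
    congr 3
    ext i; fin_cases i
    exacts [dual_mul v ⟨x, hx⟩ ⟨y, hy⟩, dual_mul e ⟨x, hx⟩ ⟨y, hy⟩]
  · obtain ⟨h, e1⟩ := hc M.transpose
    refine ⟨h⁻¹, H.inv_mem h.2, fun x hx => funext fun i => ?_⟩
    have hx' := inv_conj_mem_of_mem_normalizer (hH h.2) hx
    have e2 : r ⟨_, hx'⟩ = r ⟨x, hx⟩ ᵥ* (M.transpose.1.map (Perm.GL2.pf K p)) := by
      have e3 : ![v.1 ⟨_, hx'⟩, e.1 ⟨_, hx'⟩] = ![v.1 ⟨x, hx⟩, e.1 ⟨x, hx⟩] ᵥ* (φ h).1 := by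
        ext i; fin_cases i
        · refine (congrArg (fun w => w.1 ⟨x, hx⟩) (h4 h).1).trans ?_
          simp [vecMul, dotProduct, mul_comm]
        · refine (congrArg (fun w => w.1 ⟨x, hx⟩) (h4 h).2).trans ?_
          simp [vecMul, dotProduct, mul_comm]
      simp only [r, e3, e1]
      rw [vecMul_vecMul, vecMul_vecMul]
      refine congrArg _ ?_
      change (c : Matrix (Fin 2) (Fin 2) K) * _ * ((c⁻¹ : GL (Fin 2) K) : Matrix (Fin 2) (Fin 2) K) *
        (c : Matrix (Fin 2) (Fin 2) K) = _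
      rw [mul_assoc, Units.inv_mul, mul_one]; rfl
    have e4 : ∀ (m : ZMod p) (t : K), l (t * m.cast) = m * l t := fun m t => by
      rw [← smul_eq_mul m, ← map_smul, Algebra.smul_def, mul_comm]
      congr 2
      exact RingHom.congr_fun (RingHom.ext_zmod (Perm.GL2.pf K p) _) m
    simp only [inv_inv, hx, hx', dif_pos, e2]
    simp [vecMul, mulVec, dotProduct, e4, SpecialLinearGroup.transpose]

end

end Cfsg.Agent.Qd
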