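import Cfsg.Agent.Lib.Fusion.Sparse
import Cfsg.Agent.Lib.Fusion.Simple

/-! `Qd(p)`-free groups and their fusion systems. -/

set_option autoImplicit false
open Cfsg

universe u

namespace Cfsg.Agent.Qd

open Subgroup Cfsg.Agent.Transfer Matrix Cfsg.Agent.Fusion Cfsg.FusionSystem

variable {G : Type u} [Group G] [Finite G] {p : ℕ} [hp : Fact p.Prime] {B : Subgroup G}
  {π : G → Fin 2 → ZMod p}

omit [Finite G] in
theorem NatAct.cj (h : NatAct p B π) (g : G) : NatAct p (cj g B) fun x => π (g⁻¹ * x * g) := by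
  obtain ⟨h1, ⟨x, hx, h2⟩, h3⟩ := h
  refine ⟨fun x hx y hy => ?_, ⟨_, conj_mem_cj hx, by simpa [mul_assoc] using h2⟩, fun M => ?_⟩
  · rw [← h1 _ (mem_cj.1 hx) _ (mem_cj.1 hy)]; congr 1; group
  · obtain ⟨h, a, b⟩ := h3 M
    refine ⟨g * h * g⁻¹, by rw [← cj_normalizer]; exact conj_mem_cj a, fun x hx => ?_⟩
    beta_reduce
    rw [← b _ (mem_cj.1 hx)]; congr 1; group

omit [Finite G] in
theorem NatAct.conj (h : NatAct p B π) {k x : G} (hk : k ∈ B ⊔ centralizer (B : Set G))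
    (hx : x ∈ B) : π (k * x * k⁻¹) = π x := by
  obtain ⟨c, hc, b, hb, rfl⟩ := (mem_sup_iff_of_le_normalizer (centralizer_le_normalizer _)).1
    (sup_comm B _ ▸ hk)
  have h1 : b * x * b⁻¹ ∈ B := B.mul_mem (B.mul_mem hb hx) (B.inv_mem hb)
  have h0 : π 1 = 0 := by simpa using h.1 1 B.one_mem 1 B.one_mem
  have h2 := h.1 _ hb _ (B.inv_mem hb)
  rw [mul_inv_cancel, h0] at h2
  rw [show c * b * x * (c * b)⁻¹ = c * (b * x * b⁻¹) * c⁻¹ by group, ← hc _ h1,
    mul_inv_cancel_right, h.1 _ (B.mul_mem hb hx) _ (B.inv_mem hb), h.1 _ hb _ hx, add_right_comm,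
    ← h2, zero_add]

theorem free_of_group_free (hp2 : p ≠ 2) (P : Sylow p G)
    (h : (groupFusionSystem P.1).IsSectionFree p (qd p)) : ¬ Involves (qd p) G := fun hi => by
  obtain ⟨B, π, hB, h0⟩ := exists_natAct hi
  obtain ⟨T, hT, hBT⟩ := exists_isSyl_ge (H := B ⊔ centralizer (B : Set G)) hB le_sup_left
  obtain ⟨g, g1, -, g3⟩ := exists_cj_fullyNormalized P hT.pgroup hT.pgroup le_normalizer
  replace hT := hT.cj g
  rw [cj_sup, cj_centralizer] at hT
  replace h0 := h0.cj g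
  replace hBT := cj_mono g hBT
  replace hB := IsPGroup.cj hB g
  generalize cj g T = T, cj g B = B, (fun x => π (g⁻¹ * x * g)) = π at *
  have hn := (fullyNormalized_group_iff (sylowIn_top P) g1).2 (sylowIn_of_isSyl g3)
  have hc : (groupFusionSystem P.1).IsCentric T := group_centric g1 P.2 fun c hc ⟨k, e⟩ =>
    hT.le_of_le_normalizer (pgroup_zpowers e) (zpowers_le.2 (mem_sup_right (centralizer_le hBT hc)))
      (zpowers_le.2 (centralizer_le_normalizer _ hc)) (mem_zpowers c)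
  obtain ⟨L, _, ι, hL⟩ := exists_local_model P.2 (group_saturated P) hn hc
  have := hL.1
  have hBN := hBT.trans (le_normalizerIn g1)
  obtain ⟨κ, k1, -⟩ := exists_inv_hom hL.2.1.1 rfl
  refine h T hn hc _ (normSys_spec _ g1) L ι hL (involves_of_nat hp2 (B := imageAlong ι B)
    (hB.comap_subtype.map _) (π := fun y => π (ap κ y)) ?_ ?_ fun M => ?_)
  · intro x hx' y hy'
    obtain ⟨x, hx, rfl⟩ := (mem_imageAlong' hBN).1 hx'
    obtain ⟨y, hy, rfl⟩ := (mem_imageAlong' hBN).1 hy'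
    rw [← ap_mul _ (hBN hx) (hBN hy), k1 _ (hBN hx), k1 _ (hBN hy), k1 _ (hBN (B.mul_mem hx hy)),
      h0.1 x hx y hy]
  · obtain ⟨x, hx, e⟩ := h0.2.1
    exact ⟨_, ap_mem_imageAlong hBN hx, by rwa [k1 _ (hBN hx)]⟩
  · obtain ⟨a, ha, e⟩ := h0.2.2 M
    obtain ⟨k, hk, n, hn', rfl⟩ := hT.frattini (mem_normalizer_sup ha (mem_normalizer_centralizer ha))
    have h1 : n ∈ normalizer (B : Set G) := by
      simpa using mul_mem (inv_mem (sup_le le_normalizer (centralizer_le_normalizer _) hk)) ha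
    have h2 : Mor (groupFusionSystem P.1) T fun x => n * x * n⁻¹ :=
      mor_group_iff.2 ⟨g1, fun x hx => g1 (Transfer.conj_mem_of_mem_normalizer hn' hx), n, fun _ _ => rfl⟩
    obtain ⟨l, el⟩ := IsRealizedBy.exists_elt hL.2.1 (normSys_mor_of (normSys_spec _ g1) hBN h2 hBT
      le_rfl (eq_of_le_of_card_ge (img_le_iff.2 fun x hx => Transfer.conj_mem_of_mem_normalizer hn' hx)
        h2.card_img.ge))
    refine ⟨l, mem_normalizer_of_finite fun x hx' => ?_, fun x hx' => ?_⟩ <;>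
      obtain ⟨x, hx, rfl⟩ := (mem_imageAlong' hBN).1 hx'
    · exact el x hx ▸ ap_mem_imageAlong hBN (Transfer.conj_mem_of_mem_normalizer h1 hx)
    · have h3 := Transfer.conj_mem_of_mem_normalizer h1 hx
      rw [← el x hx, k1 _ (hBN hx), k1 _ (hBN h3), ← e x hx, ← h0.conj hk h3]
      congr 1; group

omit [Finite G] in
theorem NatAct.sl2 (h : NatAct p B π) : ∃ (H K : Subgroup G) (_ : (K.subgroupOf H).Normal),
    centralizer (B : Set G) ≤ K ∧ K ≤ H ∧ H ≤ normalizer (B : Set G) ∧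
      Nonempty ((H ⧸ K.subgroupOf H) ≃* SL2 (ZMod p)) := by
  obtain ⟨h1, ⟨x, hx, h2⟩, h3⟩ := h
  have hs : ∀ v, ∃ y ∈ B, π y = v := fun v => by
    by_cases hv : v = 0
    · exact ⟨1, B.one_mem, by simpa [hv] using h1 1 B.one_mem 1 B.one_mem⟩
    obtain ⟨M, rfl⟩ := sl2_trans h2 hv
    obtain ⟨h, a, b⟩ := h3 M
    exact ⟨_, Transfer.conj_mem_of_mem_normalizer a hx, b x hx⟩
  let Act : G → SL2 (ZMod p) → Prop := fun g M =>
    g ∈ normalizer (B : Set G) ∧ ∀ x ∈ B, π (g * x * g⁻¹) = M.1 *ᵥ π x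
  have am : ∀ {g k M N}, Act g M → Act k N → Act (g * k) (M * N) := fun {g k M N} a b =>
    ⟨mul_mem a.1 b.1, fun x hx => by
      rw [← sl2_mulVec_mulVec, ← b.2 x hx, ← a.2 _ (Transfer.conj_mem_of_mem_normalizer b.1 hx)]
      congr 1; group⟩
  have au : ∀ {g M N}, Act g M → Act g N → M = N := fun a b => sl2_eq_of_mulVec fun v => by
    obtain ⟨y, hy, rfl⟩ := hs v
    rw [← a.2 y hy, b.2 y hy]
  have ac : ∀ c ∈ centralizer (B : Set G), Act c 1 := fun c hc =>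
    ⟨centralizer_le_normalizer _ hc, fun x hx => by rw [← hc x hx]; simp⟩
  let H : Subgroup G :=
    { carrier := {g | ∃ M, Act g M}
      one_mem' := ⟨1, ac 1 (one_mem _)⟩
      mul_mem' := fun ⟨_, a⟩ ⟨_, b⟩ => ⟨_, am a b⟩
      inv_mem' := fun {g} ⟨M, a⟩ => ⟨M⁻¹, inv_mem a.1, fun x hx => by
        have := a.2 _ (Transfer.conj_mem_of_mem_normalizer (inv_mem a.1) hx)
        rw [show g * (g⁻¹ * x * g⁻¹⁻¹) * g⁻¹ = x by group] at this
        rw [this, sl2_mulVec_mulVec, inv_mul_cancel]; simp⟩ }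
  let φ : H →* SL2 (ZMod p) := MonoidHom.mk' (fun g => g.2.choose) fun a b =>
    au (a * b).2.choose_spec (am a.2.choose_spec b.2.choose_spec)
  have e : (φ.ker.map H.subtype).subgroupOf H = φ.ker :=
    comap_map_eq_self_of_injective H.subtype_injective _
  have : ((φ.ker.map H.subtype).subgroupOf H).Normal := e.symm ▸ inferInstance
  refine ⟨H, φ.ker.map H.subtype, this, fun c hc =>
    ⟨⟨c, 1, ac c hc⟩, au (Exists.choose_spec (⟨1, ac c hc⟩ : ∃ M, Act c M)) (ac c hc), rfl⟩,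
    map_subtype_le _, fun g ⟨_, a⟩ => a.1, ⟨(QuotientGroup.quotientMulEquivOfEq e).trans
      (QuotientGroup.quotientKerEquivOfSurjective φ fun M => ?_)⟩⟩
  obtain ⟨h, a⟩ := h3 M
  exact ⟨⟨h, M, a⟩, au (Exists.choose_spec (⟨M, a⟩ : ∃ M, Act h M)) a⟩

theorem con_of_free (hp2 : p ≠ 2) (P : Sylow p G) (h : ¬ Involves (qd p) G) :
    (groupFusionSystem P.1).IsConstrained p :=
  ((solvable_iff P.2 (group_saturated P)).1 (solvable_of_free hp2 P.2 (group_saturated P)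
    (group_free (sylowIn_top P) h))).constrained P.2 (group_saturated P)

omit [Finite G] hp in
theorem control_of_normal {S Q A : Subgroup G} (h : (groupFusionSystem S).IsNormal Q) (hA : A ≤ S)
    {g : G} (hg : ∀ x ∈ A, g * x * g⁻¹ ∈ S) :
    ∃ n ∈ normalizer (Q : Set G), ∀ x ∈ A, n * x * n⁻¹ = g * x * g⁻¹ := by
  obtain ⟨f, hf, e1, e2⟩ := IsNormal.ext h (mor_group_iff.2 ⟨hA, hg, g, fun _ _ => rfl⟩)
  obtain ⟨-, -, n, e⟩ := mor_group_iff.1 hf
  exact ⟨n, mem_normalizer_of_img (fun x hx => e x (mem_sup_right hx)) e2,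
    fun x hx => (e x (mem_sup_left hx)).symm.trans (e1 x hx)⟩

end Cfsg.Agent.Qd
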