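import Cfsg.Agent.Lib.Fusion.PPow
import Cfsg.Prelude.Def_FusionReduction

/-! Residual limits. -/

set_option autoImplicit false
set_option linter.unusedSectionVars false

namespace Cfsg.Agent.Fusion

open Cfsg Cfsg.FusionSystem

variable {Ω : Type*} [Group Ω] {S T U V : Subgroup Ω} {F : FusionSystem S} {p : ℕ}
  [hp : Fact p.Prime] {P : Subgroup Ω} {f g : Ω → Ω}

/-- One step down: a saturated subsystem of `p`-power index or of index prime to `p`. -/
inductive RStep (p : ℕ) : (Σ S : Subgroup Ω, FusionSystem S) → (Σ S : Subgroup Ω, FusionSystem S) → Prop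
  | pp {S T : Subgroup Ω} {F : FusionSystem S} {E : FusionSystem T} : Finite S → IsPGroup p S →
      F.IsSaturated p → F.StronglyClosed T → E.IsSaturated p → E.HasPPowerIndexIn F p →
      RStep p ⟨S, F⟩ ⟨T, E⟩
  | pq {S : Subgroup Ω} {F E : FusionSystem S} : Finite S → IsPGroup p S →
      F.IsSaturated p → E.IsSaturated p → E.HasPrimeToPIndexIn F p → RStep p ⟨S, F⟩ ⟨S, E⟩

theorem sc_of_sub {E : FusionSystem T} (h : F.StronglyClosed U)
    (hE : E.IsSubsystemOf F) (hU : U ≤ T) : E.StronglyClosed U :=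
  stronglyClosed_iff.2 ⟨hU, fun _ _ hf _ hx hxU => StronglyClosed.mem h (hf.sub hE) hx hxU⟩

theorem ppow_of_ppow [Finite S] (hS : IsPGroup p S) {X : FusionSystem T} {Z : FusionSystem U}
    (hX : X.HasPPowerIndexIn F p) (hZ : Z.IsSaturated p) (h : Z.HasPPowerIndexIn F p)
    (hU : U ≤ T) : Z.HasPPowerIndexIn X p :=
  have := finite_of_le (IsSubsystemOf.le hX.1)
  ppow_iff.2 ⟨sub_of_ppow hS hZ h.1 hX hU, (hyp_mono hX.1).trans h.2.1, fun _ hP _ hα hc =>
    HasPPowerIndexIn.mem h hP (IsSubsystemOf.autGroup_le hX.1 (hP.trans hU) hα) hc⟩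

theorem diamond_mixed [Finite S] (hS : IsPGroup p S) (hF : F.IsSaturated p)
    (hT : F.StronglyClosed T) {X : FusionSystem T} (hXs : X.IsSaturated p)
    (hX : X.HasPPowerIndexIn F p) {Y : FusionSystem S} (hYs : Y.IsSaturated p)
    (hY : Y.HasPrimeToPIndexIn F p) : ∃ Z : FusionSystem T, Z.IsSaturated p ∧
      Z.HasPPowerIndexIn Y p ∧ Z.HasPrimeToPIndexIn X p := by
  have hTS := hT.1
  have := finite_of_le hTS
  obtain ⟨Z, hZ, h⟩ := exists_ppow hS hYs hTS ((hyp_mono hY.1).trans hX.2.1)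
  have hTY : Y.StronglyClosed T := sc_of_sub hT hY.1 hTS
  refine ⟨Z, hZ, h, primeToP_of (sub_of_ppow hS hZ (IsSubsystemOf.trans h.1 hY.1) hX le_rfl)
    fun P hP α hα k hk => ?_⟩
  obtain ⟨f, t, ht, hf, e⟩ := pelt_conj hS hXs hX.1 hP hα hk
  obtain ⟨a, ha, g, hg, e1⟩ := HasPrimeToPIndexIn.frattini hS hF hY (hf.sub hX.1)
  obtain ⟨c, hc, g', hg', e2⟩ := ppow_frattini hS hYs hTY hZ h hP hg
  obtain ⟨s, hs, e3⟩ := mem_autInducedBy.1 hc
  have ha' := (mem_autGroup le_rfl).1 (inv_mem ha)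
  have ht' : afun a⁻¹ t ∈ T := StronglyClosed.mem hT ha' (hTS ht) ht
  have hu : s⁻¹ * afun a⁻¹ t * s⁻¹⁻¹ ∈ T := StronglyClosed.conj_mem hT (inv_mem hs) ht'
  obtain ⟨j, hj, j1, -, -, -⟩ := hg'.inv
  have key : ∀ x ∈ P, g' (afun α x) =
      s⁻¹ * afun a⁻¹ t * s⁻¹⁻¹ * g' x * (s⁻¹ * afun a⁻¹ t * s⁻¹⁻¹)⁻¹ := fun x hx => by
    have hx' := afun_mem α hx
    have h1 : g (afun α x) = afun a⁻¹ t * g x * (afun a⁻¹ t)⁻¹ := by
      rw [← afun_inv_afun a (hg.mem hx'), ← e1 _ hx', e x hx, afun_map_conj _ (hTS ht)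
        ((hf.sub hX.1).mem hx), e1 x hx, afun_inv_afun a (hg.mem hx)]
    rw [e2 _ hx', e2 x hx, e3 _ (hg'.mem hx'), e3 _ (hg'.mem hx)] at h1
    calc g' (afun α x) = s⁻¹ * (s * g' (afun α x) * s⁻¹) * s := by group
      _ = _ := by rw [h1]; group
  refine ((hg'.comp (mor_conj Z le_rfl hu) fun x hx => hg'.mem hx).comp hj fun x hx => ?_).mem_autGroup
    fun x hx => ?_
  · rw [← key x hx]; exact subset_img (afun_mem α hx)
  · rw [← key x hx, j1 _ (afun_mem α hx)]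

theorem RStep.diamond (a b c : Σ S : Subgroup Ω, FusionSystem S) (h1 : RStep p a b)
    (h2 : RStep p a c) : ∃ d, RStep p b d ∧ RStep p c d := by
  cases h1 with
  | @pp S T F X hf hS hF hT hXs hX =>
    have := finite_of_le hT.1
    cases h2 with
    | @pp _ U _ Y _ _ _ hU hYs hY =>
      have := finite_of_le hU.1
      obtain ⟨Z, hZ, h⟩ := exists_op hS hF
      have hc := hyp_stronglyClosed hS hF
      exact ⟨⟨_, Z⟩, .pp ‹_› (pgroup_of_le hS hT.1) hXs (sc_of_sub hc hX.1 hX.2.1) hZ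
        (ppow_of_ppow hS hX hZ h hX.2.1), .pp ‹_› (pgroup_of_le hS hU.1) hYs
        (sc_of_sub hc hY.1 hY.2.1) hZ (ppow_of_ppow hS hY hZ h hY.2.1)⟩
    | @pq _ _ Y _ _ _ hYs hY =>
      obtain ⟨Z, hZ, h, h'⟩ := diamond_mixed hS hF hT hXs hX hYs hY
      exact ⟨⟨_, Z⟩, .pq ‹_› (pgroup_of_le hS hT.1) hXs hZ h',
        .pp hf hS hYs (sc_of_sub hT hY.1 hT.1) hZ h⟩
  | @pq S F Y hf hS hF hYs hY =>
    cases h2 with
    | @pp _ T _ X _ _ _ hT hXs hX =>
      have := finite_of_le hT.1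
      obtain ⟨Z, hZ, h, h'⟩ := diamond_mixed hS hF hT hXs hX hYs hY
      exact ⟨⟨_, Z⟩, .pp hf hS hYs (sc_of_sub hT hY.1 hT.1) hZ h,
        .pq ‹_› (pgroup_of_le hS hT.1) hXs hZ h'⟩
    | @pq _ _ X _ _ _ hXs hX =>
      have hZ := opp_saturated hS hF
      have key : ∀ D : FusionSystem S, D.IsSaturated p → D.HasPrimeToPIndexIn F p →
          (opp F p).HasPrimeToPIndexIn D p := fun D h1 h2 =>
        primeToP_of (opp_le hS hF h1 h2) fun P hP α hα k hk =>
          HasPrimeToPIndexIn.mem opp_primeToP hP (IsSubsystemOf.autGroup_le h2.1 hP hα) hk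
      exact ⟨⟨_, opp F p⟩, .pq hf hS hYs hZ (key _ hYs hY), .pq hf hS hXs hZ (key _ hXs hX)⟩

/-- Reachability. -/
abbrev Reach (p : ℕ) (a b : Σ S : Subgroup Ω, FusionSystem S) : Prop :=
  Relation.ReflTransGen (RStep p) a b

theorem Reach.join {a b c : Σ S : Subgroup Ω, FusionSystem S} (h1 : Reach p a b)
    (h2 : Reach p a c) : ∃ d, Reach p b d ∧ Reach p c d :=
  Relation.church_rosser (fun a b c h h' => by
    obtain ⟨d, h1, h2⟩ := RStep.diamond a b c h h'
    exact ⟨d, .single h1, .single h2⟩) h1 h2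

theorem Reach.sub {a b : Σ S : Subgroup Ω, FusionSystem S} (h : Reach p a b) :
    b.2.IsSubsystemOf a.2 := by
  induction h with
  | refl => exact fun _ => le_rfl
  | tail _ h ih =>
    cases h with
    | pp _ _ _ _ _ h => exact IsSubsystemOf.trans h.1 ih
    | pq _ _ _ _ h => exact IsSubsystemOf.trans h.1 ih

def RStable (p : ℕ) (a : Σ S : Subgroup Ω, FusionSystem S) : Prop := ∀ b, RStep p a b → b = a

theorem RStable.eq {a b : Σ S : Subgroup Ω, FusionSystem S} (h : RStable p a) (h' : Reach p a b) :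
    b = a := by
  induction h' with
  | refl => rfl
  | tail _ h2 ih => subst ih; exact h _ h2

theorem RStable.reach {a b c : Σ S : Subgroup Ω, FusionSystem S} (h : RStable p c)
    (h1 : Reach p a b) (h2 : Reach p a c) : Reach p b c := by
  obtain ⟨d, h3, h4⟩ := h1.join h2
  rwa [h.eq h4] at h3

theorem rstable_of (h1 : F.hyperfocalSubgroup p = S) (h2 : F.IsPPrimeResidual p F) :
    RStable p ⟨S, F⟩ := by
  intro b hb
  cases hb with
  | @pp _ T _ E _ hS hF hT hE h =>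
    obtain rfl : T = S := le_antisymm hT.1 (h1.symm.le.trans h.2.1)
    rw [ppow_unique hS hE hF h (ppow_self hF)]
  | @pq _ _ E _ hS hF hE h => rw [sub_antisymm h.1 (h2.2.2 E hE h)]

omit hp in
theorem limit_reach {L : FusionSystem V} (h : L.IsResidualLimitOf F p) (hp : Fact p.Prime) (hf : Finite S)
    (hS : IsPGroup p S) (hF : F.IsSaturated p) : Reach p ⟨S, F⟩ ⟨V, L⟩ ∧ RStable p ⟨V, L⟩ := by
  induction h with
  | stable F p h1 h2 => exact ⟨.refl, rstable_of h1 h2⟩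
  | step F p D D' h1 h2 _ ih =>
    have hf' := finite_of_le (hyp_le (F := F) (p := p))
    have hS' := pgroup_of_le hS (hyp_le (F := F) (p := p))
    obtain ⟨h3, h4⟩ := ih hp hf' hS' h2.1
    exact ⟨.head (.pp hf hS hF (hyp_stronglyClosed hS hF) h1.1 h1.2)
      (.head (.pq hf' hS' h1.1 h2.1 h2.2.1) h3), h4⟩

theorem limit_eq [Finite S] (hS : IsPGroup p S) (hF : F.IsSaturated p) {E : FusionSystem T}
    (hE : E.IsSaturated p) (h : Reach p ⟨S, F⟩ ⟨T, E⟩) {L : FusionSystem U}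
    (hL : L.IsResidualLimitOf F p) : L.IsSubsystemOf E ∧ ∀ {V : Subgroup Ω} (L' : FusionSystem V),
      L'.IsResidualLimitOf E p → ∀ P, L'.Hom P = L.Hom P := by
  have hT : T ≤ S := IsSubsystemOf.le h.sub
  obtain ⟨h1, h2⟩ := limit_reach hL hp ‹_› hS hF
  refine ⟨(h2.reach h h1).sub, fun L' hL' => ?_⟩
  obtain ⟨h3, h4⟩ := limit_reach hL' hp (finite_of_le hT) (pgroup_of_le hS hT) hE
  have := h4.eq (h2.reach (h.trans h3) h1)
  cases this
  exact fun _ => rfl

end Cfsg.Agent.Fusion
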