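import Cfsg.Agent.Lib.Fusion.Resid
import Cfsg.Prelude.Def_Local

/-! Reduction along a `p`-solvable outer automizer. -/

set_option autoImplicit false
set_option linter.unusedSectionVars false

namespace Cfsg.Agent.Fusion

open Cfsg Cfsg.FusionSystem

theorem mem_of_pow_coprime {Γ : Type*} [Group Γ] {A : Subgroup Γ} {k : Γ} {n m : ℕ}
    (h1 : k ^ n = 1) (hc : m.Coprime n) (h : k ^ m ∈ A) : k ∈ A := by
  have hc' : m.Coprime (orderOf k) := hc.coprime_dvd_right (orderOf_dvd_of_pow_eq_one h1)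
  obtain ⟨j, hj⟩ := exists_pow_eq_self_of_coprime hc'
  rw [← hj]; exact pow_mem h j

theorem psolv_step {Γ : Type*} [Group Γ] [Finite Γ] {p : ℕ} {A B K : Subgroup Γ}
    [(B.subgroupOf A).Normal] (hs : IsPSolvable p (A ⧸ B.subgroupOf A)) (hB : B ≤ K) (hK : K ≤ A)
    (hn : ∀ a ∈ A, ∀ k ∈ K, a * k * a⁻¹ ∈ K) (hne : ¬ K ≤ B) :
    ∃ K', B ≤ K' ∧ K' < K ∧ (∀ a ∈ A, ∀ k ∈ K', a * k * a⁻¹ ∈ K') ∧
      ((∀ k ∈ K, (orderOf k).Coprime p → k ∈ K') ∨ ∀ k ∈ K, ∀ n, k ^ p ^ n = 1 → k ∈ K') := by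
  classical
  obtain ⟨n, H, h0, hl, -, hN, hi⟩ := hs
  let π := QuotientGroup.mk' (B.subgroupOf A)
  let L : Fin (n + 1) → Subgroup Γ := fun i => ((H i).comap π).map A.subtype
  have hL : ∀ i (a : A), (a : Γ) ∈ L i ↔ π a ∈ H i := fun i a =>
    ⟨fun ⟨b, hb, e⟩ => Subtype.ext e ▸ hb, fun h => ⟨a, h, rfl⟩⟩
  have key : ∀ i : Fin (n + 1), K ≤ L i → ∃ j : Fin n, K ≤ L j.succ ∧ ¬ K ≤ L j.castSucc := by
    intro i
    induction i using Fin.induction with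
    | zero =>
      refine fun h => absurd (fun k hk => ?_) hne
      have := (hL 0 ⟨k, hK hk⟩).1 (h hk)
      rw [h0, Subgroup.mem_bot] at this
      exact (QuotientGroup.eq_one_iff (N := B.subgroupOf A) (⟨k, hK hk⟩ : A)).1 this
    | succ i ih =>
      intro h
      by_cases h' : K ≤ L i.castSucc
      · exact ih h'
      · exact ⟨i, h, h'⟩
  obtain ⟨j, h1, h2⟩ := key (Fin.last n) fun k hk => (hL _ ⟨k, hK hk⟩).2 (hl ▸ trivial)
  haveI := hN j.castSucc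
  have hpow : ∀ k ∈ K, k ^ (H j.castSucc).relIndex (H j.succ) ∈ K ⊓ L j.castSucc := fun k hk =>
    ⟨pow_mem hk _, (hL _ (⟨k, hK hk⟩ ^ _)).2 (by
      rw [map_pow]; exact Subgroup.pow_relIndex_mem _ ((hL _ ⟨k, hK hk⟩).1 (h1 hk)))⟩
  refine ⟨K ⊓ L j.castSucc, le_inf hB fun b hb => (hL _ ⟨b, hK (hB hb)⟩).2 ?_,
    lt_of_le_of_ne inf_le_left fun h => h2 (h ▸ inf_le_right), fun a ha k hk =>
      ⟨hn a ha k hk.1, (hL _ (⟨a, ha⟩ * ⟨k, hK hk.1⟩ * ⟨a, ha⟩⁻¹)).2 ?_⟩, ?_⟩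
  · rw [show π ⟨b, hK (hB hb)⟩ = 1 from (QuotientGroup.eq_one_iff _).2 hb]; exact one_mem _
  · rw [map_mul, map_mul, map_inv]
    exact Subgroup.Normal.conj_mem ‹_› _ ((hL _ ⟨k, hK hk.1⟩).1 hk.2) _
  rcases hi j with ⟨m, hm⟩ | hc
  · exact .inl fun k hk hc => mem_of_pow_coprime (pow_orderOf_eq_one k)
      (by rw [hm]; exact Nat.Coprime.pow_left _ hc.symm) (hpow k hk)
  · exact .inr fun k hk n h => mem_of_pow_coprime h (hc.pow_right _) (hpow k hk)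

variable {Ω : Type*} [Group Ω] {S T U V : Subgroup Ω} {F : FusionSystem S} {p : ℕ}
  [hp : Fact p.Prime] {P : Subgroup Ω} {f g : Ω → Ω} [Finite S]

theorem Pres.mul {α β : MulAut S} (h1 : Pres F α) (h2 : Pres F β) : Pres F (α * β) := by
  intro P f hf
  obtain ⟨g, hg, e⟩ := h2 P f hf
  obtain ⟨k, hk, e'⟩ := h1 _ g hg
  have : img (afun (α * β)) P = img (afun α) (img (afun β) P) := by
    ext y
    rw [mem_img_afun hf.le, mem_img_afun hg.le]
    constructor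
    · rintro ⟨x, hx, rfl⟩; exact ⟨_, subset_img hx, (afun_mul _ _ (hf.le hx)).symm⟩
    · rintro ⟨z, hz, rfl⟩
      obtain ⟨x, hx, rfl⟩ := (mem_img_afun hf.le).1 hz
      exact ⟨x, hx, afun_mul _ _ (hf.le hx)⟩
  rw [this]
  exact ⟨k, hk, fun x hx => by
    rw [afun_mul _ _ (hf.le hx), e' _ (subset_img hx), e x hx, afun_mul _ _ (hf.mem hx)]⟩

theorem ppow_pres' (hS : IsPGroup p S) {E : FusionSystem T} (hE : E.IsSaturated p)
    (h : E.HasPPowerIndexIn F p) {γ : MulAut S} (hγ : Pres F γ) {δ : MulAut T}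
    (e : ∀ x ∈ T, afun γ x = afun δ x) : Pres E δ := by
  have hT := IsSubsystemOf.le h.1
  have := finite_of_le hT
  let X : Subgroup Ω → (Ω → Ω) → Prop := fun Q g =>
    Q ≤ T ∧ ∃ α ∈ F.autGroup Q, (orderOf α).Coprime p ∧ g = afun α
  have hX : ∀ Q, Q ≤ T → ∀ α ∈ F.autGroup Q, (orderOf α).Coprime p →
      Mor (genSys E X) Q (afun α) := fun Q hQ α hα hc =>
    genSys_mem ((mem_autGroup hQ).1 (HasPPowerIndexIn.mem h hQ hα hc)) ⟨hQ, α, hα, hc, rfl⟩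
  have e0 : E = genSys E X := sub_antisymm (sub_of_coprime (pgroup_of_le hS hT) hE le_rfl
    fun P hP _ _ _ α hα hc => (mem_autGroup hP).2
      (hX P hP α (IsSubsystemOf.autGroup_le h.1 hP hα) hc)) genSys_sub
  rw [e0]
  refine genSys_pres ?_
  rintro Q _ ⟨hQ, α, hα, hc, rfl⟩
  obtain ⟨τ, hτ⟩ := exists_conj_aut (γ := δ) hQ
  refine ⟨(mem_autGroup hQ).1 (HasPPowerIndexIn.mem h hQ hα hc), _, hX _ (img_afun_le hQ) (τ α)
    ?_ (by rwa [τ.orderOf_eq]), hτ α⟩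
  have h1 := hγ.mor ((mem_autGroup (hQ.trans hT)).1 hα) (g := afun (τ α)) fun x hx => by
    rw [e x (hQ hx), hτ α x hx, e _ (hQ (afun_mem α hx))]
  rw [img_congr fun x hx => e x (hQ hx)] at h1
  exact h1.mem_autGroup fun _ _ => rfl

theorem exists_res (hT : F.StronglyClosed T) (hU : U ≤ S) (hTU : T ≤ U) {γ : MulAut U}
    (hγ : γ ∈ F.autGroup U) : ∃ δ ∈ F.autGroup T, ∀ x ∈ T, afun γ x = afun δ x := by
  have h1 := ((mem_autGroup hU).1 hγ).mono hTU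
  obtain ⟨δ, hδ, e⟩ := h1.exists_aut (StronglyClosed.img_eq hT h1 le_rfl)
  exact ⟨δ, hδ, fun x hx => (e x hx).symm⟩

theorem ppow_weakly (hS : IsPGroup p S) {D : FusionSystem U} (hD : D.IsWeaklyNormalIn F p)
    {E : FusionSystem T} (hT : F.StronglyClosed T) (hE : E.IsSaturated p)
    (h : E.HasPPowerIndexIn D p) : E.IsWeaklyNormalIn F p := by
  have hTU := IsSubsystemOf.le h.1
  have hU : U ≤ S := hD.2.2.2.1.1
  have := finite_of_le hU
  have hU' := pgroup_of_le hS hU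
  have hTD := sc_of_sub hT hD.2.2.1 hTU
  have key : ∀ P f, P ≤ T → Mor F P f → ∃ γ ∈ F.autGroup U, ∃ δ ∈ F.autGroup T,
      (∀ x ∈ T, afun γ x = afun δ x) ∧ ∃ g, Mor D P g ∧ ∀ x ∈ P, f x = afun δ (g x) := by
    intro P f hP hf
    obtain ⟨γ, hγ, g, hg, e⟩ := IsInvariantIn.frattini hD.2.2 (hP.trans hTU) hf
    obtain ⟨δ, hδ, e'⟩ := exists_res hT hU hTU hγ
    exact ⟨γ, hγ, δ, hδ, e', g, hg, fun x hx => by
      rw [e x hx, e' _ (StronglyClosed.mem hTD hg hx (hP hx))]⟩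
  refine ⟨hE, hD.2.1, isInvariantIn_iff.2 ⟨IsSubsystemOf.trans h.1 hD.2.2.1, hT,
    fun P f hf β hβ => ?_, fun P f hP hf => ?_⟩⟩
  · obtain ⟨γ, hγ, δ, hδ, e, g, hg, e'⟩ := key T _ le_rfl ((mem_autGroup hT.1).1 hβ)
    obtain ⟨α, hα, e''⟩ := hg.exists_aut (StronglyClosed.img_eq hTD hg le_rfl)
    have : β = δ * α := aut_ext fun x hx => by rw [afun_mul _ _ hx, e' x hx, e'' x hx]
    have := finite_of_le hTU
    rw [‹β = _›]
    exact (ppow_pres' hU' hE h (IsInvariantIn.pres hD.2.2 hγ) e).mul (ppow_pres hU' hE h hα) P f hf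
  · obtain ⟨γ, hγ, δ, hδ, e, g, hg, e'⟩ := key P f hP hf
    obtain ⟨c, hc, k, hk, e''⟩ := ppow_frattini hU' hD.1 hTD hE h hP hg
    exact ⟨δ * c, mul_mem hδ (autInducedBy_le_autGroup F hT.1 (autInducedBy_mono hU hc)), k, hk,
      fun x hx => by rw [e' x hx, e'' x hx, afun_mul _ _ (hk.mem hx)]⟩

theorem primeToP_weakly (hS : IsPGroup p S) {D D' : FusionSystem U}
    (hD : D.IsWeaklyNormalIn F p) (hD' : D'.IsSaturated p) (h : D'.HasPrimeToPIndexIn D p)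
    (hc : ∀ γ ∈ F.autGroup U, ∀ a ∈ D'.autGroup U, γ * a * γ⁻¹ ∈ D'.autGroup U) :
    D'.IsWeaklyNormalIn F p := by
  have hU : U ≤ S := hD.2.2.2.1.1
  have := finite_of_le hU
  have hU' := pgroup_of_le hS hU
  refine ⟨hD', hD.2.1, invariant_trans hD.2.2 h.1
    (fun P f hf => HasPrimeToPIndexIn.frattini hU' hD.1 h hf) fun γ hγ P f hf => ?_⟩
  obtain ⟨a, ha, g, hg, e⟩ := ost_frattini hU' hD' hf
  have hg' : Mor (ost D p) P g := hg.sub (ostar_le fun Q hQ _ α hα k hk =>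
    ostar_mem hQ trivial (IsSubsystemOf.autGroup_le h.1 hQ hα) hk)
  obtain ⟨g', hg'', e'⟩ := ostar_pres (IsInvariantIn.pres hD.2.2 hγ) (fun _ _ _ => trivial) P g hg'
  have h1 := hg''.sub (ost_le h)
  refine ⟨_, h1.comp ((mem_autGroup le_rfl).1 (hc γ hγ a ha)) fun x hx => h1.mem hx,
    fun x hx => ?_⟩
  rw [e' x hx, afun_mul _ _ (afun_mem γ (hg.mem hx)), afun_inv_afun _ (hg.mem hx),
    afun_mul _ _ (hg.mem hx), e x hx]

theorem mem_sup_cent_of_pelt (hS : IsPGroup p S) {E : FusionSystem T} (hE : E.IsSaturated p)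
    (hT : T ≤ S) {x : Ω} (hx : x ∈ S) {α : MulAut T} (hα : α ∈ E.autGroup T)
    (e : ∀ y ∈ T, afun α y = x * y * x⁻¹) : x ∈ T ⊔ centralizerIn S T := by
  have := finite_of_le hT
  obtain ⟨k, hk⟩ := autInducedBy_pgroup hS T ⟨α, mem_autInducedBy.2 ⟨x, hx, e⟩⟩
  obtain ⟨t, ht, e'⟩ := mem_autInducedBy.1 (pelt_inner (pgroup_of_le hS hT) hE hα
    (k := k) (congrArg Subtype.val hk))
  have : t⁻¹ * x ∈ centralizerIn S T := mem_centralizerIn.2 ⟨mul_mem (inv_mem (hT ht)) hx,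
    fun y hy => by
      calc t⁻¹ * x * y * (t⁻¹ * x)⁻¹ = t⁻¹ * (x * y * x⁻¹) * t := by group
        _ = y := by rw [← e y hy, e' y hy]; group⟩
  simpa using Subgroup.mul_mem_sup ht this

theorem exists_reduction (hS : IsPGroup p S) {E : FusionSystem T} (hE : E.IsWeaklyNormalIn F p)
    [((E.autGroup T).subgroupOf (F.autGroup T)).Normal]
    (hs : IsPSolvable p (F.autGroup T ⧸ (E.autGroup T).subgroupOf (F.autGroup T))) (n : ℕ) :
    ∀ (U : Subgroup Ω) (D : FusionSystem U), Nat.card (D.autGroup T) = n →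
      D.IsWeaklyNormalIn F p → T ⊔ centralizerIn S T ≤ U → E.IsSubsystemOf D →
      Reach p ⟨S, F⟩ ⟨U, D⟩ → ∃ F₀ : FusionSystem (T ⊔ centralizerIn S T),
        F₀.IsNormalIn F p ∧ E.IsSubsystemOf F₀ ∧ F₀.autGroup T = E.autGroup T ∧
          Reach p ⟨S, F⟩ ⟨_, F₀⟩ := by
  have hT : F.StronglyClosed T := hE.2.2.2.1
  have := finite_of_le hT.1
  have := finite_mulAut T
  induction n using Nat.strong_induction_on with
  | _ n ih =>
  intro U D hn hD hTU hED hR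
  have hU : F.StronglyClosed U := hD.2.2.2.1
  have := finite_of_le hU.1
  have hU' := pgroup_of_le hS hU.1
  have hTU' : T ≤ U := le_sup_left.trans hTU
  have hTD := sc_of_sub hT hD.2.2.1 hTU'
  have hB := IsSubsystemOf.autGroup_le hED (le_refl T)
  have hA := IsSubsystemOf.autGroup_le hD.2.2.1 hTU'
  by_cases hle : D.autGroup T ≤ E.autGroup T
  · obtain rfl : U = T ⊔ centralizerIn S T := le_antisymm (fun x hx => by
      obtain ⟨α, e⟩ := exists_cAut (StronglyClosed.le_normalizer hTD hx)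
      exact mem_sup_cent_of_pelt hS hE.1 hT.1 (hU.1 hx) (hle (autInducedBy_le_autGroup D hTU'
        (mem_autInducedBy.2 ⟨x, hx, e⟩))) e) hTU
    exact ⟨D, normal_of_weakly hD fun c hc => Subgroup.mem_sup_right (mem_centralizerIn.2
      ⟨hc.1, fun y hy => (mem_centralizerIn.1 hc).2 y (hTU' hy)⟩), hED, le_antisymm hle hB, hR⟩
  obtain ⟨K, k1, k2, k3, k4⟩ := psolv_step hs hB hA
    (StrongInv.conj_autGroup (IsInvariantIn.strongInv hD.2.2) hTU' hT.1) hle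
  have hlt := card_lt_of_lt k2
  rcases k4 with k4 | k4
  · have hK := isKNorm_kNorm (S := U) (K := K)
    have hI : Inn T ≤ K := (Inn_le_autGroup E le_rfl).trans k1
    have hh : D.hyperfocalSubgroup p ≤ kNorm U T K := fun x hx => by
      obtain ⟨h1, α, hα, e⟩ := (isKNorm_kNorm _).1 (hyp_act hU' hD.1 hTD hx)
      exact (hK _).2 ⟨h1, α, (sup_le (Transfer.res_le_iff.2 k4) hI : _ ≤ K) hα, e⟩
    have hconj : ∀ γ ∈ F.autGroup U, ∀ x ∈ kNorm U T K, afun γ x ∈ kNorm U T K := by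
      intro γ hγ x hx
      obtain ⟨h1, α, hα, e⟩ := (hK _).1 hx
      obtain ⟨δ, hδ, e'⟩ := exists_res hT hU.1 hTU' hγ
      refine (hK _).2 ⟨afun_mem _ h1, _, k3 δ hδ α hα, fun y hy => ?_⟩
      have hy' := afun_mem δ⁻¹ hy
      rw [afun_mul _ _ hy, afun_mul _ _ hy', e _ hy', ← e' _ (e _ hy' ▸ afun_mem α hy'),
        afun_map_conj _ h1 (hTU' hy'), e' _ hy', afun_afun_inv _ hy]
    have hsc : D.StronglyClosed (kNorm U T K) := sc_of_hyp_le hU' hD.1 hK.le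
      (le_normalizer_of_conj_mem fun s hs x hx => by
        obtain ⟨γ, e⟩ := exists_cAut (Subgroup.le_normalizer hs : s ∈ Subgroup.normalizer (U : Set Ω))
        rw [← e x (hK.le hx)]
        exact hconj γ (autInducedBy_le_autGroup F hU.1 (mem_autInducedBy.2 ⟨s, hU.1 hs, e⟩)) x hx) hh
    obtain ⟨D', d1, d2⟩ := exists_ppow hU' hD.1 hK.le hh
    have hTK : T ≤ kNorm U T K := fun t ht => by
      obtain ⟨α, e⟩ := exists_cAut (Subgroup.le_normalizer ht : t ∈ Subgroup.normalizer (T : Set Ω))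
      exact (hK _).2 ⟨hTU' ht, α, hI (mem_Inn.2 ⟨t, ht, e⟩), e⟩
    have hle' : D'.autGroup T ≤ K := fun α hα => by
      have := finite_of_le hK.le
      have h1 := IsFullyAutomized.sylowIn (IsSaturated.fullyAutomized (pgroup_of_le hU' hK.le) d1
        (fullyNormalized_of_normal (F := D') hTK hK.le_normalizer))
      obtain ⟨a, ha, b, hb, rfl, ⟨j, hj⟩, hc⟩ := Transfer.exists_pPart p α
      have ha' := Subgroup.zpowers_le.2 hα ha
      have hb' := Subgroup.zpowers_le.2 hα hb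
      refine mul_mem ?_ (k4 b (IsSubsystemOf.autGroup_le d2.1 hTK hb') hc)
      obtain ⟨c, hc, e⟩ := h1.conj (Subgroup.zpowers_le.2 ha') (pgroup_zpowers hj)
      obtain ⟨s, hs, e'⟩ := mem_autInducedBy.1 (e a (Subgroup.mem_zpowers a))
      obtain ⟨-, β, hβ, e''⟩ := (hK _).1 hs
      have h2 : c * a * c⁻¹ ∈ K := by
        rwa [show c * a * c⁻¹ = β from aut_ext fun y hy => by rw [e' y hy, e'' y hy]]
      simpa [mul_assoc] using k3 _ (inv_mem (hA (IsSubsystemOf.autGroup_le d2.1 hTK hc))) _ h2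
    exact ih _ (hn ▸ (Subgroup.card_le_of_le hle').trans_lt hlt) _ D' rfl
      (ppow_weakly hS hD (IsInvariantIn.stronglyClosed_of hD.2.2 hsc hconj) d1 d2)
      (sup_le hTK fun c hc => hK.centralizerIn_le ⟨hTU (Subgroup.mem_sup_right hc), hc.2⟩)
      (sub_of_ppow hU' hE.1 hED d2 hTK) (hR.tail (.pp ‹_› hU' hD.1 hsc d1 d2))
  · have hk : KData D E p K := ⟨IsWeaklyNormalIn.of_sub hS hE hD.1 hED hD.2.2.1, k2.le,
      fun a ha => k3 a (hA ha), k1, k4⟩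
    obtain ⟨D', d1, d2, d3, d4, d5⟩ := hk.exists_sys hU'
    refine ih _ (hn ▸ d4 ▸ hlt) _ D' rfl (primeToP_weakly hS hD d1.1.1 d2 fun γ hγ a ha => ?_) hTU
      d3 (hR.tail (.pq ‹_› hU' hD.1 d1.1.1 d2))
    obtain ⟨h1, h2⟩ := (d5 a).1 ha
    obtain ⟨k, hk', e⟩ := (mem_resPre _).1 h2
    obtain ⟨δ, hδ, e'⟩ := exists_res hT hU.1 hTU' hγ
    refine (d5 _).2 ⟨(IsInvariantIn.pres hD.2.2 hγ).conj_aut h1, (mem_resPre _).2
      ⟨_, k3 δ hδ k hk', fun y hy => ?_⟩⟩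
    have hy' := afun_mem δ⁻¹ hy
    have : afun γ⁻¹ y = afun δ⁻¹ y := by
      conv_lhs => rw [← afun_afun_inv δ hy, ← e' _ hy', afun_inv_afun _ (hTU' hy')]
    rw [afun_mul _ _ hy, afun_mul _ _ hy', afun_mul _ _ (hTU' hy), this,
      afun_mul _ _ (hTU' hy'), e _ hy', e' _ (afun_mem k hy')]

end Cfsg.Agent.Fusion
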