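import Cfsg.Agent.Lib.Transfer.ZJ
import Cfsg.Prelude.Def_TwoFusion

/-!
The `ZJ`-theorem for strongly closed subgroups and for abstract families with replacement.
-/

set_option autoImplicit false
set_option linter.unusedSectionVars false
set_option linter.style.haveILetI false

namespace Cfsg.Agent.Transfer

open Subgroup
open scoped commutatorElement

variable {G : Type*} [Group G] [Finite G] {p : ℕ} [hp : Fact p.Prime]

theorem sc_le_normalizer {D S : Subgroup G} (hD : IsStronglyClosed D S) : S ≤ normalizer (D : Set G) :=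
  fun s hs => mem_normalizer_fintype fun x hx =>
    hD.2 x hx s (mul_mem (mul_mem hs (hD.1 hx)) (inv_mem hs))

theorem sc_mem_normalizer {D S L : Subgroup G} [hL : L.Normal] (hD : IsStronglyClosed D S) {m : G}
    (hm : m ∈ normalizer ((S ⊓ L : Subgroup G) : Set G)) :
    m ∈ normalizer ((D ⊓ L : Subgroup G) : Set G) :=
  mem_normalizer_fintype fun x hx =>
    ⟨hD.2 x hx.1 m (conj_mem_of_mem_normalizer hm ⟨hD.1 hx.1, hx.2⟩).1, hL.conj_mem _ hx.2 m⟩

theorem sc_normalClosure_le {D S Z : Subgroup G} (hD : IsStronglyClosed D S) (hZ : Z ≤ D)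
    (h : normalClosure (Z : Set G) ≤ S) : normalClosure (Z : Set G) ≤ D :=
  (closure_le _).2 fun x hx => by
    obtain ⟨a, ha, hc⟩ := Group.mem_conjugatesOfSet_iff.1 hx
    obtain ⟨g, rfl⟩ := isConj_iff.1 hc
    exact hD.2 a (hZ ha) g (h (conjugatesOfSet_subset_normalClosure hx))

/-- the first step of the proof of the `ZJ`-theorem -/
theorem class_two_of {Z B : Subgroup G} [hBn : B.Normal] (hZc : IsMulCommutative Z)
    (hBZ : B ≤ normalizer (Z : Set G)) (hle : ∀ K : Subgroup G, K.Normal → Z ⊓ B ≤ K → B ≤ K)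
    (h2 : (Z ⊓ ⁅B, B⁆).Normal) : ⁅B, B⁆ ≤ Z ∧ ⁅B, B⁆ ≤ centralizer (B : Set G) := by
  have h3 : ⁅B, B⁆ ≤ Z := by
    refine le_trans ?_ (inf_le_left : Z ⊓ ⁅B, B⁆ ≤ Z)
    haveI : (Comp.actKer (Z ⊓ ⁅B, B⁆) B).Normal := ⟨fun x hx g => ⟨le_normalizer_of_normal (mem_top _),
      fun c hc => by
        have := h2.conj_mem _ (hx.2 _ (hBn.conj_mem' c hc g)) g
        rwa [show g * ⁅x, g⁻¹ * c * g⁆ * g⁻¹ = ⁅g * x * g⁻¹, c⁆ by
          simp only [commutatorElement_def]; group] at this⟩⟩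
    refine (Comp.le_actKer_iff.1 (hle _ this (Comp.le_actKer_iff.2 ⟨le_normalizer_of_normal, ?_⟩))).2
    exact le_inf ((commutator_mono inf_le_left le_rfl).trans
      (Solv.commutator_le_left_of_le_normalizer hBZ)) (commutator_mono inf_le_right le_rfl)
  exact ⟨h3, le_centralizer_iff.1 (hle _ inferInstance
    (inf_le_left.trans ((comm_iff_le_centralizer.1 hZc).trans (centralizer_le h3))))⟩

theorem zj_inf_sc (hp2 : p ≠ 2) {n : ℕ} (hn : n = p ∨ n = 0)
    (hst : ∀ (P : Subgroup G) [P.Normal], IsPGroup p P → IsPStableOn p P) (S : Sylow p G)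
    {D : Subgroup G} (hD : IsStronglyClosed D S)
    {Z : Subgroup G} (hZ : Z ≤ centerThompsonOf n D)
    (hZn : normalizer (thompsonSubgroupOf n D : Set G) ≤ normalizer (Z : Set G))
    (B : Subgroup G) : B.Normal → IsPGroup p B → (Z ⊓ B).Normal := by
  induction B using Comp.subgroup_induction with
  | h B ih =>
  intro hBn hB
  have hZc : IsMulCommutative Z := Solv.isMulCommutative_of_le hZ (comm_ZJ _)
  have hBS : B ≤ S := (Solv.le_pCore hB).trans (Solv.pCore_le_sylow S)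
  have hSD := sc_le_normalizer hD
  have hSZ : (S : Subgroup G) ≤ normalizer (Z : Set G) :=
    (hSD.trans (normalizer_le_normalizer_J _)).trans hZn
  have hJ : normalizer (thompsonSubgroupOf n D : Set G) ≤
      normalizer ((Z ⊓ B : Subgroup G) : Set G) :=
    Solv.le_normalizer_inf hZn le_normalizer_of_normal
  have hSZB := (hSD.trans (normalizer_le_normalizer_J _)).trans hJ
  rcases (normalClosure_le_normal (inf_le_right : Z ⊓ B ≤ B)).lt_or_eq with h1 | h1
  · have := ih _ h1 inferInstance (hB.to_le h1.le)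
    rwa [show Z ⊓ normalClosure ((Z ⊓ B : Subgroup G) : Set G) = Z ⊓ B from
      le_antisymm (inf_le_inf_left _ h1.le) (le_inf inf_le_left le_normalClosure)] at this
  have hle : ∀ K : Subgroup G, K.Normal → Z ⊓ B ≤ K → B ≤ K := fun K _ h =>
    h1.ge.trans (normalClosure_le_normal h)
  have hBD : B ≤ D := h1.ge.trans (sc_normalClosure_le hD
    (inf_le_left.trans (hZ.trans (inf_le_left.trans (J_le D)))) (h1.le.trans hBS))
  by_cases hb : B = ⊥
  · rw [hb, inf_bot_eq]; infer_instance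
  haveI h2 := ih _ (Solv.commutator_lt_of_nilpotent hB.isNilpotent le_rfl le_rfl le_normalizer hb)
    inferInstance (hB.to_le (commutator_le_self B))
  obtain ⟨h3, h4⟩ := class_two_of hZc (hBS.trans hSZ) hle h2
  obtain ⟨V, hV⟩ : ∃ V, V = omegaOne n B := ⟨_, rfl⟩
  have hVB : V ≤ B := hV ▸ omegaOne_le B
  haveI hVn : V.Normal := hV ▸ normal_of_top_le fun g =>
    mem_normalizer_omegaOne (le_normalizer_of_normal (mem_top g))
  have hVe : ∀ x ∈ V, x ^ n = 1 := by
    rcases hn with rfl | rfl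
    · exact fun x hx => pow_eq_one_of_mem_omegaOne hp2 h4 (hV ▸ hx)
    · exact fun _ _ => pow_zero _
  have hVC : ∀ D : Subgroup G, res p D ≤ centralizer (V : Set G) → res p D ≤ centralizer (B : Set G) := by
    intro D hD
    rcases hn with rfl | rfl
    · exact res_le_iff.2 fun g hg hc => mem_centralizer_of_omega hp2 hc B hB
        (le_normalizer_of_normal (mem_top g)) fun x h1 h2 =>
          hD (mem_res hg hc) x (hV ▸ mem_omegaOne h1 h2)
    · rwa [hV, omegaOne_zero] at hD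
  have hVV : ∀ A, MaxE n D A → ⁅V, V⁆ ≤ A := fun A hA =>
    hA.le_of_centralizer ((commutator_le_self V).trans (hVB.trans hBD))
      (((commutator_mono hVB hVB).trans (h3.trans hZ)).trans (inf_le_right.trans (centralizer_le hA.le_J)))
      fun x hx => hVe x (commutator_le_self V hx)
  obtain ⟨L, hL⟩ : ∃ L, L = (normalizer ((Z ⊓ B : Subgroup G) : Set G)).normalCore := ⟨_, rfl⟩
  haveI hLn : L.Normal := hL ▸ inferInstance
  have hL1 : L ≤ normalizer ((Z ⊓ B : Subgroup G) : Set G) := hL ▸ normalCore_le _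
  have hAL : ∀ A, MaxE n D A → V ≤ normalizer (A : Set G) → A ≤ L := by
    intro A hA h a ha
    have h5 : ⁅⁅V, A⁆, A⁆ = ⊥ := commutator_eq_bot_iff_le_centralizer.2
      ((Comp.commutator_le_right_of_le_normalizer h).trans (comm_iff_le_centralizer.1 hA.elem.1))
    have h6 := hVC _ (IsPStableOn.res_le (hst V (hB.to_le hVB)) (quad_mono le_rfl (zpowers_le.2 ha) h5))
    rw [hL]
    exact normal_le_normalCore.2 ((isSyl_top S).le_of_res_le le_top le_normalizer_of_normal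
      (h6.trans ((centralizer_le (inf_le_right : Z ⊓ B ≤ B)).trans (centralizer_le_normalizer _)))
      (inf_le_left.trans hSZB)) (subset_normalClosure rfl)
  obtain ⟨U, hU⟩ := exists_maxE n D
  obtain ⟨A₀, hA₀, -, -, h5⟩ := MaxE.exists_normalized hp2 hn S.isPGroup' hD.1 hSD
    (hVB.trans hBS) le_normalizer_of_normal (Q := fun _ => True) (fun _ _ _ _ _ _ _ => trivial) hU
    (hVV U hU) trivial
  have h6 := J_mono_of_maxE hA₀ (le_inf hA₀.le (hAL _ hA₀ h5)) inf_le_left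
  have h7 : B ≤ centralizer (thompsonSubgroupOf n (D ⊓ L) : Set G) := by
    refine h1.ge.trans ((closure_le _).2 fun x hx => ?_)
    obtain ⟨a, ha, hc⟩ := Group.mem_conjugatesOfSet_iff.1 hx
    obtain ⟨g, rfl⟩ := isConj_iff.1 hc
    obtain ⟨m, hm, k, hk, rfl⟩ := (isSyl_inf_normal S L).frattini' (le_normalizer_of_normal (mem_top g))
    rw [show m * k * a * (m * k)⁻¹ = m * (k * a * k⁻¹) * m⁻¹ by group]
    exact conj_mem_of_mem_normalizer (mem_normalizer_centralizer (normalizer_le_normalizer_J _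
      (sc_mem_normalizer hD hm)))
      (centralizer_le h6 (hZ (conj_mem_of_mem_normalizer (hL1 hk) ha).1).2)
  have h8 : thompsonSubgroupOf n D ≤ L := by
    by_contra hc
    obtain ⟨A, hA, h9⟩ : ∃ A, MaxE n D A ∧ ¬ A ≤ L := by
      by_contra hc'
      push Not at hc'
      exact hc (J_le_iff.2 hc')
    obtain ⟨A₁, hA₁, -, h10, h11⟩ := MaxE.exists_normalized hp2 hn S.isPGroup' hD.1 hSD
      (hVB.trans hBS) le_normalizer_of_normal (Q := fun A => ¬ A ≤ L) (fun A A' _ _ h hA' h' h'' =>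
        h (le_trans (hA'.le_of_centralizer (hVB.trans hBD) ((hVB.trans h7).trans (centralizer_le
          (hA'.mono (le_inf hA'.le h'') inf_le_left).le_J)) hVe) h')) hA (hVV A hA) h9
    exact h10 (hAL _ hA₁ h11)
  have h9 : thompsonSubgroupOf n (D ⊓ L) = thompsonSubgroupOf n D := le_antisymm h6
    (J_le_iff.2 fun A hA => (hA.mono (le_inf hA.le (hA.le_J.trans h8)) inf_le_left).le_J)
  refine normal_of_top_le fun g => ?_
  obtain ⟨m, hm, k, hk, rfl⟩ := (isSyl_inf_normal S L).frattini' (le_normalizer_of_normal (mem_top g))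
  refine mul_mem (hJ ?_) (hL1 hk)
  rw [← h9]
  exact normalizer_le_normalizer_J _ (sc_mem_normalizer hD hm)

/-- the `ZJ`-theorem for strongly closed subgroups -/
theorem zj_normal_sc (hp2 : p ≠ 2) {n : ℕ} (hn : n = p ∨ n = 0)
    (hc : centralizer (pCore p G : Set G) ≤ pCore p G)
    (hst : ∀ (P : Subgroup G) [P.Normal], IsPGroup p P → IsPStableOn p P) (S : Sylow p G)
    {D : Subgroup G} (hD : IsStronglyClosed D S) {Z : Subgroup G} (hZ : Z ≤ centerThompsonOf n D)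
    (hZn : normalizer (thompsonSubgroupOf n D : Set G) ≤ normalizer (Z : Set G)) :
    Z.Normal := by
  have := zj_inf_sc hp2 hn hst S hD hZ hZn _ inferInstance (Solv.isPGroup_pCore p G)
  rwa [inf_eq_left.2 (mem_pCore_of_stable hc (hst _ (Solv.isPGroup_pCore p G))
    (Solv.isMulCommutative_of_le hZ (comm_ZJ _)) ((Solv.pCore_le_sylow S).trans
      (((sc_le_normalizer hD).trans (normalizer_le_normalizer_J _)).trans hZn)))] at this

theorem sc_both (hp2 : p ≠ 2) (hc : centralizer (pCore p G : Set G) ≤ pCore p G)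
    (hst : ∀ (P : Subgroup G) [P.Normal], IsPGroup p P → IsPStableOn p P) (S : Sylow p G)
    {D : Subgroup G} (hD : IsStronglyClosed D S) :
    (centerThompsonAOf D).Normal ∧ (omegaOne p (centerThompsonOf p D)).Normal :=
  ⟨ZJA_eq D ▸ zj_normal_sc hp2 (Or.inr rfl) hc hst S hD le_rfl (normalizer_J_le_normalizer_ZJ _),
    zj_normal_sc hp2 (Or.inl rfl) hc hst S hD (omegaOne_le _) fun _ h =>
      mem_normalizer_omegaOne (normalizer_J_le_normalizer_ZJ _ h)⟩

/-- the axiomatic `ZJ`-theorem -/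
theorem abs_inf (hst : ∀ (P : Subgroup G) [P.Normal], IsPGroup p P → IsPStableOn p P) (S : Sylow p G)
    {𝒜 : Set (Subgroup G)} (h𝒜 : ∀ A ∈ 𝒜, A ≤ S ∧ IsMulCommutative A)
    {I : Subgroup G → Subgroup G} (hI : ∀ Q x, x ∈ I Q ↔ ∀ A ∈ 𝒜, A ≤ Q → x ∈ A) (hne : 𝒜.Nonempty)
    (hinv : ∀ Q : Subgroup G, Q ≤ S → (∃ A ∈ 𝒜, A ≤ Q) → normalizer (Q : Set G) ≤ normalizer (I Q : Set G))
    (hrep : ∀ B : Subgroup G, B ≤ S → ⁅⁅B, B⁆, B⁆ = ⊥ → (∃ A ∈ 𝒜, ⁅B, B⁆ ≤ A ∧ ¬ B ≤ A) →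
      ∃ A ∈ 𝒜, ⁅B, B⁆ ≤ A ∧ ¬ B ≤ A ∧ B ≤ normalizer (A : Set G))
    (B : Subgroup G) : B.Normal → IsPGroup p B → (I S ⊓ B).Normal := by
  induction B using Comp.subgroup_induction with
  | h B ih =>
  intro hBn hB
  obtain ⟨A₀, hA₀⟩ := hne
  have hle' : ∀ A ∈ 𝒜, I S ≤ A := fun A hA x hx => (hI _ _).1 hx A hA (h𝒜 A hA).1
  have hZc : IsMulCommutative (I S) := Solv.isMulCommutative_of_le (hle' _ hA₀) (h𝒜 _ hA₀).2
  have hBS : B ≤ S := (Solv.le_pCore hB).trans (Solv.pCore_le_sylow S)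
  have hSZ : (S : Subgroup G) ≤ normalizer (I S : Set G) :=
    le_normalizer.trans (hinv _ le_rfl ⟨A₀, hA₀, (h𝒜 _ hA₀).1⟩)
  rcases (normalClosure_le_normal (inf_le_right : I S ⊓ B ≤ B)).lt_or_eq with h1 | h1
  · have := ih _ h1 inferInstance (hB.to_le h1.le)
    rwa [show I S ⊓ normalClosure ((I S ⊓ B : Subgroup G) : Set G) = I S ⊓ B from
      le_antisymm (inf_le_inf_left _ h1.le) (le_inf inf_le_left le_normalClosure)] at this
  have hle : ∀ K : Subgroup G, K.Normal → I S ⊓ B ≤ K → B ≤ K := fun K _ h =>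
    h1.ge.trans (normalClosure_le_normal h)
  by_cases hb : B = ⊥
  · rw [hb, inf_bot_eq]; infer_instance
  haveI h2 := ih _ (Solv.commutator_lt_of_nilpotent hB.isNilpotent le_rfl le_rfl le_normalizer hb)
    inferInstance (hB.to_le (commutator_le_self B))
  obtain ⟨h3, h4⟩ := class_two_of hZc (hBS.trans hSZ) hle h2
  by_cases h5 : B ≤ I S
  · rwa [inf_eq_right.2 h5]
  obtain ⟨A, hA, -, h6, h7⟩ := hrep B hBS (commutator_eq_bot_iff_le_centralizer.2 h4) (by
    by_contra hc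
    push Not at hc
    exact h5 fun x hx => (hI _ _).2 fun A hA _ => hc A hA (h3.trans (hle' A hA)) hx)
  obtain ⟨L, hL⟩ : ∃ L, L = (normalizer ((I S ⊓ B : Subgroup G) : Set G)).normalCore := ⟨_, rfl⟩
  haveI hLn : L.Normal := hL ▸ inferInstance
  have hL1 : L ≤ normalizer ((I S ⊓ B : Subgroup G) : Set G) := hL ▸ normalCore_le _
  have hAL : A ≤ L := by
    intro a ha
    have h5 : ⁅⁅B, A⁆, A⁆ = ⊥ := commutator_eq_bot_iff_le_centralizer.2
      ((Comp.commutator_le_right_of_le_normalizer h7).trans (comm_iff_le_centralizer.1 (h𝒜 A hA).2))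
    have h6 := IsPStableOn.res_le (hst B hB) (quad_mono le_rfl (zpowers_le.2 ha) h5)
    rw [hL]
    exact normal_le_normalCore.2 ((isSyl_top S).le_of_res_le le_top le_normalizer_of_normal
      (h6.trans ((centralizer_le (inf_le_right : I S ⊓ B ≤ B)).trans (centralizer_le_normalizer _)))
      (inf_le_left.trans (Solv.le_normalizer_inf hSZ le_normalizer_of_normal))) (subset_normalClosure rfl)
  have hAQ : A ≤ S.1 ⊓ L := le_inf (h𝒜 A hA).1 hAL
  refine absurd (h1.ge.trans ((closure_le _).2 fun x hx => ?_)) h6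
  obtain ⟨a, ha, hc⟩ := Group.mem_conjugatesOfSet_iff.1 hx
  obtain ⟨g, rfl⟩ := isConj_iff.1 hc
  obtain ⟨m, hm, k, hk, rfl⟩ := (isSyl_inf_normal S L).frattini' (le_normalizer_of_normal (mem_top g))
  rw [show m * k * a * (m * k)⁻¹ = m * (k * a * k⁻¹) * m⁻¹ by group]
  exact (hI _ _).1 (conj_mem_of_mem_normalizer (hinv _ inf_le_left ⟨A, hA, hAQ⟩ hm)
    ((hI _ _).2 fun A' hA' _ => hle' A' hA' (conj_mem_of_mem_normalizer (hL1 hk) ha).1)) A hA hAQ

theorem abs_normal (hc : centralizer (pCore p G : Set G) ≤ pCore p G)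
    (hst : ∀ (P : Subgroup G) [P.Normal], IsPGroup p P → IsPStableOn p P) (S : Sylow p G)
    {𝒜 : Set (Subgroup G)} (h𝒜 : ∀ A ∈ 𝒜, A ≤ S ∧ IsMulCommutative A)
    {I : Subgroup G → Subgroup G} (hI : ∀ Q x, x ∈ I Q ↔ ∀ A ∈ 𝒜, A ≤ Q → x ∈ A) (hne : 𝒜.Nonempty)
    (hinv : ∀ Q : Subgroup G, Q ≤ S → (∃ A ∈ 𝒜, A ≤ Q) → normalizer (Q : Set G) ≤ normalizer (I Q : Set G))
    (hrep : ∀ B : Subgroup G, B ≤ S → ⁅⁅B, B⁆, B⁆ = ⊥ → (∃ A ∈ 𝒜, ⁅B, B⁆ ≤ A ∧ ¬ B ≤ A) →
      ∃ A ∈ 𝒜, ⁅B, B⁆ ≤ A ∧ ¬ B ≤ A ∧ B ≤ normalizer (A : Set G)) : (I S).Normal := by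
  have := abs_inf hst S h𝒜 hI hne hinv hrep _ inferInstance (Solv.isPGroup_pCore p G)
  obtain ⟨A₀, hA₀⟩ := hne
  rwa [inf_eq_left.2 (mem_pCore_of_stable hc (hst _ (Solv.isPGroup_pCore p G))
    (Solv.isMulCommutative_of_le (fun x hx => (hI _ _).1 hx A₀ hA₀ (h𝒜 _ hA₀).1) (h𝒜 _ hA₀).2)
    ((Solv.pCore_le_sylow S).trans
      (le_normalizer.trans (hinv _ le_rfl ⟨A₀, hA₀, (h𝒜 _ hA₀).1⟩))))] at this

end Cfsg.Agent.Transfer
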