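import Cfsg.Agent.Lib.Fusion.SSol

/-! Automorphism groups of abelian and metacyclic `p`-groups. -/

set_option autoImplicit false
set_option linter.unusedSectionVars false
set_option linter.unusedVariables false
open Cfsg

namespace Cfsg.Agent.SSol

open Subgroup Cfsg.Agent.BG Cfsg.Agent.Fusion Cfsg.Agent.MCyc
open scoped commutatorElement

universe u
variable {G : Type u} [Group G] [Finite G] {p : ℕ} [hp : Fact p.Prime]

open SemidirectProduct in
theorem ae_of' {X : Type u} [Group X] [Finite X] (hX : IsPGroup p X)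
    (h : ∀ H : Subgroup (MulAut X), ∃ (m : ℕ) (U : ℕ → Subgroup X), U 0 ≤ frattini X ∧ U m = ⊤ ∧
      (∀ k, (U k).Normal ∧ ∀ h ∈ H, ∀ u ∈ U k, h u ∈ U k) ∧ ∀ k, ∃ x, U (k + 1) = U k ⊔ zpowers x) :
    AE p X := ae_of hX fun H _ => by
  obtain ⟨m, U, h0, hm, h1, h2⟩ := h H
  have hn : ∀ k, ((U k).map (inl : X →* X ⋊[H.subtype] H)).Normal := fun k => ⟨by
    rintro _ ⟨u, hu, rfl⟩ g
    refine ⟨_, (h1 k).1.conj_mem _ ((h1 k).2 g.right g.right.2 u hu) g.left, ?_⟩
    conv_rhs => rw [← inl_left_mul_inr_right g]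
    rw [map_mul, map_mul, show g.right.1 u = H.subtype g.right u from rfl, inl_aut, map_inv, map_inv]
    group⟩
  refine ⟨(U 0).map inl, ?_, ?_⟩
  · refine (map_mono h0).trans ?_
    rw [← (inl : X →* X ⋊[H.subtype] H).subtype_comp_rangeRestrict, ← map_map]
    exact map_mono (Solv.map_frattini_le (MonoidHom.rangeRestrict_surjective _))
  · rw [MonoidHom.range_eq_map, ← hm]
    clear hm
    induction m with
    | zero => exact .base (hn 0)
    | succ m ih =>
      obtain ⟨x, e⟩ := h2 m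
      have := hn (m + 1)
      rw [e, Subgroup.map_sup, MonoidHom.map_zpowers] at this ⊢
      exact .step _ ih this

section NotAE

variable {Z H : Type*} [CommGroup Z] [Group H]

/-- a rotation of order four -/
def rho : MulAut ((Z × Z) × H) where
  toFun x := ((x.1.2, x.1.1⁻¹), x.2)
  invFun x := ((x.1.2⁻¹, x.1.1), x.2)
  left_inv x := by simp
  right_inv x := by simp
  map_mul' x y := by simp [mul_comm]

/-- the swap -/
def swp : MulAut ((Z × Z) × H) where
  toFun x := ((x.1.2, x.1.1), x.2)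
  invFun x := ((x.1.2, x.1.1), x.2)
  left_inv x := rfl
  right_inv x := rfl
  map_mul' x y := rfl

/-- a rotation of order three -/
def tau : MulAut ((Z × Z) × H) where
  toFun x := ((x.1.2, (x.1.1 * x.1.2)⁻¹), x.2)
  invFun x := (((x.1.1 * x.1.2)⁻¹, x.1.1), x.2)
  left_inv x := by simp
  right_inv x := by simp
  map_mul' x y := by simp [mul_comm, mul_left_comm, mul_assoc]

theorem not_ae [Finite Z] [Finite H] {z : Z} (h1 : z ≠ 1) {n : ℕ} (h2 : z ^ p ^ n = 1) :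
    ¬ AE p ((Z × Z) × H) := fun h => by
  by_cases hp2 : p = 2
  · subst hp2
    have e : (tau : MulAut ((Z × Z) × H)) ^ 3 = 1 := MulEquiv.ext fun x => by
      simp [pow_succ, tau]
    have := (h (zpowers tau) (by
      rw [Nat.card_zpowers]
      exact Nat.Coprime.coprime_dvd_left (orderOf_dvd_of_pow_eq_one e) (by decide))).2 _
      (mem_zpowers _)
    exact h1 (congrArg (fun a : MulAut ((Z × Z) × H) => (a ((z, 1), 1)).1.1) this).symm
  have e1 : (rho : MulAut ((Z × Z) × H)) ^ 2 ^ 2 = 1 := MulEquiv.ext fun x => by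
    simp [pow_succ, rho]
  have e2 : (swp : MulAut ((Z × Z) × H)) ^ 2 ^ 1 = 1 := rfl
  have pg : ∀ {a : MulAut ((Z × Z) × H)} {k : ℕ}, a ^ 2 ^ k = 1 → IsPGroup 2 (zpowers a) :=
    fun h => Comp.isPGroup_of_forall fun x hx => ⟨_, Solv.pow_eq_one_of_mem_zpowers h hx⟩
  obtain ⟨k, hk⟩ := IsPGroup.iff_card.1 (Comp.isPGroup_sup (zpowers_le.2 (Solv.mem_normalizer_zpowers
    (show swp * rho * swp⁻¹ ∈ zpowers (rho : MulAut ((Z × Z) × H)) from inv_mem (mem_zpowers _))))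
    (pg e2) (pg e1))
  have := (h _ (hk ▸ ((Nat.coprime_primes Nat.prime_two hp.out).2 (Ne.symm hp2)).pow_left k)).1.is_comm.comm
    ⟨_, mem_sup_left (mem_zpowers _)⟩ ⟨_, mem_sup_right (mem_zpowers _)⟩
  have e3 : z⁻¹ = z :=
    congrArg (fun a : MulAut ((Z × Z) × H) => (a ((z, 1), 1)).1.1) (congrArg Subtype.val this)
  have e5 := pow_gcd_eq_one.2 ⟨show z ^ 2 = 1 by rw [sq]; nth_rw 1 [← e3]; exact inv_mul_cancel z, h2⟩
  rw [((Nat.coprime_primes Nat.prime_two hp.out).2 (Ne.symm hp2)).pow_right n, pow_one] at e5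
  exact h1 e5

theorem not_ae' [Finite H] {n : ℕ} (hn : 0 < n) {X : Type*} [Group X] (e : X ≃*
    (Multiplicative (ZMod (p ^ n)) × Multiplicative (ZMod (p ^ n))) × H) : ¬ AE p X := fun h =>
  haveI : Fact (1 < p ^ n) := ⟨Nat.one_lt_pow hn.ne' hp.out.one_lt⟩
  not_ae (z := Multiplicative.ofAdd 1) (n := n) (by simp) (by
    rw [← ofAdd_nsmul]; simp) (h.equiv e)

end NotAE

theorem iso_two {a b : G} {n : ℕ} (c : Commute a b) (dis : zpowers a ⊓ zpowers b = ⊥)
    (ha : orderOf a = n) (hb : orderOf b = n) : Nonempty ((zpowers a ⊔ zpowers b : Subgroup G) ≃*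
      Multiplicative (ZMod n) × Multiplicative (ZMod n)) := by
  have hc : ∀ (x : zpowers a) (y : zpowers b),
      Commute ((zpowers a).subtype x) ((zpowers b).subtype y) :=
    fun x y => Solv.Commute.of_mem_zpowers c x.2 y.2
  have φ := MonoidHom.ofInjective ((MonoidHom.noncommCoprod_injective _ _ hc).2
    ⟨subtype_injective _, subtype_injective _, by
      rw [range_subtype, range_subtype, disjoint_iff, dis]⟩)
  rw [MonoidHom.noncommCoprod_range, range_subtype, range_subtype] at φ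
  have : NeZero n := ⟨ha ▸ (orderOf_pos a).ne'⟩
  have key : ∀ a : G, orderOf a = n → Nonempty (zpowers a ≃* Multiplicative (ZMod n)) :=
    fun a ha => ⟨mulEquivOfCyclicCardEq (by simp [ha])⟩
  exact ⟨φ.symm.trans ((key a ha).some.prodCongr (key b hb).some)⟩

theorem ae_gen {Y : Type u} [CommGroup Y] [Finite Y] (hY : IsPGroup p Y) {ι : Type} [Fintype ι]
    (g : ι → Y) (e : ι → ℕ) (he : ∀ i, orderOf (g i) = p ^ e i) (inj : Function.Injective e)
    (dec : ∀ y, ∃ f : ι → Y, (∀ i, f i ∈ zpowers (g i)) ∧ ∏ i, f i = y ∧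
      ∀ n : ℕ, y ^ n = 1 → ∀ i, f i ^ n = 1) : AE p Y := by
  obtain ⟨m, hm⟩ := IsPGroup.iff_card.1 hY
  let K : ℕ → Subgroup Y := fun k => (powMonoidHom (p ^ k)).ker
  have mK : ∀ {k y}, y ∈ K k ↔ y ^ p ^ k = 1 := Iff.rfl
  clear_value K
  refine ae_of' hY fun H => ⟨m, fun k => frattini Y ⊔ K k, sup_le le_rfl fun y hy => ?_,
    (eq_top_iff' _).2 fun y => mem_sup_right (mK.2 (hm ▸ pow_card_eq_one')), fun k =>
    ⟨inferInstance, fun a _ => sup_le (c := (frattini Y ⊔ K k).comap a.toMonoidHom)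
      (fun y hy => mem_sup_left (characteristic_iff_le_comap.1 inferInstance a hy))
      fun y hy => mem_sup_right (mK.2 (show a y ^ p ^ k = 1 by
        rw [← map_pow, mK.1 hy, map_one]))⟩, fun k => ?_⟩
  · rw [show y = 1 by simpa using mK.1 hy]; exact one_mem _
  obtain ⟨x, h1, h2⟩ : ∃ x : Y, x ^ p ^ (k + 1) = 1 ∧ ∀ i, e i = k + 1 → x = g i := by
    by_cases h : ∃ i, e i = k + 1
    · obtain ⟨i, hi⟩ := h
      exact ⟨g i, by rw [← hi, ← he, pow_orderOf_eq_one], fun j hj => by rw [inj (hi.trans hj.symm)]⟩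
    · exact ⟨1, one_pow _, fun i hi => absurd ⟨i, hi⟩ h⟩
  refine ⟨x, le_antisymm (sup_le (le_sup_of_le_left le_sup_left) fun y hy => ?_)
    (sup_le (sup_le_sup_left (fun y hy => mK.2 (by
      rw [pow_succ, pow_mul, mK.1 hy, one_pow])) _) (zpowers_le.2 (mem_sup_right (mK.2 h1))))⟩
  obtain ⟨f, f1, rfl, f2⟩ := dec y
  refine prod_mem fun i _ => ?_
  rcases lt_trichotomy (e i) (k + 1) with h3 | h3 | h3
  · exact mem_sup_left (mem_sup_right (zpowers_le.2 (mK.2
      (orderOf_dvd_iff_pow_eq_one.1 (he i ▸ pow_dvd_pow p (by omega)))) (f1 i)))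
  · exact mem_sup_right (h2 i h3 ▸ f1 i)
  · refine mem_sup_left (mem_sup_left (zpowers_le.2 (Solv.pow_mem_frattini hY (g i)) (mem_pow
      (hY.to_subgroup _) (f1 i) (mK.2 (f2 _ (mK.1 hy) i)) fun h4 => ?_)))
    have := orderOf_dvd_iff_pow_eq_one.2 (mK.1 h4)
    rw [he, Nat.pow_dvd_pow_iff_le_right hp.out.one_lt] at this
    omega

theorem split_two {Y : Type u} [CommGroup Y] [Finite Y] {A B : Type*} [Group A] [Group B]
    (s : A →* Y) (t : B →* Y) (s' : Y →* A) (t' : Y →* B) (h1 : ∀ a, s' (s a) = a)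
    (h2 : ∀ b, t' (t b) = b) (h3 : ∀ a, t' (s a) = 1) (h4 : ∀ b, s' (t b) = 1) {a : A} {b : B}
    (ha : ∀ x, x ∈ zpowers a) (hb : ∀ x, x ∈ zpowers b) {n : ℕ} (oa : orderOf (s a) = n)
    (ob : orderOf (t b) = n) : Nonempty (Y ≃* (Multiplicative (ZMod n) × Multiplicative (ZMod n)) ×
      (s'.ker ⊓ t'.ker : Subgroup Y)) := by
  have g1 : ∀ y ∈ zpowers (s a), ∃ x, s x = y := by
    rintro _ ⟨k, rfl⟩; exact ⟨_, map_zpow _ _ _⟩
  have g2 : ∀ y ∈ zpowers (t b), ∃ x, t x = y := by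
    rintro _ ⟨k, rfl⟩; exact ⟨_, map_zpow _ _ _⟩
  obtain ⟨ψ⟩ := iso_two (Commute.all (s a) (t b)) (eq_bot_iff.2 fun y hy => by
    obtain ⟨x, rfl⟩ := g1 y hy.1
    obtain ⟨z, hz⟩ := g2 _ hy.2
    rw [← h1 x, ← hz, h4, map_one]; exact one_mem _) oa ob
  obtain ⟨χ⟩ := iso_prod (A := zpowers (s a) ⊔ zpowers (t b)) (B := s'.ker ⊓ t'.ker)
    (fun a _ b _ => Commute.all a b) (eq_bot_iff.2 fun y hy => by
      obtain ⟨_, a1, _, b1, rfl⟩ := mem_sup.1 hy.1
      obtain ⟨x, rfl⟩ := g1 _ a1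
      obtain ⟨z, rfl⟩ := g2 _ b1
      have a2 : s' (s x * t z) = 1 := hy.2.1
      have b2 : t' (s x * t z) = 1 := hy.2.2
      rw [map_mul, h1, h4, mul_one] at a2
      rw [map_mul, h2, h3, one_mul] at b2
      simp [a2, b2]) ((eq_top_iff' _).2 fun y => by
      have := mul_mem_sup (mul_mem_sup (MonoidHom.map_zpowers s a ▸ mem_map_of_mem s (ha (s' y)))
        (MonoidHom.map_zpowers t b ▸ mem_map_of_mem t (hb (t' y))))
        (show (s (s' y) * t (t' y))⁻¹ * y ∈ s'.ker ⊓ t'.ker from ⟨by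
          simp [h1, h4], by simp [h2, h3]⟩)
      rwa [mul_inv_cancel_left] at this)
  exact ⟨χ.trans (ψ.prodCongr (MulEquiv.refl _))⟩

theorem ae_pi {ι : Type} [Fintype ι] [DecidableEq ι] {M : ι → Type} [∀ i, CommGroup (M i)]
    [∀ i, Finite (M i)] (γ : ∀ i, M i) (hγ : ∀ i a, a ∈ zpowers (γ i)) (h0 : ∀ i, γ i ≠ 1)
    (hY : IsPGroup p (∀ i, M i))
    (h : ¬ ∃ (n : ℕ) (H : Type) (_ : CommGroup H), 0 < n ∧ Nonempty ((∀ i, M i) ≃*
      (Multiplicative (ZMod (p ^ n)) × Multiplicative (ZMod (p ^ n))) × H)) : AE p (∀ i, M i) := by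
  let s : ∀ i, M i →* ∀ i, M i := MonoidHom.mulSingle M
  have s3 : ∀ i a, s i a i = a := fun i a => Pi.mulSingle_eq_same i a
  choose e he using fun i => IsPGroup.iff_card.1 (hY.to_subgroup (zpowers (s i (γ i))))
  simp only [Nat.card_zpowers] at he
  refine ae_gen hY _ e he (fun i j hij => by_contra fun ne => h ⟨e i, _, inferInstance,
    Nat.pos_of_ne_zero fun e0 => h0 i ?_, split_two (s i) (s j) (Pi.evalMonoidHom M i)
      (Pi.evalMonoidHom M j) (s3 i) (s3 j) (fun a => Pi.mulSingle_eq_of_ne (Ne.symm ne) a)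
      (fun a => Pi.mulSingle_eq_of_ne ne a) (hγ i) (hγ j) (he i) (hij ▸ he j)⟩) fun y =>
    ⟨fun i => s i (y i), fun i => MonoidHom.map_zpowers (s i) (γ i) ▸ mem_map_of_mem _ (hγ i _),
      Finset.univ_prod_mulSingle y, fun n hn i => by
        rw [← map_pow, show y i ^ n = 1 from congrFun hn i, map_one]⟩
  rw [← s3 i (γ i), show s i (γ i) = 1 from orderOf_eq_one_iff.1 (by rw [he, e0, pow_zero])]; rfl

theorem ae_ab {X : Type u} [CommGroup X] [Finite X] (hX : IsPGroup p X)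
    (h : ¬ ∃ (n : ℕ) (H : Type) (_ : CommGroup H), 0 < n ∧ Nonempty (X ≃*
      (Multiplicative (ZMod (p ^ n)) × Multiplicative (ZMod (p ^ n))) × H)) : AE p X := by
  classical
  obtain ⟨ι, _, n, hn, ⟨φ⟩⟩ := CommGroup.equiv_prod_multiplicative_zmod_of_finite X
  have : ∀ i, Fact (1 < n i) := fun i => ⟨hn i⟩
  have : ∀ i, NeZero (n i) := fun i => ⟨by have := hn i; omega⟩
  exact (ae_pi (M := fun i => Multiplicative (ZMod (n i))) (fun i => Multiplicative.ofAdd 1)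
    (fun i a => ⟨(a.toAdd.val : ℕ), by simp only [zpow_natCast]; rw [← ofAdd_nsmul]; simp⟩)
    (fun i => by simp) (hX.of_equiv φ) fun ⟨n, H, _, h1, ⟨ψ⟩⟩ =>
      h ⟨n, H, inferInstance, h1, ⟨φ.trans ψ⟩⟩).equiv φ.symm

theorem ae_two (hG : IsPGroup p G)
    (h : ∀ H : Subgroup (MulAut G), ∃ x y : G, (∀ h ∈ H, h x ∈ frattini G ⊔ zpowers x) ∧
      frattini G ⊔ zpowers x ⊔ zpowers y = ⊤) : AE p G := ae_of' hG fun H => by
  obtain ⟨x, y, h1, h2⟩ := h H
  refine ⟨2, fun k => match k with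
    | 0 => frattini G
    | 1 => frattini G ⊔ zpowers x
    | _ => ⊤, le_rfl, rfl, ?_, ?_⟩
  · rintro (_ | _ | k)
    · exact ⟨inferInstanceAs (frattini G).Normal, fun a _ =>
        characteristic_iff_le_comap.1 (inferInstanceAs (frattini G).Characteristic) a⟩
    · exact ⟨Normal.of_commutator_le G ((Solv.commutator_le_frattini_of_isPGroup hG).trans
        le_sup_left), fun a ha => sup_le (c := (frattini G ⊔ zpowers x).comap a.toMonoidHom)
        (fun y hy => mem_sup_left (characteristic_iff_le_comap.1 inferInstance a hy))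
        (zpowers_le.2 (h1 a ha))⟩
    · exact ⟨inferInstanceAs (⊤ : Subgroup G).Normal, fun _ _ _ _ => trivial⟩
  · rintro (_ | _ | k)
    exacts [⟨x, rfl⟩, ⟨y, h2.symm⟩, ⟨1, by simp⟩]

theorem ae_meta (hp2 : p ≠ 2) (hG : IsPGroup p G) (hm : IsMetacyclic G)
    (h : ¬ ∃ n : ℕ, 0 < n ∧ Nonempty (G ≃* Multiplicative (ZMod (p ^ n)) ×
      Multiplicative (ZMod (p ^ n)))) : AE p G := ae_two hG fun H => by
  obtain ⟨a, b₀, hb₀, e₀⟩ := meta_iff.2 (meta_of_inj (⊤ : Subgroup G).subtype (subtype_injective _) hm)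
  by_cases h1 : ∀ h ∈ H, h a ∈ frattini G ⊔ zpowers a
  · exact ⟨a, b₀, h1, by rw [sup_assoc, e₀, sup_top_eq]⟩
  push Not at h1
  obtain ⟨g, -, m1⟩ := h1
  set b := g a with hb
  have pg : ∀ x : G, IsPGroup p (zpowers x) := fun x => hG.to_subgroup _
  have na : (zpowers a).Normal := normalizer_eq_top_iff.1 (eq_top_iff.2
    (e₀ ▸ sup_le le_normalizer (zpowers_le.2 hb₀)))
  have nb : (zpowers b).Normal := MonoidHom.map_zpowers g.toMonoidHom a ▸ na.map _ g.surjective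
  have e : zpowers a ⊔ zpowers b = ⊤ := by
    refine Solv.eq_top_of_sup_le_frattini le_rfl (eq_top_iff.2 ?_)
    obtain ⟨s, hs, t, ht, e1⟩ := (Solv.mem_sup_of_le_normalizer' (zpowers_le.2 hb₀)).1
      (e₀.ge (mem_top b))
    rw [← e₀]
    refine sup_le (le_sup_of_le_left le_sup_left) (zpowers_le.2 (mem_sup_left (by_contra fun x => ?_)))
    have := zpowers_le.2 (Solv.pow_mem_frattini hG b₀) (mem_pow (pg _) ht (by
      simpa [e1] using mul_mem_sup (inv_mem hs) (mem_zpowers b)) x)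
    exact m1 (e1 ▸ mul_mem (mem_sup_right hs) (mem_sup_left this))
  have aP : a ∉ frattini G := fun x =>
    m1 (mem_sup_left (characteristic_iff_le_comap.1 inferInstance g x))
  obtain ⟨n, ha⟩ : ∃ n, orderOf a = p ^ (n + 1) := by
    obtain ⟨_ | n, hn⟩ := IsPGroup.iff_card.1 (pg a) <;> rw [Nat.card_zpowers] at hn
    · exact absurd (by rw [orderOf_eq_one_iff.1 (hn.trans (pow_zero p))]; exact one_mem _) aP
    · exact ⟨n, hn⟩
  have ob : orderOf b = p ^ (n + 1) := by rw [← ha]; exact g.orderOf_eq a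
  have D1 : ⁅(⊤ : Subgroup G), ⊤⁆ ≤ zpowers a := der_le_zpowers (nm_top _ b) e
  have D2 : ⁅(⊤ : Subgroup G), ⊤⁆ ≤ zpowers b := der_le_zpowers (nm_top _ a) (sup_comm (zpowers a) _ ▸ e)
  have DC : ∀ w ∈ ⁅(⊤ : Subgroup G), ⊤⁆, ∀ x, Commute x w := fun w hw x =>
    mem_centralizer_singleton_iff.1 ((e.ge.trans (sup_le (c := C1(w)) (zpowers_le.2
      (mem_centralizer_singleton_iff.2 (Solv.commute_of_mem_zpowers (D1 hw)).symm.eq)) (zpowers_le.2
      (mem_centralizer_singleton_iff.2 (Solv.commute_of_mem_zpowers (D2 hw)).symm.eq)))) (mem_top x))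
  have DN : ∀ w : G, w ∈ ⁅(⊤ : Subgroup G), (⊤ : Subgroup G)⁆ → w ^ p ^ n = 1 := fun w hw =>
    Solv.pow_eq_one_of_mem_zpowers (show (a ^ p) ^ p ^ n = 1 by
      rw [← pow_mul, ← pow_succ', ← ha, pow_orderOf_eq_one]) (mem_pow (pg a) (D1 hw) (Solv.commutator_le_frattini_of_isPGroup hG hw) aP)
  have mp : ∀ k, n ≤ k → ∀ x y : G, (x * y) ^ p ^ k = x ^ p ^ k * y ^ p ^ k := fun k hk x y => by
    have := commutator_mem_commutator (mem_top y⁻¹) (mem_top x⁻¹)
    obtain ⟨j, hj⟩ := ((hp.out.odd_of_ne_two hp2).pow (n := k))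
    rw [Solv.mul_pow_of_comm (DC _ this x) (DC _ this y) (by simp only [commutatorElement_def]; group),
      Nat.choose_two_right, show p ^ k - 1 = 2 * j by omega, mul_left_comm,
      Nat.mul_div_cancel_left _ two_pos, pow_mul _ (p ^ k), orderOf_dvd_iff_pow_eq_one.1
        ((orderOf_dvd_of_pow_eq_one (DN _ this)).trans (pow_dvd_pow p hk)), one_pow, mul_one]
  let f : ∀ k, n ≤ k → G →* G := fun k hk => MonoidHom.mk' (· ^ p ^ k) (mp k hk)
  have AK : ∀ x : G, x ^ p ^ (n + 1) = 1 := fun x => (e.ge.trans (sup_le (c := (f _ n.le_succ).ker)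
    (zpowers_le.2 (ha ▸ pow_orderOf_eq_one a :)) (zpowers_le.2 (ob ▸ pow_orderOf_eq_one b :))))
    (mem_top x)
  have PK : frattini G ≤ (f n le_rfl).ker := Solv.frattini_le_of_commutator_le_of_pow_mem (p := p)
    DN fun x => show (x ^ p) ^ p ^ n = 1 by rw [← pow_mul, ← pow_succ', AK]
  have aK : a ∉ (f n le_rfl).ker := fun (x : a ^ p ^ n = 1) => by
    have := orderOf_dvd_of_pow_eq_one x
    rw [ha, Nat.pow_dvd_pow_iff_le_right hp.out.one_lt] at this
    omega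
  by_cases dis : zpowers a ⊓ zpowers b = ⊥
  · obtain ⟨φ⟩ := iso_two (commutatorElement_eq_one_iff_commute.1 (mem_bot.1 (dis.le
      ⟨D1 (commutator_mem_commutator (mem_top _) (mem_top _)),
        D2 (commutator_mem_commutator (mem_top _) (mem_top _))⟩))) dis ha ob
    rw [e] at φ
    exact absurd ⟨n + 1, n.succ_pos, ⟨topEquiv.symm.trans φ⟩⟩ h
  obtain ⟨t, ht⟩ := exists_prime_orderOf_dvd_card' p
    (((pg a).to_le inf_le_left).card_eq_or_dvd.resolve_left (by rwa [card_eq_one]))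
  have t1 : (t : G) ≠ 1 := fun e => hp.out.ne_one (by rw [← ht, ← orderOf_coe, e, orderOf_one])
  have t2 : (t : G) ^ p = 1 := by rw [← ht, ← orderOf_coe, pow_orderOf_eq_one]
  obtain ⟨j, hj⟩ := zpowers_le.2 (Solv.mem_zpowers_pow_of_pow_eq_one hp.out ha t.2.1 t2) (mem_zp
    (by rw [← pow_mul, ← pow_succ, AK]) (Solv.mem_zpowers_pow_of_pow_eq_one hp.out ob t.2.2 t2) t1)
  have cK : b * a ^ (-j) ∈ (f n le_rfl).ker := by
    rw [MonoidHom.mem_ker, map_mul, map_zpow, zpow_neg]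
    exact mul_inv_eq_one.2 hj.symm
  have e2 : frattini G ⊔ zpowers (b * a ^ (-j)) ⊔ zpowers a = ⊤ := eq_top_iff.2 (e ▸ sup_le le_sup_right
    (zpowers_le.2 (by
      simpa using mul_mem_sup (mem_sup_right (S := frattini G) (mem_zpowers (b * a ^ (-j))))
        (zpow_mem (mem_zpowers a) j))))
  refine ⟨_, a, fun g _ => ?_, e2⟩
  have h1 : g (b * a ^ (-j)) ∈ (f n le_rfl).ker := show g _ ^ p ^ n = 1 by
    rw [← map_pow, show (b * a ^ (-j)) ^ p ^ n = 1 from cK, map_one]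
  obtain ⟨s, hs, t, ht, e3⟩ := (Solv.mem_sup_of_le_normalizer fun y _ => nm_top _ y).1
    (e2.ge (mem_top (g (b * a ^ (-j)))))
  rw [e3] at h1 ⊢
  exact mul_mem hs (mem_sup_left (zpowers_le.2 (Solv.pow_mem_frattini hG a) (mem_pow (pg a) ht (by
    simpa using mul_mem (inv_mem (sup_le PK (zpowers_le.2 cK) hs)) h1) aK)))

end Cfsg.Agent.SSol
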