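import Cfsg.Agent.Lib.Fusion.SSol2
import Cfsg.Agent.Lib.Perm.GL2b
import Cfsg.Agent.Lib.Transfer.MC
import Cfsg.Agent.Lib.Transfer.SL2
import Cfsg.Agent.S0261

/-! Sylow `2`-subgroups of `GL₂(q)` and realizations of metacyclic `2`-groups. -/

set_option autoImplicit false
set_option linter.unusedSectionVars false
set_option linter.unusedVariables false
open Cfsg

namespace Cfsg.Agent.SSol

open Subgroup Cfsg.Agent.BG Cfsg.Agent.Fusion Cfsg.Agent.MCyc
open scoped commutatorElement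

universe u
variable {G : Type u} [Group G] [Finite G] {p : ℕ} [hp : Fact p.Prime]

theorem card_sylow (P : Sylow p G) {k m : ℕ} (h : Nat.card G = p ^ k * m) (hm : ¬ p ∣ m) :
    Nat.card P.1 = p ^ k := by
  have h0 : m ≠ 0 := fun e => hm (e ▸ dvd_zero p)
  rw [P.card_eq_multiplicity, h, Nat.factorization_mul (pow_pos hp.out.pos k).ne' h0,
    Finsupp.add_apply, Nat.factorization_eq_zero_of_not_dvd hm, hp.out.factorization_pow]
  simp

theorem exists_emb (P : Sylow p G) {H : Subgroup G} (hH : IsPGroup p H) :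
    ∃ f : H →* P.1, Function.Injective f := by
  obtain ⟨Q, hQ⟩ := hH.exists_le_sylow
  exact ⟨(Q.equiv P).toMonoidHom.comp (inclusion hQ),
    (Q.equiv P).injective.comp (inclusion_injective hQ)⟩

theorem pg_zpowers {a : G} {k : ℕ} (h : orderOf a = p ^ k) : IsPGroup p (zpowers a) :=
  IsPGroup.of_card ((Nat.card_zpowers a).trans h)

theorem exists_orderOf_eq_of_dvd_card [IsCyclic G] {n : ℕ} (h : n ∣ Nat.card G) :
    ∃ x : G, orderOf x = n := by
  obtain ⟨g, hg⟩ := IsCyclic.exists_ofOrder_eq_natCard (α := G)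
  exact ⟨_, orderOf_pow_orderOf_div (orderOf_pos g).ne' (hg ▸ h)⟩

open Perm.GL2 in
theorem gl2_qd {F : Type*} [Field F] [Fintype F] (P : Sylow 2 (GL (Fin 2) F)) {k u : ℕ} (hk : 2 ≤ k)
    (h : Fintype.card F + 1 = 2 ^ k * u) (hu : ¬ 2 ∣ u) : Nat.card P.1 = 2 ^ (k + 2) ∧
      ∃ x y : P.1, orderOf x = 2 ^ (k + 1) ∧ orderOf y = 2 ∧ y * x * y⁻¹ = x ^ (2 ^ k - 1) := by
  obtain ⟨v, hv, hv'⟩ : ∃ v, Fintype.card F - 1 = 2 * v ∧ ¬ 2 ∣ v := by
    obtain ⟨k, rfl⟩ := Nat.exists_eq_add_of_le hk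
    rw [pow_add, mul_assoc] at h
    have : 0 < 2 ^ k * u := by omega
    exact ⟨2 * (2 ^ k * u) - 1, by omega, by omega⟩
  have hq : ¬ 2 ∣ Fintype.card F := by have := @Fintype.card_pos F _ _; omega
  refine ⟨card_sylow P (m := Fintype.card F * u * v ^ 2) (by rw [card_GL2, h, hv]; ring) (by
    simp [Nat.prime_two.dvd_mul, Nat.prime_two.prime.dvd_pow_iff_dvd, hq, hu, hv']), ?_⟩
  obtain ⟨e, he⟩ := exists_ell (F := F)
  obtain ⟨w, hw⟩ := exists_conj_bar he.not_scal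
  have := he.isCyclic
  have hc : Nat.card (cent e) = 2 ^ (k + 1) * (u * v) := by
    rw [he.card_cent, sq_sub_one_eq, h, hv]; ring
  obtain ⟨x', hx'⟩ := exists_orderOf_eq_of_dvd_card (G := cent e) (hc ▸ dvd_mul_right _ _)
  obtain ⟨x, hx⟩ := x'
  have ox : orderOf x = 2 ^ (k + 1) := by rw [← hx']; exact orderOf_coe (⟨x, hx⟩ : cent e)
  have h2 : (2 : F) ≠ 0 := two_ne_zero_of_odd (Nat.odd_iff.2 (Nat.two_dvd_ne_zero.1 hq))
  have d2 : Matrix.GeneralLinearGroup.det x ^ 2 = 1 := by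
    have a := orderOf_dvd_natCard (Matrix.GeneralLinearGroup.det x)
    rw [Nat.card_units, Nat.card_eq_fintype_card, hv] at a
    exact orderOf_dvd_iff_pow_eq_one.1 (Nat.Coprime.dvd_of_dvd_mul_right (Nat.Coprime.coprime_dvd_left
      (ox ▸ orderOf_map_dvd _ x) ((Nat.prime_two.coprime_iff_not_dvd.2 hv').pow_left _)) a)
  have d1 : Matrix.GeneralLinearGroup.det x ≠ 1 := fun d => by
    obtain ⟨s, rfl⟩ := exists_toGL' d
    have a := Solv.orderOf_dvd_card_of_mem (H := (cent e).comap Matrix.SpecialLinearGroup.toGL) hx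
    rw [he.card_comap, h, ← orderOf_injective _ Matrix.SpecialLinearGroup.toGL_injective, ox, pow_succ,
      Nat.mul_dvd_mul_iff_left (by positivity)] at a
    exact hu a
  obtain ⟨γ, hγ⟩ := (Subgroup.isCyclic_iff_exists_zpowers_eq_top _).1 this
  have e1 : x * bar x = x ^ 2 ^ k := Transfer.invol_eq_of_mem_zpowers
    (hγ ▸ mul_mem hx (bar_mem_cent hx)) (hγ ▸ pow_mem hx _) (by
      rw [mul_bar, orderOf_injective _ sc_injective]; exact orderOf_eq_prime d2 d1) (by
      rw [orderOf_pow' _ (by positivity), ox, Nat.gcd_eq_right (pow_dvd_pow 2 k.le_succ), pow_succ,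
        Nat.mul_div_cancel_left _ (by positivity)])
  have e2 : bar x = x ^ (2 ^ k - 1) := by
    rw [← mul_right_inj x, e1, ← pow_succ', Nat.sub_add_cancel Nat.one_le_two_pow]
  have w2 : w * w ∈ cent e := mem_cent.2 (by
    have := hw _ (bar_mem_cent (mem_cent.2 (rfl : e * e = e * e)))
    rw [bar_bar, ← hw e (mem_cent.2 rfl)] at this
    conv_rhs => rw [← this]
    group)
  obtain ⟨l, hl⟩ := isScal_iff_sc.1 (by_contra fun s => (he.of_mem_cent w2 s).ne_bar (by
    rw [← hw _ w2]; group))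
  obtain ⟨c, c1, c2⟩ := he.exists_det l⁻¹
  have y2 : (c * w) ^ 2 = 1 := by
    calc _ = c * (w * c * w⁻¹) * (w * w) := by rw [sq]; group
      _ = 1 := by rw [hw c c1, mul_bar, hl, c2, ← map_mul, inv_mul_cancel, map_one]
  have e3 : c * w * x * (c * w)⁻¹ = x ^ (2 ^ k - 1) := by
    calc _ = c * (w * x * w⁻¹) * c⁻¹ := by group
      _ = _ := by rw [hw x hx, cent_comm he.not_scal c1 (bar_mem_cent hx), mul_inv_cancel_right, e2]
  have oy : orderOf (c * w) = 2 := orderOf_eq_prime y2 fun e => by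
    rw [e, one_mul, inv_one, mul_one, ← e2] at e3
    rw [← e3, ← sq, pow_eq_pow_iff_modEq, ox] at e1
    have := Nat.ModEq.eq_of_lt_of_lt e1 (by
      calc 2 = 2 ^ 1 := rfl
        _ < _ := Nat.pow_lt_pow_right one_lt_two (by omega))
      (Nat.pow_lt_pow_right one_lt_two k.lt_succ_self)
    have := Nat.pow_right_injective le_rfl ((pow_one 2).trans this)
    omega
  obtain ⟨f, hf⟩ := exists_emb P (Solv.isPGroup_sup (pg_zpowers (k := 1) oy) (pg_zpowers ox)
    (zpowers_le.2 (Solv.mem_normalizer_zpowers (e3 ▸ pow_mem (mem_zpowers x) _))))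
  refine ⟨f ⟨x, mem_sup_right (mem_zpowers _)⟩, f ⟨_, mem_sup_left (mem_zpowers _)⟩, ?_, ?_, ?_⟩
  · rw [orderOf_injective f hf, ← orderOf_coe]; exact ox
  · rw [orderOf_injective f hf, ← orderOf_coe]; exact oy
  · rw [← map_inv, ← map_mul, ← map_mul, ← map_pow]; exact congrArg f (Subtype.ext e3)

open Perm.GL2 in
theorem gl2_wr {F : Type*} [Field F] [Fintype F] (P : Sylow 2 (GL (Fin 2) F))
    (h : Fintype.card F % 4 = 1) : IsWreathed P.1 := by
  classical
  obtain ⟨k, u, hu, e⟩ := Nat.exists_eq_pow_mul_and_not_dvd (card_sub_one_pos (F := F)).ne' 2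
    (by decide)
  have hk : 2 ≤ k := by
    rcases k with _ | _ | k <;> omega
  obtain ⟨v, hv, hv'⟩ : ∃ v, Fintype.card F + 1 = 2 * v ∧ ¬ 2 ∣ v :=
    ⟨(Fintype.card F + 1) / 2, by omega, by omega⟩
  refine ⟨k, hk, card_sylow P (m := Fintype.card F * v * u ^ 2) (by rw [card_GL2, e, hv]; ring) (by
    have : ¬ 2 ∣ Fintype.card F := by omega
    simp [Nat.prime_two.dvd_mul, Nat.prime_two.prime.dvd_pow_iff_dvd, this, hu, hv']), ?_⟩
  obtain ⟨ζ, hζ⟩ := exists_orderOf_eq_of_dvd_card (G := Fˣ) (n := 2 ^ k) (by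
    rw [Nat.card_units, Nat.card_eq_fintype_card, e]; exact dvd_mul_right _ _)
  let d : Fˣ × Fˣ →* GL (Fin 2) F := MonoidHom.mk' (fun a => up a.1 a.2 0) fun a b =>
    Units.ext (m2_ext_iff.2 (by simp [up, mul_apply2]))
  have hd : Function.Injective d := fun a b e => by
    have := m2_ext_iff.1 (congrArg Units.val e)
    simp only [d, up] at this
    exact Prod.ext (Units.ext (by simpa using this.1)) (Units.ext (by simpa using this.2.2.2))
  let z : GL (Fin 2) F := Matrix.GeneralLinearGroup.mkOfDetNeZero !![0, 1; 1, 0]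
    (by simp [Matrix.det_fin_two])
  have z2 : z * z = 1 := Units.ext (m2_ext_iff.2 (by simp [z, mul_apply2]))
  have zd : ∀ a b, z * d (a, b) * z⁻¹ = d (b, a) := fun a b => by
    rw [mul_inv_eq_iff_eq_mul]
    exact Units.ext (m2_ext_iff.2 (by simp [z, d, up, mul_apply2]))
  have ox : orderOf (d (ζ, 1)) = 2 ^ k := by rw [orderOf_injective d hd, Prod.orderOf_mk]; simpa
  have oy : orderOf (d (1, ζ)) = 2 ^ k := by rw [orderOf_injective d hd, Prod.orderOf_mk]; simpa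
  have oz : orderOf z = 2 := orderOf_eq_prime (by rw [sq, z2]) fun e => by
    simpa [z] using (m2_ext_iff.1 (congrArg Units.val e)).1
  have c : Commute (d (ζ, 1)) (d (1, ζ)) := (Commute.all _ _).map d
  obtain ⟨f, hf⟩ := exists_emb P (Solv.isPGroup_sup (pg_zpowers (k := 1) oz) (Solv.isPGroup_sup
    (pg_zpowers ox) (pg_zpowers oy) (zpowers_le.2 (Solv.mem_normalizer_zpowers (by
      rw [c.eq]; simp)))) (zpowers_le.2 (mem_normalizer_of_finite fun y hy => sup_le
        (c := (zpowers (d (ζ, 1)) ⊔ zpowers (d (1, ζ))).comap (MulAut.conj z).toMonoidHom)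
        (zpowers_le.2 (mem_sup_right ⟨1, (zpow_one _).trans (zd _ _).symm⟩))
        (zpowers_le.2 (mem_sup_left ⟨1, (zpow_one _).trans (zd _ _).symm⟩)) hy)))
  refine ⟨f ⟨_, mem_sup_right (mem_sup_left (mem_zpowers _))⟩,
    f ⟨_, mem_sup_right (mem_sup_right (mem_zpowers _))⟩, f ⟨_, mem_sup_left (mem_zpowers _)⟩,
    ?_, ?_, ?_, ?_, ?_⟩
  · rw [orderOf_injective f hf, ← orderOf_coe]; exact ox
  · rw [← map_mul, ← map_mul]; exact congrArg f (Subtype.ext c.eq)
  · rw [eq_bot_iff]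
    rintro _ ⟨⟨i, rfl⟩, j, hj⟩
    simp only [← map_zpow] at hj ⊢
    have := hd ((map_zpow d _ j).trans ((congrArg Subtype.val (hf hj)).trans (map_zpow d _ i).symm))
    refine mem_bot.2 ((congrArg f (Subtype.ext ?_)).trans (map_one f))
    change d (ζ, 1) ^ i = 1
    rw [← map_zpow, ← map_one d]
    exact congrArg d (Prod.ext (by simpa using (congrArg Prod.fst this).symm) (by simp))
  · rw [orderOf_injective f hf, ← orderOf_coe]; exact oz
  · rw [← map_inv, ← map_mul, ← map_mul]; exact congrArg f (Subtype.ext (zd _ _))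

theorem not_npc (h : _root_.commutator G = ⊤) (h2 : p ∣ Nat.card G) : ¬ HasNormalPComplement p G :=
  fun hn => by
    have := (Transfer.isPGroup_quotient_pResidual (p := p) (G := G)).isNilpotent
    refine Transfer.hasNPC_iff_not_dvd.1 hn ?_
    rwa [QuotientGroup.subgroup_eq_top_of_subsingleton (pResidual p G) (not_nontrivial_iff_subsingleton.1
      fun _ => (IsSolvable.commutator_lt_top_of_nontrivial (G ⧸ pResidual p G)).ne ?_), card_top]
    rw [_root_.commutator_def, ← map_top_of_surjective _ (QuotientGroup.mk'_surjective _),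
      ← map_commutator, ← _root_.commutator_def, h]

theorem exists_q {k : ℕ} (hk : 2 ≤ k) : ∃ q u v : ℕ, q.Prime ∧ q + 1 = 2 ^ k * u ∧ ¬ 2 ∣ u ∧
    q - 1 = 2 * v ∧ ¬ 2 ∣ v ∧ 3 < q := by
  obtain ⟨k, rfl⟩ := Nat.exists_eq_add_of_le hk
  have h0 : 0 < 2 ^ k := by positivity
  obtain ⟨q, h1, h2, h3⟩ := Nat.forall_exists_prime_gt_and_modEq 3 (q := 2 ^ (2 + k + 1))
    (a := 2 ^ (2 + k) - 1) (by positivity) (Nat.Coprime.pow_right _ (Nat.coprime_two_right.2
      ⟨2 * 2 ^ k - 1, by rw [pow_add]; omega⟩))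
  have := Nat.div_add_mod q (2 ^ (2 + k + 1))
  rw [h3, Nat.mod_eq_of_lt (by rw [pow_succ]; omega)] at this
  set t := q / 2 ^ (2 + k + 1)
  have e : q + 1 = 2 ^ (2 + k) * (2 * t + 1) := by
    rw [pow_succ] at this
    have h4 : 0 < 2 ^ (2 + k) := by positivity
    rw [mul_add, mul_one, ← mul_assoc]; omega
  refine ⟨q, 2 * t + 1, 2 * (2 ^ k * (2 * t + 1)) - 1, h2, e, by omega, ?_, ?_, h1⟩
  · rw [pow_add, mul_assoc] at e; omega
  · have : 0 < 2 ^ k * (2 * t + 1) := by positivity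
    omega

theorem sl2_perfect {q : ℕ} [hq : Fact q.Prime] (h : 3 < q) :
    _root_.commutator (Matrix.SpecialLinearGroup (Fin 2) (ZMod q)) = ⊤ := by
  have k : ∀ n : ℕ, 0 < n → n ≤ 3 → (n : ZMod q) ≠ 0 := fun n a b e =>
    absurd (Nat.le_of_dvd a ((ZMod.natCast_eq_zero_iff n q).1 e)) (by omega)
  refine Matrix.SL2.commutator_eq_top (a := 2) (k 2 (by omega) (by omega)) fun e =>
    k 3 (by omega) le_rfl ?_
  push_cast; linear_combination e

theorem real_q {j : ℕ} (hj : 1 ≤ j) : ∃ (q : ℕ) (_ : Fact q.Prime)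
    (T : Sylow 2 (Matrix.SpecialLinearGroup (Fin 2) (ZMod q))), 3 < q ∧
      Nonempty (T.1 ≃* QuaternionGroup (2 ^ j)) := by
  obtain ⟨q, u, v, h1, h2, h3, h4, h5, h6⟩ := exists_q (k := j + 1) (by omega)
  have := Fact.mk h1
  obtain ⟨T⟩ : Nonempty (Sylow 2 (Matrix.SpecialLinearGroup (Fin 2) (ZMod q))) := inferInstance
  have hq : ¬ 2 ∣ q := by omega
  obtain ⟨k, -, ⟨e⟩⟩ := S0261.result (F := ZMod q) (by
    rw [ZMod.card]; exact Nat.odd_iff.2 (Nat.two_dvd_ne_zero.1 hq)) T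
  have a := card_sylow T (k := j + 2) (m := q * u * v) (by
    rw [Perm.GL2.card_SL2, ZMod.card, h2, h4]; ring) (by simp [Nat.prime_two.dvd_mul, hq, h3, h5])
  rw [Nat.card_congr e.toEquiv, Nat.card_eq_fintype_card, QuaternionGroup.card,
    show 4 * 2 ^ k = 2 ^ (k + 2) by ring] at a
  obtain rfl : k = j := by have := Nat.pow_right_injective le_rfl a; omega
  exact ⟨q, this, T, h6, ⟨e⟩⟩

/-- `X` is a Sylow `2`-subgroup of a group without normal `2`-complement. -/
def Rl (X : Type*) [Group X] : Prop := ∃ (L : Type) (_ : Group L) (_ : Finite L) (T : Sylow 2 L),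
  Nonempty (T.1 ≃* X) ∧ ¬ HasNormalPComplement 2 L

theorem two_dvd {L X : Type*} [Group L] [Group X] {T : Subgroup L} (e : T ≃* X)
    (h : 2 ∣ Nat.card X) : 2 ∣ Nat.card L :=
  (Nat.card_congr e.toEquiv ▸ h).trans (card_subgroup_dvd_card T)

theorem rl_q {j : ℕ} (hj : 1 ≤ j) : Rl (QuaternionGroup (2 ^ j)) := by
  obtain ⟨q, _, T, h, ⟨e⟩⟩ := real_q hj
  exact ⟨_, _, inferInstance, T, ⟨e⟩, not_npc (sl2_perfect h) (two_dvd e (by
    rw [Nat.card_eq_fintype_card, QuaternionGroup.card]; omega))⟩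

theorem rl_d {j : ℕ} (hj : 1 ≤ j) : Rl (DihedralGroup (2 ^ j)) := by
  obtain ⟨q, _, T, h, ⟨e⟩⟩ := real_q hj
  obtain ⟨a, b, h1, h2, h3⟩ := Transfer.mc_of_quaternion e
  have hz : a ^ 2 ^ j ∈ center _ := Transfer.sl2_mem_center_of_mul_self (K := ZMod q) (fun e =>
    absurd (Nat.le_of_dvd two_pos ((ZMod.natCast_eq_zero_iff 2 q).1 e)) (by omega)) (by
      rw [← sq, ← pow_mul, ← pow_succ, ← h1.ord, pow_orderOf_eq_one])
  have : (zpowers (a ^ 2 ^ j)).Normal := ⟨fun n hn g => by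
    rwa [mem_center_iff.1 (zpowers_le.2 hz hn) g, mul_inv_cancel_right]⟩
  let π := QuotientGroup.mk' (zpowers (a ^ 2 ^ j))
  have sj : Function.Surjective π := QuotientGroup.mk'_surjective _
  have k1 : ∀ {x}, π x = 1 ↔ x ∈ zpowers (a ^ 2 ^ j) := QuotientGroup.eq_one_iff _
  have o : orderOf (π a) = 2 ^ j := by
    obtain ⟨j, rfl⟩ := Nat.exists_eq_add_of_le' hj
    refine orderOf_eq_prime_pow (fun e => ?_) (by rw [← map_pow, k1]; exact mem_zpowers _)
    rw [← map_pow, k1] at e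
    have := orderOf_dvd_of_pow_eq_one (Solv.pow_eq_one_of_mem_zpowers (show (a ^ 2 ^ (j + 1)) ^ 2 = 1 by
      rw [← pow_mul, ← pow_succ, ← h1.ord, pow_orderOf_eq_one]) e ▸ pow_mul a _ _)
    rw [h1.ord, ← pow_succ, Nat.pow_dvd_pow_iff_le_right one_lt_two] at this
    omega
  obtain ⟨f⟩ := Solv.nonempty_dihedral_of_gens (S := T.1.map π) (a := π a) (b := π b) (fun e => by
      rw [← MonoidHom.map_zpowers, ← mem_comap, comap_map_eq, QuotientGroup.ker_mk',
        sup_eq_left.2 (zpowers_le.2 (pow_mem (mem_zpowers a) _))] at e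
      exact h1.notMem e) (by rw [h1.eq, Subgroup.map_sup, MonoidHom.map_zpowers, MonoidHom.map_zpowers])
    (by rw [← map_pow, sq, h2, k1]; exact mem_zpowers _) (by rw [← map_inv, ← map_mul, ← map_mul, h3, map_inv])
  rw [o] at f
  refine ⟨_, _, inferInstance, T.mapSurjective sj, ⟨f⟩, not_npc ?_ (two_dvd f (by
    rw [DihedralGroup.nat_card]; omega))⟩
  rw [_root_.commutator_def, ← map_top_of_surjective _ sj, ← map_commutator, ← _root_.commutator_def,
    sl2_perfect h]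

theorem rl_qd (h : IsQuasiDihedral G) : Rl G := by
  have h' := h
  obtain ⟨n, hn, hc, -⟩ := h'
  obtain ⟨k, rfl⟩ : ∃ k, n = k + 1 := ⟨n - 1, by omega⟩
  obtain ⟨q, u, v, h1, h2, h3, h4, h5, h6⟩ := exists_q (k := k) (by omega)
  have := Fact.mk h1
  obtain ⟨T⟩ : Nonempty (Sylow 2 (GL (Fin 2) (ZMod q))) := inferInstance
  obtain ⟨c1, c2⟩ := gl2_qd T (k := k) (by omega) (by rwa [ZMod.card]) h3
  obtain ⟨a, b, m, m1⟩ := Transfer.qd_top h
  obtain ⟨a', b', m', m2⟩ := Transfer.qd_top (G := T.1) ⟨k + 1, hn, c1, c2⟩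
  have e1 := m1.toMC.card
  have e2 := m2.toMC.card
  rw [card_top] at e1 e2
  obtain rfl : m' = m := by
    have := Nat.pow_right_injective le_rfl (e2.symm.trans (c1.trans (hc.symm.trans e1)))
    omega
  obtain ⟨φ⟩ := Transfer.exists_mulEquiv_closure_pair (r := 2 ^ m' - 1) (t := 0)
    (m2.ord.trans m1.ord.symm) (by rw [m2.cnj', zpow_sub, zpow_one]; norm_cast)
    (by rw [m1.cnj', zpow_sub, zpow_one]; norm_cast) (by rw [sq, m2.sq1, zpow_zero])
    (by rw [sq, m1.sq1, zpow_zero]) m2.notMem m1.notMem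
  rw [Transfer.closure_pair_eq, Transfer.closure_pair_eq, ← m1.eq, ← m2.eq] at φ
  refine ⟨_, _, inferInstance, T, ⟨(topEquiv.symm.trans φ).trans topEquiv⟩, fun x => not_npc
    (sl2_perfect h6) ?_ (Transfer.hasNPC_of_injective _ Matrix.SpecialLinearGroup.toGL_injective x)⟩
  rw [Perm.GL2.card_SL2, ZMod.card, h4]
  exact dvd_mul_of_dvd_right (dvd_mul_right _ _) _

theorem Rl.equiv {X Y : Type*} [Group X] [Group Y] (h : Rl X) (e : X ≃* Y) : Rl Y := by
  obtain ⟨L, _, _, T, ⟨f⟩, h⟩ := h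
  exact ⟨L, _, ‹_›, T, ⟨f.trans e⟩, h⟩

theorem not_rl {Ω : Type u} [Group Ω] {S : Subgroup Ω} [Finite S] (hS : IsPGroup 2 S)
    (h1 : ∀ F : FusionSystem S, F.IsSaturated 2 → F.IsNormal S) (h2 : AE 2 S) : ¬ Rl S := by
  rintro ⟨L, _, _, T, ⟨e⟩, h⟩
  have hi : Function.Injective (T.1.subtype.comp e.symm.toMonoidHom) :=
    T.1.subtype_injective.comp e.symm.injective
  have hr : (T.1.subtype.comp e.symm.toMonoidHom).range = T.1 := by
    rw [← MonoidHom.map_range, MonoidHom.range_eq_top.2 e.symm.surjective, ← MonoidHom.range_eq_map,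
      range_subtype]
  obtain ⟨F, h3, h4⟩ := exists_real (p := 2) hi (by rw [hr]; exact sylowIn_top T)
  have h5 := ((isRealizedBy_iff_iso.1 h3).normal_iff le_rfl).2 (h1 F h4)
  rw [imageAlong_top, hr] at h5
  refine h (hasNPC_of_isInner (sylowIn_top T) (inner_of_normal T.isPGroup' (group_saturated T) h5
    (pgroup_of_coprime fun g _ hg => ?_)))
  simpa using ((h2.equiv e.symm) (zpowers g) (by rwa [Nat.card_zpowers])).2 g (mem_zpowers g)

end Cfsg.Agent.SSol
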