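import Cfsg.Agent.Lib.Fusion.SylowIn

/-! Saturation: the Roberts–Shpectorov and Broto–Levi–Oliver axioms, Stancu's axioms. -/

set_option autoImplicit false

namespace Cfsg.Agent.Fusion

open Cfsg Cfsg.FusionSystem

variable {Ω : Type*} [Group Ω] {S : Subgroup Ω} {F : FusionSystem S} {P Q R : Subgroup Ω}
  {f g : Ω → Ω} {p : ℕ}

theorem finite_mulAut (P : Subgroup Ω) [Finite P] : Finite (MulAut P) :=
  Finite.of_injective (fun α : MulAut P => (α : P → P)) DFunLike.coe_injective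

theorem finite_autGroup [Finite S] (F : FusionSystem S) (hP : P ≤ S) : Finite (F.autGroup P) := by
  have := finite_of_le hP
  have := finite_mulAut P
  infer_instance

theorem card_lt_of_lt [Finite Q] (h : P < Q) : Nat.card P < Nat.card Q :=
  lt_of_le_of_ne (Subgroup.card_le_of_le h.le)
    fun e => h.ne (Subgroup.eq_of_le_of_card_ge h.le e.ge)

theorem afun_congr (e : P ≃* Q) (he : ∀ x : P, (e x : Ω) = f x) (α : MulAut P) {x : Ω}
    (hx : x ∈ P) : afun (MulAut.congr e α) (f x) = f (afun α x) := by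
  have h1 : f x = (e ⟨x, hx⟩ : Q) := (he ⟨x, hx⟩).symm
  rw [h1, afun_coe, afun_of_mem _ hx, ← he]
  simp [MulAut.congr]

/-- Transport of automorphism groups along an isomorphism of the system. -/
theorem Mor.exists_transport (hf : Mor F P f) (hQ : img f P = Q) :
    ∃ τ : MulAut P ≃* MulAut Q, (∀ α, ∀ x ∈ P, afun (τ α) (f x) = f (afun α x)) ∧
      (∀ α, τ α ∈ F.autGroup Q ↔ α ∈ F.autGroup P) ∧ (∀ α, τ α ∈ Inn Q ↔ α ∈ Inn P) := by
  obtain ⟨e, he⟩ := hf.exists_equiv hQ
  obtain ⟨g, hg, g1, g2, g3, g4⟩ := hf.inv' hQ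
  have hfQ : ∀ x ∈ P, f x ∈ Q := fun x hx => hQ ▸ subset_img hx
  refine ⟨MulAut.congr e, fun α x hx => afun_congr e he α hx, fun α => ?_, fun α => ?_⟩
  · rw [Fusion.mem_autGroup hf.le, Fusion.mem_autGroup hg.le]
    constructor
    · intro h
      refine ((hf.comp h hfQ).comp hg fun x hx => afun_mem _ (hfQ x hx)).congr fun x hx => ?_
      rw [afun_congr e he α hx, g1 _ (afun_mem _ hx)]
    · intro h
      refine ((hg.comp h g2).comp hf fun x hx => afun_mem _ (g2 x hx)).congr fun x hx => ?_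
      rw [← afun_congr e he α (g2 x hx), g3 x hx]
  · rw [mem_Inn, mem_Inn]
    constructor
    · rintro ⟨s, hs, h⟩
      refine ⟨g s, g2 s hs, fun x hx => ?_⟩
      rw [← g1 _ (afun_mem α hx), ← afun_congr e he α hx, h _ (hfQ x hx),
        hg.map_conj hs (hfQ x hx), g1 x hx]
    · rintro ⟨s, hs, h⟩
      refine ⟨f s, hfQ s hs, fun x hx => ?_⟩
      rw [← g3 x hx, afun_congr e he α (g2 x hx), h _ (g2 x hx), hf.map_conj hs (g2 x hx)]

theorem map_transport {τ : MulAut P ≃* MulAut Q} {A : Subgroup (MulAut P)}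
    {B : Subgroup (MulAut Q)} (h : ∀ α, τ α ∈ B ↔ α ∈ A) : A.map τ.toMonoidHom = B := by
  ext β
  constructor
  · rintro ⟨α, hα, rfl⟩; exact (h α).2 hα
  · intro hβ
    exact ⟨τ.symm β, (h _).1 (by simpa using hβ), by simp⟩

theorem card_autGroup_eq (h : F.IsConj P Q) :
    Nat.card (F.autGroup P) = Nat.card (F.autGroup Q) := by
  obtain ⟨f, hf, hQ⟩ := isConj_iff.1 h
  obtain ⟨τ, -, h2, -⟩ := hf.exists_transport hQ
  rw [← map_transport h2]
  exact (Subgroup.card_map_of_injective τ.injective).symm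

theorem isFullyAutomized_iff : F.IsFullyAutomized p P ↔
    P ≤ S ∧ SylowIn p (autInducedBy S P) (F.autGroup P) :=
  and_congr_right fun hP => (sylowIn_iff (autInducedBy_le_autGroup F hP)).symm

theorem IsFullyAutomized.sylowIn (h : F.IsFullyAutomized p P) :
    SylowIn p (autInducedBy S P) (F.autGroup P) := (isFullyAutomized_iff.1 h).2

/-- Receptive subgroups are fully centralized. -/
theorem fullyCentralized_of_receptive [Finite S] (h : F.IsReceptive P) :
    F.IsFullyCentralized P := by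
  refine ⟨h.1, fun Q hQ => ?_⟩
  obtain ⟨f, hf, hfQ⟩ := isConj_iff.1 (isConj_symm hQ)
  obtain ⟨g, hg, e⟩ := IsReceptive.ext h hf hfQ
  have := finite_of_le (centralizerIn_le : centralizerIn S P ≤ S)
  refine (hg.mono centralizerIn_le_Next).card_le fun x hx => ?_
  have h2 := hg.mem_centralizer_img hf.le_Next (centralizerIn_le_Next hx) (mem_centralizerIn.1 hx).2
  rwa [img_congr e, hfQ] at h2

variable [Fact p.Prime]

/-- The Sylow move: after composing with an automorphism of a fully automized target, the whole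
normalizer lies in the extender. -/
theorem exists_Next_eq [Finite S] (hS : IsPGroup p S) (hP : F.IsFullyAutomized p P)
    (hf : Mor F Q f) (hQ : img f Q = P) : ∃ χ ∈ F.autGroup P,
      normalizerIn S Q ≤ Next S Q (fun x => afun χ (f x)) := by
  have := finite_autGroup F hP.1
  obtain ⟨τ, h1, h2, -⟩ := hf.exists_transport hQ
  have hD : (autInducedBy S Q).map τ.toMonoidHom ≤ F.autGroup P := by
    rintro _ ⟨α, hα, rfl⟩
    exact (h2 α).2 (autInducedBy_le_autGroup F hf.le hα)
  obtain ⟨c, hc, e⟩ := (IsFullyAutomized.sylowIn hP).conj hD ((autInducedBy_pgroup hS Q).map _)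
  refine ⟨c, hc, fun s hs => ⟨hs, ?_⟩⟩
  obtain ⟨α, hα⟩ := exists_cAut hs.2
  obtain ⟨t, ht, e2⟩ := mem_autInducedBy.1 (e _ ⟨α, mem_autInducedBy.2 ⟨s, hs.1, hα⟩, rfl⟩)
  refine ⟨t, ht, fun x hx => ?_⟩
  have hfx : f x ∈ P := hQ ▸ subset_img hx
  beta_reduce
  rw [← e2 _ (afun_mem c hfx), afun_mul _ _ (afun_mem c hfx), afun_inv_afun _ hfx,
    afun_mul _ _ hfx]
  congr 1
  rw [← hα x hx]
  exact (h1 α x hx).symm

theorem exists_normalizer_mor [Finite S] (hS : IsPGroup p S) (h₁ : F.IsFullyAutomized p P)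
    (h₂ : F.IsReceptive P) (hQ : F.IsConj Q P) : ∃ g, Mor F (normalizerIn S Q) g ∧ img g Q = P := by
  obtain ⟨f, hf, hfQ⟩ := isConj_iff.1 hQ
  obtain ⟨χ, hχ, hN⟩ := exists_Next_eq hS h₁ hf hfQ
  have hfx : ∀ x ∈ Q, f x ∈ P := fun x hx => hfQ ▸ subset_img hx
  have hf' : Mor F Q (fun x => afun χ (f x)) := hf.comp ((mem_autGroup h₁.1).1 hχ) hfx
  have him : img (fun x => afun χ (f x)) Q = P := by rw [hf.img_comp', hfQ, img_afun]
  obtain ⟨g, hg, e⟩ := IsReceptive.ext h₂ hf' him
  exact ⟨g, hg.mono hN, (img_congr e).trans him⟩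

omit [Fact p.Prime] in
theorem Mor.normalizerIn_mem (hg : Mor F (normalizerIn S Q) g) (hQ : Q ≤ S) {x : Ω}
    (hx : x ∈ normalizerIn S Q) : g x ∈ normalizerIn S (img g Q) :=
  hg.mem_normalizer_img (le_normalizerIn hQ) hx hx.2

omit [Fact p.Prime] in
theorem Mor.centralizerIn_mem (hg : Mor F (normalizerIn S Q) g) (hQ : Q ≤ S) {x : Ω}
    (hx : x ∈ centralizerIn S Q) : g x ∈ centralizerIn S (img g Q) :=
  hg.mem_centralizer_img (le_normalizerIn hQ) (centralizerIn_le_normalizerIn hx)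
    (mem_centralizerIn.1 hx).2

omit [Fact p.Prime] in
theorem Mor.img_normalizerIn [Finite S] (hg : Mor F (normalizerIn S Q) g)
    (hQ : F.IsFullyNormalized Q) : img g (normalizerIn S Q) = normalizerIn S (img g Q) := by
  have := finite_of_le (normalizerIn_le : normalizerIn S (img g Q) ≤ S)
  exact hg.img_eq_of_card_le (fun x hx => hg.normalizerIn_mem hQ.1 hx)
    (hQ.2 _ (hg.mono (le_normalizerIn hQ.1)).isConj)

omit [Fact p.Prime] in
theorem Mor.img_centralizerIn [Finite S] {N : Subgroup Ω} (hg : Mor F N g) (hQN : Q ≤ N)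
    (hCN : centralizerIn S Q ≤ N) (hQ : F.IsFullyCentralized Q) :
    img g (centralizerIn S Q) = centralizerIn S (img g Q) := by
  have := finite_of_le (centralizerIn_le : centralizerIn S (img g Q) ≤ S)
  exact (hg.mono hCN).img_eq_of_card_le
    (fun x hx => hg.mem_centralizer_img hQN (hCN hx) (mem_centralizerIn.1 hx).2)
    (hQ.2 _ (hg.mono hQN).isConj)

omit [Fact p.Prime] in
theorem exists_max_in_class [Finite S] (F : FusionSystem S) (hP : P ≤ S) (c : Subgroup Ω → ℕ)
    (hc : ∀ Q, Q ≤ S → c Q ≤ Nat.card S) :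
    ∃ Q, F.IsConj P Q ∧ ∀ R, F.IsConj Q R → c R ≤ c Q := by
  classical
  have hex : ∃ n, ∃ Q, F.IsConj P Q ∧ Nat.card S - c Q = n := ⟨_, P, isConj_refl F hP, rfl⟩
  obtain ⟨Q, hQ, e⟩ := Nat.find_spec hex
  refine ⟨Q, hQ, fun R hR => ?_⟩
  have h1 := Nat.find_min' hex ⟨R, isConj_trans hQ hR, rfl⟩
  have h2 := hc R (isConj_le_right hR)
  have h3 := hc Q (isConj_le_right hQ)
  omega

omit [Fact p.Prime] in
theorem exists_fullyNormalized [Finite S] (F : FusionSystem S) (hP : P ≤ S) :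
    ∃ Q, F.IsConj P Q ∧ F.IsFullyNormalized Q := by
  obtain ⟨Q, hQ, h⟩ := exists_max_in_class F hP (fun Q => Nat.card (normalizerIn S Q))
    (fun Q _ => Subgroup.card_le_of_le normalizerIn_le)
  exact ⟨Q, hQ, isConj_le_right hQ, h⟩

omit [Fact p.Prime] in
theorem exists_fullyCentralized [Finite S] (F : FusionSystem S) (hP : P ≤ S) :
    ∃ Q, F.IsConj P Q ∧ F.IsFullyCentralized Q := by
  obtain ⟨Q, hQ, h⟩ := exists_max_in_class F hP (fun Q => Nat.card (centralizerIn S Q))
    (fun Q _ => Subgroup.card_le_of_le centralizerIn_le)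
  exact ⟨Q, hQ, isConj_le_right hQ, h⟩

/-- The class of `P` contains a fully automized receptive subgroup. -/
def SatClass (F : FusionSystem S) (p : ℕ) (P : Subgroup Ω) : Prop :=
  ∃ Q : Subgroup Ω, F.IsConj P Q ∧ F.IsFullyAutomized p Q ∧ F.IsReceptive Q

omit [Fact p.Prime] in
theorem SatClass.of_conj (h : SatClass F p P) (hQ : F.IsConj P Q) : SatClass F p Q := by
  obtain ⟨R, h1, h2⟩ := h
  exact ⟨R, isConj_trans (isConj_symm hQ) h1, h2⟩

theorem SatClass.receptive [Finite S] (hS : IsPGroup p S) (h : SatClass F p P)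
    (hP : F.IsFullyCentralized P) : F.IsReceptive P := by
  obtain ⟨R, hPR, hA, hR⟩ := h
  obtain ⟨ψ, hψ, hψP⟩ := exists_normalizer_mor hS hA hR hPR
  have hC := hψ.img_centralizerIn (le_normalizerIn hP.1) centralizerIn_le_normalizerIn hP
  rw [hψP] at hC
  obtain ⟨ψ', hψ', i1, i2, i3, -⟩ := hψ.inv
  rw [isReceptive_iff]
  refine ⟨hP.1, fun Q f hf hQ => ?_⟩
  have hfx : ∀ x ∈ Q, f x ∈ P := fun x hx => hQ ▸ subset_img hx
  have hPN : P ≤ normalizerIn S P := le_normalizerIn hP.1
  have hf' : Mor F Q (fun x => ψ (f x)) := hf.comp hψ fun x hx => hPN (hfx x hx)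
  have him : img (fun x => ψ (f x)) Q = R := by rw [hf.img_comp', hQ, hψP]
  obtain ⟨χ, hχ, e⟩ := IsReceptive.ext hR hf' him
  -- elements of the extender of `f`
  have key : ∀ s ∈ Next S Q f, ∃ h ∈ normalizerIn S P,
      ∀ x ∈ Q, f (s * x * s⁻¹) = h * f x * h⁻¹ := by
    rintro s ⟨hs, h, hh, e1⟩
    refine ⟨h, ⟨hh, ?_⟩, e1⟩
    have := finite_of_le hP.1
    refine mem_normalizer_of_finite fun y hy => ?_
    rw [← hQ] at hy
    obtain ⟨x, hx, rfl⟩ := hf.mem_img.1 hy
    rw [← e1 x hx]; exact hfx _ (conj_mem_of_mem_normalizerIn hs hx)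
  have hle : Next S Q f ≤ Next S Q (fun x => ψ (f x)) := by
    intro s hs
    obtain ⟨h, hh, e1⟩ := key s hs
    refine ⟨hs.1, ψ h, hψ.mem hh, fun x hx => ?_⟩
    beta_reduce
    rw [e1 x hx, hψ.map_conj hh (hPN (hfx x hx))]
  have hmem : ∀ s ∈ Next S Q f, χ s ∈ img ψ (normalizerIn S P) := by
    intro s hs
    obtain ⟨h, hh, e1⟩ := key s hs
    have h1 : (ψ h)⁻¹ * χ s ∈ centralizerIn S R := by
      rw [mem_centralizerIn]
      refine ⟨S.mul_mem (S.inv_mem (hψ.mem hh)) (hχ.mem (hle hs)), fun y hy => ?_⟩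
      rw [← him] at hy
      obtain ⟨x, hx, rfl⟩ := hf'.mem_img.1 hy
      have h2 := hχ.map_conj (hle hs) (hf'.le_Next hx)
      rw [e _ (conj_mem_of_mem_normalizerIn hs.1 hx), e x hx, e1 x hx,
        hψ.map_conj hh (hPN (hfx x hx))] at h2
      calc _ = (ψ h)⁻¹ * (χ s * ψ (f x) * (χ s)⁻¹) * ψ h := by group
        _ = _ := by rw [← h2]; group
    rw [← hC] at h1
    have h3 := Subgroup.mul_mem _ (subset_img (f := ψ) hh)
      (img_mono centralizerIn_le_normalizerIn h1)
    simpa using h3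
  refine ⟨fun x => ψ' (χ x), (hχ.mono hle).comp hψ' hmem, fun x hx => ?_⟩
  show ψ' (χ x) = f x
  rw [e x hx, i1 _ (hPN (hfx x hx))]

theorem SatClass.of_fullyNormalized [Finite S] (hS : IsPGroup p S) (h : SatClass F p P)
    (hP : F.IsFullyNormalized P) : F.IsFullyCentralized P ∧ F.IsFullyAutomized p P := by
  obtain ⟨R, hPR, hA, hR⟩ := h
  obtain ⟨ψ, hψ, hψP⟩ := exists_normalizer_mor hS hA hR hPR
  have hN := hψ.img_normalizerIn hP
  rw [hψP] at hN
  obtain ⟨ψ', hψ', i1, i2, i3, i4⟩ := hψ.inv' hN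
  have hRS := isConj_le_right hPR
  have hψ'R : img ψ' R = P := by
    rw [← hψP, ← (hψ.mono (le_normalizerIn hP.1)).img_comp']
    exact img_of_eq_id fun x hx => i1 x (le_normalizerIn hP.1 hx)
  have hRc := fullyCentralized_of_receptive hR
  have hC := hψ'.img_centralizerIn (le_normalizerIn hRS) centralizerIn_le_normalizerIn hRc
  rw [hψ'R] at hC
  have hcC : Nat.card (centralizerIn S P) = Nat.card (centralizerIn S R) := by
    rw [← hC, (hψ'.mono centralizerIn_le_normalizerIn).card_img]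
  have hcN : Nat.card (normalizerIn S P) = Nat.card (normalizerIn S R) := by
    rw [← hN, hψ.card_img]
  refine ⟨⟨hP.1, fun Q hQ => hcC ▸ hRc.2 Q (isConj_trans (isConj_symm hPR) hQ)⟩, ?_⟩
  rw [isFullyAutomized_iff]
  refine ⟨hP.1, ?_⟩
  have := finite_autGroup F hP.1
  have := finite_autGroup F hRS
  apply sylowIn_of_card_ge (autInducedBy_le_autGroup F hP.1) (autInducedBy_pgroup hS P)
  rw [card_autGroup_eq hPR, ← (IsFullyAutomized.sylowIn hA).card_eq]
  have h1 := card_autInducedBy S P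
  have h2 := card_autInducedBy S R
  rw [hcC, hcN, ← h2] at h1
  have := finite_of_le (centralizerIn_le : centralizerIn S R ≤ S)
  exact (Nat.eq_of_mul_eq_mul_right Nat.card_pos h1).ge

variable [Finite S]

theorem IsSaturated.receptive (hS : IsPGroup p S) (hF : F.IsSaturated p)
    (hP : F.IsFullyCentralized P) : F.IsReceptive P :=
  SatClass.receptive hS (hF P hP.1) hP

theorem IsSaturated.fullyCentralized (hS : IsPGroup p S) (hF : F.IsSaturated p)
    (hP : F.IsFullyNormalized P) : F.IsFullyCentralized P :=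
  (SatClass.of_fullyNormalized hS (hF P hP.1) hP).1

theorem IsSaturated.fullyAutomized (hS : IsPGroup p S) (hF : F.IsSaturated p)
    (hP : F.IsFullyNormalized P) : F.IsFullyAutomized p P :=
  (SatClass.of_fullyNormalized hS (hF P hP.1) hP).2

theorem IsSaturated.receptive' (hS : IsPGroup p S) (hF : F.IsSaturated p)
    (hP : F.IsFullyNormalized P) : F.IsReceptive P :=
  IsSaturated.receptive hS hF (IsSaturated.fullyCentralized hS hF hP)

theorem isSaturated_iff (hS : IsPGroup p S) : F.IsSaturated p ↔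
    ((∀ P : Subgroup Ω, F.IsFullyNormalized P → F.IsFullyCentralized P ∧ F.IsFullyAutomized p P) ∧
      (∀ P : Subgroup Ω, F.IsFullyCentralized P → F.IsReceptive P)) := by
  constructor
  · intro hF
    exact ⟨fun P hP => SatClass.of_fullyNormalized hS (hF P hP.1) hP,
      fun P hP => IsSaturated.receptive hS hF hP⟩
  · rintro ⟨h1, h2⟩ P hP
    obtain ⟨Q, hQ, hN⟩ := exists_fullyNormalized F hP
    exact ⟨Q, hQ, (h1 Q hN).2, h2 Q (h1 Q hN).1⟩

/-- In a saturated system: move any conjugate together with its normalizer onto a fully normalized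
subgroup. -/
theorem IsSaturated.exists_normalizer_mor (hS : IsPGroup p S) (hF : F.IsSaturated p)
    (hP : F.IsFullyNormalized P) (hQ : F.IsConj Q P) :
    ∃ g, Mor F (normalizerIn S Q) g ∧ img g Q = P :=
  Fusion.exists_normalizer_mor hS (IsSaturated.fullyAutomized hS hF hP)
    (IsSaturated.receptive' hS hF hP) hQ

theorem IsSaturated.exists_normalizer_mor' (hS : IsPGroup p S) (hF : F.IsSaturated p)
    (hQ : Q ≤ S) : ∃ g, Mor F (normalizerIn S Q) g ∧ F.IsFullyNormalized (img g Q) := by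
  obtain ⟨P, h1, h2⟩ := exists_fullyNormalized F hQ
  obtain ⟨g, hg, e⟩ := IsSaturated.exists_normalizer_mor hS hF h2 h1
  exact ⟨g, hg, e ▸ h2⟩

omit [Fact p.Prime] in
theorem fullyNormalized_of_normal (hP : P ≤ S) (hn : S ≤ Subgroup.normalizer (P : Set Ω)) :
    F.IsFullyNormalized P := by
  refine ⟨hP, fun Q _ => ?_⟩
  have := finite_of_le (normalizerIn_le : normalizerIn S P ≤ S)
  exact Subgroup.card_le_of_le (normalizerIn_le.trans (le_inf le_rfl hn))

omit [Fact p.Prime] in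
theorem fullyNormalized_top (F : FusionSystem S) : F.IsFullyNormalized S :=
  fullyNormalized_of_normal le_rfl Subgroup.le_normalizer

omit [Fact p.Prime] [Finite S] in
theorem isCentric_of_conj (hP : F.IsCentric P) (h : F.IsConj P Q) : F.IsCentric Q :=
  ⟨isConj_le_right h, fun R hR => hP.2 R (isConj_trans h hR)⟩

omit [Fact p.Prime] [Finite S] in
theorem IsCentric.cent_le (hP : F.IsCentric P) : centralizerIn S P ≤ P :=
  hP.2 P (isConj_refl F hP.1)

omit [Fact p.Prime] [Finite S] in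
theorem isCentric_of_le (hP : F.IsCentric P) (h : P ≤ Q) (hQ : Q ≤ S) : F.IsCentric Q := by
  refine ⟨hQ, fun R hR => ?_⟩
  obtain ⟨f, hf, rfl⟩ := isConj_iff.1 hR
  intro x hx
  refine img_mono h (hP.2 _ (hf.mono h).isConj ?_)
  rw [mem_centralizerIn] at hx ⊢
  exact ⟨hx.1, fun y hy => hx.2 y (img_mono h hy)⟩

omit [Fact p.Prime] [Finite S] in
theorem isCentric_top (F : FusionSystem S) [Finite S] : F.IsCentric S := by
  refine ⟨le_rfl, fun Q hQ => ?_⟩
  rw [Subgroup.eq_of_le_of_card_ge (isConj_le_right hQ) (isConj_card hQ).le]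
  exact centralizerIn_le

omit [Fact p.Prime] in
theorem isCentric_of_fullyCentralized (hU : F.IsFullyCentralized P)
    (hC : centralizerIn S P ≤ P) : F.IsCentric P := by
  refine ⟨hU.1, fun Q hQ => ?_⟩
  obtain ⟨f, hf, rfl⟩ := isConj_iff.1 hQ
  have := finite_of_le (centralizerIn_le : centralizerIn S (img f P) ≤ S)
  have h1 := (hf.mono hC).img_eq_of_card_le (Q := centralizerIn S (img f P))
    (fun x hx => hf.mem_centralizer_img le_rfl (hC hx) (mem_centralizerIn.1 hx).2) (hU.2 _ hQ)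
  rw [← h1]; exact img_mono hC

omit [Fact p.Prime] in
theorem IsCentric.fullyCentralized (hP : F.IsCentric P) : F.IsFullyCentralized P := by
  refine ⟨hP.1, fun Q hQ => ?_⟩
  obtain ⟨f, hf, e⟩ := isConj_iff.1 (isConj_symm hQ)
  have := finite_of_le (centralizerIn_le : centralizerIn S P ≤ S)
  have hC := hP.2 Q hQ
  refine (hf.mono hC).card_le fun x hx => ?_
  rw [← e]
  exact hf.mem_centralizer_img le_rfl (hC hx) (mem_centralizerIn.1 hx).2

theorem IsSaturated.receptive_of_centric (hS : IsPGroup p S) (hF : F.IsSaturated p)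
    (hP : F.IsCentric P) : F.IsReceptive P :=
  IsSaturated.receptive hS hF (IsCentric.fullyCentralized hP)

omit [Fact p.Prime] [Finite S] in
theorem afun_pow_of_eq {N : Subgroup Ω} (hPN : P ≤ N) {α : MulAut P} {β : MulAut N}
    (h : ∀ x ∈ P, afun β x = afun α x) (m : ℕ) : ∀ x ∈ P, afun (β ^ m) x = afun (α ^ m) x := by
  induction m with
  | zero => intro x _; simp [afun_one]
  | succ m ih =>
    intro x hx
    rw [pow_succ, pow_succ, afun_mul _ _ (hPN hx), afun_mul _ _ hx, h x hx, ih _ (afun_mem _ hx)]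

omit [Finite S] in
/-- An extension of a `p`-automorphism may be chosen to be a `p`-automorphism. -/
theorem exists_pelement_ext {N : Subgroup Ω} [Finite N] (hPN : P ≤ N) {α : MulAut P} {β : MulAut N}
    (h : ∀ x ∈ P, afun β x = afun α x) {k : ℕ} (hα : α ^ p ^ k = 1) :
    ∃ m : ℕ, (∃ j : ℕ, (β ^ m) ^ p ^ j = 1) ∧ ∀ x ∈ P, afun (β ^ m) x = afun α x := by
  have := finite_mulAut N
  obtain ⟨m, hm, hmk, -⟩ := exists_pow_pelement (p := p) (isOfFinOrder_of_finite β) k
  refine ⟨m, hm, fun x hx => ?_⟩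
  rw [afun_pow_of_eq hPN h m x hx]
  congr 1
  have h1 : α ^ m = α ^ 1 := by
    rw [pow_eq_pow_iff_modEq]
    exact hmk.of_dvd (orderOf_dvd_of_pow_eq_one hα)
  rw [h1, pow_one]

/-- Stancu's axioms. -/
theorem isSaturated_of_stancu (hS : IsPGroup p S) (h1 : F.IsFullyAutomized p S)
    (h2 : ∀ P : Subgroup Ω, F.IsFullyNormalized P → F.IsReceptive P) : F.IsSaturated p := by
  have key : ∀ n : ℕ, ∀ P : Subgroup Ω, Nat.card S - Nat.card P = n → F.IsFullyNormalized P →
      F.IsFullyAutomized p P := by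
    intro n
    induction n using Nat.strong_induction_on with
    | _ n ih =>
    intro P hn hP
    rcases hP.1.eq_or_lt with rfl | hlt
    · exact h1
    by_contra hcon
    rw [isFullyAutomized_iff] at hcon
    have := finite_autGroup F hP.1
    obtain ⟨φ, hφ, hφS, hφN, k, hk⟩ := exists_pgroup_normalizing_of_not_sylowIn
      (autInducedBy_le_autGroup F hP.1) (autInducedBy_pgroup hS P) (fun h => hcon ⟨hP.1, h⟩)
    have hφm := (mem_autGroup hP.1).1 hφ
    have hNext : normalizerIn S P ≤ Next S P (afun φ) := by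
      intro s hs
      obtain ⟨α, hα⟩ := exists_cAut hs.2
      obtain ⟨t, ht, e⟩ := mem_autInducedBy.1
        (conj_mem_of_mem_normalizer hφN (mem_autInducedBy.2 ⟨s, hs.1, hα⟩))
      refine ⟨hs, t, ht, fun x hx => ?_⟩
      rw [← e _ (afun_mem φ hx), afun_mul _ _ (afun_mem φ hx), afun_inv_afun _ hx,
        afun_mul _ _ hx, hα x hx]
    obtain ⟨g, hg, e⟩ := IsReceptive.ext (h2 P hP) hφm (img_afun φ)
    have hg' := hg.mono hNext
    have hgN := hg'.img_normalizerIn hP
    rw [img_congr e, img_afun] at hgN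
    obtain ⟨β, hβ, eβ⟩ := hg'.exists_aut hgN
    have hPN : P ≤ normalizerIn S P := le_normalizerIn hP.1
    have := finite_of_le (normalizerIn_le : normalizerIn S P ≤ S)
    obtain ⟨m, ⟨j, hj⟩, hm⟩ := exists_pelement_ext hPN (α := φ) (β := β)
      (fun x hx => (eβ x (hPN hx)).trans (e x hx)) hk
    obtain ⟨N', hN', hN'n⟩ := exists_fullyNormalized F (normalizerIn_le : normalizerIn S P ≤ S)
    have hcard : Nat.card P < Nat.card N' := by
      rw [← isConj_card hN']
      exact card_lt_of_lt (lt_normalizerIn hS hlt)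
    have hcard' : Nat.card N' ≤ Nat.card S := Subgroup.card_le_of_le hN'n.1
    have hA := ih _ (by omega) N' rfl hN'n
    obtain ⟨ψ, hψ, hψN⟩ := isConj_iff.1 hN'
    obtain ⟨τ, t1, t2, -⟩ := hψ.exists_transport hψN
    have := finite_autGroup F hN'n.1
    obtain ⟨c, hc, ec⟩ := (IsFullyAutomized.sylowIn hA).conj (D := Subgroup.zpowers (τ (β ^ m)))
      ((Subgroup.zpowers_le).2 ((t2 _).2 (Subgroup.pow_mem _ hβ m)))
      (pgroup_zpowers (k := j) (by rw [← map_pow, hj, map_one]))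
    obtain ⟨s, hs, es⟩ := mem_autInducedBy.1 (ec _ (Subgroup.mem_zpowers _))
    have hψx : ∀ x ∈ normalizerIn S P, ψ x ∈ N' := fun x hx => hψN ▸ subset_img hx
    have hψ' : Mor F (normalizerIn S P) (fun x => afun c (ψ x)) :=
      hψ.comp ((mem_autGroup hN'n.1).1 hc) hψx
    have key : ∀ x ∈ normalizerIn S P,
        afun c (ψ (afun (β ^ m) x)) = s * afun c (ψ x) * s⁻¹ := by
      intro x hx
      rw [← es _ (afun_mem c (hψx x hx)), afun_mul _ _ (afun_mem c (hψx x hx)),
        afun_inv_afun _ (hψx x hx), afun_mul _ _ (hψx x hx), t1 _ _ hx]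
    have hsN : s ∈ normalizerIn S (img (fun x => afun c (ψ x)) P) := by
      refine ⟨hs, ?_⟩
      have := finite_of_le (hψ'.mono hPN).img_le
      refine mem_normalizer_of_finite fun y hy => ?_
      obtain ⟨x, hx, rfl⟩ := (hψ'.mono hPN).mem_img.1 hy
      rw [← key x (hPN hx), hm x hx]
      exact subset_img (f := fun x => afun c (ψ x)) (afun_mem φ hx)
    rw [← hψ'.img_normalizerIn hP] at hsN
    obtain ⟨t, ht, rfl⟩ := hψ'.mem_img.1 hsN
    apply hφS
    refine mem_autInducedBy.2 ⟨t, ht.1, fun x hx => ?_⟩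
    have h3 := key x (hPN hx)
    rw [← hψ'.map_conj ht (hPN hx), hm x hx] at h3
    exact hψ'.inj (hPN (afun_mem φ hx)) (hPN (conj_mem_of_mem_normalizerIn ht hx)) h3
  intro P hP
  obtain ⟨Q, hQ, hN⟩ := exists_fullyNormalized F hP
  exact ⟨Q, hQ, key _ Q rfl hN, h2 Q hN⟩

end Cfsg.Agent.Fusion
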