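import Cfsg.Agent.Lib.BG.HH

/-!
Non-modular analogues of the Hall-Higman lemmas.
-/

set_option autoImplicit false
set_option linter.unusedSectionVars false
set_option linter.unusedVariables false
set_option linter.style.haveILetI false

namespace Cfsg.Agent.Sh

open Module Representation LinearMap Cfsg.Agent.BG Cfsg.Agent.HH
open scoped commutatorElement

universe u v w

theorem dvd_sum_semireg {Q : Type*} (α : Equiv.Perm Q) {P : ℕ} (hP : 0 < P) (hα : α ^ P = 1) (g : Q → ℤ)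
    (hg : ∀ t, g (α t) = g t) (S : Finset Q) (h1 : ∀ t ∈ S, α t ∈ S)
    (h2 : ∀ t ∈ S, ∀ i, 0 < i → i < P → (α ^ i) t ≠ t) : (P : ℤ) ∣ ∑ t ∈ S, g t := by
  classical
  induction S using Finset.strongInduction with
  | H S ih =>
  rcases S.eq_empty_or_nonempty with rfl | ⟨t, ht⟩
  · simp
  have h3 : ∀ i, (α ^ i) t ∈ S := fun i => by
    induction i with
    | zero => exact ht
    | succ i ih => rw [pow_succ']; exact h1 _ ih
  have h4 : ∀ i, g ((α ^ i) t) = g t := fun i => by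
    induction i with
    | zero => rfl
    | succ i ih => rw [pow_succ', Equiv.Perm.mul_apply, hg, ih]
  set O := (Finset.range P).image fun i => (α ^ i) t
  have hO : O ⊆ S := Finset.image_subset_iff.2 fun i _ => h3 i
  have hm : ∀ i, (α ^ i) t ∈ O := fun i => Finset.mem_image.2 ⟨i % P, Finset.mem_range.2 (Nat.mod_lt _ hP), by
    rw [← pow_eq_pow_mod i hα]⟩
  have h5 : ∀ i j, i < j → j < P → (α ^ i) t ≠ (α ^ j) t := fun i j hij hj e =>
    h2 _ (h3 i) (j - i) (by omega) (by omega) (by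
      rw [← Equiv.Perm.mul_apply, ← pow_add, Nat.sub_add_cancel hij.le, e])
  rw [← Finset.sum_sdiff hO]
  refine dvd_add (ih _ (Finset.sdiff_ssubset hO ⟨_, hm 0⟩) (fun u hu => ?_)
    fun u hu => h2 u (Finset.mem_sdiff.1 hu).1) ⟨g t, ?_⟩
  · rw [Finset.mem_sdiff] at hu ⊢
    refine ⟨h1 u hu.1, fun h => hu.2 ?_⟩
    obtain ⟨i, -, hi⟩ := Finset.mem_image.1 h
    have : u = (α ^ (P - 1 + i)) t := by
      rw [pow_add, Equiv.Perm.mul_apply, hi, ← Equiv.Perm.mul_apply, ← pow_succ, Nat.sub_add_cancel hP, hα]; rfl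
    exact this ▸ hm _
  · rw [Finset.sum_image]
    · simp [h4]
    · intro i hi j hj e
      rw [Finset.coe_range, Set.mem_Iio] at hi hj
      rcases lt_trichotomy i j with h | h | h
      exacts [absurd e (h5 i j h hj), h, absurd e.symm (h5 j i h hi)]

variable {Q : Type u} [Group Q] [Finite Q]

/-- a semiregular action on the complement of a subgroup -/
theorem dvd_relIndex_sub {α : MulAut Q} {P : ℕ} (hP : 0 < P) (hα : α ^ P = 1) {D E : Subgroup Q} (hDE : D ≤ E)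
    (hD : ∀ t, α t ∈ D → t ∈ D) (hE : ∀ t ∈ E, α t ∈ E) (hc : P.Coprime (Nat.card D))
    (h2 : ∀ t ∈ E, ∀ i, 0 < i → i < P → (α ^ i) t = t → t ∈ D) : P ∣ D.relIndex E - 1 := by
  classical
  haveI := Fintype.ofFinite Q
  have := dvd_sum_semireg (MulAut.toPerm Q α) hP (by rw [← map_pow, hα, map_one]) (fun _ => 1) (fun _ => rfl)
    ((Finset.univ.filter (· ∈ E)) \ Finset.univ.filter (· ∈ D))
    (fun t ht => by
      simp only [Finset.mem_sdiff, Finset.mem_filter, Finset.mem_univ, true_and] at ht ⊢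
      exact ⟨hE t ht.1, fun h => ht.2 (hD t h)⟩)
    fun t ht i h3 h4 e => by
      simp only [Finset.mem_sdiff, Finset.mem_filter, Finset.mem_univ, true_and] at ht
      exact ht.2 (h2 t ht.1 i h3 h4 (by rw [← map_pow] at e; exact e))
  rw [Finset.sum_const, nsmul_eq_mul, mul_one, Int.natCast_dvd_natCast, Finset.card_sdiff_of_subset
    (Finset.monotone_filter_right _ fun x _ h => hDE h), ← Fintype.card_subtype, ← Fintype.card_subtype,
    ← Nat.card_eq_fintype_card, ← Nat.card_eq_fintype_card] at this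
  refine hc.dvd_of_dvd_mul_left ?_
  rwa [Nat.mul_sub, mul_one, Solv.card_mul_relIndex hDE]

theorem two_mul_dvd {b e : ℕ} (hb : 0 < b) (h : 2 ^ b + 1 ∣ 2 ^ e - 1) : 2 * b ∣ e := by
  induction e using Nat.strong_induction_on with
  | _ e ih =>
  by_cases h1 : 2 * b ≤ e
  · obtain ⟨k, rfl⟩ := Nat.exists_eq_add_of_le h1
    refine dvd_add dvd_rfl (ih k (by omega) ?_)
    have h2 : 2 ^ (2 * b + k) - 1 = (2 ^ b + 1) * ((2 ^ b - 1) * 2 ^ k) + (2 ^ k - 1) := by
      have := Nat.one_le_two_pow (n := b)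
      have := Nat.one_le_two_pow (n := k)
      have := Nat.one_le_two_pow (n := 2 * b + k)
      zify [*]; ring
    rwa [h2, Nat.dvd_add_right (dvd_mul_right _ _)] at h
  rcases Nat.eq_zero_or_pos e with rfl | he
  · exact dvd_zero _
  exfalso
  have h3 := Nat.one_lt_two_pow he.ne'
  by_cases h2 : e ≤ b
  · have := Nat.le_of_dvd (by omega) h
    have := Nat.pow_le_pow_right two_pos h2
    omega
  · obtain ⟨k, rfl⟩ := Nat.exists_eq_add_of_le (not_le.1 h2).le
    have h4 : (2 ^ b + 1) * 2 ^ k = (2 ^ (b + k) - 1) + (2 ^ k + 1) := by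
      zify [h3.le]; ring
    have h5 : 2 ^ b + 1 ∣ 2 ^ k + 1 := (Nat.dvd_add_right h).1 (h4 ▸ dvd_mul_right _ _)
    have := Nat.le_of_dvd (Nat.succ_pos _) h5
    have := Nat.pow_lt_pow_right one_lt_two (show k < b by omega)
    omega

theorem lte_two {p b e n j : ℕ} [hp : Fact p.Prime] (hp2 : p ≠ 2) (hb : 0 < b) (hn : 0 < n)
    (h1 : 2 ^ b + 1 = p ^ n) (he : 0 < e) (h : p ^ (n + j) ∣ 2 ^ e - 1) : 2 * b * p ^ j ≤ e := by
  obtain ⟨k, rfl⟩ := two_mul_dvd hb (h1 ▸ (pow_dvd_pow p (Nat.le_add_right n j)).trans h)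
  have hk : k ≠ 0 := by rintro rfl; simp at he
  have h2 : 2 ^ (2 * b) - 1 = p ^ n * (2 ^ b - 1) := by
    have a1 := Nat.one_le_two_pow (n := b)
    have a2 := Nat.one_le_two_pow (n := 2 * b)
    rw [← h1]; zify [a1, a2]; ring
  have h3 := Nat.one_lt_two_pow hb.ne'
  have hpn : p ∣ 2 ^ b + 1 := h1 ▸ dvd_pow_self p hn.ne'
  have h2p : ¬ p ∣ 2 := fun h => hp2 ((Nat.prime_dvd_prime_iff_eq hp.out Nat.prime_two).1 h)
  have h4 : ¬ p ∣ 2 ^ b - 1 := fun h => h2p (by
    have := Nat.dvd_sub hpn h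
    rwa [show 2 ^ b + 1 - (2 ^ b - 1) = 2 by omega] at this)
  have h5 := padicValNat.pow_sub_pow (p := p) (hp.out.odd_of_ne_two hp2) (x := 2 ^ (2 * b)) (y := 1)
    (Nat.one_lt_two_pow (by omega)) (h2 ▸ dvd_mul_of_dvd_left (dvd_pow_self p hn.ne') _)
    (fun h => h2p (hp.out.dvd_of_dvd_pow h)) hk
  rw [one_pow, ← pow_mul, h2, padicValNat.mul (pow_ne_zero _ hp.out.ne_zero) (by omega), padicValNat.prime_pow,
    padicValNat.eq_zero_of_not_dvd h4] at h5
  have h6 := (padicValNat_dvd_iff_le (by have := Nat.one_lt_two_pow he.ne'; omega)).1 h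
  exact Nat.mul_le_mul_left _ (Nat.le_of_dvd (Nat.pos_of_ne_zero hk)
    ((padicValNat_dvd_iff_le hk).2 (by omega)))

variable {F : Type w} [Field F] [IsAlgClosed F] {U : Type v} [AddCommGroup U] [Module F U]
  [FiniteDimensional F U]

/-- the elements represented by scalars -/
def Sc (σ : Representation F Q U) : Subgroup Q where
  carrier := {t | ∀ g, σ t * σ g = σ g * σ t}
  one_mem' := fun g => by simp
  mul_mem' := fun {a b} ha hb g => by rw [map_mul, mul_assoc, hb, ← mul_assoc, ha, mul_assoc]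
  inv_mem' := fun {a} ha g => by
    calc σ a⁻¹ * σ g = σ a⁻¹ * (σ g * σ a) * σ a⁻¹ := by
          rw [mul_assoc, mul_assoc, ← map_mul σ a, mul_inv_cancel, map_one, mul_one]
      _ = σ g * σ a⁻¹ := by rw [← ha, ← mul_assoc, ← map_mul, inv_mul_cancel, map_one, one_mul]

variable {σ : Representation F Q U}

theorem mem_Sc {t : Q} : t ∈ Sc σ ↔ ∀ g : Q, σ ⁅g, t⁆ = 1 := by
  refine forall_congr' fun g => ⟨fun h => ?_, fun h => ?_⟩
  · rw [commutatorElement_def, map_mul, map_mul, map_mul, ← h, mul_assoc (σ t), ← map_mul, mul_inv_cancel,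
      map_one, mul_one, ← map_mul, mul_inv_cancel, map_one]
  · rw [← map_mul, ← map_mul, show g * t = ⁅g, t⁆ * (t * g) by simp [commutatorElement_def], map_mul σ ⁅g, t⁆, h,
      one_mul]

theorem Sc_scalar [σ.IsIrreducible] {t : Q} (h : t ∈ Sc σ) : ∃ c : F, σ t = c • 1 :=
  Char.schur_scalar σ (σ t) h

theorem mem_Sc_of {t : Q} {c : F} (h : σ t = c • 1) : t ∈ Sc σ := fun g => by simp [h]

theorem center_le_Sc : Subgroup.center Q ≤ Sc σ := fun t h g => by
  rw [← map_mul, ← map_mul, Subgroup.mem_center_iff.1 h]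

instance : (Sc σ).Normal := ⟨fun t h g k => by
  have := h (g⁻¹ * k * g)
  calc σ (g * t * g⁻¹) * σ k = σ g * (σ t * σ (g⁻¹ * k * g)) * σ g⁻¹ := by
        simp only [← map_mul]; congr 1; group
    _ = _ := by rw [this]; simp only [← map_mul]; congr 1; group⟩

theorem tw_scalar {α : MulAut Q} (h : α ∈ Tw σ) {t : Q} {c : F} (ht : σ t = c • 1) : σ (α t) = c • 1 := by
  obtain ⟨A, hA⟩ := h
  have := hA t
  rw [ht, mul_smul_comm, mul_one] at this
  rw [← mul_one (σ (α t)), ← A.mul_inv, ← mul_assoc, ← this, smul_mul_assoc]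

theorem tw_Sc [σ.IsIrreducible] {α : MulAut Q} (h : α ∈ Tw σ) {t : Q} (ht : t ∈ Sc σ) : σ (α t) = σ t := by
  obtain ⟨c, hc⟩ := Sc_scalar ht
  rw [tw_scalar h hc, hc]

theorem tw_mem [σ.IsIrreducible] {α : MulAut Q} (h : α ∈ Tw σ) {t : Q} (ht : t ∈ Sc σ) : α t ∈ Sc σ := by
  obtain ⟨c, hc⟩ := Sc_scalar ht
  exact mem_Sc_of (tw_scalar h hc)

theorem tw_mem' [σ.IsIrreducible] {α : MulAut Q} (h : α ∈ Tw σ) {t : Q} (ht : α t ∈ Sc σ) : t ∈ Sc σ := by
  simpa using tw_mem (inv_mem h) ht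

theorem comm_symm {a b : Q} (h : σ ⁅a, b⁆ = 1) : σ ⁅b, a⁆ = 1 := by
  have := map_mul σ ⁅b, a⁆ ⁅a, b⁆
  rw [h, mul_one, ← commutatorElement_inv a, inv_mul_cancel, map_one] at this
  rw [← commutatorElement_inv a, ← this]

/-- the orthogonal complement of an element -/
def perp [σ.IsIrreducible] (h2 : ∀ a b : Q, ⁅a, b⁆ ∈ Sc σ) (t : Q) : Subgroup Q where
  carrier := {g | σ ⁅g, t⁆ = 1}
  one_mem' := by simp
  mul_mem' := fun {a b} ha hb => by
    simp only [Set.mem_setOf_eq] at *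
    rw [commutatorElement_mul_left_eq_conj_mul, map_mul, map_mul, map_mul, ha, hb, mul_one, mul_one,
      ← map_mul, mul_inv_cancel, map_one]
  inv_mem' := fun {a} ha => by
    simp only [Set.mem_setOf_eq] at *
    have : σ ⁅t, a⁆ = 1 := by
      exact comm_symm ha
    rw [commutatorElement_inv_left, map_mul, map_mul, this, mul_one, ← map_mul, inv_mul_cancel, map_one]

theorem comm_mul_Sc {t n : Q} (hn : n ∈ Sc σ) (g : Q) : σ ⁅g, n * t⁆ = σ ⁅g, t⁆ := by
  rw [commutatorElement_mul_right_eq_mul_conj, map_mul, map_mul, map_mul, mem_Sc.1 hn, one_mul, hn,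
    mul_assoc, ← map_mul, mul_inv_cancel, map_one, mul_one]

/-- an automorphism with `[Q, β] = Q` is fixed point free modulo the scalars -/
theorem fpf_Sc [σ.IsIrreducible] (h2 : ∀ a b : Q, ⁅a, b⁆ ∈ Sc σ) {β : MulAut Q} (hβ : β ∈ Tw σ)
    (h : ∀ N : Subgroup Q, Sc σ ≤ N → (∀ t, β t * t⁻¹ ∈ N) → N = ⊤) {t : Q} (ht : β t * t⁻¹ ∈ Sc σ) :
    t ∈ Sc σ := by
  have := h (perp h2 t) (fun n hn => comm_symm (mem_Sc.1 hn t))
    fun g => by
      show σ ⁅β g * g⁻¹, t⁆ = 1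
      have h3 : σ ⁅β g, t⁆ = σ ⁅g, t⁆ := by
        rw [← comm_mul_Sc ht, inv_mul_cancel_right, ← map_commutatorElement, tw_Sc hβ (h2 _ _)]
      rw [commutatorElement_mul_left_eq_conj_mul, map_mul, map_mul, map_mul, h3, ← h2 g⁻¹ t, mul_assoc (σ _),
        ← map_mul σ (β g), mul_inv_cancel, map_one, mul_one, commutatorElement_inv_left, map_mul, map_mul,
        ← h2 t g, mul_assoc (σ _), ← map_mul σ g⁻¹, inv_mul_cancel, map_one, mul_one, ← map_mul,
        ← commutatorElement_inv g, inv_mul_cancel, map_one]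
  exact mem_Sc.2 fun g => (this ▸ Subgroup.mem_top g : g ∈ perp h2 t)

theorem sq_dim [h : σ.IsIrreducible] (hc : (Nat.card Q : F) ≠ 0) (h2 : ∀ a b : Q, ⁅a, b⁆ ∈ Sc σ) :
    finrank F U ^ 2 = (Sc σ).index := by
  haveI : (resRep σ ⊤).IsIrreducible := (Char.isIrreducible_iff _).2 ⟨((Char.isIrreducible_iff _).1 h).1,
    fun W hW => ((Char.isIrreducible_iff _).1 h).2 W fun g => hW ⟨g, trivial⟩⟩
  rw [← Subgroup.relIndex_top_right]
  refine sq_finrank_eq σ (by rwa [Subgroup.card_top]) (fun z hz => Sc_scalar hz) fun g _ hg => ?_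
  rw [mem_Sc, not_forall] at hg
  obtain ⟨k, hk⟩ := hg
  obtain ⟨c, hc⟩ := Sc_scalar (h2 k g)
  exact ⟨k, c, fun e => hk (by rw [hc, e, one_smul]), hc⟩

theorem orb_bound [σ.IsIrreducible] (hc : (Nat.card Q : F) ≠ 0) {α : MulAut Q} {B : End F U} {m : ℕ}
    (hm : 0 < m) (hB : B ^ m = 1) (hα : α ^ m = 1) (hσ : ∀ t, B * σ t = σ (α t) * B) {D : Subgroup Q}
    (hD : ∀ i, 0 < i → i < m → ∀ t, (α ^ i) t * t⁻¹ ∈ Sc σ ↔ t ∈ D) :
    ∃ o, o * m = (Sc σ).index + (m - 1) * (Sc σ).relIndex D ∧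
      finrank F (LinearMap.ker (mulLeft F B - mulRight F B)) ≤ o := by
  classical
  haveI := Char.nontrivial_of_isIrreducible σ
  haveI : NeZero m := ⟨hm.ne'⟩
  have hT : α ∈ Tw σ := mem_Tw σ (fun e => by rw [e, zero_pow hm.ne'] at hB; exact zero_ne_one hB) hσ
  let qa : ℕ → Q ⧸ Sc σ →* Q ⧸ Sc σ := fun i =>
    QuotientGroup.map _ _ (α ^ i : MulAut Q) fun t ht => tw_mem (pow_mem hT i) ht
  letI : MulAction (Multiplicative (ZMod m)) (Q ⧸ Sc σ) :=
    { smul := fun i e => qa i.toAdd.val e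
      one_smul := fun e => by
        obtain ⟨e, rfl⟩ := QuotientGroup.mk_surjective e
        show QuotientGroup.mk ((α ^ (0 : ZMod m).val) e) = _
        rw [ZMod.val_zero, pow_zero]; rfl
      mul_smul := fun i j e => by
        obtain ⟨e, rfl⟩ := QuotientGroup.mk_surjective e
        show QuotientGroup.mk ((α ^ (i.toAdd + j.toAdd).val) e) =
          QuotientGroup.mk ((α ^ i.toAdd.val) ((α ^ j.toAdd.val) e))
        rw [ZMod.val_add, ← pow_eq_pow_mod _ hα, pow_add]; rfl }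
  have hsm : ∀ (i : Multiplicative (ZMod m)) (t : Q), i • (t : Q ⧸ Sc σ) = ((α ^ i.toAdd.val) t : Q) :=
    fun _ _ => rfl
  haveI := Fintype.ofFinite (Q ⧸ Sc σ)
  haveI := Fintype.ofFinite (MulAction.orbitRel.Quotient (Multiplicative (ZMod m)) (Q ⧸ Sc σ))
  refine ⟨Fintype.card (MulAction.orbitRel.Quotient (Multiplicative (ZMod m)) (Q ⧸ Sc σ)), ?_, ?_⟩
  · have h1 := MulAction.sum_card_fixedBy_eq_card_orbits_mul_card_group (Multiplicative (ZMod m)) (Q ⧸ Sc σ)
    have h2 : ∀ a ∈ Finset.univ.erase (1 : Multiplicative (ZMod m)),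
        Fintype.card (MulAction.fixedBy (Q ⧸ Sc σ) a) = (Sc σ).relIndex D := by
      intro a ha
      have hcm : Nat.card (D.map (QuotientGroup.mk' (Sc σ))) = (Sc σ).relIndex D := by
        rw [← Subgroup.relIndex_ker, QuotientGroup.ker_mk']
      rw [← Nat.card_eq_fintype_card, ← hcm]
      refine Nat.card_congr (Equiv.setCongr (Set.ext fun e => ?_))
      obtain ⟨t, rfl⟩ := QuotientGroup.mk_surjective e
      have h3 := hD a.toAdd.val (Nat.pos_of_ne_zero fun e => (Finset.mem_erase.1 ha).1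
        ((ZMod.val_eq_zero _).1 e)) (ZMod.val_lt _)
      rw [MulAction.mem_fixedBy, hsm, QuotientGroup.eq_iff_div_mem, div_eq_mul_inv, h3]
      refine ⟨fun h => ⟨t, h, rfl⟩, fun ⟨s, h4, h5⟩ => ?_⟩
      have h6 : (s : Q ⧸ Sc σ) = t := h5
      rw [← h3, ← div_eq_mul_inv, ← QuotientGroup.eq_iff_div_mem, ← hsm, ← h6, hsm,
        QuotientGroup.eq_iff_div_mem, div_eq_mul_inv, h3]
      exact h4
    rw [← Finset.add_sum_erase _ _ (Finset.mem_univ 1), Finset.sum_congr rfl h2, Finset.sum_const,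
      Finset.card_erase_of_mem (Finset.mem_univ _), smul_eq_mul, Finset.card_univ] at h1
    have h3 : Fintype.card (MulAction.fixedBy (Q ⧸ Sc σ) (1 : Multiplicative (ZMod m))) = (Sc σ).index := by
      rw [← Nat.card_eq_fintype_card, MulAction.fixedBy_one_eq_univ, Nat.card_univ]; rfl
    rw [h3, Fintype.card_multiplicative, ZMod.card] at h1
    exact h1.symm
  · let Φ : LinearMap.ker (mulLeft F B - mulRight F B) →ₗ[F]
        (MulAction.orbitRel.Quotient (Multiplicative (ZMod m)) (Q ⧸ Sc σ) → F) :=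
      LinearMap.pi fun o => trace F U ∘ₗ mulRight F (σ o.out.out) ∘ₗ Submodule.subtype _
    have h2 : Function.Injective Φ := (injective_iff_map_eq_zero Φ).2 fun f hf =>
      Subtype.ext (eq_zero_of_trace_mul σ hc fun g => by
        let o : MulAction.orbitRel.Quotient (Multiplicative (ZMod m)) (Q ⧸ Sc σ) := Quotient.mk'' (g : Q ⧸ Sc σ)
        obtain ⟨a, ha⟩ : (g : Q ⧸ Sc σ) ∈ MulAction.orbit (Multiplicative (ZMod m)) o.out :=
          MulAction.orbitRel_apply.1 (Quotient.exact' (Quotient.out_eq' o).symm)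
        have h3 : trace F U (f.1 * σ o.out.out) = 0 := congrFun hf o
        set k := a.toAdd.val
        have h4 : ((α ^ k) o.out.out)⁻¹ * g ∈ Sc σ := by
          rw [← QuotientGroup.eq, ← hsm, QuotientGroup.out_eq']; exact ha
        obtain ⟨c, hc⟩ := Sc_scalar h4
        have h6 : B ^ k * B ^ ((m - 1) * k) = 1 := by
          rw [← pow_add, show k + (m - 1) * k = (m - 1 + 1) * k by ring, Nat.sub_add_cancel hm, pow_mul, hB,
            one_pow]
        have h7 : Commute B f.1 := sub_eq_zero.1 (LinearMap.mem_ker.1 f.2)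
        have h5 : σ g = B ^ k * σ o.out.out * B ^ ((m - 1) * k) * σ (((α ^ k) o.out.out)⁻¹ * g) := by
          rw [pow_comm_aut σ hσ, mul_assoc (σ _), h6, mul_one, ← map_mul, mul_inv_cancel_left]
        rw [h5, hc, mul_smul_comm, mul_one, mul_smul_comm, map_smul, ← mul_assoc, trace_mul_comm,
          ← mul_assoc f.1, ← (h7.pow_left k).eq, mul_assoc (B ^ k), ← mul_assoc, ← pow_add, add_comm, pow_add,
          h6, one_mul, h3, smul_zero])
    have h3 := LinearMap.finrank_le_finrank_of_injective h2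
    rwa [finrank_fintype_fun_eq_card] at h3

theorem dim_semireg [σ.IsIrreducible] (hc : (Nat.card Q : F) ≠ 0) (h2 : ∀ a b : Q, ⁅a, b⁆ ∈ Sc σ)
    {α : MulAut Q} {B : End F U} {m : ℕ} (hm : (m : F) ≠ 0) (hB : B ^ m = 1) (hα : α ^ m = 1)
    (hσ : ∀ t, B * σ t = σ (α t) * B) (hD : ∀ i, 0 < i → i < m → ∀ t, (α ^ i) t * t⁻¹ ∈ Sc σ → t ∈ Sc σ)
    (h0 : ∀ u, B u = u → u = 0) : finrank F U = 1 ∨ finrank F U + 1 = m := by
  have hm0 : 0 < m := Nat.pos_of_ne_zero fun e => hm (by simp [e])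
  haveI := Char.nontrivial_of_isIrreducible σ
  have hT : α ∈ Tw σ := mem_Tw σ (fun e => by rw [e, zero_pow hm0.ne'] at hB; exact zero_ne_one hB) hσ
  obtain ⟨o, h3, h4⟩ := orb_bound hc hm0 hB hα hσ (D := Sc σ) fun i a b t =>
    ⟨hD i a b t, fun h => mul_mem (tw_mem (pow_mem hT i) h) (inv_mem h)⟩
  obtain ⟨S, n, h5, h6, h7, h8, h9⟩ := exists_mult hm hB
  rw [Subgroup.relIndex_self, mul_one, ← sq_dim hc h2, ← h7, ← h5] at h3
  have h10 : 0 < S.card := h5 ▸ hm0
  obtain ⟨a, h11, h12⟩ := exists_eq_of_sum_sq_le S ⟨1, h6⟩ n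
    (by have := Nat.mul_le_mul_left S.card (h8.trans h4); rw [mul_comm _ o] at this; omega)
    (by
      have h13 : o * S.card + 1 = (∑ s ∈ S, n s) ^ 2 + S.card := by omega
      have := congrArg (· % S.card) h13
      simp only [Nat.add_mod_right, Nat.mul_add_mod'] at this
      exact this.symm)
  obtain rfl : a = 0 := Nat.le_zero.1 (h9 h0 ▸ h11 1 h6)
  rw [h7, h5] at h12
  simpa using h12

theorem dim_le [σ.IsIrreducible] (hc : (Nat.card Q : F) ≠ 0) (h2 : ∀ a b : Q, ⁅a, b⁆ ∈ Sc σ)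
    {α : MulAut Q} {B : End F U} {m : ℕ} (hm : (m : F) ≠ 0) (hB : B ^ m = 1) (hα : α ^ m = 1)
    (hσ : ∀ t, B * σ t = σ (α t) * B) {D : Subgroup Q}
    (hD : ∀ i, 0 < i → i < m → ∀ t, (α ^ i) t * t⁻¹ ∈ Sc σ ↔ t ∈ D)
    (h0 : ∀ u, B u = u → u = 0) : (Sc σ).index ≤ (m - 1) ^ 2 * (Sc σ).relIndex D := by
  classical
  have hm0 : 0 < m := Nat.pos_of_ne_zero fun e => hm (by simp [e])
  obtain ⟨o, h3, h4⟩ := orb_bound hc hm0 hB hα hσ hD
  obtain ⟨S, n, h5, h6, h7, h8, h9⟩ := exists_mult hm hB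
  have h10 := sq_sum_le_card_mul_sum_sq (s := S.erase 1) (f := n)
  rw [Finset.sum_erase _ (h9 h0), Finset.sum_erase _ (by simp [h9 h0]), Finset.card_erase_of_mem h6, h5, h7,
    sq_dim hc h2] at h10
  obtain ⟨k, rfl⟩ := Nat.exists_eq_succ_of_ne_zero hm0.ne'
  simp only [Nat.succ_eq_add_one, Nat.add_sub_cancel] at *
  have h11 := h10.trans (Nat.mul_le_mul_left k (h8.trans h4))
  nlinarith [Nat.mul_le_mul_right (k + 1) h11]

end Cfsg.Agent.Sh
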