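import Cfsg.Agent.Lib.Fusion.Sh1

/-!
The representation theoretic core of the Shult-Gross theorem.
-/

set_option autoImplicit false
set_option linter.unusedSectionVars false
set_option linter.unusedVariables false
set_option linter.style.haveILetI false

namespace Cfsg.Agent.Sh

open Module Representation LinearMap Cfsg.Agent.BG Cfsg.Agent.HH
open scoped commutatorElement

universe u v w

theorem pow_mem_of_pow {G : Type*} [Group G] {p : ℕ} [hp : Fact p.Prime] {S : Subgroup G} {g : G} {r i : ℕ}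
    (hg : g ^ p ^ (r + 1) = 1) (hi : 0 < i) (hi' : i < p ^ (r + 1)) (h : g ^ i ∈ S) : g ^ p ^ r ∈ S := by
  obtain ⟨m, -, hm⟩ := exists_period S g (pow_pos hp.out.pos _) (hg ▸ one_mem _)
  obtain ⟨a, ha, rfl⟩ := (Nat.dvd_prime_pow hp.out).1 ((hm _).1 (hg ▸ one_mem _))
  have h5 := (Nat.pow_lt_pow_iff_right hp.out.one_lt).1 ((Nat.le_of_dvd hi ((hm i).1 h)).trans_lt hi')
  exact (hm _).2 (pow_dvd_pow p (Nat.le_of_lt_succ h5))

variable {Q : Type u} [Group Q] [Finite Q] {F : Type w} [Field F] [IsAlgClosed F] {U : Type v}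
  [AddCommGroup U] [Module F U] [FiniteDimensional F U] {σ : Representation F Q U}

/-- the automorphisms stabilizing `σ` and fixing `t` modulo scalars -/
def fixm (σ : Representation F Q U) [σ.IsIrreducible] (t : Q) : Subgroup (MulAut Q) where
  carrier := {γ | γ ∈ Tw σ ∧ γ t * t⁻¹ ∈ Sc σ}
  one_mem' := ⟨one_mem _, by simp⟩
  mul_mem' := fun {a b} ha hb => ⟨mul_mem ha.1 hb.1, by
    convert mul_mem (tw_mem ha.1 hb.2) ha.2 using 1; simp⟩
  inv_mem' := fun {a} ha => ⟨inv_mem ha.1, by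
    convert tw_mem (inv_mem ha.1) (inv_mem ha.2) using 1; simp⟩

theorem ker_top_of_dim [σ.IsIrreducible] (hc : (Nat.card Q : F) ≠ 0) (h2 : ∀ a b : Q, ⁅a, b⁆ ∈ Sc σ)
    (h : finrank F U = 1) {β : MulAut Q} (hβ : β ∈ Tw σ) (t : Q) : β t * t⁻¹ ∈ σ.ker := by
  have := sq_dim hc h2
  rw [h, one_pow, eq_comm, Subgroup.index_eq_one] at this
  rw [MonoidHom.mem_ker, map_mul, tw_Sc hβ (this ▸ Subgroup.mem_top t), ← map_mul, mul_inv_cancel, map_one]

/-- a central element killed by all the other conjugates of `σ` is killed by `σ` -/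
theorem central_kill [σ.IsIrreducible] {α : MulAut Q} {m : ℕ} (hm : 0 < m) (hT : α ^ m ∈ Tw σ)
    (h4 : ∀ t, α t = t → t = 1) {z : Q} (hz : z ∈ Subgroup.center Q)
    (h : ∀ i, 0 < i → i < m → σ ((α ^ i) z) = 1) : σ z = 1 := by
  haveI := Char.nontrivial_of_isIrreducible σ
  have hZ : ∀ (γ : MulAut Q), ∀ t ∈ Subgroup.center Q, γ t ∈ Subgroup.center Q := fun γ t ht =>
    Subgroup.characteristic_iff_le_comap.1 inferInstance γ ht
  let φ : Subgroup.center Q →* Subgroup.center Q :=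
    ((α : Q →* Q).comp (Subgroup.center Q).subtype).codRestrict _ fun t => hZ α t t.2
  obtain ⟨t, ht⟩ := MonoidHom.FixedPointFree.commutatorMap_surjective (φ := φ)
    (fun t e => Subtype.ext (h4 t (congrArg Subtype.val e))) ⟨z, hz⟩
  have e : z * α t = t := by
    have : (t : Q) / α t = z := congrArg Subtype.val ht
    rw [← this, div_mul_cancel]
  obtain ⟨l, hl⟩ := exists_scalar_hom σ (Subgroup.center Q).subtype fun a g =>
    (Subgroup.mem_center_iff.1 a.2 g).symm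
  have inj := smul_left_injective F (one_ne_zero (α := End F U))
  let c : ℕ → Subgroup.center Q → F := fun i x => l ⟨(α ^ i) x, hZ _ _ x.2⟩
  have h1 : (∏ i ∈ Finset.range m, c i ⟨z, hz⟩) * ∏ i ∈ Finset.range m, c (i + 1) t =
      ∏ i ∈ Finset.range m, c i t := by
    rw [← Finset.prod_mul_distrib]
    refine Finset.prod_congr rfl fun i _ => ?_
    rw [← map_mul]
    refine congrArg l (Subtype.ext ?_)
    show (α ^ i) z * (α ^ (i + 1)) t = (α ^ i) t
    rw [pow_succ, MulAut.mul_apply, ← map_mul, e]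
  have h2 : c m t = c 0 t := inj ((hl _).symm.trans ((tw_Sc hT (center_le_Sc t.2)).trans (hl _)))
  have h0 : ∀ i x, c i x ≠ 0 := fun i x => ((Group.isUnit _).map l).ne_zero
  have h3 : ∏ i ∈ Finset.range m, c (i + 1) t = ∏ i ∈ Finset.range m, c i t := by
    refine mul_right_cancel₀ (h0 0 t) ?_
    rw [← Finset.prod_range_succ' (fun i => c i t), Finset.prod_range_succ, h2]
  rw [h3, mul_eq_right₀ (Finset.prod_ne_zero_iff.2 fun i _ => h0 i t), Finset.prod_eq_single 0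
    (fun i hi h0 => inj ((hl _).symm.trans ((h i (Nat.pos_of_ne_zero h0) (Finset.mem_range.1 hi)).trans
      (one_smul _ _).symm))) fun h => absurd (Finset.mem_range.2 hm) h] at h1
  exact (hl ⟨z, hz⟩).trans (by rw [show l ⟨z, hz⟩ = 1 from h1, one_smul])

variable {W : Type v} [AddCommGroup W] [Module F W] [FiniteDimensional F W]

theorem sg {p q n : ℕ} [hp : Fact p.Prime] [hq : Fact q.Prime] (hp2 : p ≠ 2) (hpq : q ≠ p)
    (hQ : IsPGroup q Q) (hp0 : (p : F) ≠ 0) (hq0 : (q : F) ≠ 0) (ρ : Representation F Q W)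
    (h0 : ¬ ⊤ ≤ ρ.ker) (α : MulAut Q) (Y : End F W) (hY : Y ^ p ^ (n + 1) = 1) (hα : α ^ p ^ (n + 1) = 1)
    (hρ : ∀ t, Y * ρ t = ρ (α t) * Y) (h1 : ∀ t, (α ^ p ^ n) t = t → t ∈ Subgroup.center Q)
    (h2 : ∀ N : Subgroup Q, (∀ t, (α ^ p ^ n) t * t⁻¹ ∈ N) → N = ⊤)
    (h3 : ∀ a b : Q, ⁅a, b⁆ ∈ Subgroup.center Q) (h4 : ∀ t, α t = t → t = 1)
    (h5 : ∀ w, Y w = w → w = 0) : False := by
  obtain ⟨k, hk⟩ := hQ.exists_card_eq
  have hc : (Nat.card Q : F) ≠ 0 := by rw [hk, Nat.cast_pow]; exact pow_ne_zero _ hq0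
  obtain ⟨U, _, _, _, σ, ι, hσ, a1, a2, a3⟩ := exists_irr_ne_one ρ hc ⊤ h0
  obtain ⟨m, ι, π, B, b1, b2, b3, b4, b5, b6, b7⟩ := cliff ρ σ hc a1 a2 hρ (pow_pos hp.out.pos (n + 1))
    (hα ▸ one_mem _)
  obtain ⟨j, hj, rfl⟩ := (Nat.dvd_prime_pow hp.out).1 b2
  obtain ⟨n₀, hn⟩ := Nat.exists_eq_add_of_le hj
  have hι := Function.LeftInverse.injective b3
  have c1 : ∀ k u, ((Y ^ p ^ j) ^ k) (ι u) = ι ((B ^ k) u) := fun k u => by
    induction k with
    | zero => rfl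
    | succ k ih => rw [pow_succ', pow_succ', End.mul_apply, ih, b6]; rfl
  have c2 : ∀ u, B u = u → u = 0 := fun u hu => by
    have := h5 ((∑ i ∈ Finset.range (p ^ j), Y ^ i) (ι u)) (by
      rw [← sub_eq_zero, ← End.one_apply (R := F) ((∑ i ∈ Finset.range (p ^ j), Y ^ i) (ι u)),
        End.one_apply, ← End.mul_apply]
      have := LinearMap.congr_fun (mul_geom_sum Y (p ^ j)) (ι u)
      rw [sub_mul, one_mul, LinearMap.sub_apply, LinearMap.sub_apply, b6, hu, End.one_apply, sub_self] at this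
      exact this)
    have := congrArg π this
    rwa [LinearMap.sum_apply, map_sum, Finset.sum_eq_single 0 (fun i hi h0 => b7 i (fun h => h0
      (Nat.eq_zero_of_dvd_of_lt h (Finset.mem_range.1 hi))) _) (fun h => (h (Finset.mem_range.2 b1)).elim),
      pow_zero, End.one_apply, b3, map_zero] at this
  haveI := Char.nontrivial_of_isIrreducible σ
  have d1 : B ^ p ^ n₀ = 1 := LinearMap.ext fun u => hι (by rw [← c1, ← pow_mul, ← pow_add, ← hn, hY]; rfl)
  obtain rfl | ⟨r, rfl⟩ := n₀.eq_zero_or_eq_succ_pred.imp_right fun e => (⟨_, e⟩ : ∃ r, n₀ = r + 1)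
  · obtain ⟨u, hu⟩ := exists_ne (0 : U)
    exact hu (c2 u (by rw [pow_zero, pow_one] at d1; rw [d1]; rfl))
  obtain rfl : n = j + r := by omega
  have d2 : ∀ t, B * σ t = σ ((α ^ p ^ j) t) * B := fun t => LinearMap.ext fun u => hι (by
    rw [End.mul_apply, End.mul_apply, ← b6, b4, b4, ← b6, ← End.mul_apply, pow_comm_aut ρ hρ]; rfl)
  have d3 : (α ^ p ^ j) ^ p ^ (r + 1) = 1 := by rw [← pow_mul, ← pow_add, ← add_assoc, hα]
  have hT : α ^ p ^ j ∈ Tw σ := mem_Tw σ (fun e => by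
    rw [e, zero_pow (pow_pos hp.out.pos _).ne'] at d1; exact zero_ne_one d1) d2
  have hy : α ^ p ^ (j + r) ∈ Tw σ := by rw [pow_add, pow_mul]; exact pow_mem hT _
  have h3' : ∀ a b : Q, ⁅a, b⁆ ∈ Sc σ := fun a b => center_le_Sc (h3 a b)
  have d4 : finrank F U ≠ 1 := fun e => a3 (h2 _ (ker_top_of_dim hc h3' e hy)).ge
  have d5 := (dim_semireg hc h3' (by rw [Nat.cast_pow]; exact pow_ne_zero _ hp0) d1 d3 d2
    (fun i hi hi' t ht => fpf_Sc h3' hy (fun N _ => h2 N) (by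
      have := (pow_mem_of_pow (S := fixm σ t) d3 hi hi' ⟨pow_mem hT i, ht⟩).2
      rwa [← pow_mul, ← pow_add] at this)) c2).resolve_left d4
  have d6 := sq_dim hc h3'
  obtain ⟨b, -, hb⟩ := (Nat.dvd_prime_pow hq.out).1 (((dvd_pow_self _ two_ne_zero).trans
    (d6 ▸ Subgroup.index_dvd_card _)).trans hk.dvd)
  have hb0 : 0 < b := Nat.pos_of_ne_zero fun e => d4 (by rw [hb, e, pow_zero])
  rw [hb] at d5 d6
  obtain rfl : q = 2 := by
    by_contra e
    have := ((hq.out.odd_of_ne_two e).pow (n := b)).add_one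
    rw [d5] at this
    exact Nat.not_even_iff_odd.2 (hp.out.odd_of_ne_two hp2).pow this
  let M : Subgroup Q := ⨅ i : Fin (p ^ j - 1), (Sc σ).comap (α ^ (i.val + 1) : MulAut Q)
  have hM : ∀ t ∈ M, ∀ i, 0 < i → i < p ^ j → (α ^ i) t ∈ Sc σ := fun t ht i e1 e2 => by
    have := Subgroup.mem_iInf.1 ht ⟨i - 1, by omega⟩
    rwa [Nat.sub_add_cancel e1] at this
  have hD : ∀ t, t ∈ M ⊓ Sc σ ↔ ∀ i, (α ^ i) t ∈ Sc σ := fun t => ⟨fun ht i => by
    rw [← Nat.div_add_mod i (p ^ j), pow_add, pow_mul, MulAut.mul_apply]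
    refine tw_mem (pow_mem hT _) ?_
    rcases Nat.eq_zero_or_pos (i % p ^ j) with e | e
    · rw [e]; exact ht.2
    · exact hM t ht.1 _ e (Nat.mod_lt _ b1), fun h => ⟨Subgroup.mem_iInf.2 fun i => h _, h 0⟩⟩
  have hP := pow_pos hp.out.pos (j + r + 1)
  have e1 := dvd_relIndex_sub hP hα (D := M ⊓ Sc σ) le_top (fun t ht => (hD t).2 fun i => by
      have := (hD _).1 ht (i + (p ^ (j + r + 1) - 1))
      rwa [← MulAut.mul_apply, ← pow_succ, add_assoc, Nat.sub_add_cancel hP, pow_add, hα, mul_one] at this)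
    (fun _ _ => trivial) ((Comp.coprime_of_isPGroup_of_ne hpq (hQ.to_subgroup _)).symm.pow_left _)
    fun t _ i e1 e2 e3 => (hD t).2 fun l => center_le_Sc (Subgroup.characteristic_iff_le_comap.1
      inferInstance _ (h1 t (pow_mem_of_pow (S := MulAction.stabilizer (MulAut Q) t) hα e1 e2 e3)))
  rw [Subgroup.relIndex_top_right] at e1
  have hS : Sc σ ≠ ⊤ := fun e => by
    rw [e, Subgroup.index_top] at d6
    exact absurd d6 (Nat.one_lt_pow two_ne_zero (Nat.one_lt_two_pow hb0.ne')).ne'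
  obtain ⟨e, -, he⟩ := (Nat.dvd_prime_pow hq.out).1 ((Subgroup.index_dvd_card (M ⊓ Sc σ)).trans hk.dvd)
  have e2 := lte_two (j := j) (e := e) hp2 hb0 (Nat.succ_pos r) d5 (Nat.pos_of_ne_zero fun e0 => hS (by
    rw [e0, pow_zero, Subgroup.index_eq_one] at he; exact top_unique (he.ge.trans inf_le_right)))
    (by rwa [he, show j + r + 1 = r + 1 + j by ring] at e1)
  have e3 : M.index ≤ (Sc σ).index ^ (p ^ j - 1) := (Subgroup.index_iInf_le _).trans (by
    rw [Finset.prod_congr rfl fun (i : Fin (p ^ j - 1)) _ => Subgroup.index_comap_of_surjective (Sc σ)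
      (f := ((α ^ (i.val + 1) : MulAut Q) : Q →* Q)) (MulEquiv.surjective _)]
    simp)
  have e4 := Subgroup.relIndex_mul_index (inf_le_left : M ⊓ Sc σ ≤ M)
  have e5 := Subgroup.relIndex_mul_index (le_sup_right : Sc σ ≤ M ⊔ Sc σ)
  rw [Subgroup.inf_relIndex_left, ← Subgroup.relIndex_sup_right] at e4
  have e6 : (Sc σ).index * (Sc σ).index ^ (p ^ j - 1) ≤ (M ⊓ Sc σ).index := by
    rw [← pow_succ', Nat.sub_add_cancel b1, he, ← d6, ← pow_mul, ← pow_mul]
    exact Nat.pow_le_pow_right two_pos (by rw [← mul_assoc, mul_comm b]; exact e2)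
  have e7 := Nat.le_of_mul_le_mul_right (e6.trans (e4.ge.trans (Nat.mul_le_mul_left _ e3)))
    (pow_pos (Nat.pos_of_ne_zero Subgroup.index_ne_zero_of_finite) _)
  have e8 : M ⊔ Sc σ = ⊤ := by
    rw [← Subgroup.index_eq_one]
    have : 0 < (Sc σ).index := Nat.pos_of_ne_zero Subgroup.index_ne_zero_of_finite
    have : 0 < (M ⊔ Sc σ).index := Nat.pos_of_ne_zero Subgroup.index_ne_zero_of_finite
    nlinarith
  obtain ⟨a, ha, ha'⟩ := SetLike.not_le_iff_exists.1 fun h : M ≤ Sc σ => hS (by rwa [sup_eq_right.2 h] at e8)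
  refine ha' (mem_Sc.2 fun g => central_kill b1 hT h4 (h3 g a) fun i i1 i2 => ?_)
  rw [map_commutatorElement]
  exact mem_Sc.1 (hM a ha i i1 i2) _

end Cfsg.Agent.Sh
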