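import Cfsg.Agent.Lib.Fusion.Sh2
import Cfsg.Agent.Lib.BG.Act
import Cfsg.Agent.Lib.SSF.FitL

/-!
The Shult-Gross theorem.
-/

set_option autoImplicit false
set_option linter.unusedSectionVars false
set_option linter.unusedVariables false
set_option linter.style.haveILetI false

namespace Cfsg.Agent.Sh

open Subgroup Cfsg.Agent.Comp Cfsg.Agent.BG
open scoped commutatorElement

universe u

variable {G : Type u} [Group G] [Finite G] {p r n : ℕ} {V K U L X A : Subgroup G} {s : G}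

theorem exists_prime_of_min (hX : X ≤ Nm(L)) (hc : (Nat.card X).Coprime (Nat.card L))
    (hs : Group.IsSolvable L) (a3 : ¬ A ≤ Ct(L)) (a4 : ∀ Y, Y < L → X ≤ Nm(Y) → A ≤ Ct(Y)) :
    ∃ q, q.Prime ∧ IsPGroup q L := by
  by_contra h
  refine a3 (le_Ct_comm.1 (inf_eq_left.1 (eq_of_forall_sylIn inf_le_left fun q hq _ => ?_)))
  haveI := Fact.mk hq
  obtain ⟨T, b1, b2⟩ := exists_invariant_sylIn q hX hc (Or.inr hs)
  exact ⟨T, b1, le_inf b1.le (le_Ct_comm.1 (a4 T (lt_of_le_of_ne b1.le fun e => h ⟨q, hq, e ▸ b1.isP⟩) b2))⟩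

theorem top_of_comm {y : G} (hy : y ∈ Nm(L)) (b1 : ⁅L, zpowers y⁆ = L) (N : Subgroup L)
    (hN : ∀ t, L.normalizerMonoidHom ⟨y, hy⟩ t * t⁻¹ ∈ N) : N = ⊤ := by
  let S : Subgroup G :=
    { carrier := {a | a ∈ Nm(L) ∧ ∀ t ∈ L, a * t * a⁻¹ * t⁻¹ ∈ N.map L.subtype}
      one_mem' := ⟨one_mem _, fun t _ => by simp⟩
      mul_mem' := fun {a b} ha hb => ⟨mul_mem ha.1 hb.1, fun t ht => by
        convert mul_mem (ha.2 _ (Solv.conj_mem_of_mem_normalizer hb.1 ht)) (hb.2 t ht) using 1; group⟩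
      inv_mem' := fun {a} ha => ⟨inv_mem ha.1, fun t ht => by
        convert inv_mem (ha.2 _ (Solv.conj_mem_of_mem_normalizer' ha.1 ht)) using 1; group⟩ }
  have h3 : zpowers y ≤ S := zpowers_le.2 ⟨hy, fun t ht => ⟨_, hN ⟨t, ht⟩, rfl⟩⟩
  refine eq_top_iff.2 fun t _ => (mem_map_iff_mem L.subtype_injective).1 (?_ : (t : G) ∈ _)
  exact (commutator_le.2 fun a ha t ht => (h3 ha).2 t ht : ⁅zpowers y, L⁆ ≤ _)
    (by rw [Subgroup.commutator_comm, b1]; exact t.2)

variable [hp : Fact p.Prime]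

theorem cop (h : s ^ p ^ n = 1) (k : ℕ) {m : ℕ} (ho : m.Coprime p) : (Nat.card (zpowers (s ^ k))).Coprime m :=
  (Nat.Coprime.pow_left n ho.symm).coprime_dvd_left (by
    rw [Nat.card_zpowers]; exact (orderOf_pow_dvd k).trans (orderOf_dvd_of_pow_eq_one h))

theorem cop1 (h : s ^ p ^ n = 1) {m : ℕ} (ho : m.Coprime p) : (Nat.card (zpowers s)).Coprime m := by
  simpa using cop h 1 ho

theorem core [hr : Fact r.Prime] (hp2 : p ≠ 2) (h : s ^ p ^ (n + 1) = 1) (hV : IsPGroup r V)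
    (hs : Group.IsSolvable K) (hn : s ∈ Nm(K)) (hK : K ≤ Nm(V)) (hR : s ∈ Nm(V))
    (hKr : (Nat.card K).Coprime r) (hKp : (Nat.card K).Coprime p) (hVp : (Nat.card V).Coprime p)
    (hf : K ⊓ Ct(V) = ⊥) (h0 : V ⊓ C1(s) = ⊥) (h1 : K ⊓ C1(s) = ⊥) : zpowers (s ^ p ^ n) ≤ Ct(K) := by
  by_contra e
  obtain ⟨L, l1, l2, l3, l4⟩ := exists_min_not_le_Ct (zpowers_le.2 hn) e
  have ho := hKp.of_dvd_left (card_dvd_of_le l1)
  have hLr := hKr.of_dvd_left (card_dvd_of_le l1)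
  have t1 : zpowers (s ^ p ^ n) ≤ zpowers s := zpowers_le.2 (pow_mem (mem_zpowers s) _)
  have hsL := Comp.isSolvable_of_le l1 hs
  obtain ⟨l5, l6, l7⟩ := min_not_le_Ct hsL l2 t1 (le_normalizer_of_le_centralizer
    ((comm_iff_le.1 inferInstance).trans (Comp.centralizer_mono t1))) (cop h _ ho) l3 l4
  obtain ⟨q, hq, hQ⟩ := exists_prime_of_min l2 (cop1 h ho) hsL l3 l4
  haveI := Fact.mk hq
  have hL : L ≠ ⊥ := fun e => l3 (by rw [e]; exact le_Ct_comm.1 bot_le)
  have hqL := Solv.dvd_card_of_isPGroup hQ hL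
  have hV0 : V ≠ ⊥ := fun e => hL (eq_bot_iff.2 (hf ▸ le_inf l1 (by rw [e]; exact le_Ct_comm.1 bot_le)))
  let x' : Nm(L) := ⟨s, l2 (mem_zpowers s)⟩
  have hα : ∀ i t, ((L.normalizerMonoidHom x' ^ i) t : G) = s ^ i * t * (s ^ i)⁻¹ := fun i t => by
    rw [← map_pow]; rfl
  refine sg (F := AlgebraicClosure (ZMod r)) (n := n) hp2 (fun e => hq.ne_one ((Nat.coprime_self q).1
      (by simpa only [← e] using ho.of_dvd_left hqL))) hQ
    (cast_ne_zero_of_coprime (hVp.symm.of_dvd_right (Solv.dvd_card_of_isPGroup hV hV0)))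
    (cast_ne_zero_of_coprime (hLr.of_dvd_left hqL))
    ((Transfer.dualRep _ V).comp (inclusion (l1.trans hK))) (fun e => hL (eq_bot_iff.2 (hf ▸ le_inf l1
      (le_Ct_of_le_ker_dualRep hV (l1.trans hK) le_rfl hLr (le_top.trans e)))))
    (L.normalizerMonoidHom x') (Transfer.dualRep _ V ⟨s, hR⟩)
    (by rw [← map_pow]; exact (congrArg _ (Subtype.ext h)).trans (map_one _))
    (MulEquiv.ext fun t => Subtype.ext (by rw [hα, h]; simp))
    (fun t => by
      rw [MonoidHom.comp_apply, MonoidHom.comp_apply, ← map_mul, ← map_mul]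
      exact congrArg _ (Subtype.ext (inv_mul_cancel_right (s * t) s).symm))
    (fun t ht => mem_center_iff.2 fun g => Subtype.ext (l7 ⟨t.2, ?_⟩ g g.2))
    (fun N hN => top_of_comm (t1.trans l2 (mem_zpowers _)) l5 N fun t => ?_)
    (fun a b => mem_center_iff.2 fun g => Subtype.ext (l7 ⟨(⁅a, b⁆ : L).2,
      l6 (commutator_mem_commutator a.2 b.2)⟩ g g.2))
    (fun t ht => Subtype.ext (mem_bot.1 (h1 ▸ ⟨l1 t.2, mem_centralizer_singleton_iff.2
      (mul_inv_eq_iff_eq_mul.1 (congrArg Subtype.val ht)).symm⟩)))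
    fun f hf => eq_zero_of_le_dker (le_trans (le_of_eq (commutator_eq_of_inf_Ct_eq_bot
      (zpowers_le.2 hR) (cop1 h hVp) (Or.inl (Solv.isSolvable_zpowers s))
      (by rwa [centralizer_zpowers])).symm) (commutator_zpowers_le_dker _ hf))
  · have := congrArg Subtype.val ht
    rw [hα, mul_inv_eq_iff_eq_mul] at this
    rw [centralizer_zpowers]
    exact mem_centralizer_singleton_iff.2 this.symm
  · convert hN t using 2
    exact Subtype.ext (hα _ t).symm

theorem img_fpf {M N : Subgroup G} (hq : M ≤ Nm(N)) (h : s ^ p ^ n = 1) (hs : s ∈ M) (h1 : K ≤ M)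
    (hn : s ∈ Nm(K)) (ho : (Nat.card K).Coprime p) (h0 : K ⊓ C1(s) = ⊥) :
    img hq K ⊓ C1(qmap hq ⟨s, hs⟩) = ⊥ := by
  rw [← img_inf_C1 h1 ⟨s, hs⟩ hn (by simpa using cop1 h (ho.of_dvd_left (card_dvd_of_le inf_le_left))), h0,
    img_bot]

theorem qmap_pow {M N : Subgroup G} (hq : M ≤ Nm(N)) {k : ℕ} (h : s ^ k = 1) (hs : s ∈ M) :
    qmap hq ⟨s, hs⟩ ^ k = 1 := by
  rw [← map_pow]; exact (congrArg _ (Subtype.ext h)).trans (map_one _)

theorem core2 [hr : Fact r.Prime] (hp2 : p ≠ 2) (h : s ^ p ^ (n + 1) = 1) (hV : IsPGroup r V)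
    (hs : Group.IsSolvable K) (hn : s ∈ Nm(K)) (hK : K ≤ Nm(V)) (hR : s ∈ Nm(V))
    (hKr : (Nat.card K).Coprime r) (hKp : (Nat.card K).Coprime p) (hVp : (Nat.card V).Coprime p)
    (h0 : V ⊓ C1(s) = ⊥) (h1 : K ⊓ C1(s) = ⊥) : ⁅zpowers (s ^ p ^ n), K⁆ ≤ Ct(V) := by
  have hq : K ⊔ zpowers s ⊔ V ≤ Nm(K ⊓ Ct(V)) := sup_le (Comp.le_normalizer_inf
    (sup_le le_normalizer (zpowers_le.2 hn)) (Comp.le_normalizer_centralizer (sup_le hK (zpowers_le.2 hR))))
    (le_Nm_of_le_Ct' inf_le_right)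
  have a1 : K ≤ K ⊔ zpowers s ⊔ V := le_sup_left.trans le_sup_left
  have a2 : s ∈ K ⊔ zpowers s ⊔ V := mem_sup_left (mem_sup_right (mem_zpowers s))
  have a3 : V ⊓ (K ⊓ Ct(V)) = ⊥ := inf_eq_bot_of_isPGroup hV (hKr.of_dvd_left (card_dvd_of_le inf_le_left))
  refine le_trans ?_ (inf_le_right (a := K))
  rw [← img_le_centralizer_iff (h := hq) (zpowers_le.2 (pow_mem a2 _)) a1]
  have := core (s := qmap hq ⟨s, a2⟩) hp2 (qmap_pow hq h a2) (isPGroup_img hV) (isSolvable_img hs)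
    (zpowers_le.1 (img_zpowers (h := hq) _ ▸ img_le_normalizer (zpowers_le.2 hn))) (img_le_normalizer hK)
    (zpowers_le.1 (img_zpowers (h := hq) _ ▸ img_le_normalizer (zpowers_le.2 hR))) (coprime_img_left hKr)
    (coprime_img_left hKp) (coprime_img_left hVp) (img_inf_Ct_eq_bot a1 le_sup_right hK a3 le_rfl)
    (img_fpf hq h a2 le_sup_right hR hVp h0) (img_fpf hq h a2 a1 hn hKp h1)
  rwa [← map_pow, ← img_zpowers] at this

theorem Op_img_Ct [hr : Fact r.Prime] (c : Chief ⊤ U ⊥) (hU : IsPGroup r U) [hK : K.Normal]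
    (hq : ⊤ ≤ Nm(Ct(U))) : Op r (BG.img hq K) = ⊥ := by
  have hKn : ⊤ ≤ Nm(K) := Comp.normal_iff_top_le_normalizer.1 hK
  haveI : (Op r (BG.img hq K)).Normal := Comp.normal_iff_top_le_normalizer.2 (le_normalizer_Op
    (Comp.normal_iff_top_le_normalizer.1 (img_normal hKn)))
  rw [← img_pre (Op r (BG.img hq K)), img_eq_bot_iff le_top]
  refine c.le_Ct_of_res hU le_top (top_le_normalizer_pre _) ?_
  rw [← img_eq_bot_iff (h := hq) le_top, img_Res le_top, img_pre, Res_eq_bot_iff]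
  exact isPGroup_Op r _

theorem chief [hr : Fact r.Prime] (hp2 : p ≠ 2) (h : s ^ p ^ (n + 1) = 1) (c : Chief ⊤ U ⊥)
    (hU : IsPGroup r U) [hK : K.Normal] (hs : Group.IsSolvable K) (hKp : (Nat.card K).Coprime p)
    (hUp : (Nat.card U).Coprime p) (h0 : U ⊓ C1(s) = ⊥) (h1 : K ⊓ C1(s) = ⊥) :
    ⁅zpowers (s ^ p ^ n), K⁆ ≤ Ct(U) := by
  have hKn : ⊤ ≤ Nm(K) := Comp.normal_iff_top_le_normalizer.1 hK
  have hq : ⊤ ≤ Nm(Ct(U)) := Comp.le_normalizer_centralizer c.nU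
  obtain ⟨H, hH, hRH⟩ := exists_invariant_hallIn (le_top.trans hKn) (cop1 h hKp) hs {r}ᶜ
  have a := core2 hp2 h hU (Comp.isSolvable_of_le hH.le hs) (hRH (mem_zpowers s)) (le_top.trans c.nU)
    (c.nU trivial) (isPi_compl_singleton.1 hH.isPi) (hKp.of_dvd_left (card_dvd_of_le hH.le)) hUp h0
    (le_bot_iff.1 (h1 ▸ inf_le_inf_right _ hH.le))
  rw [← img_le_centralizer_iff (h := hq) le_top le_top] at a ⊢
  refine le_Ct_of_le_Ct_Fit (isSolvable_img hs) (img_le_normalizer (le_top.trans hKn))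
    (coprime_img (cop h _ hKp)) (a.trans (Comp.centralizer_mono ?_))
  refine (Fit_le_Op_sup_Opp (p := r) _).trans ?_
  rw [Op_img_Ct c hU hq, bot_sup_eq, ← Opi_compl_singleton]
  exact (hH.img le_top).Opi_le

theorem comm_le_Fit (hp2 : p ≠ 2) (h : s ^ p ^ (n + 1) = 1) [K.Normal] (hs : Group.IsSolvable K)
    (ho : (Nat.card K).Coprime p) (h0 : K ⊓ C1(s) = ⊥) : ⁅zpowers (s ^ p ^ n), K⁆ ≤ Fit K := by
  have hn : K ⊔ zpowers s ≤ Nm(⁅zpowers (s ^ p ^ n), K⁆) := sup_le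
    (le_sup_right.trans (sup_le_normalizer_commutator _ _)) (Comp.le_normalizer_commutator
      (le_normalizer_of_le_centralizer ((comm_iff_le.1 inferInstance).trans (Comp.centralizer_mono
        (zpowers_le.2 (pow_mem (mem_zpowers s) _))))) le_normalizer_of_normal)
  refine le_Fit_of_chief hs le_sup_left le_normalizer_of_normal (commutator_le_right _ _) hn fun U V c d => ?_
  have hUK := d.trans (Fit_le K)
  have hU : U ≤ K ⊔ zpowers s := hUK.trans le_sup_left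
  have a2 : s ∈ K ⊔ zpowers s := mem_sup_right (mem_zpowers s)
  have hUp := ho.of_dvd_left (card_dvd_of_le hUK)
  obtain ⟨q, hq, hi⟩ := c.exists_piN (hU.trans c.nV) (Comp.isSolvable_of_le hUK hs)
  haveI := Fact.mk hq
  haveI := img_normal (h := c.nV) (H := K) le_normalizer_of_normal
  rw [← img_le_centralizer_iff (h := c.nV) hU ((commutator_le_right _ _).trans le_sup_left), le_Ct_comm,
    img_commutator (zpowers_le.2 (pow_mem a2 _)) le_sup_left]
  have := chief (s := qmap c.nV ⟨s, a2⟩) hp2 (qmap_pow _ h a2) (c.img_bot hU) (c.isPGroup_img hU hi)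
    (isSolvable_img hs) (coprime_img_left ho) (coprime_img_left hUp)
    (img_fpf _ h a2 hU (c.nU a2) hUp (le_bot_iff.1 (h0 ▸ inf_le_inf_right _ hUK)))
    (img_fpf _ h a2 le_sup_left (le_normalizer_of_normal a2) ho h0)
  rwa [← map_pow, ← img_zpowers] at this

theorem img_LL {M N : Subgroup G} (hq : M ≤ Nm(N)) (h : K ≤ M) (k : ℕ) :
    img hq (Sg.LL k K) = Sg.LL k (img hq K) := by
  rw [img, img, ← Sg.map_LL, subgroupOf_eq_of_map (X := Sg.LL k (K.subgroupOf M))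
    (by rw [Sg.map_LL, map_subgroupOf_subtype h])]

theorem shult (hp2 : p ≠ 2) (n : ℕ) : ∀ {G : Type u} [Group G] [Finite G] {K : Subgroup G} [K.Normal] {s : G},
    s ^ p ^ n = 1 → Group.IsSolvable K → (Nat.card K).Coprime p → K ⊓ C1(s) = ⊥ → Sg.LL n K = ⊥ := by
  induction n with
  | zero =>
    intro G _ _ K _ s h _ _ h0
    rw [pow_zero, pow_one] at h
    refine eq_bot_iff.2 (h0 ▸ le_inf le_rfl fun x _ => mem_centralizer_singleton_iff.2 ?_)
    simp [h]
  | succ n ih =>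
    intro G _ _ K _ s h hs ho h0
    have a := comm_le_Fit hp2 h hs ho h0
    haveI : (Fit K).Normal := Comp.normal_iff_top_le_normalizer.2 (le_normalizer_Fit le_normalizer_of_normal)
    have a2 : s ∈ K ⊔ zpowers s := mem_sup_right (mem_zpowers s)
    have hq : K ⊔ zpowers s ≤ Nm(Fit K ⊔ zpowers (s ^ p ^ n)) := by
      refine sup_le (le_normalizer_iff_commutator_le_right.2 ?_) (Comp.le_normalizer_sup
        le_normalizer_of_normal (le_normalizer_of_le_centralizer ((comm_iff_le.1 inferInstance).trans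
          (Comp.centralizer_mono (zpowers_le.2 (pow_mem (mem_zpowers s) _))))))
      refine commutator_le.2 fun k hk x hx => ?_
      obtain ⟨f, hf, y, hy, rfl⟩ := mem_sup_of_normal_left.1 hx
      rw [commutatorElement_mul_right_eq_mul_conj, mul_assoc, mul_assoc]
      refine mem_sup_left (mul_mem (commutator_le_right K _ (commutator_mem_commutator hk hf))
        (mul_mem hf (mul_mem (a ?_) (inv_mem hf))))
      rw [Subgroup.commutator_comm]; exact commutator_mem_commutator hk hy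
    haveI := img_normal (h := hq) (H := K) le_normalizer_of_normal
    have b := ih (s := qmap hq ⟨s, a2⟩) (by
        rw [← map_pow]; exact (qmap_eq_one hq).2 (mem_sup_right (mem_zpowers _)))
      (isSolvable_img (h := hq) hs) (coprime_img_left ho)
      (img_fpf _ h a2 le_sup_left (le_normalizer_of_normal a2) ho h0)
    rw [← img_LL hq le_sup_left, img_eq_bot_iff ((Sg.LL_le _ _).trans le_sup_left)] at b
    have c : Sg.LL n K ≤ Fit K := fun x hx => by
      obtain ⟨f, hf, y, hy, e⟩ := mem_sup_of_normal_left.1 (b hx)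
      have h1 : y ∈ zpowers (s ^ p ^ n) ⊓ K := ⟨hy, by
        rw [← inv_mul_cancel_left f y, e]; exact K.mul_mem (K.inv_mem (Fit_le K hf)) (Sg.LL_le _ _ hx)⟩
      rw [inf_eq_bot_of_coprime (cop h _ ho), mem_bot] at h1
      rw [← e, h1, mul_one]; exact hf
    exact eq_bot_iff.2 ((Sg.gi_mono c).trans (Sg.gi_eq_bot.2 (isNilpotent_Fit K)).le)

end Cfsg.Agent.Sh
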