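import Cfsg.Agent.Lib.Fusion.Sh2

/-!
Representation theoretic lemmas for Ward's theorem.
-/

set_option autoImplicit false
set_option linter.unusedSectionVars false
set_option linter.unusedVariables false
set_option linter.style.haveILetI false

namespace Cfsg.Agent.Sh

open Module Representation LinearMap Cfsg.Agent.BG Cfsg.Agent.HH
open scoped commutatorElement

universe u v w

variable {Q : Type u} [Group Q] [Finite Q] {F : Type w} [Field F] [IsAlgClosed F] {U : Type v}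
  [AddCommGroup U] [Module F U] [FiniteDimensional F U] {σ : Representation F Q U}

theorem sc_inv {α : MulAut Q} (hα : ∀ a b, σ ⁅α a, α b⁆ = σ ⁅a, b⁆) {t : Q} : α t ∈ Sc σ ↔ t ∈ Sc σ := by
  rw [mem_Sc, mem_Sc]
  refine ⟨fun h g => by rw [← hα, h], fun h g => ?_⟩
  obtain ⟨g, rfl⟩ := α.surjective g
  rw [hα, h]

open Classical in
/-- the sign of a commutator -/
noncomputable def chi (σ : Representation F Q U) (t u : Q) : ℤ := if σ ⁅t, u⁆ = 1 then 1 else -1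

theorem chi_symm (t u : Q) : chi σ t u = chi σ u t := by
  unfold chi
  by_cases h : σ ⁅t, u⁆ = 1
  · rw [if_pos h, if_pos (comm_symm h)]
  · rw [if_neg h, if_neg fun e => h (comm_symm e)]

theorem chi_sq (t u : Q) : chi σ t u * chi σ t u = 1 := by
  unfold chi; split_ifs <;> rfl

theorem comm_mul_central (h3 : ∀ a b : Q, ⁅a, b⁆ ∈ Subgroup.center Q) (t u v : Q) :
    ⁅t, u * v⁆ = ⁅t, u⁆ * ⁅t, v⁆ := by
  rw [commutatorElement_mul_right_eq_mul_conj, mul_assoc, mul_assoc, ← mul_assoc u,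
    Subgroup.mem_center_iff.1 (h3 t v) u, mul_inv_cancel_right]

theorem chi_mul [σ.IsIrreducible] (h3 : ∀ a b : Q, ⁅a, b⁆ ∈ Subgroup.center Q)
    (hsq : ∀ t : Q, t ^ 2 ∈ Sc σ) (t u v : Q) : chi σ t (u * v) = chi σ t u * chi σ t v := by
  haveI := Char.nontrivial_of_isIrreducible σ
  have key : ∀ u, σ ⁅t, u⁆ ≠ 1 → σ ⁅t, u⁆ = -1 := fun u h => by
    obtain ⟨c, hc⟩ := Sc_scalar (σ := σ) (center_le_Sc (h3 t u))
    have h1 := mem_Sc.1 (hsq u) t
    rw [sq, comm_mul_central h3, map_mul, hc, smul_mul_smul_comm, mul_one] at h1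
    have h2 := smul_left_injective F (one_ne_zero (α := End F U)) (h1.trans (one_smul F _).symm)
    rcases mul_self_eq_one_iff.1 h2 with e | e
    · exact absurd (by rw [hc, e, one_smul]) h
    · rw [hc, e, neg_smul, one_smul]
  unfold chi
  rw [comm_mul_central h3, map_mul]
  by_cases a : σ ⁅t, u⁆ = 1 <;> by_cases b : σ ⁅t, v⁆ = 1
  · simp [a, b]
  · simp [a, b]
  · simp [a, b]
  · rw [if_neg a, if_neg b, key u a, key v b]; simp

theorem sum_chi [Fintype Q] [σ.IsIrreducible] (h3 : ∀ a b : Q, ⁅a, b⁆ ∈ Subgroup.center Q)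
    (hsq : ∀ t : Q, t ^ 2 ∈ Sc σ) {w : Q} (hw : w ∉ Sc σ) : ∑ t, chi σ t w = 0 := by
  obtain ⟨g, hg⟩ := not_forall.1 fun h => hw (mem_Sc.2 h)
  have h1 : ∑ t, chi σ (g * t) w = ∑ t, chi σ t w := Fintype.sum_equiv (Equiv.mulLeft g) _ _ fun _ => rfl
  have h2 : ∀ t, chi σ (g * t) w = -chi σ t w := fun t => by
    rw [chi_symm, chi_mul h3 hsq, chi_symm w g, chi_symm w t, show chi σ g w = -1 from if_neg hg, neg_one_mul]
  simp only [h2, Finset.sum_neg_distrib] at h1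
  omega

theorem gauss [σ.IsIrreducible] (h3 : ∀ a b : Q, ⁅a, b⁆ ∈ Subgroup.center Q)
    (hsq : ∀ t : Q, t ^ 2 ∈ Sc σ) {α γ : MulAut Q} (hα : ∀ a b, σ ⁅α a, α b⁆ = σ ⁅a, b⁆)
    (hγ : ∀ a b, σ ⁅γ a, γ b⁆ = σ ⁅a, b⁆) (hc : ∀ t, α (γ t) = γ (α t)) {P : ℕ} (hP : 0 < P)
    (h1 : γ ^ P = 1) (hf : ∀ t, α (α t) * t ∈ Sc σ → t ∈ Sc σ)
    (hs : ∀ t, t ∉ Sc σ → ∀ i, 0 < i → i < P → (γ ^ i) t ≠ t) :
    ∃ S : ℤ, S ^ 2 = Nat.card Q * Nat.card (Sc σ) ∧ (P : ℤ) ∣ S - Nat.card (Sc σ) := by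
  classical
  haveI := Fintype.ofFinite Q
  have c1 : ∀ {β : MulAut Q}, (∀ a b, σ ⁅β a, β b⁆ = σ ⁅a, b⁆) → ∀ a b, chi σ (β a) (β b) = chi σ a b :=
    fun h a b => by unfold chi; rw [h]
  have c2 : ∀ t u, u ∈ Sc σ → chi σ t u = 1 := fun t u h => if_pos (mem_Sc.1 h t)
  let f : Q → ℤ := fun t => chi σ t (α t)
  have c3 : ∑ t ∈ Finset.univ.filter (· ∈ Sc σ), f t = Nat.card (Sc σ) := by
    rw [Finset.sum_congr rfl fun t ht => c2 t _ ((sc_inv hα).2 (Finset.mem_filter.1 ht).2)]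
    simp [Fintype.card_subtype]
  refine ⟨∑ t, f t, ?_, ?_⟩
  · have e1 : ∀ t, ∑ u, f u = ∑ u, f (t * α u) := fun t =>
      (Fintype.sum_equiv (α.toEquiv.trans (Equiv.mulLeft t)) _ _ fun _ => rfl).symm
    have e2 : ∀ t u, f t * f (t * α u) = f u * chi σ t (α (α u) * u) := fun t u => by
      simp only [f]
      rw [map_mul, chi_mul h3 hsq, chi_symm (t * _), chi_symm (t * _), chi_mul h3 hsq, chi_mul h3 hsq,
        c1 hα, c1 hα, chi_mul h3 hsq, chi_symm (α t) t, chi_symm (α (α u)) t, chi_symm (α u) u]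
      linear_combination (chi σ t u * chi σ t (α (α u)) * chi σ u (α u)) * chi_sq (σ := σ) t (α t)
    rw [sq, Finset.sum_mul, Finset.sum_congr rfl fun t _ => by rw [e1 t, Finset.mul_sum], Finset.sum_comm]
    simp only [e2, ← Finset.mul_sum]
    rw [← Finset.sum_filter_add_sum_filter_not Finset.univ (· ∈ Sc σ), Finset.sum_eq_zero (s := Finset.univ.filter
      fun x => ¬ x ∈ Sc σ) fun u hu => by
        rw [sum_chi h3 hsq fun e => (Finset.mem_filter.1 hu).2 (hf u e), mul_zero], add_zero,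
      Finset.sum_congr rfl fun u hu => by
        rw [Finset.sum_congr rfl fun t _ => c2 t _ (mul_mem ((sc_inv hα).2 ((sc_inv hα).2
          (Finset.mem_filter.1 hu).2)) (Finset.mem_filter.1 hu).2)], ← Finset.sum_mul, c3, mul_comm]
    simp
  · rw [← Finset.sum_filter_add_sum_filter_not Finset.univ (· ∈ Sc σ), c3, add_sub_cancel_left]
    have e : ∀ i t, ((MulAut.toPerm Q γ) ^ i) t = (γ ^ i) t := fun i t => by rw [← map_pow]; rfl
    refine dvd_sum_semireg (MulAut.toPerm Q γ) hP (by rw [← map_pow, h1, map_one]) f (fun t => ?_) _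
      (fun t ht => Finset.mem_filter.2 ⟨Finset.mem_univ _, fun h => (Finset.mem_filter.1 ht).2
        ((sc_inv hγ).1 h)⟩) fun t ht i a b => e i t ▸ hs t (Finset.mem_filter.1 ht).2 i a b
    show chi σ (γ t) (α (γ t)) = _
    rw [hc, c1 hγ]

theorem gauss_num {S : ℤ} {n d p s : ℕ} (hs : s.Prime) (hp : p.Prime) (hd : d + 1 = p) (h1 : d ≠ 1)
    (hc : (s * p).Coprime n) (hS : S ^ 2 = (n * d ^ 2 : ℕ) * n) (h : ((s * p : ℕ) : ℤ) ∣ S - n) : False := by
  have hc' : IsCoprime ((s * p : ℕ) : ℤ) n := Nat.isCoprime_iff_coprime.2 hc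
  have e : S ^ 2 = ((n : ℤ) * d) ^ 2 := by rw [hS]; push_cast; ring
  have := hp.two_le
  rcases sq_eq_sq_iff_eq_or_eq_neg.1 e with rfl | rfl
  · have h2 : ((s * p : ℕ) : ℤ) ∣ ((d - 1 : ℕ) : ℤ) := hc'.dvd_of_dvd_mul_left (by
      rw [Nat.cast_sub (by omega), Nat.cast_one, mul_sub, mul_one]; exact h)
    have := Nat.le_of_dvd (by omega) ((Dvd.intro_left s rfl).trans (Int.natCast_dvd_natCast.1 h2))
    omega
  · have h2 : ((s * p : ℕ) : ℤ) ∣ (p : ℤ) := hc'.dvd_of_dvd_mul_left (by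
      rw [← dvd_neg, show -((n : ℤ) * p) = -(n * d) - n by rw [← hd]; push_cast; ring]; exact h)
    have h3 := Nat.le_of_dvd hp.pos (Int.natCast_dvd_natCast.1 h2)
    have := hs.two_le
    nlinarith

theorem caseB_num {k p d : ℕ} (hp : p.Prime) (hk : k ≠ 1) (h0 : k ≠ 0) (h1 : k ^ p = d ^ 2)
    (h : k ^ p ≤ (p - 1) ^ 2 * k) : False := by
  obtain ⟨m, rfl⟩ : ∃ m, p = m + 1 := ⟨p - 1, (Nat.sub_add_cancel hp.pos).symm⟩
  rw [pow_succ, Nat.add_sub_cancel] at h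
  have h2 := Nat.le_of_mul_le_mul_right h (Nat.pos_of_ne_zero h0)
  rcases hp.eq_two_or_odd' with e | e
  · obtain rfl : m = 1 := by omega
    simp at h2; omega
  have h4 : 4 ≤ k := by
    by_contra h4
    have : k.Prime := by
      have : k = 2 ∨ k = 3 := by omega
      rcases this with rfl | rfl <;> norm_num
    have h5 := congrArg (fun n => n.factorization k) h1
    simp only [Nat.factorization_pow, Finsupp.smul_apply, this.factorization_self, smul_eq_mul] at h5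
    exact Nat.not_even_iff_odd.2 e ⟨d.factorization k, by omega⟩
  have h5 : m < 2 ^ m := Nat.lt_two_pow_self
  have h6 : (2 ^ m) ^ 2 ≤ k ^ m := by
    rw [← pow_mul, mul_comm, pow_mul]; exact Nat.pow_le_pow_left h4 m
  exact absurd (h6.trans h2) (not_le.2 (Nat.pow_lt_pow_left h5 two_ne_zero))

theorem mem_of_cop {G : Type*} [Group G] {S : Subgroup G} {g : G} {a b : ℕ} (ha : 0 < a) (hc : a.Coprime b)
    (h1 : g ^ a ∈ S) (h2 : g ^ b ∈ S) : g ∈ S := by
  obtain ⟨m, -, hm⟩ := exists_period S g ha h1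
  have := (hm 1).2 (Nat.eq_one_of_dvd_coprimes hc ((hm a).1 h1) ((hm b).1 h2)).dvd
  rwa [pow_one] at this

theorem caseA [σ.IsIrreducible] {p q s : ℕ} [hp : Fact p.Prime] [hq : Fact q.Prime] (hs : s.Prime)
    (hpq : q ≠ p) (hsp : s ≠ p) (hsq : s ≠ q) (hQ : IsPGroup q Q) (hp0 : (p : F) ≠ 0)
    (hc : (Nat.card Q : F) ≠ 0) (h0 : ¬ ⊤ ≤ σ.ker) (h3 : ∀ a b : Q, ⁅a, b⁆ ∈ Subgroup.center Q)
    (h4 : ∀ t : Q, t ^ q ∈ Subgroup.center Q) {α : MulAut Q} {B : End F U} (hB : B ^ p = 1)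
    (hα : α ^ p = 1) (hσ : ∀ t, B * σ t = σ (α t) * B) (hB0 : ∀ u, B u = u → u = 0)
    (h2 : ∀ N : Subgroup Q, (∀ t, α t * t⁻¹ ∈ N) → N = ⊤) (S : Set (MulAut Q))
    (hS1 : ∀ x ∈ S, x ^ s = 1) (hS2 : ∀ x ∈ S, Commute x α) (hS3 : ∀ x ∈ S, ∀ a b : Q, x ⁅a, b⁆ = ⁅a, b⁆)
    (hS4 : ∀ N : Subgroup Q, (∀ x ∈ S, ∀ t, x t * t⁻¹ ∈ N) → N = ⊤) : False := by
  obtain ⟨k, hk⟩ := hQ.exists_card_eq
  haveI := Char.nontrivial_of_isIrreducible σ
  have hT : α ∈ Tw σ := mem_Tw σ (fun e => by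
    rw [e, zero_pow hp.out.pos.ne'] at hB; exact zero_ne_one hB) hσ
  have h3' : ∀ a b : Q, ⁅a, b⁆ ∈ Sc σ := fun a b => center_le_Sc (h3 a b)
  have d4 : finrank F U ≠ 1 := fun e => h0 (h2 _ (ker_top_of_dim hc h3' e hT)).ge
  have hD : ∀ i, 0 < i → p.Coprime i → ∀ t, (α ^ i) t * t⁻¹ ∈ Sc σ → t ∈ Sc σ := fun i hi hi' t ht =>
    fpf_Sc h3' hT (fun N _ => h2 N) (mem_of_cop (S := fixm σ t) hi hi'.symm ⟨pow_mem hT i, ht⟩
      (hα ▸ one_mem _)).2
  have hD' : ∀ i, 0 < i → i < p → ∀ t, (α ^ i) t * t⁻¹ ∈ Sc σ → t ∈ Sc σ := fun i hi hi' =>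
    hD i hi (Nat.coprime_of_lt_prime hi.ne' hi' hp.out)
  have d5 := (dim_semireg hc h3' hp0 hB hα hσ hD' hB0).resolve_left d4
  have d6 := sq_dim hc h3'
  obtain ⟨b, -, hb⟩ := (Nat.dvd_prime_pow hq.out).1 (((dvd_pow_self _ two_ne_zero).trans
    (d6 ▸ Subgroup.index_dvd_card _)).trans hk.dvd)
  have hb0 : 0 < b := Nat.pos_of_ne_zero fun e => d4 (by rw [hb, e, pow_zero])
  have hp2 : p ≠ 2 := fun e => d4 (by omega)
  obtain rfl : q = 2 := by
    by_contra e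
    have := ((hq.out.odd_of_ne_two e).pow (n := b)).add_one
    rw [← hb, d5] at this
    exact Nat.not_even_iff_odd.2 (hp.out.odd_of_ne_two hp2) this
  have hS : Sc σ ≠ ⊤ := fun e => by
    rw [e, Subgroup.index_top] at d6
    exact d4 ((Nat.pow_eq_one.1 d6).resolve_right two_ne_zero)
  obtain ⟨x, hx, hx'⟩ : ∃ x ∈ S, ¬ ∀ t, x t * t⁻¹ ∈ Sc σ := by
    by_contra! h; exact hS (hS4 _ h)
  have a1 : ∀ a b, σ ⁅α a, α b⁆ = σ ⁅a, b⁆ := fun a b => by rw [← map_commutatorElement, tw_Sc hT (h3' a b)]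
  have a2 : ∀ a b, σ ⁅x a, x b⁆ = σ ⁅a, b⁆ := fun a b => by rw [← map_commutatorElement, hS3 x hx]
  have a3 : ∀ t, x (α t) = α (x t) := fun t => congrArg (fun f : MulAut Q => f t) (hS2 x hx).eq
  have cp : ∀ {n : ℕ} (H : Subgroup Q), n.Prime → n ≠ 2 → n.Coprime (Nat.card H) := fun H h1 h2 =>
    ((Nat.coprime_primes h1 hq.out).2 h2).pow_right k |>.of_dvd_right (hk ▸ H.card_subgroup_dvd_card)
  let D : Subgroup Q := (MonoidHom.eqLocus ((QuotientGroup.mk' (Sc σ)).comp (x : Q →* Q))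
    (QuotientGroup.mk' (Sc σ)))
  have mD : ∀ t, t ∈ D ↔ x t * t⁻¹ ∈ Sc σ := fun t => by
    rw [← div_eq_mul_inv, ← QuotientGroup.eq_iff_div_mem]; rfl
  have a4 : Sc σ ≤ D := fun t ht => (mD t).2 (mul_mem ((sc_inv a2).2 ht) (inv_mem ht))
  have a5 : D ≤ Sc σ := by
    by_contra ne
    have e1 := dvd_relIndex_sub hp.out.pos hα a4 (fun t => (sc_inv a1).1)
      (fun t ht => (mD _).2 (by rw [a3, ← map_inv, ← map_mul]; exact (sc_inv a1).2 ((mD t).1 ht)))
      (cp _ hp.out hp2) fun t _ i i1 i2 e => hD' i i1 i2 t (by rw [e, mul_inv_cancel]; exact one_mem _)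
    have e2 := Subgroup.relIndex_mul_index a4
    obtain ⟨e, -, he⟩ := (Nat.dvd_prime_pow hq.out).1
      ((Dvd.intro _ e2).trans ((Subgroup.index_dvd_card _).trans hk.dvd))
    have e3 : 2 * b ≤ e := Nat.le_of_dvd (Nat.pos_of_ne_zero fun e0 => ne (by
      rw [e0, pow_zero, Subgroup.relIndex_eq_one] at he; exact he))
      (two_mul_dvd hb0 (by rw [← he, ← hb, d5]; exact e1))
    refine hx' fun t => (mD t).1 ?_
    rw [show D = ⊤ from Subgroup.index_eq_one.1 ?_]; trivial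
    rw [← d6, hb, he, ← pow_mul, mul_comm b] at e2
    have := Nat.pow_le_pow_right two_pos e3
    have : 0 < D.index := Nat.pos_of_ne_zero Subgroup.index_ne_zero_of_finite
    have : 0 < 2 ^ (2 * b) := Nat.two_pow_pos _
    nlinarith
  have cps : p.Coprime s := (Nat.coprime_primes hp.out hs).2 hsp.symm
  obtain ⟨Z, z1, z2⟩ := gauss (σ := σ) (γ := x * α) (P := s * p) h3 (fun t => center_le_Sc (h4 t)) a1
    (fun a b => (a2 _ _).trans (a1 a b)) (fun t => (a3 _).symm) (Nat.mul_pos hs.pos hp.out.pos)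
    (by rw [(hS2 x hx).mul_pow, pow_mul, hS1 x hx, one_pow, one_mul, mul_comm, pow_mul, hα, one_pow])
    (fun t ht => hD' 2 two_pos (lt_of_le_of_ne hp.out.two_le hp2.symm) t (by
      convert mul_mem ht (inv_mem (center_le_Sc (h4 t))) using 1
      rw [sq, sq, MulAut.mul_apply]; group))
    fun t ht i i1 i2 e => ht (by
      have e1 : (x * α) ^ i ∈ MulAction.stabilizer (MulAut Q) t := e
      by_cases e2 : p ∣ i
      · have e3 := pow_mem e1 p
        rw [← pow_mul, (hS2 x hx).mul_pow, pow_mul' α, hα, one_pow, mul_one] at e3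
        have e4 : x t = t := mem_of_cop (Nat.mul_pos i1 hp.out.pos) (Nat.Coprime.mul_left
          ((hs.coprime_iff_not_dvd.2 fun e5 => absurd (Nat.le_of_dvd i1
            (cps.symm.mul_dvd_of_dvd_of_dvd e5 e2)) i2.not_ge).symm) cps) e3 (hS1 x hx ▸ one_mem _)
        exact a5 ((mD t).2 (by rw [e4, mul_inv_cancel]; exact one_mem _))
      · have e3 := pow_mem e1 s
        rw [← pow_mul, (hS2 x hx).mul_pow, pow_mul' x, hS1 x hx, one_pow, one_mul] at e3
        refine hD (i * s) (Nat.mul_pos i1 hs.pos) ((hp.out.coprime_iff_not_dvd.2 e2).mul_right cps) t ?_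
        rw [show (α ^ (i * s)) t = t from e3, mul_inv_cancel]; exact one_mem _)
  rw [← (Sc σ).card_mul_index, ← d6] at z1
  exact gauss_num hs hp.out d5 d4 ((cp _ hs hsq).mul_left (cp _ hp.out hp2)) z1 z2

variable {W : Type v} [AddCommGroup W] [Module F W] [FiniteDimensional F W]

/-- a vector of an irreducible constituent fixed by the inertia group gives a fixed vector -/
theorem fix_zero [σ.IsIrreducible] {H : Type*} [Group H] [Finite H] (hH : (Nat.card H : F) ≠ 0)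
    (hc : (Nat.card Q : F) ≠ 0) (ρ : Representation F Q W) (κ : H →* MulAut Q) (Y : Representation F H W)
    (hρ : ∀ b t, Y b * ρ t = ρ (κ b t) * Y b) (h0 : ∀ w, (∀ b, Y b w = w) → w = 0) {ι : U →ₗ[F] W}
    (h1 : Function.Injective ι) (h2 : ∀ t u, ι (σ t u) = ρ t (ι u)) {u : U}
    (h : ∀ b, κ b ∈ Tw σ → Y b (ι u) = ι u) : u = 0 := by
  classical
  haveI := Fintype.ofFinite H
  obtain ⟨π, h7, h8⟩ := exists_proj ρ σ hc h1 h2
  have e := congrArg π (h0 (∑ b, Y b (ι u)) fun c => by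
    rw [map_sum]
    exact Fintype.sum_equiv (Equiv.mulLeft c) _ _ fun b => by rw [Equiv.coe_mulLeft, map_mul]; rfl)
  rw [map_sum, map_zero, ← Finset.sum_filter_add_sum_filter_not Finset.univ (· ∈ (Tw σ).comap κ),
    Finset.sum_eq_zero (s := Finset.univ.filter fun x => ¬ x ∈ (Tw σ).comap κ) fun b hb => ?_, add_zero,
    Finset.sum_congr rfl fun b hb => by rw [h b (Finset.mem_filter.1 hb).2, h7], Finset.sum_const,
    ← Fintype.card_subtype, Fintype.card_eq_nat_card, ← Nat.cast_smul_eq_nsmul F, smul_eq_zero] at e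
  · refine e.resolve_left fun e => hH ?_
    obtain ⟨k, hk⟩ := Subgroup.card_subgroup_dvd_card ((Tw σ).comap κ)
    rw [hk, Nat.cast_mul]
    exact mul_eq_zero_of_left e _
  · by_contra e'
    refine (Finset.mem_filter.1 hb).2 (mem_Tw σ (A := π ∘ₗ Y b ∘ₗ ι) (fun e => e' (LinearMap.congr_fun e u))
      fun t => LinearMap.ext fun u => ?_)
    simp only [End.mul_apply, comp_apply]
    rw [h2, ← End.mul_apply, hρ, End.mul_apply, h8]

end Cfsg.Agent.Sh
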