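import Cfsg.Agent.Lib.Fusion.Sh3
import Cfsg.Agent.Lib.Fusion.Sh4
import Cfsg.Agent.Lib.Comp.PMin

/-!
The core of Ward's theorem.
-/

set_option autoImplicit false
set_option linter.unusedSectionVars false
set_option linter.unusedVariables false
set_option linter.style.haveILetI false

namespace Cfsg.Agent.Sh

open Subgroup Cfsg.Agent.Comp Cfsg.Agent.BG Cfsg.Agent.HH
open scoped commutatorElement

universe u v w

variable {G : Type u} [Group G] [Finite G] {p q s : ℕ} [hp : Fact p.Prime] {R Q A Y : Subgroup G} {a b : G}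

theorem ord_elem (hA : IsElementaryAbelian p A) (ha : a ∈ A) (h1 : a ≠ 1) : orderOf a = p :=
  orderOf_eq_prime (hA.2 a ha) h1

theorem gen2 (hA : IsElementaryAbelian p A) (hc : Nat.card A = p ^ 2) (ha : a ∈ A) (h1 : a ≠ 1)
    (hb : b ∈ A) (h2 : b ∉ zpowers a) : zpowers a ⊔ zpowers b = A := by
  have h3 : zpowers a ⊔ zpowers b ≤ A := sup_le (zpowers_le.2 ha) (zpowers_le.2 hb)
  obtain ⟨k, hk, e⟩ := (Nat.dvd_prime_pow hp.out).1 (hc ▸ card_dvd_of_le h3)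
  refine eq_of_le_of_card_ge h3 ?_
  by_contra h4
  refine h2 ((eq_of_le_of_card_ge (le_sup_left : zpowers a ≤ zpowers a ⊔ zpowers b) ?_).ge
    (mem_sup_right (mem_zpowers b)))
  rw [hc, e, not_le, Nat.pow_lt_pow_iff_right hp.out.one_lt] at h4
  rw [e, Nat.card_zpowers, ord_elem hA ha h1]
  exact (Nat.pow_le_pow_right hp.out.pos (Nat.le_of_lt_succ h4)).trans (pow_one p).le

theorem exists_gen2 (hA : IsElementaryAbelian p A) (hc : Nat.card A = p ^ 2) (ha : a ∈ A) (h1 : a ≠ 1) :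
    ∃ b ∈ A, b ∉ zpowers a := SetLike.not_le_iff_exists.1 fun h => by
  have := card_le_of_le h
  rw [hc, Nat.card_zpowers, ord_elem hA ha h1] at this
  have := hp.out.two_le
  nlinarith

theorem fpf2 (hA : IsElementaryAbelian p A) (hc : Nat.card A = p ^ 2) (ha : a ∈ A) (h1 : a ≠ 1)
    (hb : b ∈ A) (h2 : b ∉ zpowers a) (hY : Y ≤ C1(a)) (h0 : Y ⊓ Ct(A) = ⊥) :
    ∀ x ∈ zpowers b, x ≠ 1 → Y ⊓ C1(x) = ⊥ :=
  Solv.fpf_zpowers_of_prime (by rw [ord_elem hA hb fun e => h2 (e ▸ one_mem _)]; exact hp.out) (by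
    rw [← h0, ← gen2 hA hc ha h1 hb h2, centralizer_sup, centralizer_zpowers, centralizer_zpowers,
      ← inf_assoc, inf_eq_left.2 hY])

variable {F : Type w} [Field F] [IsAlgClosed F] {U : Type v} [AddCommGroup U] [Module F U]
  [FiniteDimensional F U]

/-- the inertia group -/
def In (σ : Representation F R U) : Subgroup G := ((Tw σ).comap R.normalizerMonoidHom).map (Nm(R)).subtype

theorem mem_In {σ : Representation F R U} {x : G} (h : x ∈ Nm(R)) :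
    x ∈ In σ ↔ R.normalizerMonoidHom ⟨x, h⟩ ∈ Tw σ :=
  mem_map_iff_mem (x := ⟨x, h⟩) (Nm(R)).subtype_injective

theorem In_le (σ : Representation F R U) : In σ ≤ Nm(R) := map_subtype_le _

theorem In_le_Nm (σ : Representation F R U) [σ.IsIrreducible] : In σ ≤ Nm((Sc σ).map R.subtype) :=
  fun x hx => mem_normalizer_of_conj_mem (by
    rintro _ ⟨t, ht, rfl⟩
    exact ⟨_, tw_mem ((mem_In (In_le σ hx)).1 hx) ht, rfl⟩)

theorem comm_In (σ : Representation F R U) [σ.IsIrreducible] (h : A ≤ In σ) :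
    ⁅(Sc σ).map R.subtype, A⁆ ≤ σ.ker.map R.subtype := by
  rw [Subgroup.commutator_comm]
  refine commutator_le.2 ?_
  rintro x hx _ ⟨t, ht, rfl⟩
  refine ⟨R.normalizerMonoidHom ⟨x, In_le σ (h hx)⟩ t * t⁻¹, ?_, rfl⟩
  rw [SetLike.mem_coe, MonoidHom.mem_ker, map_mul, tw_Sc ((mem_In _).1 (h hx)) ht, ← map_mul,
    mul_inv_cancel, map_one]

theorem ker_top (σ : Representation F R U) (h : R ≤ σ.ker.map R.subtype) : ⊤ ≤ σ.ker :=
  fun t _ => (mem_map_iff_mem R.subtype_injective).1 (h t.2)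

theorem caseB [hq : Fact q.Prime] (hpq : q ≠ p) (hR : IsPGroup q R) (hp0 : (p : F) ≠ 0)
    (hc : (Nat.card R : F) ≠ 0) (σ : Representation F R U) [σ.IsIrreducible] (h0 : ¬ ⊤ ≤ σ.ker)
    (h3 : ∀ a b : R, ⁅a, b⁆ ∈ Sc σ) {c : G} (hc1 : orderOf c = p) (hT : c ∈ In σ) (hQ : Q ≤ In σ)
    (hcQ : c ∈ Nm(Q)) (hf : ∀ x ∈ zpowers c, x ≠ 1 → Q ⊓ C1(x) = ⊥) (cQ : (Nat.card Q).Coprime q)
    (l5 : ⁅R, Q⁆ = R) (l7 : R ⊓ Ct(Q) ≤ Ct(R)) {B : Module.End F U} (hB : B ^ p = 1)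
    (hσ : ∀ t, B * σ t = σ (R.normalizerMonoidHom ⟨c, In_le σ hT⟩ t) * B) (hB0 : ∀ u, B u = u → u = 0) :
    False := by
  have hcp : c ^ p = 1 := hc1 ▸ pow_orderOf_eq_one c
  have hN : (Sc σ).map R.subtype ≤ R := map_subtype_le _
  set κ := R.normalizerMonoidHom ⟨c, In_le σ hT⟩ with hκ
  have hκp : κ ^ p = 1 := by rw [hκ, ← map_pow]; exact (congrArg _ (Subtype.ext hcp)).trans (map_one _)
  have hκT : κ ∈ Tw σ := (mem_In _).1 hT
  have hα : ∀ i t, ((κ ^ i) t : G) = c ^ i * t * (c ^ i)⁻¹ := fun i t => by rw [hκ, ← map_pow]; rfl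
  have cN : ∀ {H : Subgroup G}, H ≤ R → (Nat.card (zpowers c)).Coprime (Nat.card H) := fun h =>
    by rw [Nat.card_zpowers, hc1]; exact (coprime_of_isPGroup_of_ne hpq (hR.to_le h)).symm
  have e1 := dim_le hc h3 hp0 hB hκp hσ (D := Sc σ ⊔ (Ct(zpowers c)).subgroupOf R) (fun i i1 i2 t =>
    ⟨fun ht => ?_, fun ht => ?_⟩) hB0
  rotate_left
  · have h5 : κ ∈ fixm σ t := mem_of_cop i1 (Nat.coprime_of_lt_prime i1.ne' i2 hp.out).symm
      ⟨pow_mem hκT i, ht⟩ (hκp ▸ one_mem _)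
    obtain ⟨_, ⟨n, hn, rfl⟩, h6⟩ := Solv.coprime_fixed_coset (k := t) ((zpowers_le.2 hT).trans (In_le_Nm σ))
      (cN hN) (Or.inl (Solv.isSolvable_zpowers c)) (le_normalizer_map R.subtype ⟨t, le_normalizer_of_normal (mem_top t), rfl⟩) fun g hg => by
        obtain ⟨k, rfl⟩ := mem_powers_iff_mem_zpowers.2 hg
        exact ⟨_, (pow_mem h5 k).2, by rw [map_mul, map_inv]; exact congrArg (· * _) (hα k t)⟩
    rw [← inv_mul_cancel_left n t]
    exact mul_mem (mem_sup_left (inv_mem hn)) (mem_sup_right h6)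
  · obtain ⟨n, hn, u, hu, rfl⟩ := mem_sup_of_normal_left.1 ht
    have : (κ ^ i) u = u := Subtype.ext (by
      rw [hα, show c ^ i * u = u * c ^ i from hu _ (pow_mem (mem_zpowers c) i), mul_inv_cancel_right])
    rw [map_mul, this, mul_inv_rev, mul_assoc, mul_inv_cancel_left]
    exact mul_mem (tw_mem (pow_mem hκT i) hn) (inv_mem hn)
  rw [relIndex_sup_left, ← relIndex_map_map_of_injective _ _ R.subtype_injective, subgroupOf_map_subtype,
    inf_comm] at e1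
  have cc : ∀ {H : Subgroup G}, H ≤ R → (Nat.card H).Coprime (Nat.card (Q ⊔ zpowers c : Subgroup G)) :=
    fun h => coprime_of_isPGroup (hR.to_le h) (coprime_card_sup (zpowers_le.2 hcQ) cQ (by
      rw [Nat.card_zpowers, hc1]; exact (Nat.coprime_primes hp.out hq.out).2 hpq.symm))
  have hQc : Q ⊔ zpowers c ≤ In σ := sup_le hQ (zpowers_le.2 hT)
  have w1 := FT.frobenius_wielandt (zpowers_le.2 hcQ) hf (hQc.trans (In_le σ)) (isSolvable_of_isPGroup hR)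
    (cc le_rfl)
  have w2 := FT.frobenius_wielandt (zpowers_le.2 hcQ) hf (hQc.trans (In_le_Nm σ))
    (isSolvable_of_isPGroup (hR.to_le hN)) (cc hN)
  have w3 : ∀ {C : Subgroup G}, C ≤ Ct(Q) → (Sc σ).map R.subtype ⊓ C = R ⊓ C := fun h =>
    le_antisymm (inf_le_inf_right _ hN) (le_inf (fun x hx => ⟨⟨x, hx.1⟩, center_le_Sc (mem_center_iff.2
      fun g => Subtype.ext (l7 ⟨hx.1, h hx.2⟩ g g.2)), rfl⟩) inf_le_right)
  have w4 := Solv.card_inf_mul_relIndex ((Sc σ).map R.subtype) (R ⊓ Ct(zpowers c))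
  rw [w3 le_rfl, w3 (Comp.centralizer_mono le_sup_left)] at w2
  rw [← inf_assoc, inf_eq_left.2 hN] at w4
  rw [← w4, ← Solv.card_mul_relIndex hN, Solv.relIndex_map_subtype, mul_pow, mul_right_comm, ← w2, ← mul_assoc,
    Nat.card_zpowers, hc1] at w1
  have w5 := Nat.eq_of_mul_eq_mul_left (Nat.mul_pos (pow_pos Nat.card_pos _) Nat.card_pos) w1
  refine caseB_num hp.out (fun e => h0 (ker_top σ ?_)) (relIndex_ne_zero' _ _)
    (w5.symm.trans (sq_dim hc h3).symm) (w5 ▸ e1)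
  rw [e, one_pow, index_eq_one] at w5
  have := comm_In σ hQ
  rwa [w5, ← MonoidHom.range_eq_map, range_subtype, l5] at this

variable {W : Type v} [AddCommGroup W] [Module F W] [FiniteDimensional F W]

theorem ward_min [hq : Fact q.Prime] [hs : Fact s.Prime] (hpq : q ≠ p) (hsp : s ≠ p) (hsq : s ≠ q)
    (hp0 : (p : F) ≠ 0) (hq0 : (q : F) ≠ 0) (ρ : Representation F G W) (hA : IsElementaryAbelian p A)
    (hcA : Nat.card A = p ^ 2) (hR : IsPGroup q R) (hQ : IsPGroup s Q) (hQR : Q ≤ Nm(R)) (hAR : A ≤ Nm(R))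
    (hAQ : A ≤ Nm(Q)) (ha : a ∈ A) (ha1 : a ≠ 1) (hQa : Q ≤ C1(a)) (hRA : R ⊓ Ct(A) = ⊥)
    (hQA : Q ⊓ Ct(A) = ⊥) (hW : ∀ w, (∀ b ∈ A, ρ b w = w) → w = 0) (hker : R ⊓ ρ.ker = ⊥)
    (m0 : ¬ Q ≤ Ct(R)) (m1 : ∀ Y, Y < Q → A ≤ Nm(Y) → Y ≤ Ct(R))
    (m2 : ∀ Y, Y < R → Q ⊔ A ≤ Nm(Y) → Q ≤ Ct(Y)) : False := by
  have cQ := coprime_of_isPGroup_of_ne hsq.symm hR
  have cA := coprime_of_isPGroup_of_ne hpq hR
  have cAQ := coprime_of_isPGroup_of_ne hsp hQ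
  have cop : ∀ {B H : Subgroup G}, B ≤ A → (Nat.card H).Coprime p → (Nat.card B).Coprime (Nat.card H) :=
    fun h h' => coprime_of_isPGroup ((elem_isP hA).to_le h) h'
  have sol : ∀ {B : Subgroup G}, B ≤ A → Group.IsSolvable B := fun h =>
    isSolvable_of_isPGroup ((elem_isP hA).to_le h)
  have hX : Q ⊔ A ≤ Nm(R) := sup_le hQR hAR
  obtain ⟨l5, l6, l7⟩ := min_not_le_Ct (isSolvable_of_isPGroup hR) hX le_sup_left (sup_le le_normalizer hAQ)
    (coprime_of_isPGroup hQ cQ) m0 m2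
  have hR0 : R ≠ ⊥ := fun e => m0 (by rw [e]; exact le_Ct_comm.1 bot_le)
  have hQ0 : Q ≠ ⊥ := fun e => m0 (e ▸ bot_le)
  have hXa : Q ⊔ A ≤ Ct(zpowers a) := by
    rw [centralizer_zpowers]
    exact sup_le hQa (le_centralizer_singleton_iff.2 (elem_le_Ct hA ha))
  have l8 : ⁅R, zpowers a⁆ = R := by
    obtain ⟨b, hb, hb'⟩ := exists_gen2 hA hcA ha ha1
    have hV : Q ⊔ A ≤ Nm(R ⊓ Ct(zpowers a)) := le_normalizer_inf hX (le_normalizer_centralizer
      (le_normalizer_of_le_centralizer hXa))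
    have h1 := Solv.frobenius_nilpotent_le_centralizer ((zpowers_le.2 hb).trans hAQ)
      (fpf2 hA hcA ha ha1 hb hb' hQa hQA) (hR.to_le inf_le_left).isNilpotent (le_sup_left.trans hV)
      ((zpowers_le.2 hb).trans (le_sup_right.trans hV))
      (coprime_of_isPGroup hQ (cQ.of_dvd_left (card_dvd_of_le inf_le_left)))
      (cop (zpowers_le.2 hb) (cA.of_dvd_left (card_dvd_of_le inf_le_left)))
      (by rw [inf_assoc, ← centralizer_sup, gen2 hA hcA ha ha1 hb hb', hRA])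
    by_contra e
    refine m0 (le_Ct_comm.1 ((commutator_sup_Ct ((zpowers_le.2 ha).trans hAR) (cop (zpowers_le.2 ha) cA)
      (Or.inl (sol (zpowers_le.2 ha)))).ge.trans (sup_le (le_Ct_comm.1 (m2 _ (lt_of_le_of_ne
        (commutator_le_left_of_le_normalizer ((zpowers_le.2 ha).trans hAR)) e)
        (le_normalizer_commutator hX (le_normalizer_of_le_centralizer hXa)))) h1)))
  have hc : (Nat.card R : F) ≠ 0 := by
    obtain ⟨k, hk⟩ := hR.exists_card_eq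
    rw [hk, Nat.cast_pow]; exact pow_ne_zero _ hq0
  have hZ : ∀ t : R, (t : G) ∈ Ct(Q) → t ∈ center R := fun t ht =>
    mem_center_iff.2 fun g => Subtype.ext (l7 ⟨t.2, ht⟩ g g.2)
  have h3 : ∀ a b : R, ⁅a, b⁆ ∈ center R := fun a b => hZ _ (l6 (commutator_mem_commutator a.2 b.2))
  obtain ⟨U, _, _, _, σ, ι, hσ, a1, a2, a3⟩ := exists_irr_ne_one (ρ.comp R.subtype) hc ⊤ fun e =>
    hR0 (eq_bot_iff.2 (hker ▸ le_inf le_rfl fun x hx => e (mem_top ⟨x, hx⟩)))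
  haveI := Char.nontrivial_of_isIrreducible σ
  have hρ : ∀ x (h : x ∈ Nm(R)) t, ρ x * (ρ.comp R.subtype) t =
      (ρ.comp R.subtype) (R.normalizerMonoidHom ⟨x, h⟩ t) * ρ x := fun x h t => by
    rw [MonoidHom.comp_apply, MonoidHom.comp_apply, ← map_mul, ← map_mul]
    exact congrArg _ (inv_mul_cancel_right (x * t) x).symm
  have fx : ∀ x ∈ Nm(R), ∀ {ι : U →ₗ[F] W}, Function.Injective ι →
      (∀ t u, ι (σ t u) = (ρ.comp R.subtype) t (ι u)) → ∀ u,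
      (∀ b ∈ A, x * b * x⁻¹ ∈ In σ → ρ (x * b * x⁻¹) (ι u) = ι u) → u = 0 := fun x hx ι i1 i2 u hu => by
    let φ : A →* G := (MulAut.conj x).toMonoidHom.comp A.subtype
    have hφ : ∀ b, φ b ∈ Nm(R) := fun b => mul_mem (mul_mem hx (hAR b.2)) (inv_mem hx)
    refine fix_zero (H := A) (by rw [hcA, Nat.cast_pow]; exact pow_ne_zero _ hp0) hc _
      (R.normalizerMonoidHom.comp (φ.codRestrict _ hφ)) (ρ.comp φ) (fun b t => hρ _ (hφ b) t)
      (fun w hw => ?_) i1 i2 fun b hb => hu b b.2 ((mem_In (hφ b)).2 hb)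
    have := congrArg (ρ x) (hW (ρ x⁻¹ w) fun b hb => by
      conv_rhs => rw [← hw ⟨b, hb⟩]
      show _ = (ρ x⁻¹ * ρ (x * b * x⁻¹)) w
      rw [← map_mul, ← mul_assoc, inv_mul_cancel_left, map_mul]; rfl)
    rwa [map_zero, ← Module.End.mul_apply, ← map_mul, mul_inv_cancel, map_one] at this
  have t1 : ∀ x ∈ Nm(R), ∃ b ∈ A, b ≠ 1 ∧ x * b * x⁻¹ ∈ In σ := fun x hx => by
    by_contra! h
    obtain ⟨u, hu⟩ := exists_ne (0 : U)
    refine hu (fx x hx a1 a2 u fun b hb hb' => ?_)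
    rw [of_not_not fun e => h b hb e hb', mul_one, mul_inv_cancel, map_one]; rfl
  have t2 : ¬ A ≤ In σ := fun h => by
    have h1 := comm_In σ h
    rw [commutator_eq_of_inf_Ct_eq_bot (h.trans (In_le_Nm σ)) (cop le_rfl (cA.of_dvd_left
      (card_dvd_of_le (map_subtype_le _)))) (Or.inl (sol le_rfl))
      (eq_bot_iff.2 (hRA ▸ inf_le_inf_right _ (map_subtype_le _))),
      map_le_map_iff_of_injective R.subtype_injective] at h1
    exact a3 fun t _ => h1 (mem_Sc.2 fun g => h1 (center_le_Sc (h3 g t)))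
  have t3 : ∀ c ∈ A, c ≠ 1 → ∀ h : c ∈ In σ, ∃ B : Module.End F U, B ^ p = 1 ∧
      (∀ t, B * σ t = σ (R.normalizerMonoidHom ⟨c, In_le σ h⟩ t) * B) ∧ ∀ u, B u = u → u = 0 := by
    intro c hcA' hc1 h
    obtain ⟨ι, B, i1, i2, i3⟩ := exists_stable _ σ a1 a2 ((mem_In (In_le σ h)).1 h) (hρ c _)
    have c1 : ∀ k u, ρ (c ^ k) (ι u) = ι ((B ^ k) u) := fun k u => by
      induction k with
      | zero => simp
      | succ k ih => rw [pow_succ', pow_succ', map_mul, Module.End.mul_apply, ih, i3]; rfl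
    refine ⟨B, LinearMap.ext fun u => i1 (by rw [← c1, hA.2 c hcA', map_one]; rfl),
      fun t => LinearMap.ext fun u => i1 (by
        rw [Module.End.mul_apply, Module.End.mul_apply, ← i3, i2, i2, ← i3, ← Module.End.mul_apply, hρ]; rfl),
      fun u hu => fx 1 (one_mem _) i1 i2 u fun b hb hb' => ?_⟩
    rw [one_mul, inv_one, mul_one] at hb' ⊢
    obtain ⟨k, rfl⟩ := mem_powers_iff_mem_zpowers.2 (of_not_not fun e => t2 ((gen2 hA hcA hcA' hc1 hb e).ge.trans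
      (sup_le (zpowers_le.2 h) (zpowers_le.2 hb'))))
    rw [c1, Module.End.pow_apply, Function.iterate_fixed hu]
  have h3' : ∀ a b : R, ⁅a, b⁆ ∈ Sc σ := fun a b => center_le_Sc (h3 a b)
  by_cases haT : a ∈ In σ
  · obtain ⟨B, b1, b2, b3⟩ := t3 a ha ha1 haT
    have hκ : ∀ (x : Nm(R)), (x : G) ∈ Ct(R) → R.normalizerMonoidHom x = 1 := fun x hx =>
      MulEquiv.ext fun t => Subtype.ext (mul_inv_eq_iff_eq_mul.2 (hx t t.2).symm)
    refine caseA hs.out hpq hsp hsq hR hp0 hc a3 h3 (fun t => hZ _ (le_Ct_comm.1 (m2 _ (Solv.map_frattini_lt hR0)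
      (le_normalizer_Phi hX)) (Solv.pow_mem_map_frattini hR t.2))) b1
      (by rw [← map_pow]; exact (congrArg _ (Subtype.ext (hA.2 a ha))).trans (map_one _)) b2 b3
      (top_of_comm _ l8) (Set.range fun x : Q => R.normalizerMonoidHom ⟨x, hQR x.2⟩) ?_ ?_ ?_ fun N hN => ?_
    · rintro _ ⟨x, rfl⟩
      rw [← map_pow]
      exact hκ _ (m1 _ (Solv.map_frattini_lt hQ0) (le_normalizer_Phi hAQ) (Solv.pow_mem_map_frattini hQ x.2))
    · rintro _ ⟨x, rfl⟩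
      exact Commute.map (Subtype.ext (mem_centralizer_singleton_iff.1 (hQa x.2))) _
    · rintro _ ⟨x, rfl⟩ a b
      exact Subtype.ext (mul_inv_eq_iff_eq_mul.2 (l6 (commutator_mem_commutator a.2 b.2) x x.2))
    · refine eq_top_iff.2 fun t _ => (mem_map_iff_mem R.subtype_injective).1 (?_ : (t : G) ∈ _)
      exact (commutator_le.2 fun x hx t ht => ⟨_, hN _ ⟨⟨x, hx⟩, rfl⟩ ⟨t, ht⟩, rfl⟩ : ⁅Q, R⁆ ≤ N.map R.subtype)
        (by rw [Subgroup.commutator_comm, l5]; exact t.2)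
  obtain ⟨c, hcA', hc1, hT⟩ := t1 1 (one_mem _)
  rw [one_mul, inv_one, mul_one] at hT
  have g1 := gen2 hA hcA hcA' hc1 ha fun e => haT (zpowers_le.2 hT e)
  have g2 : ∀ b ∈ zpowers a, b ∈ In σ → b = 1 := fun b hb hb' => of_not_not fun e => haT (zpowers_le.2 hb'
    ((Solv.eq_of_card_prime_of_mem hp.out ((Nat.card_zpowers a).trans (ord_elem hA ha ha1)) hb e).le
      (mem_zpowers a)))
  have g3 := fpf2 hA hcA ha ha1 hcA' (fun e => hc1 (g2 c e hT)) hQa hQA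
  by_cases hQT : Q ≤ In σ
  · obtain ⟨B, b1, b2, b3⟩ := t3 c hcA' hc1 hT
    exact caseB hpq hR hp0 hc σ a3 h3' (ord_elem hA hcA' hc1) hT hQT (hAQ hcA') g3
      (coprime_of_isPGroup_of_ne hsq hQ) l5 l7 b1 b2 b3
  have g4 : Q ⊓ In σ ≤ Ct(R) := m1 _ (inf_lt_left.2 hQT) (g1.ge.trans (sup_le (le_normalizer_inf
    ((zpowers_le.2 hcA').trans hAQ) ((zpowers_le.2 hT).trans le_normalizer))
    (le_Nm_of_le_Ct' (inf_le_left.trans (le_sup_left.trans hXa)))))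
  obtain ⟨x, hx, hx'⟩ := SetLike.not_le_iff_exists.1 m0
  obtain ⟨b, hb, hb1, hbT⟩ := t1 x (hQR hx)
  obtain ⟨c', hc', a', ha', rfl⟩ := (Comp.mem_sup_of_le_normalizer (le_normalizer_of_le_centralizer
    (((zpowers_le.2 hcA').trans le_sup_right).trans hXa))).1 (g1.ge hb)
  have k0 : ∀ g ∈ zpowers c, g * x * g⁻¹ * x⁻¹ ∈ Q := fun g hg =>
    mul_mem (Comp.conj_mem_of_mem_normalizer (hAQ (zpowers_le.2 hcA' hg)) hx) (inv_mem hx)
  have k1 : ∀ y ∈ Q, Commute a' y := fun y hy => hXa (mem_sup_left hy) a' ha'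
  have k2 : a' * (c' * x * c'⁻¹ * x⁻¹)⁻¹ ∈ In σ := by
    convert mul_mem hbT (inv_mem (zpowers_le.2 hT hc')) using 1
    rw [show c' * a' = a' * c' from (hXa (mem_sup_right (zpowers_le.2 hcA' hc')) a' ha').symm, ← mul_assoc x,
      ← (k1 x hx).eq]
    group
  have k3 := pow_mem k2 (Nat.card Q)
  rw [(k1 _ (inv_mem (k0 c' hc'))).mul_pow, show (c' * x * c'⁻¹ * x⁻¹)⁻¹ ^ Nat.card Q = 1 from
    congrArg Subtype.val (pow_card_eq_one' (x := (⟨_, inv_mem (k0 c' hc')⟩ : Q))), mul_one] at k3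
  obtain rfl := g2 a' ha' (mem_of_cop Nat.card_pos cAQ k3 (hA.2 a' (zpowers_le.2 ha ha') ▸ one_mem _))
  rw [mul_one] at hb hb1 hbT
  have k4 : zpowers c' ≤ (In σ).comap (MulAut.conj x).toMonoidHom := zpowers_le.2 hbT
  have k5 : zpowers c' ≤ zpowers c := zpowers_le.2 hc'
  obtain ⟨n, hn, h6⟩ := Solv.coprime_fixed_coset (A := zpowers c') (N := Q ⊓ Ct(R)) (k := x)
    ((zpowers_le.2 hb).trans (le_normalizer_inf hAQ (le_normalizer_centralizer hAR)))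
    (cop (zpowers_le.2 hb) (cAQ.of_dvd_left (card_dvd_of_le inf_le_left))) (Or.inl (sol (zpowers_le.2 hb)))
    (le_normalizer_inf le_normalizer (le_normalizer_centralizer hQR) hx) fun g hg =>
      ⟨k0 g (k5 hg), g4 ⟨k0 g (k5 hg), by
        convert mul_mem (zpowers_le.2 hT (k5 hg)) (inv_mem (k4 hg)) using 1
        simp [mul_assoc]⟩⟩
  rw [centralizer_zpowers] at h6
  have k6 : n * x = 1 := mem_bot.1 (g3 c' hc' hb1 ▸ ⟨mul_mem hn.1 hx, h6⟩)
  exact hx' (eq_inv_of_mul_eq_one_right k6 ▸ inv_mem hn.2)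

end Cfsg.Agent.Sh
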