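import Cfsg.Agent.Lib.Fusion.Sh5

/-!
Ward's theorem.
-/

set_option autoImplicit false
set_option linter.unusedSectionVars false
set_option linter.unusedVariables false
set_option linter.style.haveILetI false

namespace Cfsg.Agent.Sh

open Subgroup Cfsg.Agent.Comp Cfsg.Agent.BG Cfsg.Agent.HH
open scoped commutatorElement

universe u v w

variable {G : Type u} [Group G] [Finite G] {p q r s : ℕ} [hp : Fact p.Prime] {R Q A K U : Subgroup G}

section
variable {F : Type w} [Field F] [IsAlgClosed F] {W : Type v} [AddCommGroup W] [Module F W]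
  [FiniteDimensional F W]

theorem ward_core [hq : Fact q.Prime] [hs : Fact s.Prime] (hpq : q ≠ p) (hsp : s ≠ p) (hsq : s ≠ q)
    (hp0 : (p : F) ≠ 0) (hq0 : (q : F) ≠ 0) (ρ : Representation F G W) (hA : IsElementaryAbelian p A)
    (hcA : Nat.card A = p ^ 2) (hR : IsPGroup q R) (hQ : IsPGroup s Q) (hQR : Q ≤ Nm(R)) (hAR : A ≤ Nm(R))
    (hAQ : A ≤ Nm(Q)) (hRA : R ⊓ Ct(A) = ⊥) (hQA : Q ⊓ Ct(A) = ⊥)
    (hW : ∀ w, (∀ b ∈ A, ρ b w = w) → w = 0) (hker : R ⊓ ρ.ker = ⊥) : Q ≤ Ct(R) := by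
  refine le_of_forall_C1 hA.1 (Solv.not_isCyclic_of_card_sq hp.out hcA hA.2) hAQ
    (coprime_of_isPGroup (elem_isP hA) (coprime_of_isPGroup_of_ne hsp hQ)) fun a ha ha1 => ?_
  by_contra e
  obtain ⟨Q', a1, a2, a3, a4⟩ := exists_min_not_le_Ct (X := A) (K := Q ⊓ C1(a)) (le_normalizer_inf hAQ
    (by rw [← centralizer_zpowers]; exact le_normalizer_centralizer (le_normalizer_of_le_centralizer
      ((elem_le_Ct hA).trans (Comp.centralizer_mono (zpowers_le.2 ha)))))) fun h => e (le_Ct_comm.1 h)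
  have a5 := a1.trans inf_le_left
  obtain ⟨R', b1, b2, b3, b4⟩ := exists_min_not_le_Ct (sup_le (a5.trans hQR) hAR) fun h => a3 (le_Ct_comm.1 h)
  exact ward_min hpq hsp hsq hp0 hq0 ρ hA hcA (hR.to_le b1) (hQ.to_le a5) (le_sup_left.trans b2)
    (le_sup_right.trans b2) a2 ha ha1 (a1.trans inf_le_right) (eq_bot_iff.2 (hRA ▸ inf_le_inf_right _ b1))
    (eq_bot_iff.2 (hQA ▸ inf_le_inf_right _ a5)) hW (eq_bot_iff.2 (hker ▸ inf_le_inf_right _ b1)) b3
    (fun Y h1 h2 => (le_Ct_comm.1 (a4 Y h1 h2)).trans (Comp.centralizer_mono b1)) b4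

theorem nilp_of_res (hs : Group.IsSolvable K)
    (h : ∀ q : ℕ, q.Prime → Res q K ≤ Ct(Op q K)) : Group.IsNilpotent K := by
  refine Comp.isNilpotent_of_le (le_Fit_of_chief hs le_rfl le_normalizer le_rfl le_normalizer
    fun U V c d => ?_) (isNilpotent_Fit K)
  have hU := d.trans (Fit_le K)
  obtain ⟨q, hq, hi⟩ := c.exists_piN (hU.trans c.nV) (Comp.isSolvable_of_le hU hs)
  haveI := Fact.mk hq
  refine c.commutator_le_of_res hU hi le_rfl le_normalizer ?_
  obtain ⟨P, hP⟩ := exists_sylIn q U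
  have h1 : P ≤ Op q K := ((subnIn_of_isNilpotent (Comp.isNilpotent_of_le d (isNilpotent_Fit K)) hP.le).le_Op
    hP.isP).trans (Op_le_Op_of_normal hU c.nU)
  rw [← sup_eq_of_piN hP c.lt.le (hU.trans c.nV) hi]
  exact commutator_sup_left_le le_normalizer (hP.le.trans (hU.trans c.nV))
    (commutator_le_left_of_le_normalizer ((Res_le q K).trans c.nV))
    ((commutator_eq_bot_iff'.2 ((h q hq).trans (Comp.centralizer_mono h1))).le.trans bot_le)

theorem ward_nilp (hp0 : (p : F) ≠ 0) (ρ : Representation F G W) (hA : IsElementaryAbelian p A)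
    (hcA : Nat.card A = p ^ 2) (hs : Group.IsSolvable K) (hAK : A ≤ Nm(K)) (ho : (Nat.card K).Coprime p)
    (h0 : K ⊓ Ct(A) = ⊥) (hW : ∀ w, (∀ b ∈ A, ρ b w = w) → w = 0) (hker : K ⊓ ρ.ker = ⊥)
    (hO : ∀ q : ℕ, q.Prime → (q : F) = 0 → Op q K = ⊥) : Group.IsNilpotent K := by
  refine nilp_of_res hs fun q hq => ?_
  haveI := Fact.mk hq
  by_cases e : Op q K = ⊥
  · rw [e]; exact le_Ct_comm.1 bot_le
  have ne : ∀ {t : ℕ}, t.Prime → t ∣ Nat.card K → t ≠ p := fun h1 h2 e =>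
    h1.ne_one ((Nat.coprime_self _).1 (by simpa only [← e] using ho.of_dvd_left h2))
  obtain ⟨P, hP⟩ := exists_sylIn q K
  have hn : K ≤ Nm(K ⊓ Ct(Op q K)) := le_normalizer_inf le_normalizer
    (le_normalizer_centralizer (le_normalizer_Op le_normalizer))
  refine (Res_le_of_le_sup (eq_of_forall_sylIn (sup_le inf_le_left hP.le) fun t ht hd => ?_).ge
    (hP.le.trans hn) hP.isP).trans inf_le_right
  by_cases e' : t = q
  · exact ⟨P, e' ▸ hP, le_sup_right⟩
  haveI := Fact.mk ht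
  obtain ⟨T, b1, b2⟩ := exists_invariant_sylIn t hAK (coprime_of_isPGroup (elem_isP hA) ho) (Or.inr hs)
  exact ⟨T, b1, le_sup_of_le_left (le_inf b1.le (ward_core (ne hq ((Solv.dvd_card_of_isPGroup (isPGroup_Op q K)
    e).trans (card_dvd_of_le (Op_le q K)))) (ne ht hd) e' hp0 (fun h => e (hO q hq h)) ρ hA hcA (isPGroup_Op q K)
    b1.isP (le_normalizer_Op (b1.le.trans le_normalizer)) (le_normalizer_Op hAK) b2
    (eq_bot_iff.2 (h0 ▸ inf_le_inf_right _ (Op_le q K))) (eq_bot_iff.2 (h0 ▸ inf_le_inf_right _ b1.le)) hW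
    (eq_bot_iff.2 (hker ▸ inf_le_inf_right _ (Op_le q K)))))⟩

end

theorem img_fpf2 {M N : Subgroup G} (hq : M ≤ Nm(N)) (hA : IsPGroup p A) (h1 : A ≤ M) (h2 : K ≤ M)
    (hn : A ≤ Nm(K)) (ho : (Nat.card K).Coprime p) (h0 : K ⊓ Ct(A) = ⊥) : img hq K ⊓ Ct(img hq A) = ⊥ := by
  rw [← img_inf_centralizer h2 h1 hn (coprime_of_isPGroup hA (ho.of_dvd_left (card_dvd_of_le inf_le_left)))
    (Or.inl (isSolvable_of_isPGroup hA)), h0, img_bot]

theorem ward_chief [hr : Fact r.Prime] (c : Chief ⊤ U ⊥) (hU : IsPGroup r U) [hK : K.Normal]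
    (hA : IsElementaryAbelian p A) (hcA : Nat.card A = p ^ 2) (hs : Group.IsSolvable K)
    (ho : (Nat.card K).Coprime p) (hUp : (Nat.card U).Coprime p) (h0 : U ⊓ Ct(A) = ⊥) (h1 : K ⊓ Ct(A) = ⊥) :
    Sg.gi K ≤ Ct(U) := by
  have hKn : ⊤ ≤ Nm(K) := Comp.normal_iff_top_le_normalizer.1 hK
  have hq : ⊤ ≤ Nm(K ⊓ Ct(U)) := le_normalizer_inf hKn (Comp.le_normalizer_centralizer c.nU)
  haveI := normal_subgroupOf_of_le_normalizer hq
  let ρ : Representation (AlgebraicClosure (ZMod r)) (Quo hq) (Transfer.dualMod _ U) :=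
    QuotientGroup.lift ((K ⊓ Ct(U)).subgroupOf ⊤) ((Transfer.dualRep _ U).comp (inclusion c.nU))
      fun x hx => Transfer.dualRep_eq_one _ hx.2
  have hρ : ∀ x : (⊤ : Subgroup G), ρ (qmap hq x) = Transfer.dualRep _ U ⟨x, c.nU x.2⟩ := fun x => rfl
  have := ward_nilp (K := img hq K) (cast_ne_zero_of_coprime (hUp.symm.of_dvd_right
    (Solv.dvd_card_of_isPGroup hU c.lt.ne'))) ρ (elem_img (h := hq) hA)
    ((card_img_of_disjoint le_top (inf_eq_bot_of_isPGroup (elem_isP hA)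
      (ho.of_dvd_left (card_dvd_of_le inf_le_left)))).trans hcA) (isSolvable_img hs)
    (img_le_normalizer (le_top.trans hKn)) (coprime_img_left ho)
    (img_fpf2 hq (elem_isP hA) le_top le_top (le_top.trans hKn) ho h1)
    (fun f hf => eq_zero_of_le_dker ((commutator_eq_of_inf_Ct_eq_bot (le_top.trans c.nU)
      (coprime_of_isPGroup (elem_isP hA) hUp) (Or.inl (isSolvable_of_isPGroup (elem_isP hA))) h0).ge.trans
      (commutator_le_dker (le_top.trans c.nU) fun a ha => hf _ (qmap_mem_img (h := hq) (x := ⟨a, mem_top a⟩) ha))))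
    (eq_bot_iff.2 ?_) fun q hq' e => ?_
  · rw [← Sg.gi_eq_bot, show Sg.gi (img hq K) = Sg.LL 1 (img hq K) from rfl, ← img_LL hq le_top,
      img_eq_bot_iff le_top] at this
    exact this.trans inf_le_right
  · rintro _ ⟨⟨x, hx, rfl⟩, h⟩
    have := Transfer.commutator_mem_of_dualRep_eq_one hU _ ((hρ x).symm.trans h)
    replace this := this.trans ((c.min _ (le_normalizer_Phi c.nU) bot_le (Phi_le U)).resolve_right
      (Solv.map_frattini_lt c.lt.ne').ne).le
    exact (qmap_eq_one hq).2 ⟨hx, commutator_eq_bot_iff'.1 (le_bot_iff.1 this) (mem_zpowers _)⟩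
  · obtain rfl := ((Nat.prime_dvd_prime_iff_eq hr.out hq').1 ((CharP.cast_eq_zero_iff _ r q).1 e))
    haveI : (Op r (img hq K)).Normal := Comp.normal_iff_top_le_normalizer.2 (le_normalizer_Op
      (Comp.normal_iff_top_le_normalizer.1 (img_normal hKn)))
    rw [← img_pre (Op r (img hq K)), img_eq_bot_iff le_top]
    refine le_inf ((pre_mono (Op_le r _)).trans (pre_img_of_le le_top inf_le_left).le)
      (c.le_Ct_of_res hU le_top (top_le_normalizer_pre _) (le_trans ?_ (inf_le_right (a := K))))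
    rw [← img_eq_bot_iff (h := hq) le_top, img_Res le_top, img_pre, Res_eq_bot_iff]
    exact isPGroup_Op r _

theorem ward [K.Normal] (hA : IsElementaryAbelian p A) (hcA : Nat.card A = p ^ 2) (hs : Group.IsSolvable K)
    (ho : (Nat.card K).Coprime p) (h0 : K ⊓ Ct(A) = ⊥) : Sg.LL 2 K = ⊥ := by
  haveI : (Sg.gi K).Normal := Sg.LL_normal 1 K
  refine eq_bot_iff.2 ((Sg.gi_mono (le_Fit_of_chief (X := K ⊔ A) hs le_sup_left le_normalizer_of_normal
    (Sg.gi_le K) le_normalizer_of_normal fun U V c d => ?_)).trans (Sg.gi_eq_bot.2 (isNilpotent_Fit K)).le)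
  have hUK := d.trans (Fit_le K)
  have hU : U ≤ K ⊔ A := hUK.trans le_sup_left
  have hUp := ho.of_dvd_left (card_dvd_of_le hUK)
  obtain ⟨q, hq, hi⟩ := c.exists_piN (hU.trans c.nV) (Comp.isSolvable_of_le hUK hs)
  haveI := Fact.mk hq
  haveI := img_normal (h := c.nV) (H := K) le_normalizer_of_normal
  rw [← img_le_centralizer_iff (h := c.nV) hU ((Sg.gi_le K).trans le_sup_left), le_Ct_comm,
    show Sg.gi K = Sg.LL 1 K from rfl, img_LL _ le_sup_left]
  exact ward_chief (c.img_bot hU) (c.isPGroup_img hU hi) (elem_img hA)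
    ((card_img_of_disjoint le_sup_right (inf_eq_bot_of_isPGroup (elem_isP hA)
      (hUp.of_dvd_left (card_dvd_of_le c.lt.le)))).trans hcA) (isSolvable_img hs) (coprime_img_left ho)
    (coprime_img_left hUp) (img_fpf2 _ (elem_isP hA) le_sup_right hU (le_sup_right.trans c.nU) hUp
      (le_bot_iff.1 (h0 ▸ inf_le_inf_right _ hUK)))
    (img_fpf2 _ (elem_isP hA) le_sup_right le_sup_left le_normalizer_of_normal ho h0)

end Cfsg.Agent.Sh
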