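import Cfsg.Agent.Lib.Fusion.Sh6

/-!
Fixed point free coprime action of a group whose order is a product of two primes.
-/

set_option autoImplicit false
set_option linter.unusedSectionVars false
set_option linter.unusedVariables false
set_option linter.style.haveILetI false

namespace Cfsg.Agent.Sh

universe u v w

section
open Module Representation LinearMap Cfsg.Agent.BG Cfsg.Agent.HH
open scoped commutatorElement

variable {Q : Type u} [Group Q] [Finite Q] {F : Type w} [Field F] [IsAlgClosed F] {U : Type v}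
  [AddCommGroup U] [Module F U] [FiniteDimensional F U] {σ : Representation F Q U}

theorem caseA2 [σ.IsIrreducible] {p q s : ℕ} [hp : Fact p.Prime] [hq : Fact q.Prime] (hs : s.Prime)
    (hpq : q ≠ p) (hsp : s ≠ p) (hsq : s ≠ q) (hQ : IsPGroup q Q) (hp0 : (p : F) ≠ 0)
    (hc : (Nat.card Q : F) ≠ 0) (hS : Sc σ ≠ ⊤) (h3 : ∀ a b : Q, ⁅a, b⁆ ∈ Subgroup.center Q)
    (h4 : ∀ t : Q, t ^ q ∈ Subgroup.center Q) {α : MulAut Q} {B : End F U} (hB : B ^ p = 1)
    (hα : α ^ p = 1) (hσ : ∀ t, B * σ t = σ (α t) * B) (hB0 : ∀ u, B u = u → u = 0)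
    (h2 : ∀ t, α t * t⁻¹ ∈ Sc σ → t ∈ Sc σ) {x : MulAut Q} (hS1 : x ^ s = 1) (hS2 : Commute x α)
    (hS3 : ∀ a b : Q, x ⁅a, b⁆ = ⁅a, b⁆) (hx' : ¬ ∀ t, x t * t⁻¹ ∈ Sc σ) : False := by
  obtain ⟨k, hk⟩ := hQ.exists_card_eq
  haveI := Char.nontrivial_of_isIrreducible σ
  have hT : α ∈ Tw σ := mem_Tw σ (fun e => by
    rw [e, zero_pow hp.out.pos.ne'] at hB; exact zero_ne_one hB) hσ
  have h3' : ∀ a b : Q, ⁅a, b⁆ ∈ Sc σ := fun a b => center_le_Sc (h3 a b)
  have d6 := sq_dim hc h3'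
  have d4 : finrank F U ≠ 1 := fun e => hS (by rwa [e, one_pow, eq_comm, Subgroup.index_eq_one] at d6)
  have hD : ∀ i, 0 < i → p.Coprime i → ∀ t, (α ^ i) t * t⁻¹ ∈ Sc σ → t ∈ Sc σ := fun i hi hi' t ht =>
    h2 t (mem_of_cop (S := fixm σ t) hi hi'.symm ⟨pow_mem hT i, ht⟩
      (hα ▸ one_mem _)).2
  have hD' : ∀ i, 0 < i → i < p → ∀ t, (α ^ i) t * t⁻¹ ∈ Sc σ → t ∈ Sc σ := fun i hi hi' =>
    hD i hi (Nat.coprime_of_lt_prime hi.ne' hi' hp.out)
  have d5 := (dim_semireg hc h3' hp0 hB hα hσ hD' hB0).resolve_left d4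
  obtain ⟨b, -, hb⟩ := (Nat.dvd_prime_pow hq.out).1 (((dvd_pow_self _ two_ne_zero).trans
    (d6 ▸ Subgroup.index_dvd_card _)).trans hk.dvd)
  have hb0 : 0 < b := Nat.pos_of_ne_zero fun e => d4 (by rw [hb, e, pow_zero])
  have hp2 : p ≠ 2 := fun e => d4 (by omega)
  obtain rfl : q = 2 := by
    by_contra e
    have := ((hq.out.odd_of_ne_two e).pow (n := b)).add_one
    rw [← hb, d5] at this
    exact Nat.not_even_iff_odd.2 (hp.out.odd_of_ne_two hp2) this
  have a1 : ∀ a b, σ ⁅α a, α b⁆ = σ ⁅a, b⁆ := fun a b => by rw [← map_commutatorElement, tw_Sc hT (h3' a b)]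
  have a2 : ∀ a b, σ ⁅x a, x b⁆ = σ ⁅a, b⁆ := fun a b => by rw [← map_commutatorElement, hS3]
  have a3 : ∀ t, x (α t) = α (x t) := fun t => congrArg (fun f : MulAut Q => f t) hS2.eq
  have cp : ∀ {n : ℕ} (H : Subgroup Q), n.Prime → n ≠ 2 → n.Coprime (Nat.card H) := fun H h1 h2 =>
    ((Nat.coprime_primes h1 hq.out).2 h2).pow_right k |>.of_dvd_right (hk ▸ H.card_subgroup_dvd_card)
  let D : Subgroup Q := (MonoidHom.eqLocus ((QuotientGroup.mk' (Sc σ)).comp (x : Q →* Q))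
    (QuotientGroup.mk' (Sc σ)))
  have mD : ∀ t, t ∈ D ↔ x t * t⁻¹ ∈ Sc σ := fun t => by
    rw [← div_eq_mul_inv, ← QuotientGroup.eq_iff_div_mem]; rfl
  have a4 : Sc σ ≤ D := fun t ht => (mD t).2 (mul_mem ((sc_inv a2).2 ht) (inv_mem ht))
  have a5 : D ≤ Sc σ := by
    by_contra ne
    have e1 := dvd_relIndex_sub hp.out.pos hα a4 (fun t => (sc_inv a1).1)
      (fun t ht => (mD _).2 (by rw [a3, ← map_inv, ← map_mul]; exact (sc_inv a1).2 ((mD t).1 ht)))
      (cp _ hp.out hp2) fun t _ i i1 i2 e => hD' i i1 i2 t (by rw [e, mul_inv_cancel]; exact one_mem _)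
    have e2 := Subgroup.relIndex_mul_index a4
    obtain ⟨e, -, he⟩ := (Nat.dvd_prime_pow hq.out).1
      ((Dvd.intro _ e2).trans ((Subgroup.index_dvd_card _).trans hk.dvd))
    have e3 : 2 * b ≤ e := Nat.le_of_dvd (Nat.pos_of_ne_zero fun e0 => ne (by
      rw [e0, pow_zero, Subgroup.relIndex_eq_one] at he; exact he))
      (two_mul_dvd hb0 (by rw [← he, ← hb, d5]; exact e1))
    refine hx' fun t => (mD t).1 ?_
    rw [show D = ⊤ from Subgroup.index_eq_one.1 ?_]; trivial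
    rw [← d6, hb, he, ← pow_mul, mul_comm b] at e2
    have := Nat.pow_le_pow_right two_pos e3
    have : 0 < D.index := Nat.pos_of_ne_zero Subgroup.index_ne_zero_of_finite
    have : 0 < 2 ^ (2 * b) := Nat.two_pow_pos _
    nlinarith
  have cps : p.Coprime s := (Nat.coprime_primes hp.out hs).2 hsp.symm
  obtain ⟨Z, z1, z2⟩ := gauss (σ := σ) (γ := x * α) (P := s * p) h3 (fun t => center_le_Sc (h4 t)) a1
    (fun a b => (a2 _ _).trans (a1 a b)) (fun t => (a3 _).symm) (Nat.mul_pos hs.pos hp.out.pos)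
    (by rw [hS2.mul_pow, pow_mul, hS1, one_pow, one_mul, mul_comm, pow_mul, hα, one_pow])
    (fun t ht => hD' 2 two_pos (lt_of_le_of_ne hp.out.two_le hp2.symm) t (by
      convert mul_mem ht (inv_mem (center_le_Sc (h4 t))) using 1
      rw [sq, sq, MulAut.mul_apply]; group))
    fun t ht i i1 i2 e => ht (by
      have e1 : (x * α) ^ i ∈ MulAction.stabilizer (MulAut Q) t := e
      by_cases e2 : p ∣ i
      · have e3 := pow_mem e1 p
        rw [← pow_mul, hS2.mul_pow, pow_mul' α, hα, one_pow, mul_one] at e3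
        have e4 : x t = t := mem_of_cop (Nat.mul_pos i1 hp.out.pos) (Nat.Coprime.mul_left
          ((hs.coprime_iff_not_dvd.2 fun e5 => absurd (Nat.le_of_dvd i1
            (cps.symm.mul_dvd_of_dvd_of_dvd e5 e2)) i2.not_ge).symm) cps) e3 (hS1 ▸ one_mem _)
        exact a5 ((mD t).2 (by rw [e4, mul_inv_cancel]; exact one_mem _))
      · have e3 := pow_mem e1 s
        rw [← pow_mul, hS2.mul_pow, pow_mul' x, hS1, one_pow, one_mul] at e3
        refine hD (i * s) (Nat.mul_pos i1 hs.pos) ((hp.out.coprime_iff_not_dvd.2 e2).mul_right cps) t ?_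
        rw [show (α ^ (i * s)) t = t from e3, mul_inv_cancel]; exact one_mem _)
  rw [← (Sc σ).card_mul_index, ← d6] at z1
  exact gauss_num hs hp.out d5 d4 ((cp _ hs hsq).mul_left (cp _ hp.out hp2)) z1 z2

theorem caseC_num {k m p d : ℕ} (hp : p.Prime) (h0 : k ≠ 0) (hm : m ≠ 0) (h1 : k ^ p * m = d ^ 2)
    (h : k ^ p * m ≤ (p - 1) ^ 2 * k) : k = 1 := by
  by_contra hk
  obtain rfl : m = 1 := by
    obtain ⟨n, rfl⟩ : ∃ n, p = n + 1 := ⟨p - 1, (Nat.sub_add_cancel hp.pos).symm⟩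
    rw [pow_succ, Nat.add_sub_cancel, mul_right_comm] at h
    have h2 := Nat.le_of_mul_le_mul_right h (Nat.pos_of_ne_zero h0)
    have h3 : n ^ 2 ≤ 2 ^ n := by
      have : n ≠ 3 := fun e => by rw [e] at hp; norm_num at hp
      rcases Nat.lt_or_ge n 4 with h4 | h4
      · interval_cases n <;> simp_all
      · clear * - h4
        induction n, h4 using Nat.le_induction with
        | base => norm_num
        | succ n h ih => rw [pow_succ 2]; nlinarith
    have h4 : 2 ^ n ≤ k ^ n := Nat.pow_le_pow_left (by omega) n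
    have h5 : 0 < k ^ n := pow_pos (Nat.pos_of_ne_zero h0) n
    nlinarith [Nat.pos_of_ne_zero hm]
  rw [mul_one] at h h1
  exact caseB_num hp hk h0 h1 h

end

open Subgroup Cfsg.Agent.Comp Cfsg.Agent.BG Cfsg.Agent.HH
open scoped commutatorElement

variable {G : Type u} [Group G] [Finite G] {p q s : ℕ} {R Q A : Subgroup G}

theorem wiel {U E H : Subgroup G} (hn : E ≤ Nm(U)) (hf : ∀ e ∈ E, e ≠ 1 → U ⊓ C1(e) ≤ Ct(H))
    (hH : U ⊔ E ≤ Nm(H)) (hs : Group.IsSolvable H) (c1 : (Nat.card H).Coprime (Nat.card U))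
    (c2 : (Nat.card H).Coprime (Nat.card E)) (c3 : (Nat.card E).Coprime (Nat.card U)) :
    Nat.card (H ⊓ Ct(U ⊔ E) : Subgroup G) ^ Nat.card E * Nat.card H =
      Nat.card (H ⊓ Ct(E) : Subgroup G) ^ Nat.card E * Nat.card (H ⊓ Ct(U) : Subgroup G) := by
  have hq : U ⊔ E ⊔ H ≤ Nm(U ⊓ Ct(H)) := sup_le (le_normalizer_inf (sup_le le_normalizer hn)
    (le_normalizer_centralizer hH)) (le_Nm_of_le_Ct' inf_le_right)
  have a1 : U ≤ U ⊔ E ⊔ H := le_sup_left.trans le_sup_left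
  have a2 : E ≤ U ⊔ E ⊔ H := le_sup_right.trans le_sup_left
  have b1 : H ⊓ (U ⊓ Ct(H)) = ⊥ := eq_bot_of_coprime (c1.of_dvd_right (card_dvd_of_le inf_le_left))
  have b2 : ∀ {X : Subgroup G}, X ≤ U ⊔ E →
      Nat.card (img hq H ⊓ Ct(img hq X) : Subgroup _) = Nat.card (H ⊓ Ct(X) : Subgroup G) := fun h => by
    rw [← img_inf_centralizer le_sup_right (h.trans le_sup_left) (h.trans hH) (by rw [b1, card_bot]; simp)
      (Or.inr (Comp.isSolvable_of_le inf_le_left hs)), card_img_of_disjoint (inf_le_left.trans le_sup_right)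
      (eq_bot_iff.2 (b1 ▸ inf_le_inf_right _ inf_le_left))]
  have := FT.frobenius_wielandt (U := img hq U) (E := img hq E) (H := img hq H) (img_le_normalizer hn) ?_
    (by rw [← img_sup a1 a2]; exact img_le_normalizer hH) (isSolvable_img hs)
    (by rw [← img_sup a1 a2]; exact coprime_img (coprime_card_sup hn c1.symm c2.symm).symm)
  · rwa [← img_sup a1 a2, b2 le_rfl, b2 le_sup_right, b2 le_sup_left, card_img_of_disjoint le_sup_right b1,
      card_img_of_disjoint a2 (eq_bot_of_coprime (c3.of_dvd_right (card_dvd_of_le inf_le_left)))] at this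
  · rintro _ ⟨e, he, rfl⟩ h1
    rw [← img_inf_C1 a1 e (hn he) ((c3.of_dvd_left (E.orderOf_dvd_natCard he)).of_dvd_right
      (card_dvd_of_le inf_le_left))]
    exact img_eq_bot (le_inf inf_le_left (hf e he fun e1 => h1 (by rw [show e = 1 from Subtype.ext e1, map_one])))

variable {F : Type w} [Field F] [IsAlgClosed F] {U : Type v} [AddCommGroup U] [Module F U]
  [FiniteDimensional F U]

theorem caseC [hp : Fact p.Prime] [hq : Fact q.Prime] (hpq : q ≠ p) (hR : IsPGroup q R) (hp0 : (p : F) ≠ 0)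
    (hc : (Nat.card R : F) ≠ 0) (σ : Representation F R U) [σ.IsIrreducible]
    (h3 : ∀ a b : R, ⁅a, b⁆ ∈ Sc σ) {c : G} (hc1 : orderOf c = p) (hT : c ∈ In σ) (hQ : Q ≤ In σ)
    (hcQ : c ∈ Nm(Q)) (hf : ∀ x ∈ zpowers c, x ≠ 1 → Q ⊓ C1(x) ≤ Ct(R)) (cQ : (Nat.card Q).Coprime q)
    (cQ' : (Nat.card Q).Coprime p) (l7 : R ⊓ Ct(Q ⊔ zpowers c) ≤ (Sc σ).map R.subtype) {B : Module.End F U}
    (hB : B ^ p = 1) (hσ : ∀ t, B * σ t = σ (R.normalizerMonoidHom ⟨c, In_le σ hT⟩ t) * B)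
    (hB0 : ∀ u, B u = u → u = 0) :
    (∀ t, R.normalizerMonoidHom ⟨c, In_le σ hT⟩ t * t⁻¹ ∈ Sc σ → t ∈ Sc σ) ∧
      ⁅R, Q⁆ ≤ (Sc σ).map R.subtype := by
  have hcp : c ^ p = 1 := hc1 ▸ pow_orderOf_eq_one c
  have hN : (Sc σ).map R.subtype ≤ R := map_subtype_le _
  set κ := R.normalizerMonoidHom ⟨c, In_le σ hT⟩ with hκ
  have hκp : κ ^ p = 1 := by rw [hκ, ← map_pow]; exact (congrArg _ (Subtype.ext hcp)).trans (map_one _)
  have hκT : κ ∈ Tw σ := (mem_In _).1 hT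
  have hα : ∀ i t, ((κ ^ i) t : G) = c ^ i * t * (c ^ i)⁻¹ := fun i t => by rw [hκ, ← map_pow]; rfl
  have cN : ∀ {H : Subgroup G}, H ≤ R → (Nat.card (zpowers c)).Coprime (Nat.card H) := fun h =>
    by rw [Nat.card_zpowers, hc1]; exact (coprime_of_isPGroup_of_ne hpq (hR.to_le h)).symm
  have hD : ∀ i, 0 < i → i < p → ∀ t, (κ ^ i) t * t⁻¹ ∈ Sc σ ↔ t ∈ Sc σ ⊔ (Ct(zpowers c)).subgroupOf R := by
    refine fun i i1 i2 t => ⟨fun ht => ?_, fun ht => ?_⟩
    · have h5 : κ ∈ fixm σ t := mem_of_cop i1 (Nat.coprime_of_lt_prime i1.ne' i2 hp.out).symm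
        ⟨pow_mem hκT i, ht⟩ (hκp ▸ one_mem _)
      obtain ⟨_, ⟨n, hn, rfl⟩, h6⟩ := Solv.coprime_fixed_coset (k := t) ((zpowers_le.2 hT).trans (In_le_Nm σ))
        (cN hN) (Or.inl (Solv.isSolvable_zpowers c))
        (le_normalizer_map R.subtype ⟨t, le_normalizer_of_normal (mem_top t), rfl⟩) fun g hg => by
          obtain ⟨k, rfl⟩ := mem_powers_iff_mem_zpowers.2 hg
          exact ⟨_, (pow_mem h5 k).2, by rw [map_mul, map_inv]; exact congrArg (· * _) (hα k t)⟩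
      rw [← inv_mul_cancel_left n t]
      exact mul_mem (mem_sup_left (inv_mem hn)) (mem_sup_right h6)
    · obtain ⟨n, hn, u, hu, rfl⟩ := mem_sup_of_normal_left.1 ht
      have : (κ ^ i) u = u := Subtype.ext (by
        rw [hα, show c ^ i * u = u * c ^ i from hu _ (pow_mem (mem_zpowers c) i), mul_inv_cancel_right])
      rw [map_mul, this, mul_inv_rev, mul_assoc, mul_inv_cancel_left]
      exact mul_mem (tw_mem (pow_mem hκT i) hn) (inv_mem hn)
  have e1 := dim_le hc h3 hp0 hB hκp hσ hD hB0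
  rw [relIndex_sup_left, ← relIndex_map_map_of_injective _ _ R.subtype_injective, subgroupOf_map_subtype,
    inf_comm] at e1
  have hQc : Q ⊔ zpowers c ≤ In σ := sup_le hQ (zpowers_le.2 hT)
  have c3 : (Nat.card (zpowers c)).Coprime (Nat.card Q) := by rw [Nat.card_zpowers, hc1]; exact cQ'.symm
  have w1 := wiel (zpowers_le.2 hcQ) hf (hQc.trans (In_le σ)) (isSolvable_of_isPGroup hR)
    (coprime_of_isPGroup hR cQ) (cN le_rfl).symm c3
  have w2 := wiel (zpowers_le.2 hcQ) (fun x a b => (hf x a b).trans (Comp.centralizer_mono hN))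
    (hQc.trans (In_le_Nm σ)) (isSolvable_of_isPGroup (hR.to_le hN)) (coprime_of_isPGroup (hR.to_le hN) cQ)
    (cN hN).symm c3
  have w4 := Solv.card_inf_mul_relIndex ((Sc σ).map R.subtype) (R ⊓ Ct(zpowers c))
  have w3 := Solv.card_inf_mul_relIndex ((Sc σ).map R.subtype) (R ⊓ Ct(Q))
  rw [show (Sc σ).map R.subtype ⊓ Ct(Q ⊔ zpowers c) = R ⊓ Ct(Q ⊔ zpowers c) from
    le_antisymm (inf_le_inf_right _ hN) (le_inf l7 inf_le_right)] at w2
  rw [← inf_assoc, inf_eq_left.2 hN] at w4 w3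
  rw [← w4, ← w3, ← Solv.card_mul_relIndex hN, Solv.relIndex_map_subtype, mul_pow, mul_mul_mul_comm, ← w2,
    ← mul_assoc, Nat.card_zpowers, hc1] at w1
  have w5 := Nat.eq_of_mul_eq_mul_left (Nat.mul_pos (pow_pos Nat.card_pos _) Nat.card_pos) w1
  have w6 := caseC_num hp.out (relIndex_ne_zero' _ _) (relIndex_ne_zero' _ _)
    (w5.symm.trans (sq_dim hc h3).symm) (w5 ▸ e1)
  rw [w6, one_pow, one_mul] at w5
  rw [relIndex_eq_one] at w6
  refine ⟨fun t ht => (sup_le le_rfl fun u hu => (mem_map_iff_mem R.subtype_injective).1 (w6 ⟨u.2, hu⟩) :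
    Sc σ ⊔ (Ct(zpowers c)).subgroupOf R ≤ Sc σ) ((hD 1 one_pos hp.out.one_lt t).1 (by rwa [pow_one])), ?_⟩
  have w7 := relIndex_mul_index (le_sup_left : Sc σ ≤ Sc σ ⊔ (Ct(Q)).subgroupOf R)
  rw [relIndex_sup_left, ← relIndex_map_map_of_injective _ _ R.subtype_injective, subgroupOf_map_subtype,
    inf_comm, ← w5, mul_eq_left₀ index_ne_zero_of_finite, index_eq_one] at w7
  have w8 : R ≤ (Sc σ).map R.subtype ⊔ R ⊓ Ct(Q) := by
    rw [inf_comm, ← subgroupOf_map_subtype, ← Subgroup.map_sup, w7, ← MonoidHom.range_eq_map, range_subtype]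
  exact (commutator_mono w8 le_rfl).trans (commutator_sup_left_le le_normalizer
    (fun t ht => le_normalizer_map R.subtype ⟨⟨t, ht.1⟩, le_normalizer_of_normal (mem_top _), rfl⟩)
    (commutator_le_left_of_le_normalizer (hQ.trans (In_le_Nm σ)))
    ((commutator_eq_bot_iff_le_centralizer.2 inf_le_right).le.trans bot_le))

end Cfsg.Agent.Sh
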