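import Cfsg.Agent.Lib.Fusion.Sh7

/-!
Fixed point free coprime action of a group whose order is a product of two primes: the core.
-/

set_option autoImplicit false
set_option linter.unusedSectionVars false
set_option linter.unusedVariables false
set_option linter.style.haveILetI false

namespace Cfsg.Agent.Sh

open Subgroup Cfsg.Agent.Comp Cfsg.Agent.BG Cfsg.Agent.HH
open scoped commutatorElement

universe u v w

variable {G : Type u} [Group G] [Finite G] {p q s : ℕ} {R Q A : Subgroup G}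

theorem sup_eq_of_pr (hA : ∀ B, B ≤ A → B ≠ ⊥ → B ≠ A → (Nat.card B).Prime) {B C : Subgroup G} (h1 : B ≤ A)
    (h2 : C ≤ A) (h3 : B ≠ ⊥) (h4 : ¬ C ≤ B) : B ⊔ C = A := by
  by_contra e
  have a := hA _ (sup_le h1 h2) (fun e => h3 (eq_bot_iff.2 (e ▸ le_sup_left))) e
  have b := hA B h1 h3 fun e => h4 (e ▸ h2)
  exact h4 (le_sup_right.trans (eq_of_le_of_card_ge (le_sup_left : B ≤ B ⊔ C)
    ((Nat.prime_dvd_prime_iff_eq b a).1 (card_dvd_of_le le_sup_left)).ge).ge)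

variable {F : Type w} [Field F] [IsAlgClosed F] {W : Type v} [AddCommGroup W] [Module F W]
  [FiniteDimensional F W]

theorem gen_min [hq : Fact q.Prime] [hs : Fact s.Prime] (hsq : s ≠ q) (hA0 : (Nat.card A : F) ≠ 0)
    (hq0 : (q : F) ≠ 0) (ρ : Representation F G W)
    (hA : ∀ B, B ≤ A → B ≠ ⊥ → B ≠ A → (Nat.card B).Prime) (cq : (Nat.card A).Coprime q)
    (cs : (Nat.card A).Coprime s) (hR : IsPGroup q R) (hQ : IsPGroup s Q) (hQR : Q ≤ Nm(R))
    (hAR : A ≤ Nm(R)) (hAQ : A ≤ Nm(Q)) (hRA : R ⊓ Ct(A) = ⊥)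
    (hW : ∀ w, (∀ b ∈ A, ρ b w = w) → w = 0) (hker : R ⊓ ρ.ker = ⊥)
    (m0 : ¬ Q ≤ Ct(R)) (m1 : ∀ Y, Y < Q → A ≤ Nm(Y) → Y ≤ Ct(R))
    (m2 : ∀ Y, Y < R → Q ⊔ A ≤ Nm(Y) → Q ≤ Ct(Y))
    (hstar : ∀ c ∈ A, (orderOf c).Prime → R ⊓ Ct(⁅Q, zpowers c⁆ ⊔ zpowers c) ≤ ⁅R, R⁆) : False := by
  have cQ := coprime_of_isPGroup_of_ne hsq.symm hR
  have copR : ∀ {B H : Subgroup G}, Nat.card B ∣ Nat.card A → H ≤ R → (Nat.card B).Coprime (Nat.card H) :=
    fun h h' => (coprime_of_isPGroup (hR.to_le h') (cq.of_dvd_left h)).symm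
  have copQ : ∀ {B H : Subgroup G}, B ≤ A → H ≤ Q → (Nat.card B).Coprime (Nat.card H) :=
    fun h h' => (coprime_of_isPGroup (hQ.to_le h') (cs.of_dvd_left (card_dvd_of_le h))).symm
  have hX : Q ⊔ A ≤ Nm(R) := sup_le hQR hAR
  obtain ⟨l5, l6, l7⟩ := min_not_le_Ct (isSolvable_of_isPGroup hR) hX le_sup_left (sup_le le_normalizer hAQ)
    (coprime_of_isPGroup hQ cQ) m0 m2
  have hR0 : R ≠ ⊥ := fun e => m0 (by rw [e]; exact le_Ct_comm.1 bot_le)
  have hQ0 : Q ≠ ⊥ := fun e => m0 (e ▸ bot_le)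
  have hPhi := m1 _ (Solv.map_frattini_lt hQ0) (le_normalizer_Phi hAQ)
  have hc : (Nat.card R : F) ≠ 0 := by
    obtain ⟨k, hk⟩ := hR.exists_card_eq
    rw [hk, Nat.cast_pow]; exact pow_ne_zero _ hq0
  have hZ : ∀ t : R, (t : G) ∈ Ct(Q) → t ∈ center R := fun t ht =>
    mem_center_iff.2 fun g => Subtype.ext (l7 ⟨t.2, ht⟩ g g.2)
  have h3 : ∀ a b : R, ⁅a, b⁆ ∈ center R := fun a b => hZ _ (l6 (commutator_mem_commutator a.2 b.2))
  obtain ⟨U, _, _, _, σ, ι, hσ, a1, a2, a3⟩ := exists_irr_ne_one (ρ.comp R.subtype) hc ⊤ fun e =>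
    hR0 (eq_bot_iff.2 (hker ▸ le_inf le_rfl fun x hx => e (mem_top ⟨x, hx⟩)))
  haveI := Char.nontrivial_of_isIrreducible σ
  have hρ : ∀ x (h : x ∈ Nm(R)) t, ρ x * (ρ.comp R.subtype) t =
      (ρ.comp R.subtype) (R.normalizerMonoidHom ⟨x, h⟩ t) * ρ x := fun x h t => by
    rw [MonoidHom.comp_apply, MonoidHom.comp_apply, ← map_mul, ← map_mul]
    exact congrArg _ (inv_mul_cancel_right (x * t) x).symm
  have fx : ∀ x ∈ Nm(R), ∀ {ι : U →ₗ[F] W}, Function.Injective ι →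
      (∀ t u, ι (σ t u) = (ρ.comp R.subtype) t (ι u)) → ∀ u,
      (∀ b ∈ A, x * b * x⁻¹ ∈ In σ → ρ (x * b * x⁻¹) (ι u) = ι u) → u = 0 := fun x hx ι i1 i2 u hu => by
    let φ : A →* G := (MulAut.conj x).toMonoidHom.comp A.subtype
    have hφ : ∀ b, φ b ∈ Nm(R) := fun b => mul_mem (mul_mem hx (hAR b.2)) (inv_mem hx)
    refine fix_zero (H := A) hA0 hc _
      (R.normalizerMonoidHom.comp (φ.codRestrict _ hφ)) (ρ.comp φ) (fun b t => hρ _ (hφ b) t)
      (fun w hw => ?_) i1 i2 fun b hb => hu b b.2 ((mem_In (hφ b)).2 hb)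
    have := congrArg (ρ x) (hW (ρ x⁻¹ w) fun b hb => by
      conv_rhs => rw [← hw ⟨b, hb⟩]
      show _ = (ρ x⁻¹ * ρ (x * b * x⁻¹)) w
      rw [← map_mul, ← mul_assoc, inv_mul_cancel_left, map_mul]; rfl)
    rwa [map_zero, ← Module.End.mul_apply, ← map_mul, mul_inv_cancel, map_one] at this
  have t1 : ∀ x ∈ Nm(R), ∃ b ∈ A, b ≠ 1 ∧ x * b * x⁻¹ ∈ In σ := fun x hx => by
    by_contra! h
    obtain ⟨u, hu⟩ := exists_ne (0 : U)
    refine hu (fx x hx a1 a2 u fun b hb hb' => ?_)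
    rw [of_not_not fun e => h b hb e hb', mul_one, mul_inv_cancel, map_one]; rfl
  have hN : (Sc σ).map R.subtype ≤ R := map_subtype_le _
  have t2 : ∀ x ∈ Nm(R), ¬ cj(x, A) ≤ In σ := fun x hx h => by
    have h1 := comm_In σ h
    rw [commutator_eq_of_inf_Ct_eq_bot (h.trans (In_le_Nm σ)) (copR (card_cj x A).dvd hN)
      (Or.inr (isSolvable_of_isPGroup (hR.to_le hN))) (eq_bot_iff.2 ((inf_le_inf_right _ hN).trans (by
        rw [← cj_eq_self_iff.2 hx, ← cj_centralizer, ← cj_inf, hRA, cj_bot]))),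
      map_le_map_iff_of_injective R.subtype_injective] at h1
    exact a3 fun t _ => h1 (mem_Sc.2 fun g => h1 (center_le_Sc (h3 g t)))
  obtain ⟨c, hcA, hc1, hT⟩ := t1 1 (one_mem _)
  rw [one_mul, inv_one, mul_one] at hT
  have hcz : zpowers c ≠ ⊥ := zpowers_ne_bot.2 hc1
  have t4 : ∀ x ∈ Q, ∀ b ∈ A, x * b * x⁻¹ ∈ In σ → b ∈ zpowers c := fun x hx b hb h => by
    by_contra e
    have e1 : A ≤ Q ⊔ In σ ⊓ Nm(Q) := (sup_eq_of_pr hA (zpowers_le.2 hcA) (zpowers_le.2 hb) hcz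
      fun e' => e (e' (mem_zpowers b))).ge.trans (sup_le (zpowers_le.2 (mem_sup_right ⟨hT, hAQ hcA⟩))
      (zpowers_le.2 (by
        rw [show b = (b * x * b⁻¹ * x⁻¹) * (x * b * x⁻¹) by group]
        exact mul_mem (mem_sup_left (mul_mem (Comp.conj_mem_of_mem_normalizer (hAQ hb) hx) (inv_mem hx)))
          (mem_sup_right (mem_inf.2 ⟨h, mul_mem (mul_mem (le_normalizer hx) (hAQ hb)) (inv_mem (le_normalizer hx))⟩)))))
    obtain ⟨k, hk, e2⟩ := Solv.glauberman_exists (S := In σ) hAQ (copQ le_rfl le_rfl)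
      (Or.inr (isSolvable_of_isPGroup hQ)) fun a ha => by
        obtain ⟨k, hk, t, ht, rfl⟩ := (Comp.mem_sup_of_le_normalizer' inf_le_right).1 (e1 ha)
        exact ⟨k, hk, by rw [inv_mul_cancel_left]; exact ht.1⟩
    exact t2 k⁻¹ (inv_mem (hQR hk)) (cj_le_iff'.2 fun a ha => by
      simpa only [inv_inv] using Solv.mem_conj_smul.1 (e2 ha))
  have hl : (orderOf c).Prime := Nat.card_zpowers c ▸ hA _ (zpowers_le.2 hcA) hcz fun e =>
    t2 1 (one_mem _) (by rw [cj_one, ← e]; exact zpowers_le.2 hT)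
  haveI := Fact.mk hl
  have hld : orderOf c ∣ Nat.card A := A.orderOf_dvd_natCard hcA
  have t5 : ⁅Q, zpowers c⁆ ≤ In σ := commutator_le.2 fun x hx g hg => by
    obtain ⟨b, hb, hb1, hbT⟩ := t1 x (hQR hx)
    have : zpowers b ≤ (In σ).comap (MulAut.conj x).toMonoidHom := zpowers_le.2 hbT
    exact mul_mem (this ((Solv.eq_of_card_prime_of_mem hl (Nat.card_zpowers c) (t4 x hx b hb hbT) hb1).le hg))
      (inv_mem (zpowers_le.2 hT hg))
  obtain ⟨ι, B, i1, i2, i3⟩ := exists_stable _ σ a1 a2 ((mem_In (In_le σ hT)).1 hT) (hρ c _)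
  have c1 : ∀ k u, ρ (c ^ k) (ι u) = ι ((B ^ k) u) := fun k u => by
    induction k with
    | zero => simp
    | succ k ih => rw [pow_succ', pow_succ', map_mul, Module.End.mul_apply, ih, i3]; rfl
  have b1 : B ^ orderOf c = 1 := LinearMap.ext fun u => i1 (by rw [← c1, pow_orderOf_eq_one, map_one]; rfl)
  have b2 : ∀ t, B * σ t = σ (R.normalizerMonoidHom ⟨c, In_le σ hT⟩ t) * B := fun t =>
    LinearMap.ext fun u => i1 (by
      rw [Module.End.mul_apply, Module.End.mul_apply, ← i3, i2, i2, ← i3, ← Module.End.mul_apply, hρ]; rfl)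
  have b3 : ∀ u, B u = u → u = 0 := fun u hu => fx 1 (one_mem _) i1 i2 u fun b hb hb' => by
    obtain ⟨k, rfl⟩ := mem_powers_iff_mem_zpowers.2 (t4 1 (one_mem _) b hb hb')
    rw [one_mul, inv_one, mul_one, c1, Module.End.pow_apply, Function.iterate_fixed hu]
  have h3' : ∀ a b : R, ⁅a, b⁆ ∈ Sc σ := fun a b => center_le_Sc (h3 a b)
  have hcQ : zpowers c ≤ Nm(Q) := (zpowers_le.2 hcA).trans hAQ
  have hQ1 : ⁅Q, zpowers c⁆ ≤ Q := commutator_le_left_of_le_normalizer hcQ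
  have hcQ1 : zpowers c ≤ Nm(⁅Q, zpowers c⁆) := normalizer_commutator_ge_right _ _
  have hL : ⁅Q, zpowers c⁆ ⊔ zpowers c ≤ In σ := sup_le t5 (zpowers_le.2 hT)
  have hlq : q ≠ orderOf c := fun e => hq.out.ne_one ((Nat.coprime_self q).1 (cq.of_dvd_left (e ▸ hld)))
  have hls : s ≠ orderOf c := fun e => hs.out.ne_one ((Nat.coprime_self s).1 (cs.of_dvd_left (e ▸ hld)))
  have hl0 : (orderOf c : F) ≠ 0 := fun e => hA0 (by obtain ⟨k, hk⟩ := hld; rw [hk, Nat.cast_mul, e, zero_mul])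
  have hS : Sc σ ≠ ⊤ := fun e => by
    have h1 := comm_In σ hL
    rw [e, ← MonoidHom.range_eq_map, range_subtype] at h1
    refine a3 (ker_top σ ((commutator_sup_Ct (hL.trans (In_le σ)) (coprime_card_sup hcQ1
      (coprime_of_isPGroup (hQ.to_le hQ1) cQ) (copR (card_dvd_of_le (zpowers_le.2 hcA)) le_rfl))
      (Or.inr (isSolvable_of_isPGroup hR))).ge.trans (sup_le h1 ((hstar c hcA hl).trans
        (commutator_le.2 fun a ha b hb => ⟨⁅⟨a, ha⟩, ⟨b, hb⟩⁆, mem_Sc.1 (e ▸ mem_top _) _, rfl⟩)))))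
  obtain ⟨d1, d2⟩ := caseC hlq hR hl0 hc σ h3' rfl hT t5 (hcQ1 (mem_zpowers c)) (fun x hx h1 => by
      rw [← centralizer_zpowers, ← Solv.eq_of_card_prime_of_mem hl (Nat.card_zpowers c) hx h1]
      exact (inf_Ct_le_commutator hcQ1 (copQ (zpowers_le.2 hcA) hQ1) (commutator_commutator_eq hcQ
        (copQ (zpowers_le.2 hcA) le_rfl) (Or.inr (isSolvable_of_isPGroup hQ)))).trans
        ((commutator_mono hQ1 hQ1).trans ((Solv.commutator_le_map_frattini hQ.isNilpotent).trans hPhi)))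
    (coprime_of_isPGroup_of_ne hsq (hQ.to_le hQ1)) (coprime_of_isPGroup_of_ne hls (hQ.to_le hQ1))
    ((hstar c hcA hl).trans (commutator_le.2 fun a ha b hb => ⟨⁅⟨a, ha⟩, ⟨b, hb⟩⁆, h3' _ _, rfl⟩)) b1 b2 b3
  have k1 : ∀ x (hx : x ∈ Q) (a b : R), R.normalizerMonoidHom ⟨x, hQR hx⟩ ⁅a, b⁆ = ⁅a, b⁆ := fun x hx a b =>
    Subtype.ext (mul_inv_eq_iff_eq_mul.2 (l6 (commutator_mem_commutator a.2 b.2) x hx))
  have k2 : Q ≤ Nm((Sc σ).map R.subtype) := fun x hx => mem_normalizer_of_conj_mem (by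
    rintro _ ⟨t, ht, rfl⟩
    exact ⟨_, (sc_inv (α := R.normalizerMonoidHom ⟨x, hQR hx⟩) fun a b => by
      rw [← map_commutatorElement, k1 x hx]).2 ht, rfl⟩)
  obtain ⟨x, hx, hx'⟩ : ∃ x, ∃ hx : x ∈ Q ⊓ Ct(zpowers c),
      ¬ ∀ t, R.normalizerMonoidHom ⟨x, hQR hx.1⟩ t * t⁻¹ ∈ Sc σ := by
    by_contra! h
    have : ⁅R, Q⁆ ≤ (Sc σ).map R.subtype := by
      refine (commutator_mono le_rfl (commutator_sup_Ct hcQ (copQ (zpowers_le.2 hcA) le_rfl)
        (Or.inr (isSolvable_of_isPGroup hQ))).ge).trans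
        (commutator_sup_right_le (hQ1.trans k2) (inf_le_left.trans k2) d2 ?_)
      rw [Subgroup.commutator_comm]
      exact commutator_le.2 fun x hx t ht => ⟨_, h x hx ⟨t, ht⟩, rfl⟩
    rw [l5] at this
    exact hS (eq_top_iff.2 fun t _ => (mem_map_iff_mem R.subtype_injective).1 (this t.2))
  refine caseA2 hs.out hlq hls hsq hR hl0 hc hS h3 (fun t => hZ _ (le_Ct_comm.1 (m2 _
    (Solv.map_frattini_lt hR0) (le_normalizer_Phi hX)) (Solv.pow_mem_map_frattini hR t.2))) b1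
    (by rw [← map_pow]; exact (congrArg _ (Subtype.ext (pow_orderOf_eq_one c))).trans (map_one _)) b2 b3 d1
    ?_ (Commute.map (Subtype.ext (hx.2 c (mem_zpowers c)).symm) _) (k1 x hx.1) hx'
  rw [← map_pow]
  exact MulEquiv.ext fun t => Subtype.ext (mul_inv_eq_iff_eq_mul.2
    (hPhi (Solv.pow_mem_map_frattini hQ hx.1) t t.2).symm)

theorem star_out {P : Subgroup G} {c : G} (hA : ∀ B, B ≤ A → B ≠ ⊥ → B ≠ A → (Nat.card B).Prime)
    (hna : ¬ IsMulCommutative A) (hP : P ≤ A) (hAP : A ≤ Nm(P)) (hP1 : (Nat.card P).Prime) (hc : c ∈ A)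
    (hcP : c ∉ P) (hl : (orderOf c).Prime) (cR : (Nat.card A).Coprime (Nat.card R))
    (cQ : (Nat.card A).Coprime (Nat.card Q)) (cQR : (Nat.card Q).Coprime (Nat.card R))
    (sR : Group.IsSolvable R) (sQ : Group.IsSolvable Q) (hQR : Q ≤ Nm(R)) (hAR : A ≤ Nm(R)) (hAQ : A ≤ Nm(Q))
    (hRA : R ⊓ Ct(A) = ⊥) (hQA : Q ⊓ Ct(A) = ⊥) (l5 : ⁅R, Q⁆ = R) (l6 : ⁅R, R⁆ ≤ Ct(Q)) :
    R ⊓ Ct(⁅Q, zpowers c⁆ ⊔ zpowers c) ≤ ⁅R, R⁆ := by
  classical
  have hz : zpowers c ≤ A := zpowers_le.2 hc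
  have hc1 : zpowers c ≠ ⊥ := zpowers_ne_bot.2 fun e => hcP (e ▸ one_mem _)
  have g1 : P ⊔ zpowers c = A := sup_eq_of_pr hA hP hz (fun e => hP1.ne_one (e ▸ card_bot))
    fun e => hcP (e (mem_zpowers c))
  have g2 : ∀ g ∈ P, g ≠ 1 → zpowers c ⊔ cj(g, zpowers c) = A := fun g hg h1 =>
    sup_eq_of_pr hA hz (cj_le_of_mem hz (le_normalizer (hP hg))) hc1 fun e => hna (by
      have e1 := Solv.eq_of_card_prime_of_mem hP1 rfl hg h1
      have e2 : P ≤ Nm(zpowers c) := e1.le.trans (zpowers_le.2 (mem_normalizer_of_conj_mem (cj_le_iff'.1 e)))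
      have e3 : P ≤ Ct(zpowers c) := commutator_eq_bot_iff_le_centralizer.1 (eq_bot_iff.2 fun x hx =>
        of_not_not fun e4 => hcP (zpowers_le.2 (commutator_le_left_of_le_normalizer (hz.trans hAP) hx)
          ((Solv.eq_of_card_prime_of_mem hl (Nat.card_zpowers c)
            (commutator_le_right_of_le_normalizer e2 hx) e4).le (mem_zpowers c))))
      rw [comm_iff_le, ← g1, centralizer_sup]
      exact sup_le (le_inf (by rw [e1]; exact comm_iff_le.1 inferInstance) e3)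
        (le_inf (le_Ct_comm.1 e3) (comm_iff_le.1 inferInstance)))
  have hQ1 : ∀ {B : Subgroup G}, B ≤ A → ⁅Q, B⁆ ≤ Q := fun h => commutator_le_left_of_le_normalizer (h.trans hAQ)
  set Q0 := ⁅Q, zpowers c⁆ with hQ0
  have cQ0 := cQR.of_dvd_left (card_dvd_of_le (hQ1 hz))
  have nQ0 : Q0 ≤ Nm(R) := (hQ1 hz).trans hQR
  have g3 : ∀ g ∈ P, g ≠ 1 → R ⊓ Ct(cj(g, Q0)) ≤ ⁅R, Q0⁆ ⊔ ⁅R, R⁆ := fun g hg h1 => by
    have e0 : cj(g, zpowers c) ≤ A := cj_le_of_mem hz (le_normalizer (hP hg))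
    rw [hQ0, cj_commutator, cj_eq_self_iff.2 (hAQ (hP hg)), ← hQ0]
    have e1 : Q ≤ Q0 ⊔ ⁅Q, cj(g, zpowers c)⁆ := by
      have e2 := sup_le (hQ1 hz) (hQ1 e0)
      refine (commutator_eq_of_inf_Ct_eq_bot hAQ cQ (Or.inr sQ) hQA).ge.trans ?_
      rw [← g2 g hg h1]
      exact commutator_sup_right_le
        (le_normalizer_iff_commutator_le_left.2 ((commutator_mono e2 le_rfl).trans le_sup_left))
        (le_normalizer_iff_commutator_le_left.2 ((commutator_mono e2 le_rfl).trans le_sup_right))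
        le_sup_left le_sup_right
    refine (commutator_sup_Ct (le_normalizer_inf nQ0 (le_normalizer_centralizer ((hQ1 hz).trans
      (normalizer_commutator_ge_left _ _)))) (cQ0.of_dvd_right (card_dvd_of_le inf_le_left))
      (Or.inr (Comp.isSolvable_of_le inf_le_left sR))).ge.trans
      (sup_le_sup (commutator_mono inf_le_left le_rfl) (le_trans ?_ (inf_Ct_le_commutator hQR cQR l5)))
    rw [inf_assoc, ← centralizer_sup, sup_comm]
    exact inf_le_inf_left _ (Comp.centralizer_mono e1)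
  rintro v ⟨hv, hv'⟩
  rw [centralizer_sup] at hv'
  haveI := Fintype.ofFinite P
  let κ : P → R := fun g => R.normalizerMonoidHom ⟨g, hAR (hP g.2)⟩ ⟨v, hv⟩
  have hπ : ∀ x y : R, Abelianization.of x = Abelianization.of y → (x : G) * y⁻¹ ∈ ⁅R, R⁆ := fun x y h => by
    rw [← map_subtype_commutator]
    exact ⟨x * y⁻¹, by
      rw [← Abelianization.ker_of, SetLike.mem_coe, MonoidHom.mem_ker, map_mul, map_inv, h, mul_inv_cancel], rfl⟩
  obtain ⟨w, hw⟩ : ∃ w : R, Abelianization.of w = ∏ g : P, Abelianization.of (κ g) :=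
    QuotientGroup.mk_surjective _
  obtain ⟨n, hn, h6⟩ := Solv.coprime_fixed_coset (A := A) (N := ⁅R, R⁆) (k := w) (le_normalizer_commutator hAR hAR)
    (cR.of_dvd_right (card_dvd_of_le (Comp.commutator_le_left_of_le_normalizer le_normalizer)))
    (Or.inr (Comp.isSolvable_of_le (Comp.commutator_le_left_of_le_normalizer le_normalizer) sR))
    (le_normalizer_commutator le_normalizer le_normalizer w.2) fun a ha => by
      refine hπ (R.normalizerMonoidHom ⟨a, hAR ha⟩ w) w ?_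
      obtain ⟨f, hf, z, hz', rfl⟩ := (Comp.mem_sup_of_le_normalizer' (hz.trans hAP)).1 (g1.ge ha)
      refine (Abelianization.map_of (R.normalizerMonoidHom ⟨f * z, hAR ha⟩).toMonoidHom w).symm.trans ?_
      rw [hw, map_prod]
      refine Fintype.prod_equiv ((P.normalizerMonoidHom ⟨z, hAP (hz hz')⟩).toEquiv.trans
        (Equiv.mulLeft ⟨f, hf⟩)) _ _ fun g => ?_
      rw [Abelianization.map_of]
      refine congrArg _ (Subtype.ext ?_)
      show f * z * (g * v * (g : G)⁻¹) * (f * z)⁻¹ = f * (z * g * z⁻¹) * v * (f * (z * g * z⁻¹))⁻¹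
      rw [show f * (z * g * z⁻¹) * v * (f * (z * g * z⁻¹))⁻¹ = f * z * g * (z⁻¹ * (v * z)) * (f * z * g)⁻¹ by group,
        ← hv'.2 z hz']
      group
  have h7 : n * w = 1 := mem_bot.1 (hRA ▸ ⟨mul_mem (Comp.commutator_le_left_of_le_normalizer le_normalizer hn) w.2, h6⟩)
  have h8 : Abelianization.of w = 1 := by
    rw [← MonoidHom.mem_ker, Abelianization.ker_of, ← mem_map_iff_mem R.subtype_injective, map_subtype_commutator]
    exact (eq_inv_of_mul_eq_one_right h7 ▸ inv_mem hn : (w : G) ∈ _)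
  rw [hw, ← Finset.mul_prod_erase _ _ (Finset.mem_univ 1)] at h8
  obtain ⟨y, hy, e⟩ : Abelianization.of (κ 1) ∈ ((⁅R, Q0⁆ ⊔ ⁅R, R⁆).subgroupOf R).map Abelianization.of := by
    rw [eq_inv_of_mul_eq_one_left h8]
    refine inv_mem (prod_mem fun g hg => mem_map_of_mem _ (g3 g g.2 (fun e => Finset.ne_of_mem_erase hg
      (Subtype.ext e)) ⟨(κ g).2, ?_⟩))
    rw [← cj_centralizer]
    exact ⟨v, hv'.1, rfl⟩
  have h9 : v ∈ ⁅R, Q0⁆ ⊔ ⁅R, R⁆ := by
    have := mul_mem (mem_sup_right (hπ _ _ e.symm)) hy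
    simpa [κ] using this
  have hR1 : ⁅R, Q0⁆ ≤ R := commutator_le_left_of_le_normalizer nQ0
  obtain ⟨a, ha, r, hr, rfl⟩ := (Comp.mem_sup_of_le_normalizer (hR1.trans
    (le_normalizer_commutator le_normalizer le_normalizer))).1 h9
  refine mul_mem (commutator_mono hR1 hR1 (inf_Ct_le_commutator (normalizer_commutator_ge_right _ _)
    (cQ0.of_dvd_right (card_dvd_of_le hR1)) (commutator_commutator_eq nQ0 cQ0 (Or.inr sR)) ⟨ha, ?_⟩)) hr
  exact (mul_mem_cancel_right (Comp.centralizer_mono (hQ1 hz) (l6 hr))).1 hv'.1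

end Cfsg.Agent.Sh
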