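import Cfsg.Agent.Lib.Fusion.Sh8

/-!
Fixed point free coprime action of a nonabelian group of order `p l`.
-/

set_option autoImplicit false
set_option linter.unusedSectionVars false
set_option linter.unusedVariables false
set_option linter.style.haveILetI false

namespace Cfsg.Agent.Sh

open Subgroup Cfsg.Agent.Comp Cfsg.Agent.BG Cfsg.Agent.HH
open scoped commutatorElement

universe u v w

variable {G : Type u} [Group G] [Finite G] {p l q r s : ℕ} {R Q A K U : Subgroup G}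

theorem pr_of_card (hp : p.Prime) (hl : l.Prime) (hc : Nat.card A = p * l) :
    ∀ B, B ≤ A → B ≠ ⊥ → B ≠ A → (Nat.card B).Prime := fun B h1 h2 h3 => by
  obtain ⟨a, b, ha, hb, e⟩ := (Nat.dvd_mul).1 (hc ▸ card_dvd_of_le h1)
  rcases (Nat.dvd_prime hp).1 ha with rfl | rfl <;> rcases (Nat.dvd_prime hl).1 hb with rfl | rfl
  · exact absurd (card_eq_one.1 e.symm) h2
  · rwa [← e, one_mul]
  · rwa [← e, mul_one]
  · exact absurd (eq_of_le_of_card_ge h1 (hc.trans e).le) h3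

theorem exists_ker (hp : p.Prime) (hl : l.Prime) (hlp : l < p) (hc : Nat.card A = p * l) :
    ∃ P, P ≤ A ∧ A ≤ Nm(P) ∧ (Nat.card P).Prime := by
  haveI := Fact.mk hp
  obtain ⟨f, hf⟩ := exists_prime_orderOf_dvd_card' (G := A) p ⟨l, hc⟩
  have h1 := (zpowers f).card_mul_index
  rw [Nat.card_zpowers, hf, hc] at h1
  have h2 : (p * l).minFac = l := by
    have a := Nat.minFac_le_of_dvd hl.two_le (Dvd.intro_left p rfl)
    have b := Nat.minFac_prime (n := p * l) (by have := hp.two_le; have := hl.two_le; nlinarith)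
    rcases b.dvd_mul.1 (Nat.minFac_dvd _) with e | e
    · have := (Nat.prime_dvd_prime_iff_eq b hp).1 e; omega
    · exact (Nat.prime_dvd_prime_iff_eq b hl).1 e
  haveI := (zpowers f).normal_of_index_eq_minFac_card (by
    rw [hc, h2]; exact Nat.eq_of_mul_eq_mul_left hp.pos h1)
  exact ⟨(zpowers f).map A.subtype, map_subtype_le _, fun a ha => le_normalizer_map A.subtype
    ⟨⟨a, ha⟩, le_normalizer_of_normal (mem_top _), rfl⟩, by
      rwa [card_map_of_injective A.subtype_injective, Nat.card_zpowers, hf]⟩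

section
variable {F : Type w} [Field F] [IsAlgClosed F] {W : Type v} [AddCommGroup W] [Module F W]
  [FiniteDimensional F W]

theorem pq_core [hq : Fact q.Prime] [hs : Fact s.Prime] (hp : p.Prime) (hl : l.Prime) (hlp : l < p)
    (hc : Nat.card A = p * l) (hna : ¬ IsMulCommutative A) (hsq : s ≠ q) (hA0 : (Nat.card A : F) ≠ 0)
    (hq0 : (q : F) ≠ 0) (ρ : Representation F G W) (cq : (Nat.card A).Coprime q)
    (cs : (Nat.card A).Coprime s) (hR : IsPGroup q R) (hQ : IsPGroup s Q) (hQR : Q ≤ Nm(R))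
    (hAR : A ≤ Nm(R)) (hAQ : A ≤ Nm(Q)) (hRA : R ⊓ Ct(A) = ⊥) (hQA : Q ⊓ Ct(A) = ⊥)
    (hW : ∀ w, (∀ b ∈ A, ρ b w = w) → w = 0) (hker : R ⊓ ρ.ker = ⊥) : Q ≤ Ct(R) := by
  by_contra e
  obtain ⟨Q, a1, hAQ, a3, a4⟩ := exists_min_not_le_Ct hAQ fun h => e (le_Ct_comm.1 h)
  obtain ⟨R, b1, hX, m0, m2⟩ := exists_min_not_le_Ct (sup_le (a1.trans hQR) hAR) fun h => a3 (le_Ct_comm.1 h)
  replace hR := hR.to_le b1
  replace hQ := hQ.to_le a1
  replace hRA : R ⊓ Ct(A) = ⊥ := eq_bot_iff.2 (hRA ▸ inf_le_inf_right _ b1)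
  replace hQA : Q ⊓ Ct(A) = ⊥ := eq_bot_iff.2 (hQA ▸ inf_le_inf_right _ a1)
  have m1 : ∀ Y, Y < Q → A ≤ Nm(Y) → Y ≤ Ct(R) := fun Y h1 h2 =>
    (le_Ct_comm.1 (a4 Y h1 h2)).trans (Comp.centralizer_mono b1)
  have hA := pr_of_card hp hl hc
  obtain ⟨P, hP, hAP, hP1⟩ := exists_ker hp hl hlp hc
  have cR := (coprime_of_isPGroup hR cq).symm
  have cQ := (coprime_of_isPGroup hQ cs).symm
  have cQR := coprime_of_isPGroup hQ (coprime_of_isPGroup_of_ne hsq.symm hR)
  have sR := isSolvable_of_isPGroup hR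
  have sQ := isSolvable_of_isPGroup hQ
  obtain ⟨l5, l6, l7⟩ := min_not_le_Ct sR hX le_sup_left (sup_le le_normalizer hAQ) cQR m0 m2
  refine gen_min hsq hA0 hq0 ρ hA cq cs hR hQ (le_sup_left.trans hX) (le_sup_right.trans hX) hAQ hRA hW
    (eq_bot_iff.2 (hker ▸ inf_le_inf_right _ b1)) m0 m1 m2 fun c hcA hc' => ?_
  by_cases hcP : c ∈ P
  swap
  · exact star_out hA hna hP hAP hP1 hcA hcP hc' cR cQ cQR sR sQ (le_sup_left.trans hX) (le_sup_right.trans hX)
      hAQ hRA hQA l5 l6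
  rw [← Solv.eq_of_card_prime_of_mem hP1 rfl hcP fun e => hc'.ne_one (by rw [e, orderOf_one])]
  refine le_trans ?_ (inf_Ct_le_commutator (le_sup_left.trans hX) cQR l5)
  by_cases e1 : ⁅Q, P⁆ = Q
  · rw [e1]; exact inf_le_inf_left _ (Comp.centralizer_mono le_sup_left)
  have e2 : Q ≤ Ct(P) := by
    by_contra e2
    exact m0 ((commutator_sup_Ct (hP.trans hAQ) (cQ.of_dvd_left (card_dvd_of_le hP)) (Or.inr sQ)).ge.trans
      (sup_le (m1 _ (lt_of_le_of_ne (commutator_le_left_of_le_normalizer (hP.trans hAQ)) e1)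
        (le_normalizer_commutator hAQ hAP)) (m1 _ (inf_lt_left.2 e2)
          (le_normalizer_inf hAQ (le_normalizer_centralizer hAP)))))
  have hP0 : P ≠ ⊥ := fun e => hP1.ne_one (e ▸ card_bot)
  obtain ⟨b, hb, hb'⟩ := SetLike.not_le_iff_exists.1 fun h : A ≤ P => hna (by
    haveI := Fact.mk hP1
    haveI := isCyclic_of_prime_card (α := P) rfl
    rw [le_antisymm h hP]; infer_instance)
  have g1 := sup_eq_of_pr hA hP (zpowers_le.2 hb) hP0 fun e => hb' (e (mem_zpowers b))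
  have hV : Q ⊔ A ≤ Nm(R ⊓ Ct(P)) := le_normalizer_inf hX (le_normalizer_centralizer
    (sup_le (le_normalizer_of_le_centralizer e2) hAP))
  refine le_inf inf_le_left ((inf_le_inf_left _ (Comp.centralizer_mono le_sup_right)).trans
    (Solv.frobenius_nilpotent_le_centralizer ((zpowers_le.2 hb).trans hAQ) (Solv.fpf_zpowers_of_prime
      (Nat.card_zpowers b ▸ hA _ (zpowers_le.2 hb) (zpowers_ne_bot.2 fun e => hb' (e ▸ one_mem _))
        fun e => hna (e ▸ inferInstance)) (by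
          rw [← hQA, ← g1, centralizer_sup, centralizer_zpowers, ← inf_assoc, inf_eq_left.2 e2]))
      (hR.to_le inf_le_left).isNilpotent (le_sup_left.trans hV) ((zpowers_le.2 hb).trans (le_sup_right.trans hV))
      (cQR.of_dvd_right (card_dvd_of_le inf_le_left)) ((cR.of_dvd_left (card_dvd_of_le (zpowers_le.2 hb))).of_dvd_right
        (card_dvd_of_le inf_le_left)) (by rw [inf_assoc, ← centralizer_sup, g1, hRA])))

theorem pq_nilp (hp : p.Prime) (hl : l.Prime) (hlp : l < p) (hc : Nat.card A = p * l)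
    (hna : ¬ IsMulCommutative A) (hA0 : (Nat.card A : F) ≠ 0) (ρ : Representation F G W)
    (hs : Group.IsSolvable K) (hAK : A ≤ Nm(K)) (ho : (Nat.card A).Coprime (Nat.card K))
    (h0 : K ⊓ Ct(A) = ⊥) (hW : ∀ w, (∀ b ∈ A, ρ b w = w) → w = 0) (hker : K ⊓ ρ.ker = ⊥)
    (hO : ∀ q : ℕ, q.Prime → (q : F) = 0 → Op q K = ⊥) : Group.IsNilpotent K := by
  refine nilp_of_res hs fun q hq => ?_
  haveI := Fact.mk hq
  by_cases e : Op q K = ⊥
  · rw [e]; exact le_Ct_comm.1 bot_le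
  obtain ⟨P, hP⟩ := exists_sylIn q K
  have hn : K ≤ Nm(K ⊓ Ct(Op q K)) := le_normalizer_inf le_normalizer
    (le_normalizer_centralizer (le_normalizer_Op le_normalizer))
  refine (Res_le_of_le_sup (eq_of_forall_sylIn (sup_le inf_le_left hP.le) fun t ht hd => ?_).ge
    (hP.le.trans hn) hP.isP).trans inf_le_right
  by_cases e' : t = q
  · exact ⟨P, e' ▸ hP, le_sup_right⟩
  haveI := Fact.mk ht
  obtain ⟨T, b1, b2⟩ := exists_invariant_sylIn t hAK ho (Or.inr hs)
  exact ⟨T, b1, le_sup_of_le_left (le_inf b1.le (pq_core hp hl hlp hc hna e' hA0 (fun h => e (hO q hq h)) ρ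
    (ho.of_dvd_right ((Solv.dvd_card_of_isPGroup (isPGroup_Op q K) e).trans (card_dvd_of_le (Op_le q K))))
    (ho.of_dvd_right hd) (isPGroup_Op q K)
    b1.isP (le_normalizer_Op (b1.le.trans le_normalizer)) (le_normalizer_Op hAK) b2
    (eq_bot_iff.2 (h0 ▸ inf_le_inf_right _ (Op_le q K))) (eq_bot_iff.2 (h0 ▸ inf_le_inf_right _ b1.le)) hW
    (eq_bot_iff.2 (hker ▸ inf_le_inf_right _ (Op_le q K)))))⟩

end

theorem img_fpf3 {M N : Subgroup G} (hq : M ≤ Nm(N)) (h1 : A ≤ M) (h2 : K ≤ M) (hn : A ≤ Nm(K))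
    (ho : (Nat.card A).Coprime (Nat.card K)) (hs : Group.IsSolvable K) (h0 : K ⊓ Ct(A) = ⊥) :
    img hq K ⊓ Ct(img hq A) = ⊥ := by
  rw [← img_inf_centralizer h2 h1 hn (ho.of_dvd_right (card_dvd_of_le inf_le_left))
    (Or.inr (Comp.isSolvable_of_le inf_le_left hs)), h0, img_bot]

theorem img_nc {M N : Subgroup G} (hq : M ≤ Nm(N)) (h1 : A ≤ M) (h : A ⊓ N = ⊥) (hna : ¬ IsMulCommutative A) :
    ¬ IsMulCommutative (img hq A) := fun e => hna (comm_iff_le.2 (commutator_eq_bot_iff_le_centralizer.1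
      (eq_bot_iff.2 (h ▸ le_inf (Comp.commutator_le_left_of_le_normalizer le_normalizer) ((comm_img_iff h1).1 e)))))

theorem pq_chief [hr : Fact r.Prime] (c : Chief ⊤ U ⊥) (hU : IsPGroup r U) [hK : K.Normal] (hp : p.Prime)
    (hl : l.Prime) (hlp : l < p) (hc : Nat.card A = p * l) (hna : ¬ IsMulCommutative A)
    (hs : Group.IsSolvable K) (ho : (Nat.card A).Coprime (Nat.card K))
    (hUp : (Nat.card A).Coprime (Nat.card U)) (h0 : U ⊓ Ct(A) = ⊥) (h1 : K ⊓ Ct(A) = ⊥) :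
    Sg.gi K ≤ Ct(U) := by
  have hKn : ⊤ ≤ Nm(K) := Comp.normal_iff_top_le_normalizer.1 hK
  have hq : ⊤ ≤ Nm(K ⊓ Ct(U)) := le_normalizer_inf hKn (Comp.le_normalizer_centralizer c.nU)
  haveI := normal_subgroupOf_of_le_normalizer hq
  let ρ : Representation (AlgebraicClosure (ZMod r)) (Quo hq) (Transfer.dualMod _ U) :=
    QuotientGroup.lift ((K ⊓ Ct(U)).subgroupOf ⊤) ((Transfer.dualRep _ U).comp (inclusion c.nU))
      fun x hx => Transfer.dualRep_eq_one _ hx.2
  have hρ : ∀ x : (⊤ : Subgroup G), ρ (qmap hq x) = Transfer.dualRep _ U ⟨x, c.nU x.2⟩ := fun x => rfl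
  have hd : A ⊓ (K ⊓ Ct(U)) = ⊥ := eq_bot_of_coprime (ho.of_dvd_right (card_dvd_of_le inf_le_left))
  have := pq_nilp (K := img hq K) hp hl hlp ((card_img_of_disjoint (h := hq) le_top hd).trans hc)
    (img_nc hq le_top hd hna) (cast_ne_zero_of_coprime (coprime_img_left (hUp.of_dvd_right
    (Solv.dvd_card_of_isPGroup hU c.lt.ne')))) ρ (isSolvable_img hs)
    (img_le_normalizer (le_top.trans hKn)) (coprime_img ho)
    (img_fpf3 hq le_top le_top (le_top.trans hKn) ho hs h1)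
    (fun f hf => eq_zero_of_le_dker ((commutator_eq_of_inf_Ct_eq_bot (le_top.trans c.nU)
      hUp (Or.inr (isSolvable_of_isPGroup hU)) h0).ge.trans
      (commutator_le_dker (le_top.trans c.nU) fun a ha => hf _ (qmap_mem_img (h := hq) (x := ⟨a, mem_top a⟩) ha))))
    (eq_bot_iff.2 ?_) fun q hq' e => ?_
  · rw [← Sg.gi_eq_bot, show Sg.gi (img hq K) = Sg.LL 1 (img hq K) from rfl, ← img_LL hq le_top,
      img_eq_bot_iff le_top] at this
    exact this.trans inf_le_right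
  · rintro _ ⟨⟨x, hx, rfl⟩, h⟩
    have := Transfer.commutator_mem_of_dualRep_eq_one hU _ ((hρ x).symm.trans h)
    replace this := this.trans ((c.min _ (le_normalizer_Phi c.nU) bot_le (Phi_le U)).resolve_right
      (Solv.map_frattini_lt c.lt.ne').ne).le
    exact (qmap_eq_one hq).2 ⟨hx, commutator_eq_bot_iff'.1 (le_bot_iff.1 this) (mem_zpowers _)⟩
  · obtain rfl := ((Nat.prime_dvd_prime_iff_eq hr.out hq').1 ((CharP.cast_eq_zero_iff _ r q).1 e))
    haveI : (Op r (img hq K)).Normal := Comp.normal_iff_top_le_normalizer.2 (le_normalizer_Op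
      (Comp.normal_iff_top_le_normalizer.1 (img_normal hKn)))
    rw [← img_pre (Op r (img hq K)), img_eq_bot_iff le_top]
    refine le_inf ((pre_mono (Op_le r _)).trans (pre_img_of_le le_top inf_le_left).le)
      (c.le_Ct_of_res hU le_top (top_le_normalizer_pre _) (le_trans ?_ (inf_le_right (a := K))))
    rw [← img_eq_bot_iff (h := hq) le_top, img_Res le_top, img_pre, Res_eq_bot_iff]
    exact isPGroup_Op r _

theorem pq_main [K.Normal] (hp : p.Prime) (hl : l.Prime) (hlp : l < p) (hc : Nat.card A = p * l)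
    (hna : ¬ IsMulCommutative A) (hs : Group.IsSolvable K) (ho : (Nat.card A).Coprime (Nat.card K))
    (h0 : K ⊓ Ct(A) = ⊥) : Sg.LL 2 K = ⊥ := by
  haveI : (Sg.gi K).Normal := Sg.LL_normal 1 K
  refine eq_bot_iff.2 ((Sg.gi_mono (le_Fit_of_chief (X := K ⊔ A) hs le_sup_left le_normalizer_of_normal
    (Sg.gi_le K) le_normalizer_of_normal fun U V c d => ?_)).trans (Sg.gi_eq_bot.2 (isNilpotent_Fit K)).le)
  have hUK := d.trans (Fit_le K)
  have hU : U ≤ K ⊔ A := hUK.trans le_sup_left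
  have hUp := ho.of_dvd_right (card_dvd_of_le hUK)
  have sU := Comp.isSolvable_of_le hUK hs
  obtain ⟨q, hq, hi⟩ := c.exists_piN (hU.trans c.nV) sU
  haveI := Fact.mk hq
  haveI := img_normal (h := c.nV) (H := K) le_normalizer_of_normal
  have hd : A ⊓ V = ⊥ := eq_bot_of_coprime (hUp.of_dvd_right (card_dvd_of_le c.lt.le))
  rw [← img_le_centralizer_iff (h := c.nV) hU ((Sg.gi_le K).trans le_sup_left), le_Ct_comm,
    show Sg.gi K = Sg.LL 1 K from rfl, img_LL _ le_sup_left]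
  exact pq_chief (c.img_bot hU) (c.isPGroup_img hU hi) hp hl hlp
    ((card_img_of_disjoint le_sup_right hd).trans hc) (img_nc _ le_sup_right hd hna) (isSolvable_img hs)
    (coprime_img ho) (coprime_img hUp) (img_fpf3 _ le_sup_right hU (le_sup_right.trans c.nU) hUp sU
      (le_bot_iff.1 (h0 ▸ inf_le_inf_right _ hUK)))
    (img_fpf3 _ le_sup_right le_sup_left le_normalizer_of_normal ho hs h0)

end Cfsg.Agent.Sh
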