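import Cfsg.Agent.Lib.Fusion.SymSyl

/-! The fusion systems of alternating groups. -/

set_option autoImplicit false
set_option linter.unusedSectionVars false

namespace Cfsg.Agent.Fusion.Sym

open Subgroup Equiv Equiv.Perm Sum

section
variable {I J : Type} {p : ℕ} [Fintype I] [Fintype J] [DecidableEq I] [DecidableEq J] [hp : Fact p.Prime]

/-- blockwise dilations -/
def dl : (I → (ZMod p)ˣ) →* Perm (Om p I J) := fib.comp ((MulAction.toPermHom (ZMod p)ˣ (ZMod p)).compLeft I)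

@[simp] theorem dl_inl (l : I → (ZMod p)ˣ) (i : I) (x : ZMod p) :
    (dl l : Perm (Om p I J)) (inl (i, x)) = inl (i, l i * x) := rfl
@[simp] theorem dl_inr (l : I → (ZMod p)ˣ) (j : J) : (dl l : Perm (Om p I J)) (inr j) = inr j := rfl

/-- the even part of the base group -/
abbrev E0 (p : ℕ) (I J : Type) [Fintype I] [Fintype J] [DecidableEq I] [DecidableEq J] [Fact p.Prime] :=
  W (I := I) J p ⊥ ⊓ alternatingGroup (Om p I J)

theorem sign_eq {α : Type*} [Fintype α] [DecidableEq α] {x y : Perm α} (hx : x ^ p = 1)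
    (hy : y ^ p = 1) (h : x.support.card = y.support.card) : sign x = sign y := by
  obtain ⟨g, rfl⟩ := _root_.isConj_iff.1 (isConj_of_support hx hy h)
  rw [map_mul, map_mul, sign_inv, mul_right_comm, Int.units_mul_self, one_mul]

theorem t_mem (i j : I) : bs (ind p {i} - ind p {j}) ∈ E0 p I J := ⟨bs_mem _, by
  rw [bs_sub]
  simp [mem_alternatingGroup, sign_eq (bs_pow (J := J) (ind p {i})) (bs_pow (ind p {j}))
    (by simp [card_support_ind])]⟩

theorem exists_third (h3 : 3 ≤ Fintype.card I) (i l : I) : ∃ k, k ≠ i ∧ k ≠ l := by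
  obtain ⟨k, hk⟩ : (({i, l} : Finset I)ᶜ).Nonempty := by
    rw [← Finset.card_pos, Finset.card_compl]
    have := Finset.card_le_two (a := i) (b := l)
    omega
  exact ⟨k, by simpa using hk⟩

theorem norm_E0 {g : Perm (Om p I J)} (h : ∀ a, ∃ b, g * bs a = bs b * g) :
    g ∈ normalizer (E0 p I J : Set (Perm (Om p I J))) := mem_normalizer_of_finite fun x hx => by
  obtain ⟨a, rfl⟩ := mem_W_bot.1 hx.1
  obtain ⟨b, e⟩ := h a
  exact ⟨by rw [e, mul_inv_cancel_right]; exact bs_mem b, Normal.conj_mem inferInstance _ hx.2 g⟩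

theorem bl_norm (σ : Perm I) : bl σ ∈ normalizer (E0 p I J : Set (Perm (Om p I J))) :=
  norm_E0 fun a => ⟨_, bl_bs σ a⟩

theorem dl_norm (l : I → (ZMod p)ˣ) : dl l ∈ normalizer (E0 p I J : Set (Perm (Om p I J))) :=
  norm_E0 fun a => ⟨fun i => l i * a i, by ext (⟨i, x⟩ | j) <;> simp [mul_add]⟩

theorem norm_le (h3 : 3 ≤ Fintype.card I) (H : Subgroup (Perm I)) :
    normalizer ((W J p H ⊓ alternatingGroup _ : Subgroup _) : Set (Perm (Om p I J))) ≤
      normalizer (E0 p I J : Set (Perm (Om p I J))) := fun g hg => mem_normalizer_of_finite fun x hx => by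
  have h1 := Transfer.conj_mem_of_mem_normalizer hg (inf_le_inf_right _ (W_mono bot_le) hx)
  obtain ⟨a, rfl⟩ := mem_W_bot.1 hx.1
  obtain ⟨b, σ, -, e⟩ := h1.1
  refine ⟨⟨b, σ, Equiv.ext fun i => by_contra fun hi => ?_, e⟩, h1.2⟩
  obtain ⟨k, k1, k2⟩ := exists_third h3 i (σ i)
  obtain ⟨c, τ, -, e'⟩ := (Transfer.conj_mem_of_mem_normalizer (inv_mem hg)
    (inf_le_inf_right _ (W_mono bot_le) (t_mem (σ i) k))).1
  have h2 := DFunLike.congr_fun e' (g⁻¹ (inl (i, 0)))
  have h3 := DFunLike.congr_fun e' (bs a (g⁻¹ (inl (i, 0))))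
  have h4 := DFunLike.congr_fun e (inl (i, 0))
  replace hi : i ≠ σ i := Ne.symm hi
  simp only [inv_inv, Perm.mul_apply, Perm.coe_inv, apply_symm_apply, bs_inl, bl_inl] at h2 h3 h4
  rw [h4] at h3
  simp only [ind, Pi.sub_apply, Finset.mem_singleton, hi, k1.symm, if_false, sub_self, add_zero] at h2
  have h5 : bs c (bl τ (bs a (g.symm (inl (i, 0))))) = bs a (g.symm (inl (i, 0))) := by
    generalize g.symm (inl (i, 0)) = w at h2
    obtain ⟨l, y⟩ | j := w
    · simp only [bl_inl, bs_inl, inl.injEq, Prod.mk.injEq, left_eq_add] at h2 ⊢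
      exact ⟨h2.1.symm, by rw [h2.2, add_zero]⟩
    · rfl
  rw [h5, symm_apply_eq, h4] at h3
  simp [ind, k2.symm] at h3

variable [Subsingleton J]

theorem norm_form (h3 : 3 ≤ Fintype.card I) {g : Perm (Om p I J)}
    (hg : g ∈ normalizer (E0 p I J : Set (Perm (Om p I J)))) : ∃ b l τ, g = bs b * dl l * bl τ := by
  have k : ∀ g ∈ normalizer (E0 p I J : Set (Perm (Om p I J))), ∀ i, ∃ (l : I) (c : (ZMod p)ˣ) (b : ZMod p),
      ∀ x, g (inl (i, x)) = inl (l, c * x + b) := fun g hg i => by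
    obtain ⟨k, hk, -⟩ := exists_third h3 i i
    obtain ⟨a, e⟩ := mem_W_bot.1 (Transfer.conj_mem_of_mem_normalizer hg (t_mem i k)).1
    have h1 : ∀ x, g (inl (i, x + 1)) = bs a (g (inl (i, x))) := fun x => by
      simpa [ind, hk.symm] using DFunLike.congr_fun e (g (inl (i, x)))
    have h2 : bs a (g (inl (i, 0))) ≠ g (inl (i, 0)) := by rw [← h1]; simp
    obtain ⟨⟨l, b⟩, e1⟩ | ⟨j, e1⟩ : (∃ w, g (inl (i, 0)) = inl w) ∨ ∃ j, g (inl (i, 0)) = inr j := by
      cases g (inl (i, 0)) <;> simp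
    · refine ⟨l, Units.mk0 (a l) (by simpa [e1] using h2), b, fun x => ?_⟩
      rw [← ZMod.natCast_zmod_val x]
      induction x.val with
      | zero => simpa using e1
      | succ n ih => rw [Nat.cast_succ, h1, ih]; simp [mul_add, add_right_comm]
    · simp [e1] at h2
  choose τ c b h using k g hg
  have hτ : Function.Injective τ := fun i l e => by
    have := (h l 0).trans ((h i (((c i)⁻¹ : (ZMod p)ˣ) * (b l - b i))).trans (by
      rw [e, Units.mul_inv_cancel_left, sub_add_cancel, mul_zero, zero_add])).symm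
    exact (Prod.mk.inj (inl.inj (g.injective this))).1.symm
  let σ := Equiv.ofBijective τ (Finite.injective_iff_bijective.1 hτ)
  refine ⟨b ∘ σ.symm, c ∘ σ.symm, σ, Equiv.ext ?_⟩
  rintro (⟨i, x⟩ | j)
  · simpa [σ] using h i x
  · obtain ⟨⟨l, y⟩, e1⟩ | ⟨j', e1⟩ : (∃ w, g (inr j) = inl w) ∨ ∃ j', g (inr j) = inr j' := by
      cases g (inr j) <;> simp
    · obtain ⟨l', c', b', h'⟩ := k _ (inv_mem hg) l
      simpa [← e1] using h' y
    · simp [e1, Subsingleton.elim j' j]

theorem cen_E0 (h3 : 3 ≤ Fintype.card I) : Cen p (alternatingGroup (Om p I J)) (E0 p I J) := fun g h1 hg _ => by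
  obtain ⟨b, l, τ, rfl⟩ := norm_form h3 (centralizer_le_normalizer _ hg)
  have h : ∀ i, τ i = i ∧ l (τ i) = 1 := fun i => by
    obtain ⟨k, k1, k2⟩ := exists_third h3 i (τ i)
    have := DFunLike.congr_fun (hg _ (t_mem i k)) (inl (i, 0))
    by_cases e : τ i = i
    · simpa [ind, k1.symm, k2.symm, e, add_comm, eq_comm] using this
    · simp [ind, k1.symm, k2.symm, e, add_comm, (l _).ne_zero.symm] at this
  obtain rfl : τ = 1 := Equiv.ext fun i => (h i).1
  obtain rfl : l = 1 := funext fun i => (h i).2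
  exact ⟨by simpa using bs_mem b, h1⟩

end

variable {I J : Type} {p : ℕ} [Fintype I] [Fintype J] [DecidableEq I] [DecidableEq J] [hp : Fact p.Prime]

/-- translation of the first `p` blocks -/
def tr (u : ZMod p) : Perm (ZMod p ⊕ I) := Equiv.sumCongr (Equiv.addRight u) (1 : Perm I)

@[simp] theorem tr_inl (u x : ZMod p) : (tr u : Perm (ZMod p ⊕ I)) (inl x) = inl (x + u) := rfl
@[simp] theorem tr_inr (u : ZMod p) (i : I) : (tr u : Perm (ZMod p ⊕ I)) (inr i) = inr i := rfl

theorem tr_pow (n : ℕ) : (tr (1 : ZMod p) : Perm (ZMod p ⊕ I)) ^ n = tr (n : ZMod p) := by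
  induction n with
  | zero => ext (x | i) <;> simp
  | succ n ih => rw [pow_succ', ih]; ext (x | i) <;> simp [add_assoc]

theorem tr_pow' : (tr (1 : ZMod p) : Perm (ZMod p ⊕ I)) ^ p = 1 := by
  rw [tr_pow]; ext (x | i) <;> simp

/-- a regular elementary abelian group on the first `p` blocks -/
def rr (u v : ZMod p) (a : I → ZMod p) : Perm (Om p (ZMod p ⊕ I) J) := bs (Sum.elim (fun _ => v) a) * bl (tr u)

/-- the group of the `rr` -/
def Rg (p : ℕ) [Fact p.Prime] (I J : Type) : Subgroup (Perm (Om p (ZMod p ⊕ I) J)) where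
  carrier := {g | ∃ u v a, g = rr u v a}
  one_mem' := ⟨0, 0, 0, by ext (⟨x | i, y⟩ | j) <;> simp [rr, tr]⟩
  mul_mem' := by
    rintro _ _ ⟨u, v, a, rfl⟩ ⟨u', v', a', rfl⟩
    exact ⟨u' + u, v' + v, a' + a, by ext (⟨x | i, y⟩ | j) <;> simp [rr, tr, add_assoc]⟩
  inv_mem' := by
    rintro _ ⟨u, v, a, rfl⟩
    exact ⟨-u, -v, -a, inv_eq_of_mul_eq_one_right (by ext (⟨x | i, y⟩ | j) <;> simp [rr, tr])⟩

/-- action on the first `p` blocks -/
def loc : Perm (ZMod p × ZMod p) →* Perm (Om p (ZMod p ⊕ I) J) :=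
  ((((Equiv.sumProdDistrib (ZMod p) I (ZMod p)).symm.permCongrHom.toMonoidHom.comp
    ((sumCongrHom _ _).comp (MonoidHom.inl _ _))))) |> fun f => (sumCongrHom _ _).comp ((MonoidHom.inl _ _).comp f)

@[simp] theorem loc_a (e : Perm (ZMod p × ZMod p)) (x y : ZMod p) :
    (loc e : Perm (Om p (ZMod p ⊕ I) J)) (inl (inl x, y)) = inl (inl (e (x, y)).1, (e (x, y)).2) := rfl
@[simp] theorem loc_b (e : Perm (ZMod p × ZMod p)) (i : I) (y : ZMod p) :
    (loc e : Perm (Om p (ZMod p ⊕ I) J)) (inl (inr i, y)) = inl (inr i, y) := rfl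
@[simp] theorem loc_c (e : Perm (ZMod p × ZMod p)) (j : J) :
    (loc e : Perm (Om p (ZMod p ⊕ I) J)) (inr j) = inr j := rfl

/-- elementary shears -/
def sh (s t : ZMod p) (h : s * t = 0) : Perm (ZMod p × ZMod p) where
  toFun w := (w.1 + s * w.2, w.2 + t * w.1)
  invFun w := (w.1 - s * w.2, w.2 - t * w.1)
  left_inv w := by ext <;> simp only <;> [linear_combination (-w.1) * h; linear_combination (-w.2) * h]
  right_inv w := by ext <;> simp only <;> [linear_combination (-w.1) * h; linear_combination (-w.2) * h]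

@[simp] theorem sh_apply (s t : ZMod p) (h) (x y : ZMod p) : sh s t h (x, y) = (x + s * y, y + t * x) := rfl

theorem sh_pow (s t : ZMod p) (h) : sh s t h ^ p = 1 := by
  have : ∀ n : ℕ, ∀ x y, (sh s t h ^ n) (x, y) = (x + n * s * y, y + n * t * x) := fun n => by
    induction n with
    | zero => simp
    | succ n ih =>
      intro x y
      rw [pow_succ', Perm.mul_apply, ih, sh_apply]
      ext <;> push_cast <;> [linear_combination (n * x) * h; linear_combination (n * y) * h]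
  ext ⟨x, y⟩ <;> simp [this]

theorem loc_norm (s t : ZMod p) (h) :
    loc (sh s t h) ∈ normalizer (Rg p I J : Set (Perm (Om p (ZMod p ⊕ I) J))) :=
  mem_normalizer_of_finite fun _ ⟨u, v, a, e⟩ => ⟨u + s * v, v + t * u, a, by
    rw [e, mul_inv_eq_iff_eq_mul]
    ext (⟨x | i, y⟩ | j) <;> simp [rr]
    constructor <;> ring⟩

variable [Subsingleton J]

theorem cen_Rg (G : Subgroup (Perm (Om p (ZMod p ⊕ I) J))) : Cen p G (Rg p I J) := fun g _ hg _ => by
  have h : ∀ u v a w, rr u v a (g w) = g (rr u v a w) := fun u v a w =>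
    DFunLike.congr_fun (hg _ ⟨u, v, a, rfl⟩) w
  obtain ⟨u, v, e⟩ : ∃ u v, g (inl (inl 0, 0)) = inl (inl u, v) := by
    have := h 1 0 0 (inl (inl 0, 0))
    rcases e : g (inl (inl 0, 0)) with ⟨x | i, y⟩ | j
    · exact ⟨x, y, rfl⟩
    all_goals
      rw [e, show rr 1 0 0 _ = _ by simp [rr]; rfl, ← e] at this
      simp [rr] at this
  have k : ∀ i, ∃ v, g (inl (inr i, 0)) = inl (inr i, v) := fun i => by
    have := h 0 0 (ind p {i}) (inl (inr i, 0))
    have n : rr 0 0 (ind p {i}) (g (inl (inr i, 0))) ≠ g (inl (inr i, 0)) := by rw [this]; simp [rr, ind]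
    rcases e : g (inl (inr i, 0)) with ⟨x | l, y⟩ | j <;> simp [e, rr, ind] at n
    exact ⟨y, by rw [n]⟩
  choose a ha using k
  refine ⟨u, v, a, Equiv.ext ?_⟩
  rintro (⟨x | i, y⟩ | j)
  · simpa [rr, e, add_comm] using (h x y 0 (inl (inl 0, 0))).symm
  · simpa [rr, ha, add_comm] using (h 0 0 (fun _ => y) (inl (inr i, 0))).symm
  · have := h 0 1 1 (inr j)
    rcases e : g (inr j) with ⟨x | l, y⟩ | j' <;> simp [e, rr] at this
    simp [rr, Subsingleton.elim j' j]

theorem simple (h3 : 3 ≤ Fintype.card (ZMod p ⊕ I)) {G' : Type*} [Group G']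
    (φ : alternatingGroup (Om p (ZMod p ⊕ I) J) ≃* G') (P : Sylow p G') :
    (groupFusionSystem P.1).IsSimple p := by
  have hJ : Fintype.card J < p := Fintype.card_le_one_iff_subsingleton.2 ‹_› |>.trans_lt hp.out.one_lt
  obtain ⟨Q, hQ⟩ := IsPGroup.exists_le_sylow (pgroup_zpowers (p := p) (g := tr (I := I) (1 : ZMod p)) (k := 1)
    (by rw [pow_one, tr_pow']))
  have hc := zpowers_le.1 hQ
  have hS := sylow_alt hJ Q
  have hE : E0 p (ZMod p ⊕ I) J ≤ W J p Q.1 ⊓ alternatingGroup _ := inf_le_inf_right _ (W_mono bot_le)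
  refine simple_rel hS (fun h => ?_) (fun T hTS hT hb => ?_) (fun A hA g hg hn => ?_) φ P
  · have := DFunLike.congr_fun (mem_bot.1 (h.le (hE (t_mem (inl 0) (inl 1))))) (inl (inl 0, 0))
    simp [ind] at this
  · obtain ⟨x, hx, x1, x2, -⟩ := hT.exists_central hTS hS hb
    have cj : ∀ y ∈ T, y ^ p = 1 → ∀ z ∈ W J p Q.1, z ^ p = 1 → y.support.card = z.support.card → z ∈ T := by
      intro y hy y1 z hz z1 e
      obtain ⟨K, hK⟩ := exists_ind hJ y1
      obtain ⟨g, hg, e1⟩ := conj_ind h3 y1 hK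
      obtain ⟨g', hg', e2⟩ := conj_ind h3 z1 (e.symm.trans hK)
      have e3 : g'⁻¹ * g * y * (g'⁻¹ * g)⁻¹ = z := by
        calc _ = g'⁻¹ * (g * y * g⁻¹) * g' := by group
          _ = z := by rw [e1, ← e2]; group
      have := hT y hy _ (mul_mem (inv_mem hg') hg)
      rw [e3] at this
      exact this ⟨hz, (sign_eq y1 z1 e).symm.trans (hTS hy).2⟩
    obtain ⟨K, hK⟩ := exists_ind hJ x2
    have h1 := cj x hx x2 _ (bs_mem _) (bs_pow _) (hK.trans (card_support_ind K).symm)
    obtain ⟨i, hi⟩ : K.Nonempty := Finset.card_pos.1 (Nat.pos_of_ne_zero fun e => x1 (by simpa [e] using hK))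
    suffices h : ∀ a, bs a ∈ alternatingGroup (Om p (ZMod p ⊕ I) J) → bs a ∈ T by
      refine gen_alt Q T fun z hz z1 => ?_
      obtain ⟨K, hK⟩ := exists_ind hJ z1
      have e := (card_support_ind (J := J) K).trans hK.symm
      exact cj _ (h _ ((sign_eq (bs_pow _) z1 e).trans hz.2)) (bs_pow _) z hz.1 z1 e
    have s1 : ∀ a : ZMod p ⊕ I → ZMod p, a = ∑ j, (a j).val • ind p {j} := fun a => by
      ext k; simp [ind, Finset.sum_apply, -ZMod.natCast_val, ZMod.natCast_zmod_val]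
    by_cases h2 : p = 2
    swap
    · have n2 : (1 + 1 : ZMod p) ≠ 0 := fun e => h2 ((Nat.prime_dvd_prime_iff_eq hp.out Nat.prime_two).1
        ((ZMod.natCast_eq_zero_iff 2 p).1 (by push_cast; linear_combination e)))
      have h4 := cj _ h1 (bs_pow _) _ (bs_mem (ind p K + ind p {i})) (bs_pow _) ((card_support_ind K).trans
        (card_support (fun _ => rfl) fun l x => by by_cases e : l = i <;> simp [ind, e, hi, n2]).symm)
      rw [bs_add, mul_mem_cancel_left h1] at h4
      intro a _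
      rw [s1 a]
      exact bs_sum _ _ fun j _ => bs_nsmul _ _ ▸ pow_mem (cj _ h4 (bs_pow _) _ (bs_mem _) (bs_pow _)
        (by simp [card_support_ind])) _
    subst h2
    have st : ∀ i j : ZMod 2 ⊕ I, i ≠ j → (bs (ind 2 {i} - ind 2 {j}) : Perm (Om 2 _ J)).support.card = 2 * 2 :=
      fun i j e => (card_support (K := {i, j}) (fun _ => rfl) fun l x => by
        by_cases a : l = i
        · subst a; simp [ind, e]
        · by_cases b : l = j
          · subst b; simp [ind, a]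
          · simp [ind, a, b]).trans (by rw [Finset.card_pair e])
    obtain ⟨w, hw, w1, w2⟩ : ∃ w ∈ T, w ^ 2 = 1 ∧ w.support.card = 2 * 2 := by
      by_cases hu : K = Finset.univ
      · subst hu
        have h4 := cj _ h1 (bs_pow _) (rr 1 0 1) (mul_mem (bs_mem _) (bl_mem hc)) (by
          ext (⟨x | i, y⟩ | j) <;> simp [rr, sq, add_assoc, CharTwo.add_self_eq_zero])
          ((card_support_ind _).trans (card_support (fun _ => rfl) (by rintro (x | i) y <;> simp [rr])).symm)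
        refine ⟨_, mul_mem h1 h4, ?_, (card_support (K := Finset.univ.map Function.Embedding.inl)
          (fun _ => rfl) ?_).trans (by simp)⟩
        · ext (⟨x | i, y⟩ | j) <;> simp [rr, ind, sq, add_assoc, CharTwo.add_self_eq_zero]
        · rintro (x | i) y <;> simp [rr, ind, add_assoc, CharTwo.add_self_eq_zero]
      obtain ⟨j, hj⟩ := not_forall.1 (mt Finset.eq_univ_iff_forall.2 hu)
      have h4 := cj _ h1 (bs_pow _) _ (bs_mem (ind 2 (insert j (K.erase i)))) (bs_pow _) (by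
        rw [card_support_ind, card_support_ind, Finset.card_insert_of_notMem (by simp [hj]),
          Finset.card_erase_add_one hi])
      refine ⟨_, ?_, bs_pow _, st i j fun e => hj (e ▸ hi)⟩
      convert mul_mem h1 (inv_mem h4) using 1
      rw [← bs_sub]
      congr 1
      ext l
      have e : i ≠ j := fun e => hj (e ▸ hi)
      by_cases a : l = i
      · subst a; simp [ind, e, hi]
      · by_cases b : l = j
        · subst b; simp [ind, a, hj]
        · simp [ind, a, b]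
    have h5 : ∀ j, bs (ind 2 {j} - ind 2 {i}) ∈ T := fun j => by
      by_cases e : j = i
      · simp [e]
      · exact cj w hw w1 _ (bs_mem _) (bs_pow _) (w2.trans (st j i e).symm)
    intro a ha
    have h6 := bs_sum Finset.univ (fun j => (a j).val • (ind 2 {j} - ind 2 {i})) fun j _ =>
      bs_nsmul _ _ ▸ pow_mem (h5 j) _
    simp only [smul_sub, Finset.sum_sub_distrib, ← s1, ← Finset.sum_smul, bs_sub, bs_nsmul] at h6
    generalize ∑ j, (a j).val = n at h6
    have h7 := (mul_mem_cancel_left ha).1 (hTS h6).2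
    rw [inv_mem_iff, mem_alternatingGroup, map_pow, (card_support_eq_two.1
      (by rw [card_support_ind]; rfl)).sign_eq, neg_one_pow_eq_one_iff_even (by decide)] at h7
    obtain ⟨k, rfl⟩ := h7
    rwa [← two_mul, pow_mul, bs_pow, one_pow, inv_one, mul_one] at h6
  have n1 := norm_le h3 _ hn
  refine hA.ext hE le_rfl (cen_E0 h3) g ?_ hn
  obtain ⟨b, l, τ, rfl⟩ := norm_form h3 n1
  set H := alternatingGroup _ ⊓ A (E0 p (ZMod p ⊕ I) J) with hH
  have b1 : ∀ (l : _ → (ZMod p)ˣ) (σ : Perm (ZMod p ⊕ I)), σ ^ p = 1 → dl l * bl σ * (dl l)⁻¹ ∈ H :=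
    fun l σ h => by
      have := Normal.conj_mem inferInstance _ (bl_mem_alt (J := J) ⟨1, by rwa [pow_one]⟩) (dl l)
      exact ⟨this, hA.pel hE _ this (mul_mem (mul_mem (dl_norm l) (bl_norm σ)) (inv_mem (dl_norm l)))
        ⟨1, by rw [pow_one, conj_pow, ← map_pow, h]; simp⟩⟩
  have b2 : ∀ σ : Perm (ZMod p ⊕ I), σ ^ p = 1 → σ ∈ H.comap bl := fun σ h => by simpa using b1 1 σ h
  have b3 : ∀ a, bs a ∈ alternatingGroup _ → bs a ∈ H := fun a h =>
    ⟨h, hA.pel hE _ h (le_normalizer (show bs a ∈ E0 p _ J from ⟨bs_mem a, h⟩)) ⟨1, by rw [pow_one, bs_pow]⟩⟩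
  have cp : ∀ g : Perm (ZMod p ⊕ I), (g * tr 1 * g⁻¹) ^ p = 1 := fun g => by rw [conj_pow, tr_pow']; simp
  by_cases h2 : p = 2
  · subst h2
    have h4 : bl τ ∈ H := (closure_isSwap.ge.trans ((closure_le (H.comap bl)).2 fun σ ⟨i, j, _, e⟩ =>
      b2 σ (by rw [e, sq, swap_mul_self]))) (mem_top τ)
    rw [Subsingleton.elim l 1, map_one, mul_one] at hg ⊢
    exact (mul_mem (b3 b ((mul_mem_cancel_right (mem_inf.1 h4).1).1 hg)) h4).2
  have b4 : alternatingGroup _ ≤ H.comap bl := by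
    rw [← closure_three_cycles_eq_alternating, closure_le]
    intro z hz
    have n2 : (1 + 1 : ZMod p) ≠ 0 := fun e => h2 ((Nat.prime_dvd_prime_iff_eq hp.out Nat.prime_two).1
      ((ZMod.natCast_eq_zero_iff 2 p).1 (by push_cast; linear_combination e)))
    have := isThreeCycle_swap_mul_swap_same (a := (inl 1 : ZMod p ⊕ I)) (b := inl (1 + 1)) (c := inl 0)
      (by simp) (by simp) (by simpa using n2)
    obtain ⟨g, rfl⟩ := _root_.isConj_iff.1 (isConj_iff_cycleType_eq.2 (this.cycleType.trans hz.cycleType.symm))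
    convert mul_mem (b2 _ (cp g)) (inv_mem (b2 _ (cp (g * swap (inl 0) (inl 1))))) using 1
    have : swap (inl 1) (inl (1 + 1)) = tr (I := I) 1 * swap (inl 0) (inl (1 : ZMod p)) * (tr 1)⁻¹ := by
      rw [← swap_apply_apply]; simp
    rw [this, swap_comm (inl 1)]
    simp [mul_assoc]
  have b5 : ∀ l : _ → (ZMod p)ˣ, ∏ i, l i = 1 → l ∈ H.comap dl := fun l h => by
    have : l = ∏ i, (Pi.mulSingle i (l i) / Pi.mulSingle (inl 0) (l i)) := by
      rw [Finset.prod_div_distrib, Finset.univ_prod_mulSingle]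
      funext k
      rw [Pi.div_apply, Finset.prod_apply]
      by_cases e : k = inl 0
      · simp only [e, Pi.mulSingle_eq_same, h, div_one]
      · simp only [Pi.mulSingle_eq_of_ne e, Finset.prod_const_one, div_one]
    rw [this]
    refine Subgroup.prod_mem _ fun i _ => ?_
    by_cases e : i = inl 0
    · simp [e]
    have k := cp (swap (swap (inl 0) i (inl 1)) (inl 0) * swap (inl 0) i)
    have e1 : (swap (swap (inl 0) i (inl 1)) (inl 0) * swap (inl 0) i * tr 1 *
        (swap (swap (inl 0) i (inl 1)) (inl 0) * swap (inl 0) i)⁻¹ : Perm (ZMod p ⊕ I)) i = inl 0 := by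
      have : swap (swap (inl 0) i (inl 1)) (inl 0) i = i := swap_apply_of_ne_of_ne (by
        rw [Ne, eq_comm, swap_apply_eq_iff]; simp) e
      simp [this]
    generalize swap (swap (inl 0) i (inl 1)) (inl 0) * swap (inl 0) i * tr 1 * _ = σ at k e1
    rw [mem_comap]
    convert mul_mem (b1 (Pi.mulSingle i (l i)) σ k) (inv_mem (b2 σ k)) using 1
    rw [div_eq_mul_inv, map_mul, mul_assoc, mul_assoc, mul_right_inj, ← mul_assoc, eq_mul_inv_iff_mul_eq,
      ← map_inv, ← e1]
    ext (⟨j, x⟩ | j)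
    · simp only [Perm.mul_apply, dl_inl, bl_inl, Pi.inv_apply, Pi.mulSingle_apply, σ.injective.eq_iff]
    · rfl
  have hR : Rg p I J ≤ W J p Q.1 ⊓ alternatingGroup _ := by
    rintro _ ⟨u, v, a, rfl⟩
    have : rr u v a ∈ W J p Q.1 := mul_mem (bs_mem _) (bl_mem (by
      rw [← ZMod.natCast_zmod_val u, ← tr_pow]; exact pow_mem hc _))
    obtain ⟨k, hk⟩ := (sylow_W hJ Q).pgroup ⟨_, this⟩
    exact ⟨this, sign_of_pow h2 (congrArg Subtype.val hk)⟩
  have l1 : ∀ s t h, loc (sh s t h) ∈ alternatingGroup _ ⊓ A (Rg p I J) := fun s t h => by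
    have e : loc (I := I) (J := J) (sh s t h) ^ p ^ 1 = 1 := by rw [pow_one, ← map_pow, sh_pow, map_one]
    exact ⟨sign_of_pow h2 e, hA.pel hR _ (sign_of_pow h2 e) (loc_norm s t h) ⟨1, e⟩⟩
  obtain ⟨c, hc'⟩ : ∃ c, c = (∏ i, l i)⁻¹ := ⟨_, rfl⟩
  let m : Perm (ZMod p ⊕ I) := Equiv.sumCongr c.mulLeft (1 : Perm I)
  have l2 : dl (Sum.elim (fun _ => c⁻¹) 1) * bl m ∈ alternatingGroup _ ⊓ A (Rg p I J) := by
    convert mul_mem (mul_mem (mul_mem (l1 c 0 (mul_zero _)) (l1 0 (-(c⁻¹ : (ZMod p)ˣ)) (zero_mul _)))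
      (l1 (c - 1) 0 (mul_zero _))) (mul_mem (l1 0 1 (zero_mul _)) (l1 (-1) 0 (mul_zero _))) using 1
    have := c.ne_zero
    ext (⟨x | i, y⟩ | j)
    · simp only [Perm.mul_apply, loc_a, sh_apply, bl_inl, dl_inl, m, Equiv.sumCongr_apply, Sum.map_inl,
        Sum.elim_inl, Units.mulLeft_apply, inl.injEq, Prod.mk.injEq, Units.val_inv_eq_inv_val]
      constructor <;> field_simp <;> ring
    · simp only [Perm.mul_apply, loc_b, bl_inl, dl_inl, m, Equiv.sumCongr_apply, Sum.map_inr,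
        Sum.elim_inr, Pi.one_apply, Units.val_one, one_mul, Perm.coe_one, id]
    · rfl
  have n2 := mul_mem (dl_norm (J := J) (Sum.elim (fun _ => c⁻¹) 1)) (bl_norm m)
  have l3 : dl (Sum.elim (fun _ => c⁻¹) 1) * bl m ∈ H := ⟨l2.1, hA.res le_sup_left (sup_le hE hR) _
    (hA.ext le_sup_right (sup_le hE hR) (cen_Rg _) _ l2.2
      (Transfer.mem_normalizer_sup n2 (hA.norm _ l2.2))) n2⟩
  have l4 := mul_mem (mul_mem (b3 b (sign_of_pow h2 (k := 1) (by rw [pow_one, bs_pow])))
    (b5 (l / Sum.elim (fun _ => c⁻¹) 1) (by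
      rw [show ∀ f g : ZMod p ⊕ I → (ZMod p)ˣ, ∏ i, (f / g) i = (∏ i, f i) / ∏ i, g i from
        fun f g => Finset.prod_div_distrib _ _, div_eq_one, Fintype.prod_sum_type (Sum.elim _ _)]
      simp [hc', Units.ext_iff]))) l3
  have e : bs b * dl l * bl τ = bs b * dl (l / Sum.elim (fun _ => c⁻¹) 1) *
      (dl (Sum.elim (fun _ => c⁻¹) 1) * bl m) * bl (J := J) (m⁻¹ * τ) := by
    simp [div_eq_mul_inv, mul_assoc]
  rw [e] at hg ⊢
  refine (mul_mem l4 (b4 ?_)).2
  have := (mul_mem_cancel_left (mem_inf.1 l4).1).1 hg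
  rwa [mem_alternatingGroup, sign_bl, Int.units_pow_eq_pow_mod_two, Nat.odd_iff.1 (hp.out.odd_of_ne_two h2),
    pow_one] at this

end Cfsg.Agent.Fusion.Sym
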