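import Cfsg.Agent.Lib.Fusion.SimpleR
import Cfsg.Agent.Lib.Classical.SpUE

/-! Fusion systems of symplectic and unitary groups in the defining characteristic. -/

set_option autoImplicit false
set_option linter.unusedSectionVars false

namespace Cfsg.Agent.Classical

open Module Subgroup Cfsg.Agent.Fusion

universe u

section
variable {F : Type*} [Field F] {V : Type*} [AddCommGroup V] [Module F V] {p : ℕ} [Fact p.Prime] [CharP F p]

theorem eig_one {g : V ≃ₗ[F] V} (h : ∃ k, g ^ p ^ k = 1) {v : V} (hv : v ≠ 0) {c : F} (e : g v = c • v) :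
    g v = v := by
  obtain ⟨k, hk⟩ := h
  have h1 : ∀ n : ℕ, (g ^ n) v = c ^ n • v := fun n => by
    induction n with
    | zero => simp
    | succ n ih => rw [pow_succ, LinearEquiv.mul_apply, e, map_smul, ih, smul_smul, pow_succ']
  have h2 := h1 (p ^ k)
  rw [hk, LinearEquiv.coe_one, id, eq_comm, ← sub_eq_zero] at h2
  nth_rewrite 2 [← one_smul F v] at h2
  rw [← sub_smul, smul_eq_zero, ← one_pow (p ^ k), ← sub_pow_char_pow] at h2
  rw [e, sub_eq_zero.1 (pow_eq_zero_iff (pow_ne_zero _ (Fact.out : p.Prime).ne_zero) |>.1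
    (h2.resolve_right hv)), one_smul]

theorem unip {g : V ≃ₗ[F] V} (h : ((g : End F V) - 1) ^ 3 = 0) : g ^ p ^ 2 = 1 := by
  rcases subsingleton_or_nontrivial V with _ | _
  · ext x; exact Subsingleton.elim _ _
  have : CharP (End F V) p := charP_of_injective_algebraMap (algebraMap F (End F V)).injective p
  have h1 := sub_pow_char_pow_of_commute p 2 (Commute.one_right (g : End F V))
  rw [pow_eq_zero_of_le (by nlinarith [(Fact.out : p.Prime).two_le]) h, one_pow, eq_comm, sub_eq_zero] at h1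
  ext x
  have := LinearMap.congr_fun h1 x
  rwa [Module.End.pow_apply, LinearEquiv.coe_coe, ← LinearEquiv.pow_apply] at this

/-- a `p`-group of linear maps fixes a nonzero vector -/
theorem exists_fixed [Finite V] [Nontrivial V] {S : Subgroup (V ≃ₗ[F] V)} (hS : IsPGroup p S) :
    ∃ v : V, v ≠ 0 ∧ ∀ s ∈ S, s v = v := by
  obtain ⟨v, hv⟩ := exists_ne (0 : V)
  have : p ∣ Nat.card V := by
    rw [← addOrderOf_eq_prime (x := v) (p := p) (by rw [← Nat.cast_smul_eq_nsmul F, CharP.cast_eq_zero, zero_smul]) hv]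
    exact addOrderOf_dvd_natCard v
  obtain ⟨w, h1, h2⟩ := hS.exists_fixed_point_of_prime_dvd_card_of_fixed_point V this (a := 0)
    fun s => smul_zero _
  exact ⟨w, h2.symm, fun s hs => h1 ⟨s, hs⟩⟩

end

namespace Form

variable {F : Type*} [Field F] {K : Kind F} {V : Type u} [AddCommGroup V] [Module F V] (Φ : Form K V)

/-- the unipotent radical of the stabiliser of `L` -/
def Kg (L : Submodule F V) : Subgroup (V ≃ₗ[F] V) where
  carrier := {g | g ∈ Φ.E ∧ (∀ v ∈ L, g v = v) ∧ ∀ x ∈ Φ.perp L, g x - x ∈ L}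
  one_mem' := ⟨one_mem _, fun _ _ => rfl, fun _ _ => by simp⟩
  mul_mem' {g h} hg hh := ⟨mul_mem hg.1 hh.1, fun v hv => by
    rw [LinearEquiv.mul_apply, hh.2.1 v hv, hg.2.1 v hv], fun x hx => by
    have := hg.2.1 _ (hh.2.2 x hx)
    rw [map_sub, sub_eq_iff_eq_add] at this
    rw [LinearEquiv.mul_apply, this, add_sub_assoc]
    exact add_mem (hh.2.2 x hx) (hg.2.2 x hx)⟩
  inv_mem' {g} hg := ⟨inv_mem hg.1, fun v hv => by
    rw [LinearEquiv.coe_inv, LinearEquiv.symm_apply_eq, hg.2.1 v hv], fun x hx => by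
    have := hg.2.1 _ (hg.2.2 x hx)
    rw [eq_comm, ← LinearEquiv.symm_apply_eq, map_sub, LinearEquiv.symm_apply_apply] at this
    rw [LinearEquiv.coe_inv, ← neg_sub, this]
    exact neg_mem (hg.2.2 x hx)⟩

variable {Φ} {L : Submodule F V} {e f u u' y v : V} {a : F} {g : V ≃ₗ[F] V}

theorem eich_mem_Kg (h : Φ.IsEich v y a) (hv : v ∈ L) (hL : L ≤ Φ.perp L) (hy : y ∈ Φ.perp L) :
    Φ.eich v y a h ∈ Φ.Kg L :=
  ⟨Φ.eich_mem_E _ _ _ _, fun w hw => by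
    rw [Φ.eich_of_perp _ _ _ _ (hL hw v hv), Φ.mem_perp'.1 hy w hw, zero_smul, add_zero], fun x hx => by
    rw [Φ.eich_of_perp _ _ _ _ (hx v hv), add_sub_cancel_left]; exact L.smul_mem _ hv⟩

theorem span_le_perp (h : Φ.N e = 0) : (F ∙ e) ≤ Φ.perp (F ∙ e) :=
  (Submodule.span_singleton_le_iff_mem _ _).2 (Φ.mem_perp_singleton.2 (Φ.B_self_of_N h))

theorem eich_mem_Kg' (h : Φ.IsEich e y a) : Φ.eich e y a h ∈ Φ.Kg (F ∙ e) :=
  eich_mem_Kg h (Submodule.mem_span_singleton_self e) (span_le_perp h.he) (Φ.mem_perp_singleton.2 h.hy)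

theorem Kg_conj (hg : g ∈ Φ.E) (h : g ∈ stab L) {x : V ≃ₗ[F] V} (hx : x ∈ Φ.Kg L) :
    g * x * g⁻¹ ∈ Φ.Kg L :=
  ⟨mul_mem (mul_mem hg hx.1) (inv_mem hg), fun v hv => by
    rw [LinearEquiv.mul_apply, LinearEquiv.mul_apply, hx.2.1 _ ((inv_mem h v).1 hv)]; simp, fun z hz => by
    have := (h _).1 (hx.2.2 _ ((inv_mem (Φ.stab_perp (Φ.E_le hg) h) z).1 hz))
    simpa using this⟩

theorem mem_norm_Kg (hg : g ∈ Φ.E) (h : g ∈ stab L) : g ∈ normalizer (Φ.Kg L : Set (V ≃ₗ[F] V)) :=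
  mem_normalizer_iff.2 fun x => ⟨Kg_conj hg h, fun hx => by
    simpa [mul_assoc] using Kg_conj (inv_mem hg) (inv_mem h) hx⟩

theorem IsHyp.eq_eich (h : Φ.IsHyp e f) (hg : g ∈ Φ.Kg (F ∙ e)) :
    ∃ y a h', y ∈ Φ.hperp e f ∧ g = Φ.eich e y a h' := by
  have g1 := hg.2.1 e (Submodule.mem_span_singleton_self e)
  obtain ⟨y, a, h', hy, e1⟩ := h.exists_eich (f' := g f) (by simpa [g1] using h.map (Φ.E_le hg.1))
  refine ⟨y, a, h', hy, ?_⟩
  have h2 := mul_mem (inv_mem hg) (eich_mem_Kg' h')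
  set t := g⁻¹ * Φ.eich e y a h' with ht
  have t1 := h2.2.1 e (Submodule.mem_span_singleton_self e)
  have t2 : t f = f := by simp [ht, e1]
  rw [← inv_mul_eq_one, ← ht]
  ext v
  obtain ⟨α, β, w, hw, rfl⟩ := h.decomp v
  obtain ⟨c, hc⟩ := Submodule.mem_span_singleton.1 (h2.2.2 w (Φ.mem_perp_singleton.2 (Φ.mem_hperp.1 hw).1))
  have := (Φ.E_le h2.1).1 w f
  rw [t2, ← sub_eq_zero, ← LinearMap.sub_apply, ← map_sub, ← hc, Φ.B_smul_left, h.hef, mul_one] at this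
  rw [this, zero_smul, eq_comm, sub_eq_zero] at hc
  simp [t1, t2, hc]

variable {p : ℕ} [Fact p.Prime] [CharP F p]

theorem Kg_pow (hL : L ≤ Φ.perp L) (hg : g ∈ Φ.Kg L) : g ^ p ^ 2 = 1 := unip (by
  ext x
  have h1 : g x - x ∈ Φ.perp L := fun v hv => by
    rw [map_sub, LinearMap.sub_apply, ← (Φ.E_le hg.1).1 x v, hg.2.1 v hv, sub_self]
  simpa [pow_succ, sub_eq_zero] using hg.2.1 _ (hg.2.2 _ h1))

theorem Kg_pgroup (hL : L ≤ Φ.perp L) : IsPGroup p (Φ.Kg L) := fun g => ⟨2, Subtype.ext (Kg_pow hL g.2)⟩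

theorem eich_pow (h : Φ.IsEich e y a) : ∃ k, Φ.eich e y a h ^ p ^ k = 1 :=
  ⟨2, Kg_pow (span_le_perp h.he) (eich_mem_Kg' h)⟩

variable [FiniteDimensional F V]

theorem Kg_cen (hκ : ∃ a, K.T a = 0 ∧ a ≠ 0) (hΦ : Φ.Nondeg) (hN : ∀ v ∈ L, Φ.N v = 0)
    (hL : L ≤ Φ.perp L) (he : e ∈ L) (he0 : e ≠ 0) : Cen p Φ.E (Φ.Kg L) := by
  intro c hc h hp
  obtain ⟨a, a1, a0⟩ := hκ
  have k : ∀ v ∈ L, ∀ y ∈ Φ.perp L, ∀ a (h : Φ.IsEich v y a) x, Φ.B x (c y) • c v - (K.ε * Φ.B x (c v)) • c y -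
      (K.ε * a * Φ.B x (c v)) • c v = Φ.B x y • v - (K.ε * Φ.B x v) • y - (K.ε * a * Φ.B x v) • v := by
    intro v hv y hy a h' x
    have := (Φ.eich_conj (Φ.E_le hc) h').symm.trans (mul_inv_eq_iff_eq_mul.2 (h _ (eich_mem_Kg h' hv hL hy)).symm)
    have := DFunLike.congr_fun this x
    rw [eich_apply, eich_apply] at this
    linear_combination (norm := module) this
  have c1 : ∀ v ∈ L, c v = v := fun v hv => by
    by_cases v0 : v = 0
    · simp [v0]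
    obtain ⟨x, hx⟩ := hΦ.exists_ne (v := c v) (by simpa)
    have := k v hv 0 (zero_mem _) a ⟨hN v hv, by simp, by simpa⟩ x
    simp only [map_zero, zero_smul, smul_zero, sub_zero, zero_sub, neg_inj] at this
    exact eig_one hp v0 (c := (K.ε * a * Φ.B x (c v))⁻¹ * (K.ε * a * Φ.B x v)) (by
      rw [mul_smul, ← this, inv_smul_smul₀ (mul_ne_zero (mul_ne_zero K.ε_ne a0) hx)])
  refine ⟨hc, c1, fun y hy => ?_⟩
  obtain ⟨b, hb⟩ := Φ.N_range y
  obtain ⟨x, hx⟩ := hΦ.exists_ne he0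
  have := k e he y hy b ⟨hN e he, hy e he, hb⟩ x
  rw [c1 e he] at this
  rw [← L.smul_mem_iff (mul_ne_zero K.ε_ne hx), show (K.ε * Φ.B x e) • (c y - y) =
    (Φ.B x (c y) - Φ.B x y) • e by linear_combination (norm := module) -this]
  exact L.smul_mem _ he

theorem mem_span_of_Kg (hκ : ∃ a, K.T a = 0 ∧ a ≠ 0) (hΦ : Φ.Nondeg) (he : Φ.N e = 0) (he0 : e ≠ 0)
    (h : ∀ g ∈ Φ.Kg (F ∙ e), g v = v) : v ∈ (F ∙ e) := by
  obtain ⟨a, a1, a0⟩ := hκ
  have h1 := h _ (eich_mem_Kg' (y := 0) (a := a) ⟨he, by simp, by simpa⟩)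
  have h2 : Φ.B v e = 0 := by simpa [eich_apply, K.ε_ne, a0, he0] using h1
  rw [← hΦ.perp_perp (F ∙ e)]
  intro y hy
  obtain ⟨b, hb⟩ := Φ.N_range y
  have := h _ (eich_mem_Kg' ⟨he, Φ.mem_perp_singleton.1 hy, hb⟩)
  simpa [Φ.eich_of_perp _ _ _ _ h2, he0] using this

variable [Finite F] {S T : Subgroup (V ≃ₗ[F] V)}

theorem fix_of_le (hκ : ∃ a, K.T a = 0 ∧ a ≠ 0) (hΦ : Φ.Nondeg) (he : Φ.N e = 0) (he0 : e ≠ 0)
    (hS : IsPGroup p S) (h : Φ.Kg (F ∙ e) ≤ S) :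
    (∀ s ∈ S, s e = e) ∧ ∀ g ∈ normalizer (S : Set (V ≃ₗ[F] V)), g e ∈ (F ∙ e) := by
  have := Module.finite_of_finite F (M := V)
  have := nontrivial_of_ne _ _ he0
  obtain ⟨v, v0, hv⟩ := exists_fixed hS
  obtain ⟨c, rfl⟩ := Submodule.mem_span_singleton.1 (mem_span_of_Kg hκ hΦ he he0 fun g hg => hv g (h hg))
  have h1 : ∀ s ∈ S, s e = e := fun s hs => by
    have := hv s hs
    rwa [map_smul, smul_right_inj (left_ne_zero_of_smul v0)] at this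
  refine ⟨h1, fun g hg => mem_span_of_Kg hκ hΦ he he0 fun s hs => ?_⟩
  have := h1 _ (Transfer.conj_mem_of_mem_normalizer (inv_mem hg) (h hs))
  simpa [LinearEquiv.symm_apply_eq] using this

theorem stab_span (h : g e ∈ (F ∙ e)) : g ∈ stab (F ∙ e) := stab_of_le fun v hv => by
  obtain ⟨c, rfl⟩ := Submodule.mem_span_singleton.1 hv
  rw [map_smul]; exact Submodule.smul_mem _ _ h

/-- the kinds in which the Eichler transformations generate the special isometry group -/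
def Gen (K : Kind F) : Prop := (∃ a, K.T a = 0 ∧ a ≠ 0) ∧ ∀ (V : Type u) [AddCommGroup V] [Module F V]
  [FiniteDimensional F V] (Φ : Form K V), Φ.Nondeg → Φ.SIsom ≤ Φ.E

theorem IsHyp.split (hK : Gen.{u} K) (hΦ : Φ.Nondeg) (h : Φ.IsHyp e f) (hg : g ∈ Φ.E) (he : g e = e) :
    ∃ x ∈ Φ.Kg (F ∙ e), ∃ g' ∈ (Φ.restrict (Φ.hperp e f)).E, g = x * h.ext g' := by
  obtain ⟨y, a, h', -, e1⟩ := h.exists_eich (f' := g f) (by simpa [he] using h.map (Φ.E_le hg))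
  have hx := eich_mem_Kg' h'
  have h4 := Φ.E_le_SIsom (mul_mem (inv_mem hx.1) hg)
  obtain ⟨g', hg', h5⟩ := h.exists_ext h4.1 (by simp [he, LinearEquiv.symm_apply_eq, eich_self])
    (by simp [← e1])
  exact ⟨_, hx, g', hK.2 _ _ (h.nondeg_hperp hΦ) (Form.mem_SIsom.2 ⟨hg', by
    rw [← h.det_ext, h5]; exact h4.2⟩), by rw [h5, mul_inv_cancel_left]⟩

instance finite_equiv : Finite (V ≃ₗ[F] V) :=
  have := Module.finite_of_finite F (M := V)
  DFunLike.finite _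

theorem le_of_eich (hK : Gen.{u} K) (n : ℕ) : ∀ {V : Type u} [AddCommGroup V] [Module F V]
    [FiniteDimensional F V] (Φ : Form K V), Φ.Nondeg → finrank F V = n → ∀ S T : Subgroup (V ≃ₗ[F] V),
    SylowIn p S Φ.E → (∀ e y a h, e ≠ 0 → Φ.eich e y a h ∈ S → Φ.eich e y a h ∈ T) → S ≤ T := by
  induction n using Nat.strong_induction_on with
  | _ n ih =>
  intro V _ _ _ Φ hΦ hn S T hS hT
  by_cases h0 : ∃ e, Φ.Sing e
  swap
  · exact hS.le.trans (Φ.E_le_of fun e y a h he => absurd ⟨e, he, h.he⟩ h0)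
  obtain ⟨e0, he0⟩ := h0
  obtain ⟨c, hc, h1⟩ := hS.conj (D := Φ.Kg (F ∙ e0)) (fun g hg => hg.1) (Kg_pgroup (span_le_perp he0.2))
  have he := he0.map (Φ.E_le hc)
  obtain ⟨f, h, -⟩ := hΦ.exists_hyp_perp (U := ⊥) he.2 he.1 (by simp)
  have h2 : Φ.Kg (F ∙ c e0) ≤ S := fun g hg => by
    obtain ⟨y, a, h', -, rfl⟩ := h.eq_eich hg
    have h3 : Φ.IsEich e0 (c⁻¹ y) a := ⟨he0.2, by simpa using ((Φ.E_le (inv_mem hc)).1 y (c e0)).trans h'.hy,
      by rw [(Φ.E_le (inv_mem hc)).2, h'.ha]⟩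
    have := h1 _ (eich_mem_Kg' h3)
    rwa [Φ.eich_conj (Φ.E_le hc), Φ.eich_congr _ (show c (c⁻¹ y) = y by simp) rfl] at this
  generalize c e0 = e at he h h2
  have h3 : ∀ s ∈ S, ∃ x ∈ Φ.Kg (F ∙ e), ∃ g' ∈ S.comap h.ext ⊓ (Φ.restrict (Φ.hperp e f)).E,
      s = x * h.ext g' := fun s hs => by
    obtain ⟨x, hx, g', hg', rfl⟩ := h.split hK hΦ (hS.le hs) ((fix_of_le hK.1 hΦ he.2 he.1 hS.pgroup h2).1 s hs)
    exact ⟨x, hx, g', ⟨(mul_mem_cancel_left (h2 hx)).1 hs, hg'⟩, rfl⟩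
  have h4 := ih _ (by have := h.finrank_hperp; omega) _ (h.nondeg_hperp hΦ) rfl
    (S.comap h.ext ⊓ (Φ.restrict (Φ.hperp e f)).E) (T.comap h.ext) ⟨inf_le_right,
      (hS.pgroup.comap_of_injective _ h.ext_injective).to_le inf_le_left, fun D h5 h6 h7 =>
      le_inf (map_le_iff_le_comap.1 (le_sup_left.trans (hS.max (D.map h.ext ⊔ Φ.Kg (F ∙ e))
        (sup_le (map_le_iff_le_comap.2 fun g hg => h.ext_mem_E (h5 hg)) fun g hg => hg.1)
        (Solv.isPGroup_sup (h6.map _) (Kg_pgroup (span_le_perp he.2)) ?_) fun s hs => ?_))) h5⟩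
      fun e' y a h' he' hs => by
        have := (mem_inf.1 hs).1
        rw [mem_comap, h.ext_eich] at this ⊢
        exact hT _ _ _ _ (by simpa using he') this
  · intro s hs
    obtain ⟨x, hx, g', hg', rfl⟩ := h3 s hs
    refine mul_mem ?_ (h4 hg')
    obtain ⟨y, a, h', -, rfl⟩ := h.eq_eich hx
    exact hT _ _ _ _ he.1 (h2 hx)
  · rintro _ ⟨g, hg, rfl⟩
    exact mem_norm_Kg (h.ext_mem_E (h5 hg)) (stab_span (by
      rw [h.ext_e]; exact Submodule.mem_span_singleton_self e))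
  · obtain ⟨x, hx, g', hg', rfl⟩ := h3 s hs
    exact mul_mem (mem_sup_right hx) (mem_sup_left (mem_map_of_mem _ (h7 hg')))

theorem eich_split {b : F} (h : Φ.IsEich e y a) (h' : Φ.IsEich e y b) :
    ∃ h'', Φ.eich e y b h' = Φ.eich e y a h * Φ.eich e 0 (b - a) h'' :=
  ⟨⟨h.he, by simp, by simp [h.ha, h'.ha]⟩, by rw [eich_mul]; exact Φ.eich_congr _ (by simp) (by simp)⟩

/-- a rank two configuration -/
structure Rk2 (Φ : Form K V) (e f u u' : V) : Prop where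
  h : Φ.IsHyp e f
  h' : Φ.IsHyp u u'
  hu : u ∈ Φ.hperp e f
  hu' : u' ∈ Φ.hperp e f

namespace Rk2
variable (r : Φ.Rk2 e f u u')
include r

theorem ue : Φ.B u e = 0 := (Φ.mem_hperp.1 r.hu).1
theorem eu : Φ.B e u = 0 := Φ.B_symm_zero r.ue
theorem hN : ∀ v ∈ Submodule.span F {e, u}, Φ.N v = 0 := fun v hv => by
  obtain ⟨α, β, rfl⟩ := Submodule.mem_span_pair.1 hv
  rw [Φ.N_add_of_orth (by simp [Φ.B_smul_right, r.eu]), Φ.N_smul, Φ.N_smul, r.h.he, r.h'.he]; simp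
theorem hL : Submodule.span F {e, u} ≤ Φ.perp (Submodule.span F {e, u}) :=
  Submodule.span_le.2 fun v hv => Φ.mem_perp_span.2 fun w hw => by
    rcases hv with rfl | rfl <;> rcases hw with rfl | rfl
    exacts [r.h.Bee, r.eu, r.ue, r.h'.Bee]
theorem eX (s : F) : Φ.IsEich e (K.σ s • u') 0 :=
  ⟨r.h.he, by simp [(Φ.mem_hperp.1 r.hu').1], by simp [Φ.N_smul, r.h'.hf]⟩
theorem eY (s : F) : Φ.IsEich u (K.σ s • f) 0 :=
  ⟨r.h'.he, by simp [Φ.B_symm_zero (Φ.mem_hperp.1 r.hu).2], by simp [Φ.N_smul, r.h.hf]⟩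
theorem Xu (s : F) : Φ.eich _ _ _ (r.eX s) u = u + s • e := by
  rw [Φ.eich_of_perp _ _ _ _ r.ue, Φ.B_smul_right, K.σσ, r.h'.hef, mul_one]
theorem Ye (s : F) : Φ.eich _ _ _ (r.eY s) e = e + s • u := by
  rw [Φ.eich_of_perp _ _ _ _ r.eu, Φ.B_smul_right, K.σσ, r.h.hef, mul_one]

omit r in
theorem stab_pair (h1 : g e ∈ Submodule.span F {e, u}) (h2 : g u ∈ Submodule.span F {e, u}) :
    g ∈ stab (Submodule.span F {e, u}) := stab_of_le fun v hv => by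
  obtain ⟨α, β, rfl⟩ := Submodule.mem_span_pair.1 hv
  rw [map_add, map_smul, map_smul]
  exact add_mem (Submodule.smul_mem _ _ h1) (Submodule.smul_mem _ _ h2)

theorem le_of_transv (hK : Gen.{u} K) (hΦ : Φ.Nondeg) (h1 : Φ.Kg (F ∙ e) ≤ S)
    (h2 : Φ.Kg (Submodule.span F {e, u}) ≤ S) (hT : SClR Φ.E S T) (ha : Φ.IsEich e 0 a) (a0 : a ≠ 0)
    (ht : Φ.eich e 0 a ha ∈ T) : Φ.Kg (F ∙ e) ≤ T := by
  have a1 : K.T a = 0 := by simpa using ha.ha
  have a2 : K.σ a = -(K.ε * a) := by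
    have := K.κT a
    rw [a1] at this
    linear_combination (-K.ε) * this - K.σ a * K.εε
  have c1 : ∀ g ∈ Φ.E, ∀ v, g e = v → v ∈ Submodule.span F {e, u} → ∀ h, Φ.eich v 0 a h ∈ T := by
    rintro g hg _ rfl hv h
    have := hT _ ht g hg
    rw [Φ.eich_conj (Φ.E_le hg), Φ.eich_congr _ (map_zero g) rfl] at this
    exact this (h2 (eich_mem_Kg _ hv r.hL (zero_mem _)))
  have c2 : ∀ γ : F, γ ≠ 0 → ∀ h, Φ.eich e (γ • u) 0 h ∈ T := fun γ hγ h => by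
    obtain ⟨β, rfl⟩ : ∃ β, γ = a * β := ⟨a⁻¹ * γ, by field_simp⟩
    have m1 : e + β • u ∈ Submodule.span F {e, u} := Submodule.mem_span_pair.2 ⟨1, β, by simp⟩
    have m2 : β • u ∈ Submodule.span F {e, u} := Submodule.mem_span_pair.2 ⟨0, β, by simp⟩
    have t1 := c1 _ (Φ.eich_mem_E _ _ _ _) _ (r.Ye β) m1 ⟨r.hN _ m1, by simp, by simpa⟩
    have t2 := c1 _ (mul_mem (Φ.eich_mem_E _ _ _ (r.eX (-β⁻¹))) (Φ.eich_mem_E _ _ _ (r.eY β))) (β • u) (by
      rw [LinearEquiv.mul_apply, r.Ye, map_add, map_smul, r.Xu, eich_self]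
      simp [smul_smul, right_ne_zero_of_mul hγ]) m2 ⟨r.hN _ m2, by simp, by simpa⟩
    have h3 : Φ.IsEich e ((a * β) • u) a := ⟨h.he, h.hy, by rw [← h.ha, a1, map_zero]⟩
    obtain ⟨h4, e1⟩ := eich_split h3 h
    rw [e1, Φ.eich_congr h4 rfl (show 0 - a = K.ε * K.σ a by rw [a2]; linear_combination a * K.εε)]
    refine mul_mem ((mul_mem_cancel_right t2).1 ?_) (by simpa [eich_inv] using inv_mem ht)
    convert t1 using 1
    ext x
    simp only [LinearEquiv.mul_apply, eich_apply, map_add, map_sub, Φ.B_smul_right, map_smul,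
      LinearMap.sub_apply, LinearMap.add_apply, LinearMap.smul_apply, r.ue, r.h'.Bee, map_zero, map_mul, a2,
      smul_eq_mul]
    module
  have c3 : ∀ y ∈ Φ.hperp e f, Φ.N y = 0 → ∀ h, Φ.eich e y 0 h ∈ T := fun y hy y1 h => by
    by_cases y0 : y = 0
    · subst y0; rw [eich_zero]; exact one_mem _
    obtain ⟨g, hg, c, hc, e1⟩ := (rich_of_ker (Φ := Φ.restrict (Φ.hperp e f)) hK.1).rich0.trans
      (r.h.nondeg_hperp hΦ) (u := ⟨u, r.hu⟩) (v := ⟨y, hy⟩) ⟨by simpa using r.h'.e_ne, r.h'.he⟩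
      ⟨by simpa using y0, y1⟩
    have := hT _ (c2 c⁻¹ (inv_ne_zero hc) ⟨h.he, by simp [r.ue], by simp [Φ.N_smul, r.h'.he]⟩) _
      (r.h.ext_mem_E hg)
    rw [Φ.eich_conj (Φ.E_le (r.h.ext_mem_E hg)), Φ.eich_congr' _ (r.h.ext_e g) (y' := y) (by
      rw [map_smul, r.h.ext_perp g ⟨u, r.hu⟩, e1]; simp [hc]) rfl] at this
    exact this (h1 (eich_mem_Kg' _))
  have c4 : ∀ b h, Φ.eich e 0 b h ∈ T := fun b h => by
    have b1 : K.T b = 0 := by simpa using h.ha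
    have m : (K.ε * b) • u' ∈ Φ.hperp e f := Submodule.smul_mem _ _ r.hu'
    have n : Φ.N ((K.ε * b) • u') = 0 := by simp [Φ.N_smul, r.h'.hf]
    have n' : Φ.N (u + (K.ε * b) • u') = 0 := by
      rw [Φ.N_add, n, r.h'.he, Φ.B_smul_right, r.h'.hef, mul_one, map_mul K.σ, K.σε, K.T_conj, b1]; simp
    have t := mul_mem (c3 u r.hu r.h'.he ⟨h.he, r.ue, by simp [r.h'.he]⟩)
      (c3 _ m n ⟨h.he, (Φ.mem_hperp.1 m).1, by simp [n]⟩)
    have h0 : Φ.IsEich e (u + (K.ε * b) • u') 0 := ⟨h.he, (Φ.mem_hperp.1 (add_mem r.hu m)).1, by simp [n']⟩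
    rw [eich_mul, (eich_split h0 _).choose_spec, mul_mem_cancel_left (c3 _ (add_mem r.hu m) n' h0),
      Φ.eich_congr _ rfl (a' := b) (by
        rw [Φ.B_smul_left, r.h'.Bfe]; linear_combination b * K.εε)] at t
    exact t
  intro g hg
  obtain ⟨y, a0, h, hy, rfl⟩ := r.h.eq_eich hg
  obtain ⟨a1, h', t⟩ := exists_eich_mem_of_sing (N := T) r.h' r.hu r.hu' (fun y hy n =>
    ⟨0, ⟨h.he, (Φ.mem_hperp.1 hy).1, by simp [n]⟩, c3 y hy n _⟩) y hy
  rw [(eich_split h' h).choose_spec]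
  exact mul_mem t (c4 _ _)

theorem simple (hK : Gen.{u} K) (hΦ : Φ.Nondeg) (hc : ∀ y ∈ Φ.hperp e f, y ≠ 0 → ∀ a,
      (∃ y' ∈ Φ.hperp e f, Φ.B y' y ≠ Φ.B y y') ∨ ∃ g1 ∈ Φ.E, ∃ g2 ∈ Φ.E, ∃ g3 ∈ Φ.E,
        g1 e = e ∧ g2 e = e ∧ g3 e = e ∧ g3 y = g1 y + g2 y ∧ a + Φ.B (g2 y) (g1 y) ≠ 0)
    {G' : Type*} [Group G'] (φ : Φ.E ≃* G') (P : Sylow p G') : (groupFusionSystem P.1).IsSimple p := by
  have he := r.h.he
  have he0 := r.h.e_ne
  have me := Submodule.mem_span_singleton_self (R := F) e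
  have mL : e ∈ Submodule.span F {e, u} := Submodule.subset_span (by simp)
  have mL' : u ∈ Submodule.span F {e, u} := Submodule.subset_span (by simp)
  have nR : ∀ g ∈ Φ.E, g e ∈ (F ∙ e) → g ∈ normalizer (Φ.Kg (F ∙ e) : Set (V ≃ₗ[F] V)) := fun g hg h =>
    mem_norm_Kg hg (stab_span h)
  obtain ⟨S, hS, hU⟩ := exists_sylowIn_ge (D := Φ.Kg (Submodule.span F {e, u}) ⊔ Φ.Kg (F ∙ e)) (C := Φ.E)
    (sup_le (fun g hg => hg.1) fun g hg => hg.1) (Solv.isPGroup_sup (p := p) (Kg_pgroup r.hL)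
      (Kg_pgroup (span_le_perp he)) fun g hg => nR g hg.1 (by rw [hg.2.1 e mL]; exact me))
  have h1 := le_sup_right.trans hU
  have h2 := le_sup_left.trans hU
  obtain ⟨f1, f2⟩ := fix_of_le hK.1 hΦ he he0 hS.pgroup h1
  have cR : Cen p Φ.E (Φ.Kg (F ∙ e)) := Kg_cen hK.1 hΦ (fun v hv => by
    obtain ⟨c, rfl⟩ := Submodule.mem_span_singleton.1 hv
    rw [Φ.N_smul, he, mul_zero]) (span_le_perp he) me he0
  refine simple_rel hS (fun h => ?_) (fun T hTS hT hb => ?_) (fun A hA g hg hn => ?_) φ P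
  · have := mem_bot.1 (h ▸ h1 (eich_mem_Kg' (r.eX 1)))
    have e1 := r.Xu 1
    rw [this] at e1
    simp [he0] at e1
  · obtain ⟨x, hx, x1, -, x2⟩ := hT.exists_central hTS hS hb
    obtain ⟨k, hk⟩ := hS.pgroup ⟨x, hTS hx⟩
    obtain ⟨y, a, h, hy, rfl⟩ := r.h.eq_eich (cR x (hS.le (hTS hx)) (fun s hs => x2 s (h1 hs))
      ⟨k, congrArg Subtype.val hk⟩)
    obtain ⟨b, hb, b0, t⟩ : ∃ b hb, b ≠ 0 ∧ Φ.eich e 0 b hb ∈ T := by
      by_cases y0 : y = 0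
      · subst y0
        exact ⟨a, h, fun e => x1 (by subst e; exact Φ.eich_zero _), hx⟩
      obtain ⟨y', hy', c⟩ | ⟨g1, k1, g2, k2, g3, k3, e1, e2, e3, e4, c⟩ := hc y hy y0 a
      · obtain ⟨a', ha'⟩ := Φ.N_range y'
        have h' : Φ.IsEich e y' a' := ⟨he, (Φ.mem_hperp.1 hy').1, ha'⟩
        obtain ⟨h'', e1⟩ := Φ.eich_commutator h h'
        rw [commutatorElement_eq_one_iff_mul_comm.2 (x2 _ (h1 (eich_mem_Kg' h'))).symm] at e1
        obtain ⟨z, hz⟩ := hΦ.exists_ne he0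
        have := DFunLike.congr_fun e1 z
        rw [eich_apply] at this
        simp [K.ε_ne, sub_eq_zero, c, hz, he0, eq_sub_iff_add_eq] at this
      · have k : ∀ g ∈ Φ.E, g e = e → ∃ h', Φ.eich e (g y) a h' ∈ T := fun g hg e1 => by
          have := hT _ hx g hg
          rw [Φ.eich_conj (Φ.E_le hg), Φ.eich_congr' _ e1 rfl rfl] at this
          exact ⟨_, this (h1 (eich_mem_Kg' _))⟩
        obtain ⟨_, t1⟩ := k g1 k1 e1
        obtain ⟨_, t2⟩ := k g2 k2 e2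
        obtain ⟨h3, t3⟩ := k g3 k3 e3
        have t := mul_mem t1 t2
        rw [eich_mul, Φ.eich_congr _ e4.symm rfl, (eich_split h3 _).choose_spec, mul_mem_cancel_left t3] at t
        exact ⟨_, _, fun e => c (by linear_combination e), t⟩
    have h3 := r.le_of_transv hK hΦ h1 h2 hT hb b0 t
    refine le_of_eich hK _ Φ hΦ rfl S T hS fun v y a h v0 hs => ?_
    obtain ⟨g, hg, c, hc, e1⟩ := (rich_of_ker (Φ := Φ) hK.1).rich0.trans hΦ r.h.sing_e ⟨v0, h.he⟩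
    have := hT (g⁻¹ * Φ.eich v y a h * g⁻¹⁻¹) (h3 (by
      rw [Φ.eich_conj (Φ.E_le (inv_mem hg))]
      refine eich_mem_Kg _ (Submodule.mem_span_singleton.2 ⟨c⁻¹, ?_⟩) (span_le_perp he)
        (Φ.mem_perp_singleton.2 ?_)
      · rw [LinearEquiv.coe_inv, LinearEquiv.eq_symm_apply, map_smul, e1, inv_smul_smul₀ hc]
      · rw [LinearEquiv.coe_inv, ← Isom_B_right (Φ.E_le hg), e1, Φ.B_smul_right, h.hy, mul_zero])) g hg
    simp only [mul_assoc, inv_inv, mul_inv_cancel_left, mul_inv_cancel, mul_one] at this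
    exact this hs
  · obtain ⟨l, hl⟩ := Submodule.mem_span_singleton.1 (f2 g hn)
    have l0 : l ≠ 0 := fun e => he0 (by simpa [e] using hl.symm)
    have x1 : ∀ s, Φ.eich _ _ _ (r.eX s) ∈ Φ.E ⊓ A (Φ.Kg (Submodule.span F {e, u})) := fun s =>
      ⟨Φ.eich_mem_E _ _ _ _, hA.pel h2 _ (Φ.eich_mem_E _ _ _ _) (mem_norm_Kg (Φ.eich_mem_E _ _ _ _) (stab_pair
        (by rwa [eich_self]) (by rw [r.Xu]; exact add_mem mL' (Submodule.smul_mem _ _ mL)))) (eich_pow _)⟩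
    have y1 : ∀ s, Φ.eich _ _ _ (r.eY s) ∈ Φ.E ⊓ A (Φ.Kg (Submodule.span F {e, u})) := fun s =>
      ⟨Φ.eich_mem_E _ _ _ _, hA.pel h2 _ (Φ.eich_mem_E _ _ _ _) (mem_norm_Kg (Φ.eich_mem_E _ _ _ _) (stab_pair
        (by rw [r.Ye]; exact add_mem mL (Submodule.smul_mem _ _ mL')) (by rwa [eich_self]))) (eich_pow _)⟩
    obtain ⟨t, ht, e1⟩ : ∃ t ∈ Φ.E ⊓ A (Φ.Kg (Submodule.span F {e, u})), t e = l • e :=
      ⟨_, mul_mem (y1 (-l⁻¹)) (mul_mem (x1 (l - 1)) (y1 1)), by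
        simp only [LinearEquiv.mul_apply, r.Ye, map_add, map_smul, r.Xu, eich_self]
        match_scalars <;> field_simp <;> ring⟩
    have t1 := nR t ht.1 (e1 ▸ Submodule.smul_mem _ _ me)
    have t2 := hA.res le_sup_right hU _ (hA.ext le_sup_left hU (Kg_cen hK.1 hΦ r.hN r.hL mL he0) t ht.2
      (Transfer.mem_normalizer_sup (hA.norm _ ht.2) t1)) t1
    refine hA.ext h1 le_rfl cR g ((mul_mem_cancel_left (inv_mem t2)).1 ?_) hn
    obtain ⟨x, hx, g', hg', e2⟩ := r.h.split hK hΦ (mul_mem (inv_mem ht.1) hg) (by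
      rw [LinearEquiv.mul_apply, LinearEquiv.coe_inv, LinearEquiv.symm_apply_eq, e1, hl])
    rw [e2]
    refine mul_mem (hA.pel h1 x hx.1 (le_normalizer hx) ⟨2, Kg_pow (span_le_perp he) hx⟩)
      ((Form.E_le_of _ (N := (A _).comap r.h.ext) fun v y a h _ => ?_) hg')
    have m := r.h.ext_mem_E (Form.eich_mem_E _ v y a h)
    refine hA.pel h1 _ m (nR _ m (by rwa [r.h.ext_e])) ?_
    rw [r.h.ext_eich]
    exact eich_pow _

end Rk2

end Form

end Cfsg.Agent.Classical
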