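import Cfsg.Agent.Lib.Fusion.SimpleC
import Cfsg.Agent.Lib.Fusion.SSol3
import Cfsg.Agent.Lib.Classical.Bridge
import Cfsg.Agent.S0277
import Cfsg.Agent.S1217

/-! Sylow `2`-subgroups of `GU₂(q)`, `SL₃(q)`, `SU₃(q)` for odd `q`. -/

set_option autoImplicit false
set_option linter.unusedSectionVars false

namespace Cfsg.Agent.Fusion

open Cfsg Subgroup SSol Perm.GL2 Classical Matrix

section
variable {G G' : Type*} [Group G] [Group G'] [Finite G]

theorem qd_of (P : Sylow 2 G) {k m : ℕ} (hk : 2 ≤ k) (hc : Nat.card G = 2 ^ (k + 2) * m) (hm : ¬ 2 ∣ m)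
    {x y : G} (ox : orderOf x = 2 ^ (k + 1)) (oy : orderOf y = 2) (e : y * x * y⁻¹ = x ^ (2 ^ k - 1)) :
    IsQuasiDihedral P.1 := by
  obtain ⟨f, hf⟩ := exists_emb P (Solv.isPGroup_sup (pg_zpowers (k := 1) oy) (pg_zpowers ox)
    (zpowers_le.2 (Solv.mem_normalizer_zpowers (e ▸ pow_mem (mem_zpowers x) _))))
  refine ⟨k + 1, by omega, card_sylow P hc hm, f ⟨x, mem_sup_right (mem_zpowers _)⟩,
    f ⟨_, mem_sup_left (mem_zpowers _)⟩, ?_, ?_, ?_⟩
  · rw [orderOf_injective f hf, ← orderOf_coe]; exact ox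
  · rw [orderOf_injective f hf, ← orderOf_coe]; exact oy
  · rw [← map_inv, ← map_mul, ← map_mul, ← map_pow]; exact congrArg f (Subtype.ext e)

theorem wr_of (P : Sylow 2 G) {k m : ℕ} (hk : 2 ≤ k) (hc : Nat.card G = 2 ^ (2 * k + 1) * m)
    (hm : ¬ 2 ∣ m) {A : Type*} [CommGroup A] (d : A × A →* G) (hd : Function.Injective d) {ζ : A}
    (hζ : orderOf ζ = 2 ^ k) {z : G} (oz : orderOf z = 2) (zd : ∀ a b, z * d (a, b) * z⁻¹ = d (b, a)) :
    IsWreathed P.1 := by
  have ox : orderOf (d (ζ, 1)) = 2 ^ k := by rw [orderOf_injective d hd, Prod.orderOf_mk]; simpa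
  have oy : orderOf (d (1, ζ)) = 2 ^ k := by rw [orderOf_injective d hd, Prod.orderOf_mk]; simpa
  have c : Commute (d (ζ, 1)) (d (1, ζ)) := (Commute.all _ _).map d
  obtain ⟨f, hf⟩ := exists_emb P (Solv.isPGroup_sup (pg_zpowers (k := 1) oz) (Solv.isPGroup_sup
    (pg_zpowers ox) (pg_zpowers oy) (zpowers_le.2 (Solv.mem_normalizer_zpowers (by
      rw [c.eq]; simp)))) (zpowers_le.2 (mem_normalizer_of_finite fun y hy => sup_le
        (c := (zpowers (d (ζ, 1)) ⊔ zpowers (d (1, ζ))).comap (MulAut.conj z).toMonoidHom)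
        (zpowers_le.2 (mem_sup_right ⟨1, (zpow_one _).trans (zd _ _).symm⟩))
        (zpowers_le.2 (mem_sup_left ⟨1, (zpow_one _).trans (zd _ _).symm⟩)) hy)))
  refine ⟨k, hk, card_sylow P hc hm, f ⟨_, mem_sup_right (mem_sup_left (mem_zpowers _))⟩,
    f ⟨_, mem_sup_right (mem_sup_right (mem_zpowers _))⟩, f ⟨_, mem_sup_left (mem_zpowers _)⟩,
    ?_, ?_, ?_, ?_, ?_⟩
  · rw [orderOf_injective f hf, ← orderOf_coe]; exact ox
  · rw [← map_mul, ← map_mul]; exact congrArg f (Subtype.ext c.eq)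
  · rw [eq_bot_iff]
    rintro _ ⟨⟨i, rfl⟩, j, hj⟩
    simp only [← map_zpow] at hj ⊢
    have := hd ((map_zpow d _ j).trans ((congrArg Subtype.val (hf hj)).trans (map_zpow d _ i).symm))
    refine mem_bot.2 ((congrArg f (Subtype.ext ?_)).trans (map_one f))
    change d (ζ, 1) ^ i = 1
    rw [← map_zpow, ← map_one d]
    exact congrArg d (Prod.ext (by simpa using (congrArg Prod.fst this).symm) (by simp))
  · rw [orderOf_injective f hf, ← orderOf_coe]; exact oz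
  · rw [← map_inv, ← map_mul, ← map_mul]; exact congrArg f (Subtype.ext (zd _ _))

theorem qw_quot [Finite G'] (f : G →* G') (hf : Function.Injective f) (Z : Subgroup G') [Z.Normal]
    (hZ : ∀ z ∈ Z, z ^ 3 = 1) {m : ℕ} (hc : Nat.card G' ∣ Nat.card G * m) (hm : ¬ 2 ∣ m)
    (h : ∀ P : Sylow 2 G, IsQuasiDihedral P.1 ∨ IsWreathed P.1) (Q : Sylow 2 (G' ⧸ Z)) :
    IsQuasiDihedral Q.1 ∨ IsWreathed Q.1 := by
  obtain ⟨P⟩ : Nonempty (Sylow 2 G) := inferInstance
  obtain ⟨e⟩ := sylow_equiv_of_hom ((QuotientGroup.mk' Z).comp f) P (fun x hx e => by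
    obtain ⟨k, hk⟩ := P.2 ⟨x, hx⟩
    have h1 : x ^ 3 = 1 := hf (by rw [map_pow, map_one, hZ _ ((QuotientGroup.eq_one_iff _).1 e)])
    exact (pow_eq_one_iff_of_coprime ((by decide : Nat.Coprime 3 2).pow_right k)).1
      ⟨h1, congrArg Subtype.val hk⟩) (by
    have m0 : m ≠ 0 := fun e => hm (by simp [e])
    have := (Nat.factorization_le_iff_dvd Nat.card_pos.ne' (mul_ne_zero Nat.card_pos.ne' m0)).2
      ((card_quotient_dvd_card Z).trans hc) 2
    rwa [Nat.factorization_mul Nat.card_pos.ne' m0, Finsupp.add_apply,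
      Nat.factorization_eq_zero_of_not_dvd hm, add_zero] at this) Q
  exact (h P).imp (qw_of_equiv e).1 (qw_of_equiv e).2

end

variable {F : Type*} [Field F]

/-- `g ↦ diag(g, det g⁻¹)` -/
noncomputable def emb23 : GL (Fin 2) F →* SpecialLinearGroup (Fin 3) F := MonoidHom.mk'
  (fun g => ⟨!![g 0 0, g 0 1, 0; g 1 0, g 1 1, 0; 0, 0, (g : M2 F).det⁻¹], by
    have := det_ne g
    rw [det_fin_two] at this
    simp [det_fin_three, det_fin_two]; field_simp⟩) fun a b => by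
  refine Subtype.ext ?_
  change _ = (_ : Matrix (Fin 3) (Fin 3) F) * (_ : Matrix (Fin 3) (Fin 3) F)
  ext i j
  fin_cases i <;> fin_cases j <;> simp [mul_apply, Fin.sum_univ_succ, mul_comm]

theorem emb23_injective : Function.Injective (emb23 (F := F)) := fun a b e => by
  have := fun i j => congrArg (fun g : SpecialLinearGroup (Fin 3) F => g.1 i j) e
  exact Units.ext (m2_ext (this 0 0) (this 0 1) (this 1 0) (this 1 1))

variable [Fintype F] {q : ℕ}

theorem exists_frob (hF : Fintype.card F = q ^ 2) :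
    ∃ σ : F →+* F, (∀ x, x ^ q = σ x) ∧ ∀ x, σ (σ x) = x := ⟨frobq hF, fun _ => rfl, frobq_frobq hF⟩

theorem mem_GU2 {σ : F →+* F} (k : ∀ x, x ^ q = σ x) {g : GL (Fin 2) F} : g ∈ GU 2 F q ↔ ∀ i j,
    g 0 i * σ (g 0 j) + g 1 i * σ (g 1 j) = if i = j then 1 else 0 := by
  refine ⟨fun h i j => ?_, fun h u v => ?_⟩
  · have := h (Pi.single i 1) (Pi.single j 1)
    fin_cases i <;> fin_cases j <;> simpa [hermForm, k] using this
  · have a := h 0 0; have b := h 0 1; have c := h 1 0; have d := h 1 1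
    simp only [hermForm, k, Fin.sum_univ_two, mulVec, dotProduct, map_add, map_mul, Units.coeHom_apply]
    simp at a b c d
    linear_combination u 0 * σ (v 0) * a + u 0 * σ (v 1) * b + u 1 * σ (v 0) * c +
      u 1 * σ (v 1) * d

theorem emb23_mem (hF : Fintype.card F = q ^ 2) {g : GL (Fin 2) F} (hg : g ∈ GU 2 F q) :
    emb23 g ∈ SU 3 F q := fun u v => by
  obtain ⟨σ, k, -⟩ := exists_frob hF
  have h := (mem_GU2 k).1 hg
  have a := h 0 0; have b := h 0 1; have c := h 1 0; have d := h 1 1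
  simp at a b c d
  have e : (g : M2 F).det⁻¹ * σ (g : M2 F).det⁻¹ = 1 := by
    rw [map_inv₀, ← mul_inv, inv_eq_one, det_fin_two]
    simp only [map_sub, map_mul]
    linear_combination (g 0 1 * σ (g 0 1) + g 1 1 * σ (g 1 1)) * a + d -
      (g 0 1 * σ (g 0 0) + g 1 1 * σ (g 1 0)) * b
  have m : (slToMat 3 F (emb23 g)) = !![g 0 0, g 0 1, 0; g 1 0, g 1 1, 0; 0, 0, (g : M2 F).det⁻¹] := rfl
  generalize (g : M2 F).det⁻¹ = δ at e m
  rw [m]
  simp [hermForm, k, Fin.sum_univ_three, mulVec, dotProduct]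
  linear_combination u 0 * σ (v 0) * a + u 0 * σ (v 1) * b + u 1 * σ (v 0) * c +
      u 1 * σ (v 1) * d + u 2 * σ (v 2) * e

theorem card_GU2 (hF : Fintype.card F = q ^ 2) : Nat.card (GU 2 F q) = q * (q + 1) ^ 2 * (q - 1) := by
  rw [S0277.result hF 2]
  simp [Finset.prod_range_succ, sq_sub_one_eq]; ring

theorem exists_unit_order (hF : Fintype.card F = q ^ 2) {n : ℕ} (h : n ∣ (q + 1) * (q - 1)) :
    ∃ a : Fˣ, orderOf a = n := exists_orderOf_eq_of_dvd_card (by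
  rwa [Nat.card_units, Nat.card_eq_fintype_card, hF, sq_sub_one_eq])

theorem gu2_wr (hF : Fintype.card F = q ^ 2) (P : Sylow 2 (GU 2 F q)) (h : q % 4 = 3) : IsWreathed P.1 := by
  obtain ⟨σ, hσ, -⟩ := exists_frob hF
  obtain ⟨k, u, hu, e⟩ := Nat.exists_eq_pow_mul_and_not_dvd q.succ_ne_zero 2 (by decide)
  have hk : 2 ≤ k := by
    rcases k with _ | _ | k <;> omega
  obtain ⟨v, hv, hv'⟩ : ∃ v, q - 1 = 2 * v ∧ ¬ 2 ∣ v := ⟨(q - 1) / 2, by omega, by omega⟩
  obtain ⟨ζ, hζ⟩ := exists_unit_order hF (n := 2 ^ k) (Dvd.dvd.mul_right ⟨u, e⟩ _)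
  let A := (powMonoidHom (q + 1) : Fˣ →* Fˣ).ker
  have hA : ∀ a : A, (a.1 : F) * σ a.1 = 1 := fun a => by
    simpa [pow_succ', hσ] using congrArg Units.val (show a.1 ^ (q + 1) = 1 from a.2)
  let d : A × A →* GU 2 F q := MonoidHom.mk' (fun a => ⟨up a.1 a.2 0, (mem_GU2 hσ).2 fun i j => by
    fin_cases i <;> fin_cases j <;> simp [up, hA]⟩) fun a b =>
    Subtype.ext (Units.ext (m2_ext_iff.2 (by simp [up, mul_apply2])))
  let z : GU 2 F q := ⟨Matrix.GeneralLinearGroup.mkOfDetNeZero !![0, 1; 1, 0]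
    (by simp [Matrix.det_fin_two]), (mem_GU2 hσ).2 fun i j => by
      fin_cases i <;> fin_cases j <;> simp⟩
  refine wr_of P hk (m := q * v * u ^ 2) (by rw [card_GU2 hF, show q + 1 = _ from e, hv]; ring) (by
    have : ¬ 2 ∣ q := by omega
    simp [Nat.prime_two.dvd_mul, Nat.prime_two.prime.dvd_pow_iff_dvd, this, hu, hv']) d (fun a b e => ?_)
    (ζ := ⟨ζ, orderOf_dvd_iff_pow_eq_one.1 (hζ ▸ ⟨u, e⟩)⟩) (by rwa [← orderOf_coe]) (z := z)
    (orderOf_eq_prime ?_ fun e => ?_) fun a b => ?_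
  · have := m2_ext_iff.1 (congrArg (fun g : GU 2 F q => g.1.1) e)
    simp only [d, up] at this
    exact Prod.ext (Subtype.ext (Units.ext (by simpa using this.1)))
      (Subtype.ext (Units.ext (by simpa using this.2.2.2)))
  · rw [sq]; exact Subtype.ext (Units.ext (m2_ext_iff.2 (by simp [z, mul_apply2])))
  · simpa [z] using (m2_ext_iff.1 (congrArg (fun g : GU 2 F q => g.1.1) e)).1
  · rw [mul_inv_eq_iff_eq_mul]
    exact Subtype.ext (Units.ext (m2_ext_iff.2 (by simp [z, d, up, mul_apply2])))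

theorem gu2_qd (hF : Fintype.card F = q ^ 2) (P : Sylow 2 (GU 2 F q)) (h : q % 4 = 1) :
    IsQuasiDihedral P.1 := by
  have q2 := two_le_of_card_sq hF
  obtain ⟨σ, hσ, σσ⟩ := exists_frob hF
  obtain ⟨k, u, hu, e⟩ := Nat.exists_eq_pow_mul_and_not_dvd (n := q - 1) (by omega) 2 (by decide)
  have hk : 2 ≤ k := by
    rcases k with _ | _ | k <;> omega
  obtain ⟨v, hv, hv'⟩ : ∃ v, q + 1 = 2 * v ∧ ¬ 2 ∣ v := ⟨(q + 1) / 2, by omega, by omega⟩
  obtain ⟨a, ha⟩ := exists_unit_order hF (n := 2 ^ (k + 1)) ⟨u * v, by rw [e, hv]; ring⟩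
  obtain ⟨b, hb⟩ := exists_unit_order hF (n := (q + 1) * 2) (Nat.mul_dvd_mul_left _ (by omega))
  have h2 : (2 : F) ≠ 0 := two_ne_zero_of_odd (by rw [hF]; exact (Nat.odd_iff.2 (by omega)).pow)
  have b1 : σ b = -(b : F)⁻¹ := by
    have h1 : ((b : F) ^ (q + 1)) ^ 2 = 1 := by
      rw [← pow_mul, ← hb, ← Units.val_pow_eq_pow_val, pow_orderOf_eq_one, Units.val_one]
    have := (sq_eq_one_iff.1 h1).resolve_left fun e => by
      have := orderOf_dvd_of_pow_eq_one (x := b) (n := q + 1) (Units.ext (by simpa using e))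
      exact absurd (Nat.le_of_dvd q.succ_pos (hb ▸ this)) (by omega)
    rw [← hσ]
    field_simp
    rw [← this]; ring
  let c : GL (Fin 2) F := GeneralLinearGroup.mkOfDetNeZero !![1, 1; b, -b] (by
    simp only [det_fin_two_of]; intro e; exact mul_ne_zero h2 b.ne_zero (by linear_combination -e))
  let d : Fˣ × Fˣ →* GL (Fin 2) F := (MulAut.conj c).toMonoidHom.comp
    (MonoidHom.mk' (fun a => up a.1 a.2 0) fun a b => Units.ext (m2_ext_iff.2 (by simp [up, mul_apply2])))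
  have hd : Function.Injective d := (MulAut.conj c).injective.comp fun a b e => by
    have := m2_ext_iff.1 (congrArg Units.val e)
    simp only [up] at this
    exact Prod.ext (Units.ext (by simpa using this.1)) (Units.ext (by simpa using this.2.2.2))
  have de : ∀ s t : Fˣ, (d (s, t) : M2 F) = !![((s : F) + t) / 2, ((s : F) - t) / (2 * b);
      b * ((s : F) - t) / 2, ((s : F) + t) / 2] := fun s t => by
    change (c : M2 F) * (up s t 0 : M2 F) * (c⁻¹ : GL (Fin 2) F) = _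
    rw [Units.mul_inv_eq_iff_eq_mul]
    exact m2_ext_iff.2 (by simp [c, up, mul_apply2]; refine ⟨?_, ?_, ?_, ?_⟩ <;> field_simp <;> ring)
  have p1 : ∀ s : Fˣ, s ^ 2 ^ (k + 1) = 1 → s ^ (2 ^ k - 1) = (s ^ q)⁻¹ := fun s hs => by
    obtain ⟨w, rfl⟩ : ∃ w, u = 2 * w + 1 := ⟨u / 2, by omega⟩
    rw [eq_inv_iff_mul_eq_one, ← pow_add, show 2 ^ k - 1 + q = 2 ^ (k + 1) * (w + 1) by
      have := Nat.one_le_two_pow (n := k)
      have : 2 ^ (k + 1) * (w + 1) = 2 ^ k * (2 * w + 1) + 2 ^ k := by ring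
      omega, pow_mul, hs, one_pow]
  have a1 : a ^ 2 ^ (k + 1) = 1 := ha ▸ pow_orderOf_eq_one a
  have a2 : (a ^ q)⁻¹ ^ 2 ^ (k + 1) = 1 := by rw [inv_pow, ← pow_mul, mul_comm, pow_mul, a1]; simp
  let x : GU 2 F q := ⟨d (a, (a ^ q)⁻¹), (mem_GU2 hσ).2 fun i j => by
    have := a.ne_zero
    have : σ a ≠ 0 := by simpa
    have s2 : σ 2 = 2 := map_ofNat _ 2
    rw [de]
    fin_cases i <;> fin_cases j <;> simp [hσ, b1, s2, σσ] <;> field_simp <;> ring⟩
  let y : GU 2 F q := ⟨up 1 (-1) 0, (mem_GU2 hσ).2 fun i j => by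
    fin_cases i <;> fin_cases j <;> simp [up]⟩
  refine qd_of P hk (m := q * u * v ^ 2) (by rw [card_GU2 hF, e, hv]; ring) (by
    have : ¬ 2 ∣ q := by omega
    simp [Nat.prime_two.dvd_mul, Nat.prime_two.prime.dvd_pow_iff_dvd, this, hu, hv']) (x := x) (y := y) ?_
    (orderOf_eq_prime ?_ fun e => ?_) (Subtype.ext ?_)
  · rw [← orderOf_coe]
    change orderOf (d _) = _
    rw [orderOf_injective d hd, Prod.orderOf_mk, ha, Nat.lcm_eq_left (orderOf_dvd_of_pow_eq_one a2)]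
  · rw [sq]; exact Subtype.ext (Units.ext (m2_ext_iff.2 (by simp [y, up, mul_apply2])))
  · have := (m2_ext_iff.1 (congrArg (fun g : GU 2 F q => g.1.1) e)).2.2.2
    simp [y, up] at this
    exact h2 (by linear_combination -this)
  · change up 1 (-1) 0 * d _ * (up 1 (-1) 0)⁻¹ = d _ ^ _
    rw [← map_pow, Prod.pow_mk, p1 a a1, p1 _ a2, inv_pow, inv_inv, mul_inv_eq_iff_eq_mul,
      show (a ^ q) ^ q = a from Units.ext ((by simp [hσ, σσ]))]
    refine Units.ext ?_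
    rw [Units.val_mul, Units.val_mul, de, de]
    exact m2_ext_iff.2 (by simp [up, mul_apply2]; refine ⟨?_, ?_, ?_, ?_⟩ <;> ring)

end Cfsg.Agent.Fusion
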