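import Cfsg.Agent.Lib.Fusion.SimpleC

/-! A flexible criterion for the simplicity of the fusion system of a subgroup `G` of `Γ`. -/

set_option autoImplicit false
set_option linter.unusedSectionVars false

namespace Cfsg.Agent.Fusion

open Cfsg Cfsg.FusionSystem Subgroup

variable {Γ G' : Type*} [Group Γ] [Group G'] {p : ℕ} {G S R T : Subgroup Γ}

/-- the `p`-elements of `C_G(Q)` lie in `Q` -/
def Cen (p : ℕ) (G Q : Subgroup Γ) : Prop :=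
  ∀ c ∈ G, c ∈ centralizer (Q : Set Γ) → (∃ k, c ^ p ^ k = 1) → c ∈ Q

/-- closure properties of the automizers of a normal subsystem on `S` -/
structure AutFam (p : ℕ) (G S : Subgroup Γ) (A : Subgroup Γ → Subgroup Γ) : Prop where
  norm : ∀ R, A R ≤ normalizer (R : Set Γ)
  pel : ∀ {R}, R ≤ S → ∀ g ∈ G, g ∈ normalizer (R : Set Γ) → (∃ k, g ^ p ^ k = 1) → g ∈ A R
  cen : ∀ {R}, R ≤ S → ∀ g ∈ G, g ∈ centralizer (R : Set Γ) → g ∈ A R
  res : ∀ {Q P}, Q ≤ P → P ≤ S → ∀ g ∈ A P, g ∈ normalizer (Q : Set Γ) → g ∈ A Q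
  ext : ∀ {Q P}, Q ≤ P → P ≤ S → Cen p G Q → ∀ g ∈ A Q, g ∈ normalizer (P : Set Γ) → g ∈ A P

/-- strongly closed in `S` with respect to `G` -/
def SClR (G S T : Subgroup Γ) : Prop := ∀ x ∈ T, ∀ g ∈ G, g * x * g⁻¹ ∈ S → g * x * g⁻¹ ∈ T

variable [Fact p.Prime] [Finite Γ]

theorem SClR.exists_central (h : SClR G S T) (hT : T ≤ S) (hS : SylowIn p S G) (h1 : T ≠ ⊥) :
    ∃ x ∈ T, x ≠ 1 ∧ x ^ p = 1 ∧ ∀ s ∈ S, s * x = x * s := by
  have c : ∀ s ∈ S, ∀ x ∈ T, s * x * s⁻¹ ∈ T := fun s hs x hx =>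
    h x hx s (hS.le hs) (mul_mem (mul_mem hs (hT hx)) (inv_mem hs))
  obtain ⟨x, hx, h2, h3⟩ := Transfer.exists_pow_prime_eq_one ((hS.pgroup.to_le hT).to_le inf_le_left)
    (Transfer.inf_centralizer_ne_bot hS.pgroup hT (fun s hs => mem_normalizer_iff.2 fun x =>
      ⟨c s hs x, fun hx => by simpa [mul_assoc] using c _ (inv_mem hs) _ hx⟩) h1)
  exact ⟨x, hx.1, h2, h3, fun s hs => hx.2 s hs⟩

theorem sub_centric (hS : SylowIn p S G) (hR : R ≤ S) (h : Cen p G R) :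
    (fusionSystemOfSubgroup G S hS.le).IsCentric R := by
  refine isCentric_iff.2 ⟨hR, fun f hf c hc => ?_⟩
  obtain ⟨-, -, g, hg, e⟩ := mor_subgroup_iff.1 hf
  rw [img_congr e] at hc ⊢
  obtain ⟨k, hk⟩ := hS.pgroup ⟨c, hc.1⟩
  refine mem_img_conj.2 (h _ (mul_mem (mul_mem (inv_mem hg) (hS.le hc.1)) hg) (fun x hx => ?_) ⟨k, ?_⟩)
  · have := hc.2 _ (subset_img (f := fun x => g * x * g⁻¹) hx)
    calc x * (g⁻¹ * c * g) = g⁻¹ * (g * x * g⁻¹ * c) * g := by group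
      _ = _ := by rw [this]; group
  · have : g⁻¹ * c * g = g⁻¹ * c * g⁻¹⁻¹ := by rw [inv_inv]
    rw [this, conj_pow, show c ^ p ^ k = 1 from congrArg Subtype.val hk]; simp

theorem simple_rel (hS : SylowIn p S G) (h1 : S ≠ ⊥)
    (ha : ∀ T ≤ S, SClR G S T → T ≠ ⊥ → S ≤ T)
    (hb : ∀ A, AutFam p G S A → ∀ g ∈ G, g ∈ normalizer (S : Set Γ) → g ∈ A S) (e : G ≃* G')
    (P : Sylow p G') : (groupFusionSystem P.1).IsSimple p := by
  have hF : (fusionSystemOfSubgroup G S hS.le).IsSaturated p := sub_saturated hS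
  obtain ⟨Q, hQ⟩ := hS.exists_sylow
  refine simple_of_equiv e (hQ ▸ sylowIn_top Q) ((sub_iso hS.le).simple hS.pgroup
    (isSimple_of hF h1 (fun T hT => ?_) fun E hE α hα => ?_)) P
  · rw [stronglyClosed_sub_iff] at hT
    exact or_iff_not_imp_left.2 fun h => hT.1.antisymm (ha T hT.1 hT.2 h)
  let A : Subgroup Γ → Subgroup Γ := fun R => G ⊓ ((E.autGroup R).comap (cAut R)).map (Subgroup.subtype _)
  have hA : ∀ {R : Subgroup Γ} {g : Γ}, R ≤ S → (g ∈ A R ↔ g ∈ G ∧ g ∈ normalizer (R : Set Γ) ∧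
      Mor E R fun x => g * x * g⁻¹) := fun {R g} hR =>
    ⟨fun ⟨h1, g, h2, e⟩ => ⟨h1, e ▸ g.2, e ▸ ((mem_autGroup hR).1 h2).congr fun x hx => afun_cAut _ hx⟩,
      fun ⟨h1, h2, h3⟩ => ⟨h1, ⟨g, h2⟩, (mem_autGroup hR).2 (h3.congr fun x hx =>
        (afun_cAut ⟨g, h2⟩ hx).symm), rfl⟩⟩
  obtain ⟨-, -, g, hg, e⟩ := mor_subgroup_iff.1 ((mem_autGroup le_rfl).1 hα)
  refine (mem_autGroup le_rfl).2 (((hA le_rfl).1 (hb A ⟨fun R g ⟨_, g', _, e⟩ => e ▸ g'.2,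
    fun {R} hR g hg hn ⟨k, hk⟩ => ⟨hg, ⟨g, hn⟩, ?_, rfl⟩, fun {R} hR g hg hc => (hA hR).2 ⟨hg,
      centralizer_le_normalizer _ hc, (mor_id E hR).congr fun x hx => by
        rw [← hc x hx, mul_inv_cancel_right]⟩, fun hQ hP g hg hn => (hA (hQ.trans hP)).2
      ⟨hg.1, hn, ((hA hP).1 hg).2.2.mono hQ⟩, fun hQ hP hc g hg hn => (hA hP).2 ⟨hg.1, hn,
      mor_of_centric hS.pgroup hF hE.1.1 hE.1.2.2.1 (mor_sub_conj hS.le hP hg.1 fun x hx =>
        hP (conj_mem_of_mem_normalizer hn hx)) (sub_centric hS (hQ.trans hP) hc) hQ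
        ((hA (hQ.trans hP)).1 hg).2.2⟩⟩ g hg (mem_normalizer_of_afun e))).2.2.congr
    fun x hx => (e x hx).symm)
  refine IsInvariantIn.pelt_mem hS.pgroup hF hE.1.2.2 hR ((mem_autGroup hR).2
    (mor_subgroup_iff.2 ⟨hR, fun x hx => hR (afun_mem _ hx), g, hg, fun x hx => afun_cAut _ hx⟩))
    (k := k) ?_
  rw [← map_pow, show (⟨g, hn⟩ : normalizer (R : Set Γ)) ^ p ^ k = 1 from Subtype.ext hk, map_one]

theorem simple_quot' (H : Subgroup Γ) [H.Normal] (hH : ¬ p ∣ Nat.card H)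
    (h : ∀ P : Sylow p Γ, (groupFusionSystem P.1).IsSimple p) (T : Sylow p (Γ ⧸ H)) :
    (groupFusionSystem T.1).IsSimple p := by
  obtain ⟨P⟩ : Nonempty (Sylow p Γ) := inferInstance
  refine simple_quot (sylowIn_top P) (h P) H ?_ T
  rw [← card_eq_one]
  exact (P.2.to_le inf_le_left).card_eq_or_dvd.resolve_right fun h' =>
    hH (h'.trans (card_dvd_of_le inf_le_right))

end Cfsg.Agent.Fusion
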