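import Cfsg.Agent.Lib.Fusion.SimpleR
import Cfsg.Agent.Lib.Classical.Lin1
import Cfsg.Agent.S2579

/-! The fusion system of `SL_n(q)` in the defining characteristic. -/

set_option autoImplicit false
set_option linter.unusedSectionVars false

namespace Cfsg.Agent.Fusion.SLn

open Subgroup hiding coe_mul coe_one
open Matrix hiding transvection
open Matrix.SpecialLinearGroup

/-- a submonoid of a finite group is a subgroup -/
def mkSub {G : Type*} [Group G] [Finite G] (M : Submonoid G) : Subgroup G where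
  toSubmonoid := M
  inv_mem' {g} hg := by
    rw [← mul_one g⁻¹, ← pow_orderOf_eq_one g, ← Nat.succ_pred (orderOf_pos g).ne', pow_succ',
      inv_mul_cancel_left]
    exact M.pow_mem hg _

variable {F : Type*} [Field F] [Finite F] {n : ℕ}

local notation "G" => SpecialLinearGroup (Fin n) F

/-- the standard flag -/
def Vk (F : Type*) [Field F] (n k : ℕ) : Submodule F (Fin n → F) where
  carrier := {v | ∀ i : Fin n, k ≤ i → v i = 0}
  zero_mem' _ _ := rfl
  add_mem' ha hb i hi := by simp [ha i hi, hb i hi]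
  smul_mem' c v hv i hi := by simp [hv i hi]

theorem Vk_mono {k l : ℕ} (h : k ≤ l) : Vk F n k ≤ Vk F n l := fun _ hv i hi => hv i (h.trans hi)

theorem single_mem {k : ℕ} {j : Fin n} (h : j.1 < k) : Pi.single j 1 ∈ Vk F n k := fun i hi =>
  Pi.single_eq_of_ne (by rintro rfl; omega) _

/-- the stabiliser of a member of the flag -/
def St (F : Type*) [Field F] [Finite F] (n k : ℕ) : Subgroup (SpecialLinearGroup (Fin n) F) := mkSub
  { carrier := {g | ∀ v ∈ Vk F n k, g • v ∈ Vk F n k}
    one_mem' v hv := by rwa [one_smul]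
    mul_mem' ha hb v hv := by rw [mul_smul]; exact ha _ (hb v hv) }

/-- the group acting trivially on `V (f k) / V k` and on `V (f 0)` -/
def Un (F : Type*) [Field F] [Finite F] (n : ℕ) (P : ℕ → ℕ → Prop) :
    Subgroup (SpecialLinearGroup (Fin n) F) := mkSub
  { carrier := {g | ∀ k l, P k l → (∀ v ∈ Vk F n k, g • v ∈ Vk F n k) ∧ ∀ v ∈ Vk F n l, g • v - v ∈ Vk F n k}
    one_mem' k l _ := ⟨fun v hv => by rwa [one_smul], fun v hv => by simp⟩
    mul_mem' {a b} ha hb k l h := ⟨fun v hv => by rw [mul_smul]; exact (ha k l h).1 _ ((hb k l h).1 v hv),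
      fun v hv => by
        have := add_mem ((ha k l h).1 _ ((hb k l h).2 v hv)) ((ha k l h).2 v hv)
        rwa [smul_sub, sub_add_sub_cancel, ← mul_smul] at this⟩ }

variable {g : SpecialLinearGroup (Fin n) F} {k : ℕ} {P : ℕ → ℕ → Prop}

theorem smul_apply' (v : Fin n → F) (i : Fin n) : (g • v) i = ∑ j, g i j * v j := rfl

theorem smul_single' (i j : Fin n) : (g • (Pi.single j 1 : Fin n → F)) i = g i j := by
  simp [smul_apply', Pi.single_apply]

theorem mem_St : g ∈ St F n k ↔ ∀ i j : Fin n, j.1 < k → k ≤ i → g i j = 0 :=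
  ⟨fun h i j hj hi => (smul_single' i j).symm.trans (h _ (single_mem hj) i hi), fun h v hv i hi =>
    (smul_apply' v i).trans <| Finset.sum_eq_zero fun j _ => by
      rcases lt_or_ge j.1 k with e | e
      · rw [h i j e hi, zero_mul]
      · rw [hv j e, mul_zero]⟩

theorem mem_Un (hP : ∀ k l, P k l → k ≤ l) : g ∈ Un F n P ↔
    ∀ k l, P k l → ∀ i j : Fin n, j.1 < l → k ≤ i → g i j = (1 : Matrix _ _ F) i j := by
  refine ⟨fun h k l hk i j hj hi => ?_, fun h k l hk => ⟨mem_St.2 fun i j hj hi => ?_, fun v hv i hi => ?_⟩⟩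
  · have := (h k l hk).2 _ (single_mem hj) i hi
    rwa [Pi.sub_apply, smul_single', sub_eq_zero, Pi.single_apply, ← one_apply] at this
  · rw [h k l hk i j (hj.trans_le (hP k l hk)) hi, one_apply_ne (by rintro rfl; omega)]
  · rw [Pi.sub_apply, smul_apply', sub_eq_zero, ← one_mulVec v]
    refine Finset.sum_congr rfl fun j _ => ?_
    rw [one_mulVec]
    rcases lt_or_ge j.1 l with e | e
    · rw [h k l hk i j e hi]
    · simp [hv j e]

theorem mem_norm_Un (h : ∀ k l, P k l → g ∈ St F n k ∧ g ∈ St F n l) :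
    g ∈ normalizer (Un F n P : Set G) := mem_normalizer_of_finite fun x hx k l hk =>
  ⟨fun v hv => by
    simpa [mul_smul] using (h k l hk).1 _ ((hx k l hk).1 _ (inv_mem (h k l hk).1 v hv)), fun v hv => by
    simpa [mul_smul, smul_sub] using (h k l hk).1 _ ((hx k l hk).2 _ (inv_mem (h k l hk).2 v hv))⟩

/-- the unitriangular group -/
abbrev U (F : Type*) [Field F] [Finite F] (n : ℕ) := Un F n fun k l => l = k + 1

/-- the unipotent radical of the stabiliser of `V k` -/
abbrev K (F : Type*) [Field F] [Finite F] (n k : ℕ) := Un F n fun a b => (a = 0 ∧ b = k) ∨ (a = k ∧ b = k + n)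

theorem mem_U : g ∈ U F n ↔ ∀ i j : Fin n, j ≤ i → g i j = (1 : Matrix _ _ F) i j := by
  rw [mem_Un (by omega)]
  exact ⟨fun h i j e => h i _ rfl i j (by omega) le_rfl, fun h k l e i j _ _ => h i j (by omega)⟩

theorem mem_K : g ∈ K F n k ↔ ∀ i j : Fin n, j.1 < k ∨ k ≤ i → g i j = (1 : Matrix _ _ F) i j := by
  rw [mem_Un (by omega)]
  exact ⟨fun h i j e => e.elim (fun e => h 0 k (by simp) i j e (by omega))
    fun e => h k (k + n) (by simp) i j (by omega) e, fun h k l e i j _ _ => h i j (by omega)⟩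

theorem K_le : K F n k ≤ U F n := fun _ h => mem_U.2 fun i j e => mem_K.1 h i j (by omega)

theorem tr_apply {a b : Fin n} (h : a ≠ b) (c : F) (i j : Fin n) : transvection h c i j =
    (1 : Matrix _ _ F) i j + if a = i ∧ b = j then c else 0 := rfl

theorem tr_mem_U {a b : Fin n} (h : a < b) (c : F) : transvection h.ne c ∈ U F n :=
  mem_U.2 fun i j e => by rw [tr_apply, if_neg (by omega), add_zero]

theorem tr_mem_K {a b : Fin n} (h : a ≠ b) (h1 : a.1 < k) (h2 : k ≤ b) (c : F) : transvection h c ∈ K F n k :=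
  mem_K.2 fun i j e => by rw [tr_apply, if_neg (by omega), add_zero]

theorem tr_mem_St {a b : Fin n} (h : a ≠ b) (h1 : a.1 < k ∨ k ≤ b) (c : F) : transvection h c ∈ St F n k :=
  mem_St.2 fun i j e e' => by rw [tr_apply, if_neg (by omega), add_zero, one_apply_ne (by omega)]

theorem mem_norm_K (h : g ∈ St F n k) : g ∈ normalizer (K F n k : Set G) := mem_norm_Un fun a b e => by
  have h0 : g ∈ St F n 0 := mem_St.2 (by omega)
  have h1 : g ∈ St F n (k + n) := mem_St.2 (by omega)
  rcases e with ⟨rfl, rfl⟩ | ⟨rfl, rfl⟩ <;> simp [*]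

theorem mem_norm_U : g ∈ normalizer (U F n : Set G) ↔ ∀ i j : Fin n, j < i → g i j = 0 := by
  refine ⟨fun h i j e => mem_St.1 (?_ : g ∈ St F n (j + 1)) i j (by omega) e, fun h =>
    mem_norm_Un fun k l _ => ⟨mem_St.2 fun i j _ _ => h i j (by omega), mem_St.2 fun i j _ _ => h i j (by omega)⟩⟩
  generalize j.1 + 1 = k
  induction k with
  | zero => exact mem_St.2 (by omega)
  | succ k ih =>
    intro v hv a ha
    have hk : (⟨k, by omega⟩ : Fin n) < a := ha
    have := ih _ ((Transfer.conj_mem_of_mem_normalizer (inv_mem h) (tr_mem_U hk 1) k _ rfl).2 v hv)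
      ⟨k, by omega⟩ le_rfl
    rw [smul_sub, inv_inv, mul_smul, mul_smul, smul_inv_smul, Pi.sub_apply, smul_apply'] at this
    simpa [tr_apply, add_mul, Finset.sum_add_distrib, one_apply] using this

theorem U_le {T : Subgroup G} (h : ∀ a b (e : a < b) c, transvection e.ne c ∈ T) : U F n ≤ T := by
  classical
  intro g hg
  induction hm : (Finset.univ.filter fun x : Fin n × Fin n => x.1 < x.2 ∧ g x.1 x.2 ≠ 0).card
    using Nat.strong_induction_on generalizing g with
  | _ m ih =>
  set s := Finset.univ.filter fun x : Fin n × Fin n => x.1 < x.2 ∧ g x.1 x.2 ≠ 0 with hs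
  rcases s.eq_empty_or_nonempty with e | e
  · rw [show g = 1 from Subtype.ext (Matrix.ext fun i j => (le_or_gt j i).elim (mem_U.1 hg i j) fun l => by
      have : (i, j) ∉ s := by simp [e]
      rw [coe_one, one_apply_ne l.ne]
      simpa [hs, l] using this)]
    exact one_mem _
  obtain ⟨⟨a, b⟩, h1, h2⟩ := s.exists_max_image Prod.fst e
  obtain ⟨h3, h4⟩ := (Finset.mem_filter.1 h1).2
  have h5 : ∀ i j, (transvection h3.ne (-g a b) * g) i j = if a = i ∧ b = j then 0 else g i j := fun i j => by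
    have : g b j = (1 : Matrix _ _ F) b j := (le_or_gt j b).elim (mem_U.1 hg b j) fun l => by
      rw [one_apply_ne l.ne]
      by_contra e
      exact (h2 (b, j) (Finset.mem_filter.2 ⟨Finset.mem_univ _, l, e⟩)).not_gt h3
    rw [coe_mul, transvection_coe, add_mul, one_mul, Matrix.add_apply]
    by_cases e : a = i
    · subst e
      rw [single_mul_apply_same, this, one_apply]
      split_ifs <;> simp_all
    · rw [single_mul_apply_of_ne _ _ _ _ _ (Ne.symm e)]; simp [e]
  refine (mul_mem_cancel_left (h a b h3 (-g a b))).1 (ih _ ?_ (mul_mem (tr_mem_U h3 _) hg) rfl)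
  rw [← hm]
  refine Finset.card_lt_card ⟨fun x hx => ?_, fun e => by simpa [h5] using e h1⟩
  simp only [hs, Finset.mem_filter, Finset.mem_univ, true_and, h5] at hx ⊢
  exact ⟨hx.1, fun e => hx.2 (by simp [e])⟩

variable {p : ℕ} [Fact p.Prime] [CharP F p]

theorem eq_one_of_pow {c : F} (h : c ^ p ^ k = 1) : c = 1 := by
  rw [← sub_eq_zero, ← one_pow (p ^ k), ← sub_pow_char_pow] at h
  exact sub_eq_zero.1 (pow_eq_zero_iff (pow_ne_zero _ (Fact.out : p.Prime).ne_zero) |>.1 h)

theorem U_pow (hg : g ∈ U F n) : g ^ p ^ n = 1 := by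
  rcases n with _ | n
  · exact Subsingleton.elim _ _
  have h := aeval_self_charpoly g.1
  rw [charpoly_of_isUpperTriangular _ fun i j e => (mem_U.1 hg i j e.le).trans (one_apply_ne e.ne'),
    Finset.prod_congr rfl fun i _ => by rw [mem_U.1 hg i i le_rfl, one_apply_eq]] at h
  have h1 := sub_pow_char_pow_of_commute p (n + 1) (Commute.one_right g.1)
  rw [pow_eq_zero_of_le (Nat.lt_pow_self (Fact.out : p.Prime).one_lt).le (by simpa using h), one_pow,
    eq_comm, sub_eq_zero] at h1
  exact Subtype.ext h1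

theorem diag_one (h : ∃ k, g ^ p ^ k = 1) {j : Fin n} (hj : ∀ i, i ≠ j → g i j = 0) : g j j = 1 := by
  obtain ⟨k, hk⟩ := h
  have h1 : ∀ m : ℕ, (g ^ m) j j = g j j ^ m := fun m => by
    induction m with
    | zero => simp
    | succ m ih =>
      rw [pow_succ, coe_mul, mul_apply, Finset.sum_eq_single j (fun i _ e => by rw [hj i e, mul_zero])
        (by simp), ih, pow_succ]
  have h2 := h1 (p ^ k)
  rw [hk, coe_one, one_apply_eq] at h2
  exact eq_one_of_pow h2.symm

theorem K_cen (h0 : 0 < k) (h1 : k < n) : Cen p ⊤ (K F n k) := fun c _ hc hp => by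
  have e : ∀ a b : Fin n, a.1 < k → k ≤ b → ∀ i j, (if a = i then c b j else 0) = if b = j then c i a else 0 := by
    intro a b ha hb i j
    have := congrArg (fun x : G => x i j) (hc _ (tr_mem_K (a := a) (b := b) (by omega) ha hb 1))
    simp only [coe_mul, transvection_coe, add_mul, mul_add, one_mul, mul_one, Matrix.add_apply,
      add_right_inj] at this
    simpa [mul_apply, single, ite_and] using this
  have e1 : ∀ a : Fin n, a.1 < k → ∀ i, i ≠ a → c i a = 0 := fun a ha i hi => by
    simpa [hi.symm] using (e a ⟨k, h1⟩ ha le_rfl i ⟨k, h1⟩).symm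
  refine mem_K.2 fun i j h => h.elim (fun h => ?_) fun h => ?_
  · by_cases e2 : i = j
    · rw [e2, diag_one hp (e1 j h), one_apply_eq]
    · rw [e1 j h i e2, one_apply_ne e2]
  · simpa [diag_one hp (e1 ⟨0, by omega⟩ h0), one_apply] using e ⟨0, by omega⟩ i h0 h ⟨0, by omega⟩ j

theorem mem_U_of (h : ∀ i j : Fin n, j < i → g i j = 0) (h' : ∀ i, g i i = 1) : g ∈ U F n :=
  mem_U.2 fun i j e => e.lt_or_eq.elim (fun e => (h i j e).trans (one_apply_ne e.ne').symm)
    fun e => by rw [e, h', one_apply_eq]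

theorem tri_diag {a b : G} (ha : ∀ i j : Fin n, j < i → a i j = 0) (hb : ∀ i j : Fin n, j < i → b i j = 0)
    (i : Fin n) : (a * b) i i = a i i * b i i := by
  rw [coe_mul, mul_apply]
  exact Finset.sum_eq_single i (fun j _ e => e.lt_or_gt.elim (fun e => by rw [ha i j e, zero_mul])
    fun e => by rw [hb j i e, mul_zero]) (by simp)

theorem sylow_U : SylowIn p (U F n) ⊤ := by
  by_contra h
  obtain ⟨g, -, h1, h2, k, hk⟩ := exists_pgroup_normalizing_of_not_sylowIn le_top
    (fun g => ⟨n, Subtype.ext (U_pow g.2)⟩) h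
  refine h1 (mem_U_of (mem_norm_U.1 h2) fun i => ?_)
  have h1 : ∀ m : ℕ, (g ^ m) i i = g i i ^ m := fun m => by
    induction m with
    | zero => simp
    | succ m ih => rw [pow_succ, tri_diag (mem_norm_U.1 (pow_mem h2 m)) (mem_norm_U.1 h2), ih, pow_succ]
  have h2 := h1 (p ^ k)
  rw [hk, coe_one, one_apply_eq] at h2
  exact eq_one_of_pow h2.symm

theorem isTr {a b : Fin n} (h : a ≠ b) {c : F} (hc : c ≠ 0) : IsTransvection (transvection h c).1 := by
  rw [IsTransvection, transvection_coe, add_sub_cancel_left]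
  refine ⟨le_antisymm ?_ (Nat.one_le_iff_ne_zero.2 fun e => hc ?_), single_mul_single_of_ne _ _ _ _ h.symm _⟩
  · rw [show single a b c = vecMulVec (Pi.single a c) (Pi.single b 1) by
      ext; simp [single, vecMulVec, ite_and, Pi.single_apply, eq_comm]; split_ifs <;> rfl]
    exact rank_vecMulVec_le _ _
  · have := Submodule.finrank_eq_zero.1 e
    rw [LinearMap.range_eq_bot] at this
    simpa using congrFun (LinearMap.congr_fun this (Pi.single b 1)) a

theorem simple (P : Sylow p (SpecialLinearGroup (Fin (n + 3)) F)) : (groupFusionSystem P.1).IsSimple p := by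
  have c1 : Cen p ⊤ (K F (n + 3) 1) := K_cen one_pos (by omega)
  have c2 : Cen p ⊤ (K F (n + 3) (n + 2)) := K_cen (by omega) (by omega)
  have l : (0 : Fin (n + 3)) < Fin.last _ := Fin.last_pos
  refine simple_rel sylow_U (fun h => ?_) (fun T hTS hT hb => ?_) (fun A hA g _ hn => ?_) topEquiv P
  · have := tr_apply l.ne (1 : F) 0 (Fin.last _)
    rw [mem_bot.1 (h.le (tr_mem_U l (1 : F)))] at this
    simp at this
  · obtain ⟨x, hx, x1, x2, x3⟩ := hT.exists_central hTS (sylow_U (p := p)) hb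
    have e1 := mem_K.1 (c1 x trivial (fun s hs => x3 s (K_le hs)) ⟨1, by simpa⟩)
    have e2 := mem_K.1 (c2 x trivial (fun s hs => x3 s (K_le hs)) ⟨1, by simpa⟩)
    have e : x = transvection l.ne (x 0 (Fin.last _)) := Subtype.ext (Matrix.ext fun i j => by
      rw [tr_apply]
      split_ifs with h
      · rw [← h.1, ← h.2, one_apply_ne l.ne, zero_add]
      · rw [add_zero]
        by_cases h' : 0 = i
        · exact e2 i j (Or.inl (by have := j.2; simp [Fin.ext_iff] at h h'; omega))
        · exact e1 i j (Or.inr (by simp [Fin.ext_iff] at h'; omega)))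
    refine U_le fun a b h c => ?_
    by_cases c0 : c = 0
    · simp [c0]
    obtain ⟨g, hg⟩ := _root_.isConj_iff.1 (S2579.result (by omega) _ _ (isTr l.ne (c := x 0 (Fin.last _))
      fun h => x1 (by rw [e, h]; simp)) (isTr h.ne c0))
    rw [← hg, ← e]
    exact hT x hx g trivial (by rw [e, hg]; exact tr_mem_U h c)
  have tp : ∀ {a b : Fin (n + 3)} (h : a ≠ b) (c : F), ∃ k, transvection h c ^ p ^ k = 1 := fun h c => ⟨1, by
    have : ∀ m : ℕ, transvection h c ^ m = transvection h (m * c) := fun m => by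
      induction m with
      | zero => simp
      | succ m ih => rw [pow_succ, ih, ← transvection_add]; simp [add_mul]
    simp [this]⟩
  have d1 : ∀ k, Cen p ⊤ (K F (n + 3) k) → ∀ (a b : Fin (n + 3)) (h : a ≠ b) c hc,
      (a.1 < k ∧ b.1 < k) ∨ (k ≤ a ∧ k ≤ b) → diag2n h c hc ∈ A (U F (n + 3)) := fun k hk a b h c hc e => by
    refine hA.ext K_le le_rfl hk _ ?_ (mem_norm_U.2 fun i j e => by simp [diag2n_coe, e.ne'])
    have t1 := fun c => hA.pel K_le _ trivial (mem_norm_K (tr_mem_St (k := k) h (by omega) c)) (tp h c)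
    have t2 := fun c => hA.pel K_le _ trivial (mem_norm_K (tr_mem_St (k := k) h.symm (by omega) c)) (tp _ c)
    rw [Classical.Lin.diag2n_eq]
    exact mul_mem (mul_mem (mul_mem (t1 _) (t2 _)) (t1 _)) (mul_mem (mul_mem (t1 _) (t2 _)) (t1 _))
  have tri := mem_norm_U.1 hn
  have hD : det (diagonal fun i => g i i) = 1 := by
    rw [det_diagonal, ← det_of_upperTriangular fun i j e => tri i j e, g.det_coe]
  obtain ⟨d, hd, e⟩ : ∃ d ∈ A (U F (n + 3)), ∀ i, d i i = g i i := by
    refine ⟨⟨_, hD⟩, ?_, fun i => diagonal_apply_eq _ i⟩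
    rw [diag_eq_diag2n_prod 1]
    refine Finset.noncommProd_induction _ _ _ (· ∈ A (U F (n + 3))) (fun _ _ => mul_mem) (one_mem _)
      fun i hi => ?_
    rw [dif_pos (Finset.mem_filter.1 hi).2]
    by_cases e : i = 0
    · exact d1 _ c2 _ _ _ _ _ (Or.inl ⟨by rw [e, Fin.val_zero]; omega, by rw [Fin.val_one]; omega⟩)
    · exact d1 _ c1 _ _ _ _ _ (Or.inr ⟨Nat.pos_of_ne_zero fun h => e (Fin.ext h), le_rfl⟩)
  have n1 := hA.norm _ hd
  have hu : d⁻¹ * g ∈ U F (n + 3) :=
    mem_U_of (mem_norm_U.1 (mul_mem (inv_mem n1) hn)) fun i => by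
      have := tri_diag (mem_norm_U.1 n1) (mem_norm_U.1 (mul_mem (inv_mem n1) hn)) i
      rw [mul_inv_cancel_left, e] at this
      exact (mul_eq_left₀ (diagonal_neZero _ hD i)).1 this.symm
  exact (mul_mem_cancel_left (inv_mem hd)).1 (hA.pel le_rfl _ trivial (le_normalizer hu) ⟨_, U_pow hu⟩)

end Cfsg.Agent.Fusion.SLn
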