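/-
The Thompson-Wielandt theorem for two conjugate core-free maximal subgroups.
-/
import Cfsg.Agent.Lib.BG.Sec1
import Cfsg.Agent.Lib.Transfer.Hall

set_option autoImplicit false
set_option linter.unusedSectionVars false

namespace Cfsg.Agent.TW

open Subgroup Cfsg.Agent.Comp Cfsg.Agent.BG
open scoped commutatorElement

universe u
variable {G : Type u} [Group G] [Finite G] {M N X Y K : Subgroup G}

/-- the core in `M` of `Y` -/
def core (M Y : Subgroup G) : Subgroup G := (Y.subgroupOf M).normalCore.map M.subtype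

theorem core_le_left : core M Y ≤ M := map_subtype_le _
theorem core_le : core M Y ≤ Y := map_subtype_le_iff.2 (normalCore_le _)
theorem le_nm_core : M ≤ Nm(core M Y) := (normal_iff_map_subtype _).1 inferInstance
theorem le_core (h1 : K ≤ M) (h2 : K ≤ Y) (h3 : M ≤ Nm(K)) : K ≤ core M Y := by
  refine le_map_subtype_iff.2 ⟨h1, ?_⟩
  have : (K.subgroupOf M).Normal := (normal_subgroupOf_iff_le_normalizer h1).2 h3
  exact normal_le_normalCore.2 (subgroupOf_mono _ h2)

structure Pair (M N : Subgroup G) : Prop where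
  hM : ∀ K ≤ M, K ≠ ⊥ → M ≤ Nm(K) → Nm(K) ≤ M
  hN : ∀ K ≤ N, K ≠ ⊥ → N ≤ Nm(K) → Nm(K) ≤ N
  ne1 : ¬ M ≤ N
  ne2 : ¬ N ≤ M
  card : ∀ p : ℕ, Nat.card (Op p M) = Nat.card (Op p N)

theorem Pair.symm (h : Pair M N) : Pair N M := ⟨h.hN, h.hM, h.ne2, h.ne1, fun p => (h.card p).symm⟩

theorem Pair.bot (h : Pair M N) (h1 : K ≤ M) (h2 : M ≤ Nm(K)) (h3 : N ≤ Nm(K)) : K = ⊥ :=
  by_contra fun e => h.ne2 (h3.trans (h.hM K h1 e h2))

theorem max_nm (hmax : IsCoatom M) (hc : M.normalCore = ⊥) :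
    ∀ K ≤ M, K ≠ ⊥ → M ≤ Nm(K) → Nm(K) ≤ M := by
  intro K h1 h2 h3
  rcases h3.eq_or_lt with e | e
  · exact e.ge
  · have : K.Normal := normalizer_eq_top_iff.1 (hmax.2 _ e)
    exact absurd (eq_bot_iff.2 (hc ▸ normal_le_normalCore.2 h1)) h2

theorem pair_of (hmax : IsCoatom M) (hc : M.normalCore = ⊥) (g : G) (hne : M ≠ cj(g, M)) :
    Pair M cj(g, M) := by
  have h1 : IsCoatom cj(g, M) := (OrderIso.isCoatom_iff (MulAut.conj g).mapSubgroup M).2 hmax
  have h2 : (cj(g, M) : Subgroup G).normalCore = ⊥ := by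
    refine eq_bot_iff.2 (hc ▸ normal_le_normalCore.2 ?_)
    have := le_cj_iff.1 (normalCore_le cj(g, M))
    rwa [cj_eq_self_of_normal] at this
  refine ⟨max_nm hmax hc, max_nm h1 h2, fun h => hne ?_, fun h => hne ?_, fun p => ?_⟩
  · exact eq_of_le_of_card_ge h (card_cj g M).le
  · exact (eq_of_le_of_card_ge h (card_cj g M).ge).symm
  · rw [← cj_Op, card_cj]

theorem nm_res {p : ℕ} [Fact p.Prime] {P B : Subgroup G} (hP : IsPGroup p P) (h1 : P ≤ Nm(B))
    (h2 : B ≤ Nm(P)) (h3 : X ≤ B) (h4 : B ≤ Nm(X)) : P ≤ Nm(Res p X) := by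
  have a1 : ⁅B, P⁆ ≤ Op p B := by
    refine le_trans (le_inf (le_normalizer_iff_commutator_le_right.1 h2)
      (le_normalizer_iff_commutator_le_left.1 h1)) ?_
    exact le_Op inf_le_right (Comp.le_normalizer_inf h2 le_normalizer) (hP.to_le inf_le_left)
  have a2 : P ≤ Nm((X ⊔ Op p B : Subgroup G)) := le_normalizer_iff_commutator_le_left.2
    (((commutator_mono (sup_le h3 (Op_le p B)) le_rfl).trans a1).trans le_sup_right)
  have a3 : Res p (X ⊔ Op p B) = Res p X := le_antisymm
    (ResPi_le_ResPi (Res_sup_le' ((Op_le p B).trans h4) (isPGroup_Op p B))) (ResPi_mono le_sup_left)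
  exact a3 ▸ le_normalizer_ResPi a2

theorem Pair.op_le (h : Pair M N) {p : ℕ} [Fact p.Prime] (h1 : Op p N ≤ M) (h2 : Op p M ⊓ N ≤ Op p N) :
    Op p M = ⊥ ∧ Op p N = ⊥ := by
  by_cases e : Op p N = ⊥
  · exact ⟨card_eq_one.1 (by rw [h.card, e, card_bot]), e⟩
  have a1 : Op p N ≤ Nm(Op p M) := le_normalizer_Op_of_le h1
  have a2 : IsPGroup p (Op p N ⊔ Op p M : Subgroup G) :=
    (isPGroup_Op p N).to_sup_of_normal_right' (isPGroup_Op p M) a1
  have a3 : Op p M ≤ Op p N := by
    by_contra a3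
    have a4 := lt_inf_normalizer_of_isPGroup a2 (left_lt_sup.2 a3)
    refine a4.not_ge ((inf_le_inf_left _ (h.hN _ (Op_le p N) e (le_normalizer_Op_of_le le_rfl))).trans ?_)
    rw [sup_inf_of_le_normalizer a1 (Op_le p N)]
    exact sup_le le_rfl h2
  have a4 := eq_of_le_of_card_ge a3 (h.card p).ge
  have a5 := h.bot (Op_le p M) (le_normalizer_Op_of_le le_rfl) (a4 ▸ le_normalizer_Op_of_le le_rfl)
  exact ⟨a5, a4 ▸ a5⟩

theorem Pair.star (h : Pair M N) (hX1 : X ≤ core N M) (hX2 : M ≤ Nm(X)) {p : ℕ} [Fact p.Prime]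
    (hp : ¬ IsPGroup p X) : Op p M = ⊥ ∧ Op p N = ⊥ := by
  have a1 : Nm(Res p X) ≤ M := h.hM _ (((ResPi_le _ _).trans hX1).trans core_le)
    (fun e => hp (Res_eq_bot_iff.1 e)) (le_normalizer_ResPi hX2)
  have a2 : ∀ P : Subgroup G, IsPGroup p P → P ≤ N → core N M ≤ Nm(P) → P ≤ core N M := by
    intro P b1 b2 b3
    refine le_sup_left.trans (le_core (sup_commutator_le b2 le_normalizer) ?_ (le_normalizer_sup_commutator P N))
    rw [sup_commutator_eq_iSup]
    refine iSup_le fun g => le_trans (nm_res (isPGroup_cj_iff.2 b1)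
      ((cj_le_of_mem b2 (le_normalizer g.2)).trans le_nm_core) ?_ hX1 (core_le.trans hX2)) a1
    rw [← cj_normalizer, ← cj_eq_self_iff.2 (le_nm_core (M := N) (Y := M) g.2)]
    exact cj_mono _ b3
  refine h.op_le ((a2 _ (isPGroup_Op p N) (Op_le p N) (le_normalizer_Op_of_le core_le_left)).trans core_le) ?_
  have a3 : core N M ≤ Nm((Op p M ⊓ N : Subgroup G)) :=
    Comp.le_normalizer_inf (le_normalizer_Op_of_le core_le) (core_le_left.trans le_normalizer)
  have a4 : IsPGroup p (Op p M ⊓ N : Subgroup G) := (isPGroup_Op p M).to_le inf_le_left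
  exact (le_Op (a2 _ a4 inf_le_right a3) a3 a4).trans ((SubnIn.of_normalizer core_le_left le_nm_core).Op_le p)

theorem Pair.lay (h : Pair M N) (hX1 : X ≤ core N M) (hX2 : M ≤ Nm(X)) (hX : X ≠ ⊥) :
    Lay (M ⊓ N) = Lay N := by
  have a0 : SubnIn (core N M) N := .of_normalizer core_le_left le_nm_core
  have a1 : SubnIn X N := (SubnIn.of_normalizer hX1 (core_le.trans hX2)).trans a0
  have a2 : Nm(X) ≤ M := h.hM _ (hX1.trans core_le) hX hX2
  refine le_antisymm (Lay_le_iff.2 fun K hK => ?_) (Lay_le_Lay_of_le (le_inf ?_ (Lay_le N)) inf_le_right)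
  · have b1 : core N M ≤ M ⊓ N := le_inf core_le core_le_left
    rcases hK.le_or_le_centralizer (SubnIn.of_normalizer b1 (inf_le_right.trans le_nm_core)) with e | e
    · exact ((hK.of_le e b1).trans a0).le_Lay
    · refine absurd (le_trans ?_ e) hK.qs.not_le_centralizer
      refine (le_inf (hK.le.trans inf_le_right) (le_Ct_comm.1 e)).trans (le_core inf_le_left ?_ ?_)
      · exact inf_le_right.trans ((Comp.centralizer_mono hX1).trans ((centralizer_le_normalizer _).trans a2))
      · exact Comp.le_normalizer_inf le_normalizer (Comp.le_normalizer_centralizer le_nm_core)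
  · refine (Lay_le_iff.2 fun K hK => ?_).trans a2
    rcases hK.le_or_le_centralizer a1 with e | e
    · exact e.trans le_normalizer
    · exact (le_Ct_comm.1 e).trans (centralizer_le_normalizer _)

theorem Pair.tw (h : Pair M N) (hX1 : X ≤ core N M) (hX2 : M ≤ Nm(X)) (hX : X ≠ ⊥)
    (hY1 : Y ≤ core M N) (hY2 : N ≤ Nm(Y)) (hY : Y ≠ ⊥) :
    ∃ p : ℕ, p.Prime ∧ IsPGroup p X ∧ IsPGroup p Y ∧ CharP p M ∧ CharP p N := by
  have e : Lay M = Lay N := by rw [← h.lay hX1 hX2 hX, inf_comm, h.symm.lay hY1 hY2 hY]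
  have l1 : Lay M = ⊥ := h.bot (Lay_le M) (le_normalizer_Lay_self M) (e ▸ le_normalizer_Lay_self N)
  have a1 : SubnIn X M := .of_normalizer (hX1.trans core_le) hX2
  obtain ⟨p, hp, h3⟩ : ∃ p : ℕ, p.Prime ∧ Op p X ≠ ⊥ := by
    by_contra c; push Not at c
    exact hX (eq_bot_of_Fstar_eq_bot (by
      rw [Fstar, eq_bot_iff.2 ((Lay_mono_subnIn a1).trans l1.le), Fit_eq_bot_iff.2 c, sup_bot_eq]))
  haveI := Fact.mk hp
  have a2 : Op p M ≠ ⊥ := fun c => h3 (eq_bot_iff.2 ((a1.Op_le p).trans c.le))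
  have a3 : IsPGroup p X := by_contra fun c => a2 (h.star hX1 hX2 c).1
  have a4 : IsPGroup p Y := by_contra fun c => a2 (h.symm.star hY1 hY2 c).2
  have a5 : ∀ q : ℕ, q.Prime → q ≠ p → Op q M = ⊥ ∧ Op q N = ⊥ := fun q hq hne => by
    haveI := Fact.mk hq
    refine h.star hX1 hX2 fun c => hX ?_
    exact disjoint_self.1 (IsPGroup.disjoint_of_ne q p hne X X c a3)
  have a6 : ∀ L : Subgroup G, Lay L = ⊥ → (∀ q : ℕ, q.Prime → q ≠ p → Op q L = ⊥) → CharP p L := by
    intro L b1 b2
    refine charP_iff_Fstar.2 (le_antisymm ?_ (Op_le_Fstar L))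
    rw [Fstar, b1, bot_sup_eq]
    refine Fit_le_of_Op_le fun q hq => ?_
    by_cases c : q = p
    · exact c ▸ le_rfl
    · exact (b2 q hq c).le.trans bot_le
  exact ⟨p, hp, a3, a4, a6 M l1 fun q hq c => (a5 q hq c).1, a6 N (e ▸ l1) fun q hq c => (a5 q hq c).2⟩

theorem idx1 (M N : Subgroup G) : (core M N).relIndex M ∣ (N.relIndex M).factorial := by
  classical
  have h1 : (core M N).relIndex M = (N.subgroupOf M).normalCore.index := by
    rw [relIndex, core, subgroupOf_map_subtype_self]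
  have := Fintype.ofFinite (M ⧸ N.subgroupOf M)
  rw [h1, normalCore_eq_ker, index_ker, relIndex, index, Nat.card_eq_fintype_card (α := M ⧸ _),
    ← Fintype.card_perm, ← Nat.card_eq_fintype_card]
  exact card_subgroup_dvd_card _

theorem idx2 {A : Subgroup G} (h : A ≤ M ⊓ N) :
    (core N M).relIndex A ∣ (M.relIndex N - 1).factorial := by
  have h1 := idx1 N M
  have h2 : core N M ≤ M ⊓ N := le_inf core_le core_le_left
  rw [← relIndex_mul_relIndex _ _ _ h2 inf_le_right, inf_relIndex_right,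
    ← Nat.mul_factorial_pred (relIndex_ne_zero' M N), mul_comm] at h1
  exact (relIndex_dvd_of_le_of_normalizer h2 h ((h.trans inf_le_right).trans le_nm_core)).trans
    (Nat.dvd_of_mul_dvd_mul_left (Nat.pos_of_ne_zero (relIndex_ne_zero' M N)) h1)

theorem relIndex_iInf_dvd {ι : Type*} {A : Subgroup G} (f : ι → Subgroup G) (h : ∀ i, A ≤ Nm(f i))
    {e : ℕ} (he : ∀ i, (f i).relIndex A ∣ e) (s : Finset ι) :
    (⨅ i ∈ s, f i).relIndex A ∣ e ^ s.card := by
  classical
  induction s using Finset.induction_on with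
  | empty => simp
  | insert a s ha ih =>
    rw [Finset.iInf_insert, Finset.card_insert_of_notMem ha, pow_succ']
    refine Dvd.dvd.trans ?_ (mul_dvd_mul (he a) ih)
    have : ((f a).subgroupOf A).Normal := normal_subgroupOf_of_le_normalizer (h a)
    rw [relIndex, subgroupOf, comap_inf]
    exact Transfer.index_inf_dvd ((f a).subgroupOf A) _

theorem idx3 (h : M.relIndex N = N.relIndex M) :
    (core M (core M N ⊓ core N M)).relIndex M ∣
      (N.relIndex M).factorial * (N.relIndex M - 1).factorial ^ N.relIndex M := by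
  have h0 : core M (core M N ⊓ core N M) ≤ core M N := core_le.trans inf_le_left
  rw [← relIndex_mul_relIndex _ _ _ h0 core_le_left, mul_comm]
  refine mul_dvd_mul (idx1 M N) ?_
  have := Fintype.ofFinite (M ⧸ N.subgroupOf M)
  let f : M ⧸ N.subgroupOf M → Subgroup G := fun c => Quotient.liftOn' c
    (fun m : M => cj((m : G), core N M)) fun a b hab => by
      have h1 : ((a⁻¹ * b : M) : G) ∈ N :=
        mem_subgroupOf.1 ((QuotientGroup.leftRel_apply (s := N.subgroupOf M)).1 hab)
      have h2 := cj_eq_self_iff.2 (le_nm_core (M := N) (Y := M) h1)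
      rw [← h2, ← cj_mul, h2]; simp
  have hf : ∀ m : M, f m = cj((m : G), core N M) := fun _ => rfl
  have h1 : ∀ m : M, cj((m : G), core M N) = core M N := fun m => cj_eq_self_iff.2 (le_nm_core m.2)
  have h2 := relIndex_iInf_dvd (A := core M N) f (e := (N.relIndex M - 1).factorial)
    (fun c => by
      induction c using QuotientGroup.induction_on with
      | H m => rw [hf, ← h1 m, ← cj_normalizer]; exact cj_mono _ (core_le.trans le_nm_core))
    (fun c => by
      induction c using QuotientGroup.induction_on with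
      | H m =>
        rw [hf, ← h1 m, relIndex_map_map_of_injective _ _ (MulAut.conj (m : G)).injective, ← h]
        exact idx2 (le_inf core_le_left core_le)) Finset.univ
  rw [Finset.card_univ, ← Nat.card_eq_fintype_card, ← inf_relIndex_right] at h2
  refine Dvd.dvd.trans (relIndex_dvd_of_le_left _ ?_) h2
  have h3 : ∀ x, x ∈ ⨅ i ∈ Finset.univ, f i ↔ ∀ m ∈ M, m⁻¹ * x * m ∈ core N M := fun x => by
    simp only [Finset.mem_univ, iInf_pos, mem_iInf]
    exact ⟨fun a m hm => mem_cj.1 (a (⟨m, hm⟩ : M)), fun a c => by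
      induction c using QuotientGroup.induction_on with
      | H m => exact mem_cj.2 (a m m.2)⟩
  refine le_core (inf_le_right.trans core_le_left) (le_inf inf_le_right fun x hx => ?_)
    (Comp.le_normalizer_inf (fun g hg => mem_normalizer_of_conj_mem fun x hx => (h3 _).2 fun m hm => ?_)
      le_nm_core)
  · simpa using (h3 x).1 hx.1 1 M.one_mem
  · rw [show m⁻¹ * (g * x * g⁻¹) * m = (g⁻¹ * m)⁻¹ * x * (g⁻¹ * m) by group]
    exact (h3 x).1 hx _ (M.mul_mem (M.inv_mem hg) hm)

theorem relIndex_symm (h : Nat.card M = Nat.card N) : M.relIndex N = N.relIndex M := by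
  have h1 := relIndex_mul_card_inf M N
  have h2 := relIndex_mul_card_inf N M
  rw [inf_comm, h, ← h1] at h2
  exact (Nat.eq_of_mul_eq_mul_right Nat.card_pos h2).symm

/-- either the order of `M` divides Wielandt's bound, or the second core is a `p`-group and `M` has
characteristic `p` -/
theorem Pair.main (h : Pair M N) (hc : Nat.card M = Nat.card N) :
    Nat.card M ∣ (N.relIndex M).factorial * (N.relIndex M - 1).factorial ^ N.relIndex M ∨
    ∃ p : ℕ, p.Prime ∧ core M (core M N ⊓ core N M) ≠ ⊥ ∧ IsPGroup p (core M (core M N ⊓ core N M)) ∧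
      CharP p M := by
  by_cases h1 : core M (core M N ⊓ core N M) = ⊥
  · have := idx3 (relIndex_symm hc)
    rw [h1, relIndex_bot_left] at this
    exact Or.inl this
  by_cases h2 : core N (core N M ⊓ core M N) = ⊥
  · have := idx3 (relIndex_symm hc.symm)
    rw [h2, relIndex_bot_left, relIndex_symm hc, ← hc] at this
    exact Or.inl this
  obtain ⟨p, hp, a1, -, a2, -⟩ := h.tw (core_le.trans inf_le_right) le_nm_core h1
    (core_le.trans inf_le_right) le_nm_core h2
  exact Or.inr ⟨p, hp, h1, a1, a2⟩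

open MulAction in
theorem of_prim {Ω : Type*} [MulAction G Ω] [FaithfulSMul G Ω] [Finite Ω]
    (hprim : IsPreprimitive G Ω) (a b : Ω) {d : ℕ}
    (hd : Nat.card (orbit (stabilizer G a) b) = d) (h2 : 2 ≤ d) :
    Pair (stabilizer G a) (stabilizer G b) ∧ Nat.card (stabilizer G a) = Nat.card (stabilizer G b) ∧
      (stabilizer G b).relIndex (stabilizer G a) = d := by
  have h3 : (stabilizer G b).relIndex (stabilizer G a) = d := by
    have e : (stabilizer G b).subgroupOf (stabilizer G a) = stabilizer (stabilizer G a) b := by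
      ext x; rfl
    rw [← hd, relIndex, e, index_stabilizer, Nat.card_coe_set_eq]
  obtain ⟨g, rfl⟩ := exists_smul_eq G a b
  have hne : stabilizer G a ≠ stabilizer G (g • a) := fun e => by
    rw [← e, relIndex_self] at h3; omega
  have : Nontrivial Ω := ⟨a, g • a, fun e => hne (by rw [← e])⟩
  have e : stabilizer G (g • a) = cj(g, stabilizer G a) := stabilizer_smul_eq_stabilizer_map_conj g a
  refine ⟨?_, by rw [e, card_cj], h3⟩
  rw [e] at hne ⊢
  refine pair_of (IsPreprimitive.isCoatom_stabilizer_of_isPreprimitive G a) ?_ g hne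
  refine eq_bot_iff.2 fun x hx => mem_bot.2 (eq_of_smul_eq_smul (α := Ω) fun w => ?_)
  obtain ⟨k, rfl⟩ := exists_smul_eq G a w
  have : (k⁻¹ * x * k⁻¹⁻¹) • a = a := hx k⁻¹
  rw [inv_inv, mul_smul, mul_smul, inv_smul_eq_iff] at this
  rw [this, one_smul]

end Cfsg.Agent.TW
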