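/-
Point stabilizers with a suborbit of length three.
-/
import Cfsg.Agent.Lib.NG.Am4
import Cfsg.Agent.Lib.Fusion.TW

set_option autoImplicit false
set_option linter.unusedSectionVars false

namespace Cfsg.Agent.Sims

open Subgroup Cfsg.Agent.Transfer Cfsg.Agent.MS Cfsg.Agent.NG

universe u
variable {G : Type u} [Group G] [Finite G] {M D K : Subgroup G} {g : G}

/-- a subgroup together with a conjugate sharing a Sylow 2-subgroup -/
structure TP (M D : Subgroup G) (g : G) : Prop where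
  syl : IsSyl 2 D M
  nd : cj g D = D
  core : ∀ K ≤ D, M ≤ NN K → cj g M ≤ NN K → K = ⊥

theorem TP.inv (h : TP M D g) (hK : K ≤ D) (h1 : M ≤ NN K) (h2 : cj g K = K) : K = ⊥ :=
  h.core K hK h1 (h2 ▸ nn_cj h1 g)

theorem TP.nz (h : TP M D g) (h0 : D ≠ ⊥) : ¬ M ≤ CC (OZ D) := fun e =>
  OZ_ne_bot h.syl.pgroup h0 (h.inv (NG.OZ_le D) (nn_of_cc e) (by rw [NG.cj_OZ, h.nd]))

theorem TP.s4 (h : TP M D g) (h6 : (Q2 M).relIndex M = 6) (hc : M ⊓ CC (Q2 M) ≤ Q2 M) :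
    Nonempty (M ≃* S4) ∨ Nonempty (M ≃* S4 × C2) := by
  have h1 := (idx_of_six h.syl h6).1
  have h0 : D ≠ ⊥ := fun e => h1.ne (le_antisymm h1.le (e.le.trans bot_le))
  have a : S3 M D := ⟨h.syl, h6, hc, h.nz h0⟩
  have b : S3 (cj g M) D := by simpa only [h.nd] using a.cj g
  exact (AM.iso ⟨a, b, h.core⟩).imp (·.2) (·.2)

theorem TP.dih (h : TP M D g) (h6 : (Q2 M).relIndex M = 6) (hc : ¬ M ⊓ CC (Q2 M) ≤ Q2 M) :
    Nonempty (M ≃* DihedralGroup 3) ∨ Nonempty (M ≃* DihedralGroup 6) := by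
  classical
  haveI : Fact (Nat.Prime 3) := ⟨Nat.prime_three⟩
  obtain ⟨i2, i3⟩ := idx_of_six h.syl h6
  have hD := h.syl.pgroup
  have hnn : ¬ M ≤ NN D := fun e => i2.ne (le_antisymm i2.le (le_Q2 h.syl.le e hD))
  have n1 : M ≤ NN (M ⊓ CC (Q2 M) : Subgroup G) := nn_inf (le_nn M) (nn_cc (nn_O (le_nn M)))
  have c1 : ¬ M ⊓ CC (Q2 M) ≤ D := fun e => hc (le_Q2 inf_le_left n1 (hD.to_le e))
  have c2 := sup_eq_of_prime h.syl.le (i3 ▸ Nat.prime_three) inf_le_left c1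
  generalize Q2 M = Q at *
  have j2 : Ix2 D (cj g Q) := by simpa only [h.nd] using i2.cj g
  have x0 : Q ⊓ cj g Q = ⊥ := by
    have x1 := nn_inf i2.nn j2.nn
    refine h.core _ (inf_le_left.trans i2.le) (c2.ge.trans (sup_le (inf_le_right.trans
      (nn_of_cc (cc_anti inf_le_left))) x1)) ?_
    rw [← c2, cj_sup, h.nd]
    exact sup_le (nn_of_cc ((cc_cj inf_le_right g).trans (cc_anti inf_le_right))) x1
  obtain ⟨s, s1, s2, s3⟩ : ∃ s ∈ D, s ∉ Q ∧ s * s = 1 := by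
    by_cases e : cj g Q ≤ Q
    · obtain ⟨s, s1, s2⟩ := i2.exists_out
      rw [inf_eq_right.2 e, Subgroup.map_eq_bot_iff_of_injective _ (MulAut.conj g).injective] at x0
      exact ⟨s, s1, s2, mem_bot.1 (x0 ▸ i2.sq_mem s1)⟩
    · obtain ⟨s, s1, s2⟩ := SetLike.not_le_iff_exists.1 e
      exact ⟨s, j2.le s1, s2, eq_one_of_inf x0 (i2.sq_mem (j2.le s1)) (mul_mem s1 s1)⟩
  have q1 : #Q = 1 ∨ #Q = 2 := by
    by_cases e : Q ≤ cj g Q
    · rw [inf_eq_left.2 e] at x0; exact .inl (by rw [x0, card_bot])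
    · have := (j2.inf' i2.le e).card
      rw [x0, card_bot] at this; exact .inr this
  obtain ⟨z, z1, z2⟩ : ∃ z ∈ Q, Q = zpowers z := exists_zpowers (by
    rcases q1 with e | e
    · rw [card_eq_one.1 e]; exact cyc_bot
    · exact prime_cyc (e ▸ Nat.prime_two))
  have z3 : orderOf z = #Q := by rw [z2, Nat.card_zpowers]
  have z4 : z * z = 1 := by
    rw [← sq, ← orderOf_dvd_iff_pow_eq_one, z3]; rcases q1 with e | e <;> simp [e]
  have z5 : s * z * s⁻¹ = z := by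
    rcases q1 with e | e
    · rw [show z = 1 from mem_bot.1 (card_eq_one.1 e ▸ z1)]; simp
    · exact conj_eq_of_cc (pcc_of_card e hD i2.nn s1) z1
  have m1 := card_mul_relIndex (i2.le.trans h.syl.le)
  have m2 := card_mul_relIndex h.syl.le
  have m3 := card_sup_mul_card_inf (h.syl.le.trans n1)
  rw [sup_comm, c2, ← m2, i3, mul_assoc] at m3
  obtain ⟨R, r1, r2⟩ := exists_card_eq (H := M ⊓ CC Q) Nat.prime_three
    ⟨_, (Nat.eq_of_mul_eq_mul_left (card_pos' D) m3).symm⟩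
  obtain ⟨c, c3, rfl⟩ := exists_zpowers (prime_cyc (r2 ▸ Nat.prime_three))
  have c4 : orderOf c = 3 := by rw [← r2, Nat.card_zpowers]
  have c5 : c ^ 3 = 1 := c4 ▸ pow_orderOf_eq_one c
  have c6 : Commute z c := mem_CC.1 (r1 c3).2 z z1
  have c7 : ¬ zpowers c ≤ D := fun e => by
    have := inf_of_coprime (pg_coprime_pg (pg_of_card r2) hD (by norm_num))
    rw [inf_eq_left.2 e] at this
    rw [this, card_bot] at r2; omega
  have c8 : s ∉ C1 c := fun e => hnn ((sup_eq_of_prime h.syl.le (i3 ▸ Nat.prime_three)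
    (r1.trans inf_le_left) c7).ge.trans (sup_le (nn_of_cc (by
      rw [i2.eq_sup s1 s2]
      exact le_cc_sup (r1.trans inf_le_right) (cc_symm (zpowers_le.2 (cc_zpowers c ▸ e))))) (le_nn D)))
  have o1 : orderOf (z * c) = #Q * 3 := by
    rw [c6.orderOf_mul_eq_mul_orderOf_of_coprime (by
      rw [z3, c4]; rcases q1 with e | e <;> rw [e] <;> decide), z3, c4]
  have a1 : zpowers (z * c) ≤ M := zpowers_le.2 (mul_mem (h.syl.le (i2.le z1)) (r1 c3).1)
  have a2 : Ix2 M (zpowers (z * c)) := ix2_of_card a1 (by rw [Nat.card_zpowers, o1, ← m1, h6]; ring)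
  have a3 : zpowers (z * c) ≤ C1 c := zpowers_le.2 (mul_mem (mem_C1.2 c6.eq) (self_mem_C1 c))
  have a4 : c ∈ zpowers (z * c) := ⟨4, by
    have : z ^ 4 = 1 := by rw [show 4 = 2 * 2 from rfl, pow_mul, sq z, z4, one_pow]
    show (z * c) ^ ((4 : ℕ) : ℤ) = c
    rw [zpow_natCast, c6.mul_pow, this, one_mul, pow_succ, c5, one_mul]⟩
  have a5 : IsSyl 3 (zpowers c) M := ⟨r1.trans inf_le_left, pg_of_card r2, fun e => by
    have := card_mul_relIndex (r1.trans inf_le_left)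
    rw [r2, ← m1, h6] at this
    rcases q1 with e' | e' <;> rw [e'] at this <;> omega⟩
  have a6 : cj s (zpowers c) ≤ zpowers c := a5.le_of_le_normalizer (IsPGroup.cj a5.pgroup s)
    (cj_le' a5.le (h.syl.le s1)) ((cj_le (zpowers_le.2 a4) (a2.nn (h.syl.le s1))).trans
      (nn_of_cc (cc_zpowers c ▸ a3)))
  have a7 : s * c * s⁻¹ = c⁻¹ := by
    rw [cj_zpowers, zpowers_le, mem_zpowers_iff_mem_range_orderOf, c4] at a6
    obtain ⟨i, i1, i0⟩ := Finset.mem_image.1 a6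
    have := Finset.mem_range.1 i1
    interval_cases i
    · rw [pow_zero, eq_comm, conj_eq_one_iff] at i0; simp [i0] at c4
    · exact absurd (mem_C1_of_conj (by rw [← i0, pow_one])) c8
    · rw [← i0, eq_inv_iff_mul_eq_one, ← pow_succ, c5]
  have := Solv.nonempty_dihedral_of_gens (S := M) (a := z * c) (b := s) (fun e => c8 (a3 e))
    (a2.eq_sup (h.syl.le s1) fun e => c8 (a3 e)) (by rw [sq, s3]) (by
      rw [show s * (z * c) * s⁻¹ = s * z * s⁻¹ * (s * c * s⁻¹) by group, z5, a7, mul_inv_rev,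
        inv_eq_of_mul_eq_one_right z4, c6.inv_right.eq])
  rw [o1] at this
  rcases q1 with e | e <;> rw [e] at this
  exacts [.inl this, .inr this]

theorem main (h : TW.Pair M (cj g M)) (h3 : (cj g M).relIndex M = 3) :
    Nonempty (M ≃* Multiplicative (ZMod 3)) ∨ Nonempty (M ≃* DihedralGroup 3) ∨
      Nonempty (M ≃* DihedralGroup 6) ∨ Nonempty (M ≃* S4) ∨ Nonempty (M ≃* S4 × C2) := by
  have e0 : ∀ k ∈ cj g M, cj (k * g) M = cj g M := fun k hk => by rw [← cj_cj, cj_eq_of_mem hk]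
  have e1 : ∀ D, IsSyl 2 D M → IsSyl 2 (cj g D) (cj g M) := fun D hD => hD.cj g
  have h3' : M.relIndex (cj g M) = 3 := (TW.relIndex_symm (card_cj g M).symm).trans h3
  generalize cj g M = N at *
  have i1 := TW.idx2 (M := M) (N := N) le_rfl
  have i2 := TW.idx2 (M := N) (N := M) (A := M ⊓ N) (inf_comm M N).le
  rw [h3'] at i1; rw [h3] at i2
  have k1 : TW.core N M ≤ M ⊓ N := le_inf TW.core_le TW.core_le_left
  have k2 : TW.core M N ≤ M ⊓ N := le_inf TW.core_le_left TW.core_le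
  have r1 : Comp.Res 2 (M ⊓ N) = Comp.Res 2 (TW.core N M) :=
    (Comp.SubnIn.of_normalizer k1 (inf_le_right.trans TW.le_nm_core)).ResPi_eq fun q hq hd =>
      (Nat.prime_dvd_prime_iff_eq hq Nat.prime_two).1 (hd.trans i1)
  have r2 : Comp.Res 2 (M ⊓ N) = Comp.Res 2 (TW.core M N) :=
    (Comp.SubnIn.of_normalizer k2 (inf_le_left.trans TW.le_nm_core)).ResPi_eq fun q hq hd =>
      (Nat.prime_dvd_prime_iff_eq hq Nat.prime_two).1 (hd.trans i2)
  have hD : IsPGroup 2 (M ⊓ N : Subgroup G) := Comp.Res_eq_bot_iff.1 (h.bot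
    ((Comp.ResPi_le _ _).trans inf_le_left) (r2 ▸ Comp.le_normalizer_ResPi TW.le_nm_core)
    (r1 ▸ Comp.le_normalizer_ResPi TW.le_nm_core))
  have d3 : (M ⊓ N).relIndex M = 3 := by rw [inf_relIndex_left, h3]
  have sM : IsSyl 2 (M ⊓ N) M := ⟨inf_le_left, hD, by rw [d3]; decide⟩
  have sN : IsSyl 2 (M ⊓ N) N := ⟨inf_le_right, hD, by rw [inf_relIndex_right, h3']; decide⟩
  obtain ⟨k, hk, e⟩ := sN.exists_cj_eq (e1 _ sM)
  have t : TP M (M ⊓ N) (k * g) := ⟨sM, by rw [← cj_cj, e], fun K a b c =>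
    h.bot (a.trans inf_le_left) b (e0 k hk ▸ c)⟩
  have q : Q2 M = TW.core M N := le_antisymm (TW.le_core (O_le _ _) ((O_le_syl sM).trans inf_le_right)
    (nn_O (le_nn M))) (le_Q2 TW.core_le_left TW.le_nm_core (hD.to_le k2))
  rw [← q] at i2
  rcases (Nat.dvd_prime Nat.prime_two).1 i2 with c | c
  · have c1 : M ⊓ N = Q2 M := le_antisymm (relIndex_eq_one.1 c) (O_le_syl sM)
    rw [t.inv le_rfl (c1 ▸ nn_O (le_nn M)) t.nd, relIndex_bot_left] at d3
    haveI : Fact (Nat.Prime 3) := ⟨Nat.prime_three⟩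
    exact .inl ⟨mulEquivOfPrimeCardEq d3 (by simp)⟩
  have h6 : (Q2 M).relIndex M = 6 := by
    rw [← relIndex_mul_relIndex _ _ _ (O_le_syl sM) inf_le_left, c, d3]
  by_cases hc : M ⊓ CC (Q2 M) ≤ Q2 M
  · exact .inr (.inr (.inr (t.s4 h6 hc)))
  · exact .inr ((t.dih h6 hc).imp id .inl)

open MulAction in
theorem prim {Ω : Type*} [MulAction G Ω] [FaithfulSMul G Ω] (hprim : IsPreprimitive G Ω) (a b : Ω)
    (hd : Nat.card (orbit (stabilizer G a) b) = 3) :
    Nonempty (stabilizer G a ≃* Multiplicative (ZMod 3)) ∨ Nonempty (stabilizer G a ≃* DihedralGroup 3) ∨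
      Nonempty (stabilizer G a ≃* DihedralGroup 6) ∨ Nonempty (stabilizer G a ≃* S4) ∨
      Nonempty (stabilizer G a ≃* S4 × C2) := by
  have : Finite Ω := Finite.of_surjective _ (surjective_smul G a)
  obtain ⟨h1, -, h2⟩ := TW.of_prim hprim a b hd (by norm_num)
  obtain ⟨g, rfl⟩ := exists_smul_eq G a b
  rw [stabilizer_smul_eq_stabilizer_map_conj] at h1 h2
  exact main h1 h2

end Cfsg.Agent.Sims
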