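import Cfsg.Agent.Lib.Fusion.Strong
import Cfsg.Agent.Lib.Fusion.Comp3

/-! Solvable fusion systems: extensions. -/

set_option autoImplicit false
set_option linter.unusedSectionVars false
set_option linter.unusedVariables false
open Cfsg Cfsg.FusionSystem
open scoped commutatorElement

namespace Cfsg.Agent.Fusion

variable {Ω Ω' : Type*} [Group Ω] [Group Ω'] {S T R : Subgroup Ω} {S' : Subgroup Ω'}
  {F : FusionSystem S} {E : FusionSystem T} {F' : FusionSystem S'} {θ : S →* Ω'} {p : ℕ}

theorem SChain.sub (h : SChain F ⊥) (hE : E.IsSubsystemOf F) : SChain E ⊥ := by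
  obtain ⟨n, C, a, b, c, d, e⟩ := h
  refine ⟨n, fun i => C i ⊓ T, by simp [a], by simp [b, IsSubsystemOf.le hE],
    fun i j h => inf_le_inf_right _ (c h), fun i => stronglyClosed_iff.2 ⟨inf_le_right,
      fun P f hf x hx h => ⟨(stronglyClosed_iff.1 (d i)).2 P f (hf.sub hE) x hx h.1, hf.mem hx⟩⟩,
    fun i => le_inf ((Subgroup.commutator_mono inf_le_left inf_le_left).trans (e i))
      ((Subgroup.commutator_le_self _).trans inf_le_right)⟩

theorem image_ker_le : imageAlong θ (preimageAlong θ ⊥) ≤ ⊥ := (image_preimage bot_le).le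

variable [hp : Fact p.Prime] [Finite S]

theorem SChain.map (hS : IsPGroup p S) (hF : F.IsSaturated p) (h : SChain F ⊥) (hθ : Surj F F' θ) :
    SChain F' ⊥ := by
  obtain ⟨n, C, a, b, c, d, e⟩ := h
  refine ⟨n, fun i => imageAlong θ (C i), ?_, ?_, fun i j h => imageAlong_mono (c h), fun i => ?_,
    fun i => (imageAlong_commutator (d _).1 (d _).1).ge.trans (imageAlong_mono (e i))⟩
  · exact le_bot_iff.1 ((imageAlong_mono (a.le.trans bot_le)).trans image_ker_le)
  · exact (congrArg _ b).trans (imageAlong_top.trans hθ.range)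
  · have := hθ.image_stronglyClosed (stronglyClosed_sup hS hF (d i) hθ.toMorph.ker_stronglyClosed)
      le_sup_right
    rwa [imageAlong_sup (d i).1 preimageAlong_le, sup_eq_left.2 (image_ker_le.trans bot_le)] at this

theorem solvable_ext (hS : IsPGroup p S) (hF : F.IsSaturated p) (hE : E.IsWeaklyNormalIn F p)
    (hθ : Factor F T θ F') (h1 : SChain E ⊥) (h2 : SChain F' ⊥) : F.IsSolvableSystem := by
  have hT := hE.2.2.2.1
  have := finite_of_le hT.1
  have hs := hθ.surj hS hF hT
  refine solvable_of_step hS hF fun R hR hne => ?_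
  by_cases hTR : T ≤ R
  · obtain ⟨U, V, a, b, c, d, e⟩ := h2.exists_step (R := imageAlong θ R) le_rfl fun h => hne
      (le_antisymm hR.1 fun x hx => (preimage_image_of_le hR.1 (hθ.ker.le.trans hTR)).le
        (mem_preimageAlong.2 ⟨hx, h (hθ.mem hx)⟩))
    refine ⟨_, hs.toMorph.preimage_stronglyClosed a, fun h => c (inf_le_left.trans
      ((hs.image_preimage a.1).ge.trans (imageAlong_mono h))), ?_⟩
    have h3 : ⁅preimageAlong θ U, preimageAlong θ U⁆ ≤ S :=
      (Subgroup.commutator_le_self _).trans preimageAlong_le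
    refine (le_preimage_image (α := θ) h3).trans ((preimageAlong_mono ?_).trans
      (preimage_image_of_le hR.1 (hθ.ker.le.trans hTR)).le)
    rw [imageAlong_commutator preimageAlong_le preimageAlong_le, hs.image_preimage a.1]
    exact (le_inf e (e.trans b.1)).trans d
  · have : (R.subgroupOf S).Normal := (Subgroup.normal_subgroupOf_iff_le_normalizer hR.1).2
      (StronglyClosed.le_normalizer hR)
    obtain ⟨D, d1⟩ := exists_factor_mk hR
    have d2 := d1.surj hS hF hR
    obtain ⟨E', e1, e2⟩ := push_weakly hS d2 hE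
    have hS' := d2.pgroup hS
    have e3 := (h1.map (pgroup_of_le hS hT.1) hE.1 e2).constrained (pgroup_of_le hS' le_top) e1.1
    have e4 : E'.core ≠ ⊥ := fun e => hTR fun x hx => by
      have := (isConstrained_iff.1 e3).2
      rw [e] at this
      exact (d1.ap_eq_one_iff (hT.1 hx)).1 (Subgroup.mem_bot.1 (this (mem_centralizerIn.2
        ⟨ap_mem_imageAlong hT.1 hx, fun y hy => by rw [Subgroup.mem_bot.1 hy]; group⟩)))
    have h4 : D.IsNormal (zc E'.core 1) :=
      IsNormal.of_char (IsInvariantIn.core_normal hS' e1.2.1 e1.2.2) (zc_le _ _) (zc_char _ _)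
    have h6 := d2.ker_lt h4.1 (zc_one (Q := E'.core) ▸ centralizerIn_self_ne_bot
      (pgroup_of_le hS' le_top) e4)
    rw [d1.ker] at h6
    refine ⟨_, d2.toMorph.preimage_stronglyClosed (IsNormal.stronglyClosed h4), h6.not_ge, ?_⟩
    have h3 : ⁅preimageAlong (QuotientGroup.mk' (R.subgroupOf S)) (zc E'.core 1),
        preimageAlong (QuotientGroup.mk' (R.subgroupOf S)) (zc E'.core 1)⁆ ≤ S :=
      (Subgroup.commutator_le_self _).trans preimageAlong_le
    refine (le_preimage_image (α := QuotientGroup.mk' (R.subgroupOf S)) h3).trans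
      ((preimageAlong_mono ?_).trans d1.ker.le)
    rw [imageAlong_commutator preimageAlong_le preimageAlong_le, d2.image_preimage le_top, zc_one,
      Subgroup.commutator_le]
    exact fun x hx y hy => Subgroup.mem_bot.2 (commutatorElement_eq_one_iff_mul_comm.2 (hy.2 x hx.1))

end Cfsg.Agent.Fusion
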