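import Cfsg.Agent.Lib.Fusion.Qd2
import Cfsg.Agent.Lib.Fusion.Inner
import Cfsg.Agent.Lib.Fusion.SCZJ
import Cfsg.Agent.Lib.Transfer.Stab

/-! Sparse fusion systems and nilpotency criteria. -/

set_option autoImplicit false
set_option linter.unusedSectionVars false

universe u v

namespace Cfsg.Agent.Transfer

open Subgroup
open scoped commutatorElement

variable {G : Type*} [Group G] [Finite G] {p : ℕ} [hp : Fact p.Prime]

theorem MaxE.exists_normalized0 {S D B U : Subgroup G}
    (hS : IsPGroup p S) (hDS : D ≤ S) (hSD : S ≤ normalizer (D : Set G)) (hBS : B ≤ S)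
    (hSB : S ≤ normalizer (B : Set G)) (hB : IsMulCommutative B) {Q : Subgroup G → Prop}
    (hQ : ∀ A A', MaxE 0 D A → Q A → ¬ B ≤ normalizer (A : Set G) → MaxE 0 D A' →
      A' ≤ normalizer (A : Set G) → Q A') (hU : MaxE 0 D U) (h2 : Q U) :
    ∃ A, MaxE 0 D A ∧ Q A ∧ B ≤ normalizer (A : Set G) := by
  obtain ⟨A, ⟨hA, h4⟩, hmax⟩ := Set.exists_max_image {A : Subgroup G | MaxE 0 D A ∧ Q A}
    (fun A => Nat.card (A ⊓ B : Subgroup G)) (Set.toFinite _) ⟨U, hU, h2⟩
  refine ⟨A, hA, h4, by_contra fun hnot => ?_⟩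
  obtain ⟨b, hb, hbN, hbA⟩ := exists_replacement_elt hS hBS hSB hnot
  obtain ⟨e1, e2, e3, e4, e5, e6, -, -, e7⟩ := glauberman_replacement hS hBS hSB
    (fun _ => hB) (hA.le.trans hDS) hA.elem.1 (by
      rw [commutator_eq_bot_iff_le_centralizer.2 (comm_iff_le_centralizer.1 hB)]; exact bot_le)
    hb hbN hbA rfl
  have hA' := hA.of_card_le (e5.trans (sup_le hA.le (by
    rw [← cj_eq_of_mem_normalizer (hSD (hBS (inv_mem hb)))]; exact cj_mono _ hA.le)))
    ⟨e2, fun _ _ => pow_zero _⟩ e1.ge
  exact (card_lt_of_lt e4).not_ge (hmax _ ⟨hA', hQ _ _ hA h4 hnot hA' e6⟩)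

/-- if `J(P)` is not normal, some member outside `O_p` is normalized by `Z(O_p)` -/
theorem J_quad (P : Sylow p G) (h : ¬ (thompsonSubgroupOf 0 P.1).Normal) :
    ∃ A, MaxE 0 P.1 A ∧ ¬ A ≤ pCore p G ∧
      pCore p G ⊓ centralizer (pCore p G : Set G) ≤ normalizer (A : Set G) := by
  have hQ := Solv.pCore_le_sylow P
  obtain ⟨A, hA, h1⟩ : ∃ A, MaxE 0 P.1 A ∧ ¬ A ≤ pCore p G := by
    by_contra hc
    push Not at hc
    obtain ⟨U, hU⟩ := exists_maxE 0 P.1
    refine h ?_
    rw [le_antisymm (J_le_iff.2 fun A hA => (hA.mono (hc A hA) hQ).le_J)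
      (J_mono_of_maxE hU (hc U hU) hQ)]
    exact normal_of_top_le fun g => normalizer_le_normalizer_J _ (le_normalizer_of_normal (mem_top g))
  exact MaxE.exists_normalized0 P.isPGroup' le_rfl le_normalizer (inf_le_left.trans hQ)
    le_normalizer_of_normal (comm_inf_centralizer _) (Q := fun A => ¬ A ≤ pCore p G)
    (fun A A' _ _ h hA' h' h'' => h (le_trans (hA'.le_of_centralizer (inf_le_left.trans hQ)
      (inf_le_right.trans (centralizer_le h'')) fun _ _ => pow_zero _) h')) hA h1

theorem ab_of_base (P : Sylow p G) (h : HasNormalPComplement p (G ⧸ pCore p G))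
    (hm : IsCoatom P.1) {q : ℕ} [Fact q.Prime] (hne : p ≠ q) (T : Sylow q G) :
    IsMulCommutative T := by
  have hs := QuotientGroup.mk'_surjective (pCore p G)
  refine comm_of_map (f := QuotientGroup.mk' (pCore p G)) (by
    rw [QuotientGroup.ker_mk', inf_comm]
    exact inf_eq_bot_of_isPGroup hne (Solv.isPGroup_pCore p G) T.2)
    (abelian_sylow_of_maximal (P.mapSurjective hs) h (fun H hH => ?_) hne (T.2.map _))
  rcases (map_le_iff_le_comap.1 hH).eq_or_lt with e | e
  · left
    rw [← map_comap_eq_self_of_surjective hs H, ← e]; rfl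
  · right
    rw [← map_comap_eq_self_of_surjective hs H, hm.2 _ e, map_top_of_surjective _ hs]

end Cfsg.Agent.Transfer

namespace Cfsg.Agent.Qd

open Subgroup Transfer

variable {G : Type*} [Group G] [Finite G] {p : ℕ} [hp : Fact p.Prime]

theorem stable_of_ab (hp2 : p ≠ 2) (h : ∀ T : Sylow 2 G, IsMulCommutative T) :
    IsNormalizerPStable p G :=
  fun B hB g hg hq => mk_mem_pCore_of_pairs fun x => by
    let H : Subgroup G := closure {g, x.1 * g * x.1⁻¹}
    have hH : H ≤ normalizer (B : Set G) := (closure_le _).2 (by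
      rintro _ (rfl | rfl)
      exacts [hg, mul_mem (mul_mem x.2 hg) (inv_mem x.2)])
    have h' := res_le_centralizer_of_quadratic hp2 hB hH rfl hq (quad_cj x.2 hq) default
      (ab_sylow_sub h H _)
    exact res_le_iff.2 fun y hy hc => h' (mem_res (by
      have := mem_map_of_mem (normalizer (B : Set G)).subtype hy
      rwa [MonoidHom.map_closure, Set.image_pair] at this) (by simpa using hc))

theorem secStable_of_ab (hp2 : p ≠ 2) (h : ∀ T : Sylow 2 G, IsMulCommutative T) : SecStable p G :=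
  fun K _ _ => stable_of_ab hp2 (ab_sylow_surj (QuotientGroup.mk'_surjective _) (ab_sylow_sub h K))

theorem free_of_ab (hp2 : p ≠ 2) (h : ∀ T : Sylow 2 G, IsMulCommutative T) : ¬ Involves (qd p) G :=
  (free_iff hp2).2 (secStable_of_ab hp2 h)

theorem free_of_base (hp2 : p ≠ 2) (P : Sylow p G) (h : HasNormalPComplement p (G ⧸ pCore p G))
    (hm : IsCoatom P.1) : ¬ Involves (qd p) G := free_of_ab hp2 (ab_of_base P h hm hp2)

theorem stable_of_base (hp2 : p ≠ 2) (P : Sylow p G) (h : HasNormalPComplement p (G ⧸ pCore p G))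
    (hm : IsCoatom P.1) (B : Subgroup G) [B.Normal] (hB : IsPGroup p B) : IsPStableOn p B :=
  isPStableOn_of_abelian hp2 default (ab_of_base P h hm hp2 _) B hB

end Cfsg.Agent.Qd

namespace Cfsg.Agent.Fusion

open Cfsg Cfsg.FusionSystem
open scoped commutatorElement

variable {Ω : Type u} [Group Ω] {S : Subgroup Ω} {F : FusionSystem S} {P Q R T A U : Subgroup Ω}
  {p : ℕ} {f g φ : Ω → Ω} {Bad : ∀ (H : Type v) [Group H], Prop}

theorem sub_induction [Finite S] {C : FusionSystem S → Prop}
    (step : ∀ F, (∀ E : FusionSystem S, E.IsSubsystemOf F → ¬ F.IsSubsystemOf E → C E) → C F)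
    (F : FusionSystem S) : C F := by
  have inner : ∀ m, ∀ F : FusionSystem S, (gr F).ncard = m → C F := by
    intro m
    induction m using Nat.strong_induction_on with
    | _ m ih2 =>
      intro F hm
      exact step F fun E h1 h2 => ih2 _ (hm ▸ Set.ncard_lt_ncard
        ⟨gr_mono h1, fun h => h2 (sub_of_gr h)⟩ (Set.toFinite _)) E rfl
  exact inner _ F rfl

theorem isInner_of_bot (h : S = ⊥) : IsInner F := isInner_iff.2 fun P f hf =>
  ⟨1, S.one_mem, fun x hx => by
    have h1 := hf.le hx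
    have h2 := hf.mem hx
    rw [h, Subgroup.mem_bot] at h1 h2
    rw [h2, h1]; simp⟩

theorem HasN.hasC {E : FusionSystem S} (h : HasN F E Q) (hn : S ≤ Subgroup.normalizer (Q : Set Ω)) :
    HasC F E Q := fun P g hg h1 h2 =>
  h P g hg h1 (by rw [normalizerIn_eq_of_le hn]; exact hg.le) (img_of_eq_id h2)

/-- The base case of Thompson's criterion in the class of `Bad`-free groups. -/
def JZ (p : ℕ) (Bad : ∀ (H : Type v) [Group H], Prop) : Prop :=
  ∀ (L : Type u) [Group L] [Finite L] (P : Sylow p L), Con p L →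
    (∀ (H : Type v) [Group H], Bad H → ¬ Involves H L) → HasNormalPComplement p (L ⧸ pCore p L) →
    IsCoatom P.1 → (thompsonSubgroupOf 0 P.1).Normal ∨ centralizerIn P.1 P ≤ Subgroup.center L

variable [Fact p.Prime]

theorem jz_odd (hp2 : p ≠ 2) : JZ.{u, v} p Bad := fun L _ _ P hc _ h hm => by
  by_contra hne
  obtain ⟨h1, h2⟩ := not_or.1 hne
  obtain ⟨A, hA, h3, h4⟩ := Transfer.J_quad P h1
  let V := pCore p L ⊓ Subgroup.centralizer (pCore p L : Set L)
  have hZ : centralizerIn P.1 P ≤ V := fun y hy =>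
    have : y ∈ Subgroup.centralizer (pCore p L : Set L) := fun x hx =>
      (hy.2 x (pCore_le_sylow P hx))
    ⟨hc this, this⟩
  have h5 : Subgroup.centralizer (centralizerIn P.1 P : Set L) ≤ P := by
    have h6 : P.1 ≤ Subgroup.centralizer (centralizerIn P.1 P : Set L) := fun x hx y hy =>
      (hy.2 x hx).symm
    rcases h6.eq_or_lt with e | e
    · exact e.ge
    · exact absurd (fun y hy => Subgroup.mem_center_iff.2 fun g =>
        ((hm.2 _ e).ge (Subgroup.mem_top g) y hy).symm) h2
  refine h3 fun a ha => ?_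
  have h6 := (Transfer.IsPStableOn.res_le (Qd.stable_of_base hp2 P h hm V
    ((pCore_pgroup L).to_le inf_le_left)) (Transfer.quad_mono le_rfl (Subgroup.zpowers_le.2 ha)
    (Subgroup.commutator_eq_bot_iff_le_centralizer.2 ((Comp.commutator_le_right_of_le_normalizer h4).trans
      (Transfer.comm_iff_le_centralizer.1 hA.elem.1))))).trans ((Subgroup.centralizer_le hZ).trans h5)
  rw [Transfer.mem_pCore_iff_normalClosure, Transfer.isPGroup_iff_res_eq_bot, ← Transfer.res_res]
  exact Transfer.res_eq_bot_of_isPGroup (P.2.to_le h6)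

variable [Finite S]

/-- Thompson's criterion for fusion systems. -/
theorem thompson_inner (hJZ : JZ.{u, v} p Bad) (hS : IsPGroup p S) (hF : F.IsSaturated p)
    (hfree : Free p Bad F) (h1 : HasN F (innerFusionSystem S) (thompsonSubgroupOf 0 S))
    (h2 : HasC F (innerFusionSystem S) (centralizerIn S S)) : IsInner F :=
  functor_inner (j_char (Or.inr rfl)).1 True (fun L _ _ P hc hb h hm => by
    rw [(j_char (p := p) (Or.inr rfl)).2]
    exact (hJZ L P hc hb h hm).imp id fun h => ⟨trivial, h⟩) F hS hF hfree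
    (by rwa [(j_char (p := p) (Or.inr rfl)).2]) fun _ => h2

theorem inner_of_all (hJZ : JZ.{u, v} p Bad) (hS : IsPGroup p S) (hF : F.IsSaturated p)
    (hfree : Free p Bad F) (h : ∀ U, U ≤ S → U ≠ ⊥ → S ≤ Subgroup.normalizer (U : Set Ω) →
      HasN F (innerFusionSystem S) U) : IsInner F := by
  by_cases hb : S = ⊥
  · exact isInner_of_bot hb
  have hW := j_char.{u} (p := p) (Or.inr rfl)
  refine thompson_inner hJZ hS hF hfree ?_ ((h _ centralizerIn_le (centralizerIn_self_ne_bot hS hb)
    le_normalizer_center).hasC le_normalizer_center)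
  rw [← hW.2]
  exact h _ (ind_le _ S) (ind_ne_bot hW.1 hS hb) (ind_le_normalizer hW.1 hS)

/-- All proper local subsystems over `S` are inner. -/
def Sparse (p : ℕ) (F : FusionSystem S) : Prop :=
  ∀ D : FusionSystem S, Loc.{u, v} p F D → ¬ F.IsSubsystemOf D → IsInner D

theorem Sparse.hasN (h : Sparse.{u, v} p F) (hS : IsPGroup p S) (hF : F.IsSaturated p) (hU : U ≤ S)
    (hn : S ≤ Subgroup.normalizer (U : Set Ω)) (hne : ¬ F.IsNormal U) :
    HasN F (innerFusionSystem S) U :=
  hasN_of_nSys (h (nSys F hU hn) (loc_nSys hS hF) fun h' => hne (normal_of_nSys h'))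

theorem Sparse.quot (h : Sparse.{u, v} p F) (hJZ : JZ.{u, v} p Bad) (hS : IsPGroup p S)
    (hF : F.IsSaturated p) (hfree : Free p Bad F) {Ω' : Type u} [Group Ω'] {S' : Subgroup Ω'}
    {θ : S →* Ω'} {F' : FusionSystem S'} (hs : Surj F F' θ) (hk : preimageAlong θ ⊥ = F.core) :
    IsInner F' := by
  have := hs.finite
  exact inner_of_all hJZ (hs.pgroup hS) (hs.saturated hS hF) (hfree.surj hS hF hs)
    fun U' hU hb hn => hs.hasN_inner (h.hasN hS hF preimageAlong_le (hs.preimage_le_normalizer hn)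
      fun h' => (hs.ker_lt hU hb).not_ge (hk ▸ IsNormal.le_core h')) hU

theorem Sparse.con (h : Sparse.{u, v} p F) (hJZ : JZ.{u, v} p Bad) (hS : IsPGroup p S)
    (hF : F.IsSaturated p) (hfree : Free p Bad F) (hne : ¬ IsInner F) : F.IsConstrained p := by
  have hQ : F.core ≠ ⊥ := fun hQ => hne (inner_of_all hJZ hS hF hfree fun U hU hb hn =>
    h.hasN hS hF hU hn fun h' => hb (eq_bot_iff.2 (hQ ▸ IsNormal.le_core h')))
  have hn := core_isNormal F
  have hsc := stronglyClosed_sup_centralizer hS hF (IsNormal.stronglyClosed hn)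
  by_cases h1 : F.IsNormal (F.core ⊔ centralizerIn S F.core)
  · exact isConstrained_iff.2 ⟨hF, le_sup_right.trans (IsNormal.le_core h1)⟩
  by_cases h0 : F.core = S
  · exact isConstrained_iff.2 ⟨hF, centralizerIn_le.trans h0.ge⟩
  by_cases h2 : F.IsSubsystemOf (scSys hn)
  · obtain ⟨Ω', _, S', θ, F', hs, hk⟩ := exists_quot hn
    have := hs.normal_preimage hS hF (hk ▸ hn) (hk ▸ pgroup_of_le (autInducedBy_pgroup hS _)
      ((IsSubsystemOf.autGroup_le h2 hn.1).trans (scSys_autGroup hn)))
      (h.quot hJZ hS hF hfree hs hk).normal_top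
    exact absurd (le_antisymm (core_le F) (le_trans (fun x hx => mem_preimageAlong.2
      ⟨hx, hs.range.le ⟨_, (ap_of_mem θ hx).symm⟩⟩) (IsNormal.le_core this))) h0
  have h4 := h _ (loc_scSys hS hF hn) h2
  exact absurd (isSubsystemOf_iff.2 fun P f hf => stancu hS hF hn (fun P g hg hQP e =>
    isSubsystemOf_iff.1 h4 _ _ (scSys_mor_of hn hg hQP S.one_mem fun x hx => by simp [e x hx]))
    (h.hasN hS hF hsc.1 (StronglyClosed.le_normalizer hsc) h1) hf) hne

theorem Sparse.model (h : Sparse.{u, v} p F) (hJZ : JZ.{u, v} p Bad) (hS : IsPGroup p S)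
    (hF : F.IsSaturated p) (hfree : Free p Bad F) (hne : ¬ IsInner F) :
    ∃ (L : Type u) (_ : Group L) (_ : Finite L) (ι : S →* L) (P : Sylow p L), F.IsModel p L ι ∧
      P.1 = ι.range ∧ HasNormalPComplement p (L ⧸ pCore p L) ∧ IsCoatom P.1 := by
  obtain ⟨L, _, ι, hL⟩ := exists_model hS (h.con hJZ hS hF hfree hne)
  have : Finite L := hL.1
  obtain ⟨P, hP⟩ := hL.2.2.1
  have := pCore_normal p L
  have hs := IsRealizedBy.surj_quot hL.2.1 (IsModel.sylowIn hL) (QuotientGroup.mk' (pCore p L))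
    (QuotientGroup.mk'_surjective _)
  have hq := h.quot hJZ hS hF hfree hs (by
    ext x
    rw [mem_preimageAlong]
    refine ⟨fun ⟨hx, e⟩ => ?_, fun hx => ⟨core_le F hx, ?_⟩⟩
    · rw [ap_of_mem _ hx] at e
      refine (ap_mem_image_iff hL.2.1.1 (core_le F) hx).1 ?_
      rw [IsModel.image_core hL, ap_of_mem _ hx]
      exact (QuotientGroup.eq_one_iff _).1 e
    · have := ap_mem_imageAlong (α := ι) (core_le F) hx
      rw [IsModel.image_core hL, ap_of_mem _ (core_le F hx)] at this
      rw [ap_of_mem _ (core_le F hx)]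
      exact (QuotientGroup.eq_one_iff _).2 this)
  refine ⟨L, inferInstance, inferInstance, ι, P, hL, hP, hasNPC_of_isInner (by
    have := (IsModel.sylowIn hL).map (QuotientGroup.mk' (pCore p L))
    rwa [Subgroup.map_top_of_surjective _ (QuotientGroup.mk'_surjective _)] at this) hq,
    hP ▸ fun ht => hne (IsRealizedBy.isInner_of_top hL.2.1 ht), fun H hH => ?_⟩
  by_contra hne
  obtain ⟨D, hD, hm, ht⟩ := exists_pull.{u, v} hS hL (hP ▸ hH.le)
  exact hH.not_ge (hP ▸ IsModel.range_eq_of_inner hL hm (h D hD fun h => hne (ht h)))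

/-- Nilpotency criteria for `p` odd reduce to a normality statement in a solvable model. -/
theorem inner_of_model (hp2 : p ≠ 2) (hS : IsPGroup p S) (hF : F.IsSaturated p)
    (hU : HasN F (innerFusionSystem S) U) (hUS : U ≤ S)
    (base : ∀ (D : FusionSystem S) (L : Type u) [Group L] [Finite L] (ι : S →* L) (P : Sylow p L),
      D.IsSubsystemOf F → D.IsModel p L ι → P.1 = ι.range →
      (∀ (B : Subgroup L) [B.Normal], IsPGroup p B → IsPStableOn p B) → (imageAlong ι U).Normal) :
    IsInner F := by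
  have key : ∀ D : FusionSystem S, D.IsSaturated p → D.IsSubsystemOf F → IsInner D := by
    intro D
    induction D using sub_induction with
    | step D ih =>
    intro hD hDF
    by_contra hne
    obtain ⟨L, _, _, ι, P, hL, hP, h1, h2⟩ := Sparse.model (fun E hE h2 => ih E hE.sub h2 hE.sat
      (IsSubsystemOf.trans hE.sub hDF)) (jz_odd.{u, 0} hp2) hS hD free_false hne
    exact hne (isSubsystemOf_iff.2 fun A f hf => (hU.mono hDF).of_normal
      (IsRealizedBy.normal_of hL.2.1 hUS (base D L ι P hDF hL hP (Qd.stable_of_base hp2 P h1 h2))) hf)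
  exact key F hF (isSubsystemOf_iff.2 fun _ _ h => h)

omit [Fact p.Prime] [Finite S] in
theorem IsRealizedBy.sc_image {L : Type*} [Group L] {ι : S →* L} (hL : F.IsRealizedBy ι)
    (h : F.StronglyClosed T) : IsStronglyClosed (imageAlong ι T) ι.range :=
  ⟨imageAlong_le_range, fun y hy g hg => by
    obtain ⟨x, hx, rfl⟩ := (mem_imageAlong' h.1).1 hy
    obtain ⟨f, hf, e⟩ := IsRealizedBy.exists_mor hL (Subgroup.zpowers_le.2 (h.1 hx)) g (by
      rintro _ ⟨k, rfl⟩
      have : ap ι (x ^ k) = ap ι x ^ k := by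
        rw [ap_of_mem _ (h.1 hx), ap_of_mem _ (S.zpow_mem (h.1 hx) k), ← map_zpow]; rfl
      beta_reduce
      rw [this, ← conj_zpow]; exact Subgroup.zpow_mem _ hg k)
    rw [← e x (Subgroup.mem_zpowers x)]
    exact ap_mem_imageAlong h.1 (StronglyClosed.mem h hf (Subgroup.mem_zpowers x) hx)⟩

theorem ozj_char : IsCharPFunctor.{u} p
      (fun Q _ => omegaOne p (centerThompsonOf p (⊤ : Subgroup Q))) ∧
      ∀ {G : Type u} [Group G] (S : Subgroup G), inducedFunctor
        (fun _ _ => omegaOne p (centerThompsonOf p ⊤)) S = omegaOne p (centerThompsonOf p S) :=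
  char_of_map (w := fun S => omegaOne p (centerThompsonOf p S))
    (fun h hb => Transfer.omegaOne_ne_bot (h.to_le (inf_le_left.trans (Transfer.J_le _)))
      (Transfer.ZJ_ne_bot (Or.inl rfl) h hb)) fun h => by
      rw [← Transfer.map_ZJ h]
      exact Transfer.map_omegaOne (eq_bot_iff.2 ((inf_le_inf_right _
        (inf_le_left.trans (Transfer.J_le _))).trans h.le))

theorem zja_char : IsCharPFunctor.{u} p (fun Q _ => centerThompsonAOf (⊤ : Subgroup Q)) ∧
      ∀ {G : Type u} [Group G] (S : Subgroup G),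
        inducedFunctor (fun _ _ => centerThompsonAOf ⊤) S = centerThompsonAOf S := by
  simp only [Transfer.ZJA_eq]; exact zj_char (Or.inr rfl)

theorem ja_char : IsCharPFunctor.{u} p (fun Q _ => thompsonSubgroupAOf (⊤ : Subgroup Q)) ∧
      ∀ {G : Type u} [Group G] (S : Subgroup G),
        inducedFunctor (fun _ _ => thompsonSubgroupAOf ⊤) S = thompsonSubgroupAOf S := by
  simp only [Transfer.JA_eq]; exact j_char (Or.inr rfl)

/-- `U` is one of the two `ZJ`-subgroups of `T`. -/
def IsZJ (p : ℕ) {G : Type*} [Group G] (T U : Subgroup G) : Prop :=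
  U = centerThompsonAOf T ∨ U = omegaOne p (centerThompsonOf p T)

omit [Fact p.Prime] [Finite S] in
theorem IsZJ.le (h : IsZJ p T U) : U ≤ T := by
  rcases h with rfl | rfl
  · rw [Transfer.ZJA_eq]; exact inf_le_left.trans (Transfer.J_le _)
  · exact (Transfer.omegaOne_le _).trans (inf_le_left.trans (Transfer.J_le _))

theorem IsZJ.image_normal (h : IsZJ p T U) (hp2 : p ≠ 2) (hS : IsPGroup p S) {L : Type u} [Group L]
    {ι : S →* L} (hL : F.IsModel p L ι) (hT : F.StronglyClosed T)
    (hst : ∀ (B : Subgroup L) [B.Normal], IsPGroup p B → IsPStableOn p B) :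
    (imageAlong ι U).Normal := by
  have : Finite L := hL.1
  obtain ⟨P, hP⟩ := hL.2.2.1
  have := Transfer.sc_both hp2 hL.2.2.2 hst P (hP ▸ IsRealizedBy.sc_image hL.2.1 hT)
  rcases h with rfl | rfl
  · rw [← (zja_char (p := p)).2, ind_image zja_char.1 hS hL.2.1.1 hT.1, (zja_char (p := p)).2]
    exact this.1
  · rw [← (ozj_char (p := p)).2, ind_image ozj_char.1 hS hL.2.1.1 hT.1, (ozj_char (p := p)).2]
    exact this.2

theorem inner_of_sc (hp2 : p ≠ 2) (hS : IsPGroup p S) (hF : F.IsSaturated p)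
    (hT : F.StronglyClosed T) (h : IsZJ p T U) (hU : HasN F (innerFusionSystem S) U) : IsInner F :=
  inner_of_model hp2 hS hF hU (h.le.trans hT.1) fun _ _ _ _ _ _ hD hL _ hst =>
    h.image_normal hp2 hS hL (StronglyClosed.of_sub hD hT hT.1) hst

theorem normal_of_sc_free (hp2 : p ≠ 2) (hS : IsPGroup p S) (hF : F.IsSaturated p)
    (hfree : F.IsSectionFree p (qd p)) (hT : F.StronglyClosed T) (h : IsZJ p T U) : F.IsNormal U := by
  obtain ⟨L, _, ι, hL⟩ := exists_model hS
    (((solvable_iff hS hF).1 (Qd.solvable_of_free hp2 hS hF hfree)).constrained hS hF)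
  have : Finite L := hL.1
  exact IsRealizedBy.normal_of hL.2.1 (h.le.trans hT.1) (h.image_normal hp2 hS hL hT fun B _ =>
    Qd.stableOn (Qd.stable_of_free hp2 (IsModel.not_involves hL hfree)) B)

/-- Tate's theorem as a nilpotency criterion. -/
theorem inner_of_frattini (hS : IsPGroup p S) (hF : F.IsSaturated p) (hT : F.StronglyClosed T)
    (h1 : ⁅S, S⁆ ≤ T) (h2 : T ≤ (frattini S).map S.subtype) (h : HasN F (innerFusionSystem S) S) :
    IsInner F := by
  have := StronglyClosed.subgroupOf_normal hT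
  obtain ⟨E, hE⟩ := exists_factor_mk hT
  have hs := hE.surj hS hF hT
  have e : preimageAlong (QuotientGroup.mk' (T.subgroupOf S)) ⊤ = S :=
    le_antisymm preimageAlong_le fun x hx => mem_preimageAlong.2 ⟨hx, trivial⟩
  have hab : ∀ x y : S ⧸ T.subgroupOf S, x * y = y * x := fun x y => by
    obtain ⟨x, rfl⟩ := QuotientGroup.mk_surjective x
    obtain ⟨y, rfl⟩ := QuotientGroup.mk_surjective y
    exact commutatorElement_eq_one_iff_mul_comm.1 ((QuotientGroup.eq_one_iff ⁅x, y⁆).2
      (h1 (Subgroup.commutator_mem_commutator x.2 y.2)))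
  have h3 := hs.hasN_inner (by rw [e]; exact h) le_rfl
  have h4 := normal_of_abelian (hs.pgroup hS) (hs.saturated hS hF) (stronglyClosed_top E)
    fun x _ y _ => hab x y
  have h5 : F.hyperfocalSubgroup p ≤ T := hyp_le_foc.trans (foc_le_iff.2 fun P f hf x hx => by
    obtain ⟨f', hf', e'⟩ := hs.toMorph.mor hf
    obtain ⟨-, s, -, es⟩ := mor_inner_iff.1 (h3.of_normal h4 hf')
    rw [← hE.ker]
    refine mem_preimageAlong.2 ⟨S.mul_mem (S.inv_mem (hf.le hx)) (hf.mem hx), ?_⟩
    rw [ap_mul _ (S.inv_mem (hf.le hx)) (hf.mem hx), ap_inv _ (hf.le hx), ← e' x hx,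
      es _ (ap_mem_imageAlong hf.le hx), hab s]
    simp)
  exact isSubsystemOf_iff.2 fun P f hf => inner_of_hyp_eq_bot hS hF (eq_bot_iff.2
    (hyp_le_of_frattini hS hF Subgroup.le_normalizer_of_normal (h5.trans (h2.trans le_sup_left)))) hf

section Grp

variable {G : Type*} [Group G] [Finite G] {S U : Subgroup G}

theorem hasN_of_npc (hS : SylowIn p S ⊤) (hn : S ≤ Subgroup.normalizer (U : Set G))
    (h : HasNormalPComplement p (Subgroup.normalizer (U : Set G))) :
    HasN (groupFusionSystem S) (innerFusionSystem S) U := fun P f hf h1 _ h2 => by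
  obtain ⟨h3, h4, g, e⟩ := mor_group_iff.1 hf
  exact isSubsystemOf_iff.1 (isInner_of_hasNPC (hS.of_le hn le_top) h) _ _
    ((mor_sub_conj hn h3 (mem_normalizer_of_img (fun x hx => e x (h1 hx)) h2)
      fun x hx => e x hx ▸ h4 x hx).congr fun x hx => (e x hx).symm)

theorem hasC_of_npc (hS : SylowIn p S ⊤) (hn : S ≤ Subgroup.centralizer (U : Set G))
    (h : HasNormalPComplement p (Subgroup.centralizer (U : Set G))) :
    HasC (groupFusionSystem S) (innerFusionSystem S) U := fun P f hf h1 h2 => by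
  obtain ⟨h3, h4, g, e⟩ := mor_group_iff.1 hf
  exact isSubsystemOf_iff.1 (isInner_of_hasNPC (hS.of_le hn le_top) h) _ _
    ((mor_sub_conj hn h3 (fun x hx => (mul_inv_eq_iff_eq_mul.1
      ((e x (h1 hx)).symm.trans (h2 x hx))).symm)
      fun x hx => e x hx ▸ h4 x hx).congr fun x hx => (e x hx).symm)

theorem sc_group (h : IsStronglyClosed U S) : (groupFusionSystem S).StronglyClosed U := by
  rw [groupFusionSystem_eq]
  exact stronglyClosed_sub_iff.2 ⟨h.1, fun x hx g _ => h.2 x hx g⟩

end Grp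

/-- The normal complement criterion for a characteristic functor, in terms of sections. -/
theorem npc_of_sec {G : Type u} [Group G] [Finite G] {W : ∀ (Q : Type u) [Group Q], Subgroup Q}
    (hW : IsCharPFunctor p W) (S : Sylow p G)
    (hN : HasNormalPComplement p (Subgroup.normalizer (inducedFunctor W S.1 : Set G)))
    (hloc : ∀ (L : Type u) [Group L] [Finite L] (P : Sylow p L), Involves L G → Con p L →
      HasNormalPComplement p (L ⧸ pCore p L) → IsCoatom P.1 → (inducedFunctor W P.1).Normal) :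
    HasNormalPComplement p G :=
  hasNPC_of_isInner (sylowIn_top S) (functor_inner.{u, u} hW False
    (fun L _ _ P hc hb h hm => Or.inl (hloc L P (by_contra fun h' => hb L h' involves_refl) hc h hm))
    _ S.2 (group_saturated S) (group_Free (sylowIn_top S) involves_refl)
    (hasN_of_npc (sylowIn_top S) (ind_le_normalizer hW S.2) hN) False.elim)

end Cfsg.Agent.Fusion
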