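import Mathlib

set_option autoImplicit false
set_option linter.unusedSectionVars false

/-! Multi-dimensional theta transformation formula, by induction on the dimension. -/
namespace Cfsg.Agent.Theta
open Complex Real Finset

section alg
variable {K : Type*} [Field K] {d : ℕ}

def qg (A : Fin d → Fin d → K) (u : Fin d → K) : K := ∑ i, ∑ j, u i * A i j * u j
def lo (A : Fin (d + 1) → Fin (d + 1) → K) : Fin d → Fin d → K := fun i j => A i.succ j.succ
def sc (A : Fin (d + 1) → Fin (d + 1) → K) : Fin d → Fin d → K :=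
  fun i j => A i.succ j.succ - A 0 i.succ * A 0 j.succ / A 0 0

theorem qg_cons (A : Fin (d + 1) → Fin (d + 1) → K) (hA : ∀ i j, A i j = A j i) (x : K) (u : Fin d → K) :
    qg A (Fin.cons x u) = A 0 0 * x ^ 2 + 2 * x * (∑ j, A 0 j.succ * u j) + qg (lo A) u := by
  simp only [qg, lo, Fin.sum_univ_succ, Fin.cons_zero, Fin.cons_succ, sum_add_distrib, mul_sum]
  have h1 : ∑ j, x * A 0 (Fin.succ j) * u j + ∑ j, u j * A (Fin.succ j) 0 * x =
      ∑ j, 2 * x * (A 0 j.succ * u j) := by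
    rw [← sum_add_distrib]; exact sum_congr rfl fun j _ => by rw [hA j.succ 0]; ring
  linear_combination h1

theorem qg_sc (A : Fin (d + 1) → Fin (d + 1) → K) (u : Fin d → K) :
    qg (sc A) u = qg (lo A) u - (∑ j, A 0 j.succ * u j) ^ 2 / A 0 0 := by
  simp only [qg, lo, sc, sq, sum_mul_sum, sum_div, ← sum_sub_distrib]
  exact sum_congr rfl fun i _ => sum_congr rfl fun j _ => by ring

theorem qg_add (A : Fin d → Fin d → K) (hA : ∀ i j, A i j = A j i) (u v : Fin d → K) :
    qg A (fun i => u i + v i) = qg A u + ∑ i, (2 * ∑ j, A i j * v j) * u i + ∑ i, v i * ∑ j, A i j * v j := by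
  have h : ∑ i, ∑ j, v i * A i j * u j = ∑ i, ∑ j, u i * A i j * v j := by
    rw [sum_comm]; exact sum_congr rfl fun i _ => sum_congr rfl fun j _ => by rw [hA j i]; ring
  have h2 : ∑ i, (2 * ∑ j, A i j * v j) * u i = 2 * ∑ i, ∑ j, u i * A i j * v j := by
    simp only [mul_sum, sum_mul]; exact sum_congr rfl fun i _ => sum_congr rfl fun j _ => by ring
  have h3 : ∑ i, v i * ∑ j, A i j * v j = ∑ i, ∑ j, v i * A i j * v j := by
    simp only [mul_sum, mul_assoc]
  rw [h2, h3]
  simp only [qg, add_mul, mul_add, sum_add_distrib]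
  linear_combination h

def Inv (A C : Fin d → Fin d → K) : Prop := ∀ i j, ∑ k, A i k * C k j = if i = j then 1 else 0

theorem Inv.row {A C : Fin (d + 1) → Fin (d + 1) → K} (h : Inv A C) (h0 : A 0 0 ≠ 0) (j : Fin d) :
    ∑ k : Fin d, A 0 k.succ * C k.succ j.succ = -(A 0 0 * C 0 j.succ) := by
  have := h 0 j.succ
  rw [Fin.sum_univ_succ, if_neg (Fin.succ_ne_zero j).symm] at this
  linear_combination this

theorem Inv.sc {A C : Fin (d + 1) → Fin (d + 1) → K} (h : Inv A C) (hA : ∀ i j, A i j = A j i)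
    (h0 : A 0 0 ≠ 0) : Inv (sc A) (lo C) := by
  intro i j
  have h1 := h i.succ j.succ
  rw [Fin.sum_univ_succ] at h1
  simp only [Fin.succ_inj] at h1
  have h2 := h.row h0 j
  have : ∑ k, Theta.sc A i k * lo C k j = ∑ k : Fin d, A i.succ k.succ * C k.succ j.succ -
      A 0 i.succ / A 0 0 * ∑ k : Fin d, A 0 k.succ * C k.succ j.succ := by
    rw [mul_sum, ← sum_sub_distrib]; exact sum_congr rfl fun k _ => by simp only [Theta.sc, lo]; ring
  rw [this, h2, ← h1, hA i.succ 0]; field_simp; ring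

theorem Inv.qg {A C : Fin (d + 1) → Fin (d + 1) → K} (h : Inv A C) (hC : ∀ i j, C i j = C j i)
    (h0 : A 0 0 ≠ 0) (x : K) (u : Fin d → K) :
    qg C (Fin.cons x u) = x ^ 2 / A 0 0 + qg (lo C) (fun j => u j + -(x * A 0 j.succ / A 0 0)) := by
  rw [qg_cons C hC, qg_add (lo C) (fun i j => hC _ _)]
  have h1 : ∀ i, ∑ j, lo C i j * -(x * A 0 j.succ / A 0 0) = x * C 0 i.succ := fun i => by
    have : ∑ j, lo C i j * -(x * A 0 j.succ / A 0 0) =
        -(x / A 0 0) * ∑ k : Fin d, A 0 k.succ * C k.succ i.succ := by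
      rw [mul_sum]; exact sum_congr rfl fun k _ => by simp only [lo]; rw [hC i.succ]; ring
    rw [this, h.row h0]; field_simp
  have h2 := h 0 0
  rw [Fin.sum_univ_succ, if_pos rfl] at h2
  simp only [h1]
  have h3 : ∑ i : Fin d, -(x * A 0 i.succ / A 0 0) * (x * C 0 i.succ) =
      -(x ^ 2 / A 0 0) * ∑ k : Fin d, A 0 k.succ * C k.succ 0 := by
    rw [mul_sum]; exact sum_congr rfl fun k _ => by rw [hC 0]; ring
  have h4 : ∑ i : Fin d, 2 * (x * C 0 i.succ) * u i = 2 * x * ∑ j : Fin d, C 0 j.succ * u j := by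
    rw [mul_sum]; exact sum_congr rfl fun k _ => by ring
  rw [h3, h4, show ∑ k : Fin d, A 0 k.succ * C k.succ 0 = 1 - A 0 0 * C 0 0 by linear_combination h2]
  field_simp; ring

end alg

variable {d : ℕ}

def cx (A : Fin d → Fin d → ℝ) : Fin d → Fin d → ℂ := fun i j => A i j
def Co (A : Fin d → Fin d → ℝ) : Prop := ∃ ε > 0, ∀ x : Fin d → ℝ, ε * ∑ i, x i ^ 2 ≤ qg A x

theorem Co.lo {A : Fin (d + 1) → Fin (d + 1) → ℝ} (h : Co A) (hA : ∀ i j, A i j = A j i) : Co (lo A) := by
  obtain ⟨ε, h0, h⟩ := h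
  refine ⟨ε, h0, fun x => ?_⟩
  simpa [qg_cons A hA, Fin.sum_univ_succ] using h (Fin.cons 0 x)

theorem Co.pos {A : Fin (d + 1) → Fin (d + 1) → ℝ} (h : Co A) (hA : ∀ i j, A i j = A j i) : 0 < A 0 0 := by
  obtain ⟨ε, h0, h⟩ := h
  have := h (Fin.cons 1 0)
  simp [qg_cons A hA, Fin.sum_univ_succ, qg] at this
  linarith

theorem Co.sc {A : Fin (d + 1) → Fin (d + 1) → ℝ} (h : Co A) (hA : ∀ i j, A i j = A j i) : Co (sc A) := by
  have hp := h.pos hA
  obtain ⟨ε, h0, h⟩ := h
  refine ⟨ε, h0, fun x => ?_⟩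
  have := h (Fin.cons (-(∑ j, A 0 j.succ * x j) / A 0 0) x)
  rw [qg_cons A hA, Fin.sum_univ_succ] at this
  simp only [Fin.cons_zero, Fin.cons_succ] at this
  rw [qg_sc]
  have e : A 0 0 * (-(∑ j, A 0 j.succ * x j) / A 0 0) ^ 2 + 2 * (-(∑ j, A 0 j.succ * x j) / A 0 0) *
      (∑ j, A 0 j.succ * x j) = -((∑ j, A 0 j.succ * x j) ^ 2 / A 0 0) := by field_simp; ring
  nlinarith [mul_nonneg h0.le (sq_nonneg (-(∑ j, A 0 j.succ * x j) / A 0 0))]

theorem summ1 {t : ℝ} (ht : 0 < t) (β : ℝ) : Summable fun n : ℤ => rexp (-t * n ^ 2 + β * n) := by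
  refine (summable_pow_mul_jacobiTheta₂_term_bound (|β| / (2 * π)) (div_pos ht pi_pos) 0).of_nonneg_of_le
    (fun _ => (Real.exp_pos _).le) fun n => ?_
  rw [pow_zero, one_mul, Real.exp_le_exp]
  have : -π * (t / π * n ^ 2 - 2 * (|β| / (2 * π)) * |n|) = -t * n ^ 2 + |β * n| := by
    rw [abs_mul]; push_cast; field_simp; ring
  rw [this]
  linarith [le_abs_self (β * n)]

theorem summP : ∀ (d : ℕ) (f : Fin d → ℤ → ℝ), (∀ i n, 0 ≤ f i n) → (∀ i, Summable (f i)) →
    Summable fun n : Fin d → ℤ => ∏ i, f i (n i)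
  | 0, _, _, _ => .of_finite
  | d + 1, f, h0, h => by
    rw [← (Fin.consEquiv fun _ => ℤ).summable_iff]
    have := (h 0).mul_of_nonneg (summP d (fun i => f i.succ) (fun _ => h0 _) fun _ => h _) (h0 0)
      fun n => prod_nonneg fun i _ => h0 _ _
    refine this.congr fun p => ?_
    simp [Fin.prod_univ_succ, Fin.consEquiv]

theorem qg_cx (A : Fin d → Fin d → ℝ) (n : Fin d → ℤ) :
    qg (cx A) (fun i => (n i : ℂ)) = (qg A (fun i => (n i : ℝ)) : ℝ) := by simp [qg, cx]

theorem summQ {A : Fin d → Fin d → ℝ} (h : Co A) {s : ℂ} (hs : 0 < s.re) (β : Fin d → ℂ) (γ : ℂ) :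
    Summable fun n : Fin d → ℤ => ‖cexp (-s * qg (cx A) (fun i => n i) + ∑ i, β i * n i + γ)‖ := by
  obtain ⟨ε, h0, h⟩ := h
  refine ((summP d (fun i n => rexp (-(s.re * ε) * n ^ 2 + (β i).re * n)) (fun _ _ => (Real.exp_pos _).le)
    fun i => summ1 (mul_pos hs h0) _).mul_right (rexp γ.re)).of_nonneg_of_le (fun _ => norm_nonneg _)
    fun n => ?_
  rw [norm_exp, ← Real.exp_sum, ← Real.exp_add, Real.exp_le_exp, qg_cx, sum_add_distrib, ← mul_sum]
  simp only [add_re, re_sum, mul_re, neg_re, ofReal_re, ofReal_im, intCast_re, intCast_im, mul_zero,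
    sub_zero]
  nlinarith [mul_le_mul_of_nonneg_left (h fun i => n i) hs.le]

theorem summC {s : ℂ} (hs : 0 < s.re) (β γ : ℂ) :
    Summable fun n : ℤ => ‖cexp (-s * n ^ 2 + β * n + γ)‖ := by
  refine ((summ1 hs β.re).mul_right (rexp γ.re)).congr fun n => ?_
  rw [norm_exp, ← Real.exp_add]
  congr 1
  simp [sq]

theorem re_div_pos {s : ℂ} (hs : 0 < s.re) : 0 < (π / s : ℂ).re := by
  rw [div_eq_mul_inv, re_ofReal_mul, inv_re]
  exact mul_pos pi_pos (div_pos hs (normSq_pos.2 fun h => by simp [h] at hs))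

theorem summR {C : Fin d → Fin d → ℝ} (h : Co C) (hC : ∀ i j, C i j = C j i) {s : ℂ} (hs : 0 < s.re)
    (v : Fin d → ℂ) :
    Summable fun n : Fin d → ℤ => cexp (-π / s * qg (cx C) (fun i => n i + v i)) := by
  refine (summQ h (re_div_pos hs) (fun i => -π / s * (2 * ∑ j, cx C i j * v j))
    (-π / s * ∑ i, v i * ∑ j, cx C i j * v j)).of_norm.congr fun n => ?_
  rw [qg_add _ (fun i j => by simp [cx, hC i j])]
  congr 1
  simp only [mul_assoc (-π / s : ℂ), ← mul_sum]
  ring

theorem poisson : ∀ (d : ℕ) (A C : Fin d → Fin d → ℝ), (∀ i j, A i j = A j i) → (∀ i j, C i j = C j i) →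
    Inv A C → Co A → Co C → ∃ κ : ℂ, ∀ s : ℂ, 0 < s.re → ∀ b : Fin d → ℂ,
      ∑' n : Fin d → ℤ, cexp (-π * s * qg (cx A) (fun i => n i) + 2 * π * ∑ i, b i * n i) =
        κ / (s ^ (1 / 2 : ℂ)) ^ d * ∑' n : Fin d → ℤ, cexp (-π / s * qg (cx C) (fun i => n i + I * b i))
  | 0, A, C, _, _, _, _, _ => ⟨1, fun s _ b => by simp [qg]⟩
  | d + 1, A, C, hA, hC, hI, cA, cC => by
    have a0 := cA.pos hA
    obtain ⟨κ, ih⟩ := poisson d (sc A) (lo C) (fun i j => by simp only [sc]; rw [hA i.succ, mul_comm])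
      (fun i j => hC _ _) (hI.sc hA a0.ne') (cA.sc hA) (cC.lo hC)
    refine ⟨κ / (A 0 0 : ℂ) ^ (1 / 2 : ℂ), fun s hs b => ?_⟩
    have s0 : s ≠ 0 := fun h => by simp [h] at hs
    have a1 : (A 0 0 : ℂ) ≠ 0 := by exact_mod_cast a0.ne'
    have hA' : ∀ i j, cx A i j = cx A j i := fun i j => by simp [cx, hA i j]
    have hC' : ∀ i j, cx C i j = cx C j i := fun i j => by simp [cx, hC i j]
    have hI' : Inv (cx A) (cx C) := fun i j => by
      have := congrArg (fun x : ℝ => (x : ℂ)) (hI i j)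
      simpa [cx, apply_ite] using this
    have e1 : cx (sc A) = sc (cx A) := by funext i j; simp [cx, sc]
    have hsa : 0 < (s * A 0 0).re := by rw [re_mul_ofReal]; positivity
    have hπ : 0 < (π * s : ℂ).re := by rw [re_ofReal_mul]; exact mul_pos pi_pos hs
    have cc : ∀ (m : ℤ) (n : Fin d → ℤ) (v : Fin (d + 1) → ℂ),
        (fun i => ((Fin.cons m n : Fin (d + 1) → ℤ) i : ℂ) + v i) =
          Fin.cons (m + v 0) fun i => n i + v i.succ := fun m n v => by
      funext i; cases i using Fin.cases <;> simp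
    have cc0 : ∀ (m : ℤ) (n : Fin d → ℤ), (fun i => ((Fin.cons m n : Fin (d + 1) → ℤ) i : ℂ)) =
          Fin.cons (m : ℂ) fun i => (n i : ℂ) := fun m n => by
      funext i; cases i using Fin.cases <;> simp
    have S1 : Summable fun n : Fin (d + 1) → ℤ =>
        cexp (-π * s * qg (cx A) (fun i => n i) + 2 * π * ∑ i, b i * n i) :=
      (summQ cA hπ (fun i => 2 * π * b i) 0).of_norm.congr fun n => by
        simp only [mul_assoc (2 * π : ℂ), ← mul_sum]; congr 1; ring
    have S2 := summR cC hC hs fun i => I * b i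
    let G : ℤ → (Fin d → ℤ) → ℂ := fun m n => cexp (-π / (s * A 0 0) * (m + I * b 0) ^ 2) *
      cexp (-π * s * qg (cx (sc A)) (fun i => n i) +
        2 * π * ∑ i, (b i.succ + I * (m + I * b 0) * A 0 i.succ / A 0 0) * n i)
    have S3 : Summable (Function.uncurry G) := by
      refine Summable.of_norm (((summC (re_div_pos hsa) (-π / (s * A 0 0) * (2 * I * b 0))
        (-π / (s * A 0 0) * (I * b 0) ^ 2)).mul_of_nonneg (summQ (cA.sc hA) hπ
          (fun i => 2 * π * (b i.succ - b 0 * A 0 i.succ / A 0 0)) 0) (fun _ => norm_nonneg _)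
          (fun _ => norm_nonneg _)).congr fun ⟨m, n⟩ => ?_)
      simp only [Function.uncurry, G, norm_mul]
      congr 1
      · congr 2; ring
      · have : -π * s * qg (cx (sc A)) (fun i => n i) +
            2 * π * ∑ i, (b i.succ + I * (m + I * b 0) * A 0 i.succ / A 0 0) * n i =
            -(π * s) * qg (cx (sc A)) (fun i => n i) +
              ∑ i, 2 * π * (b i.succ - b 0 * A 0 i.succ / A 0 0) * n i + 0 +
              (∑ i, 2 * π * m * A 0 i.succ / A 0 0 * n i : ℝ) * I := by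
          push_cast
          rw [mul_sum, sum_mul, add_zero, add_assoc, ← sum_add_distrib]
          congr 1
          · ring
          · exact sum_congr rfl fun i _ => by
              linear_combination (2 * π * b 0 * A 0 i.succ / A 0 0 * n i) * I_mul_I
        rw [this, Complex.exp_add _ (_ * I), norm_mul, norm_exp_ofReal_mul_I, mul_one]
    have hcp : (s * A 0 0) ^ (1 / 2 : ℂ) = s ^ (1 / 2 : ℂ) * (A 0 0 : ℂ) ^ (1 / 2 : ℂ) := by
      rw [cpow_def_of_ne_zero (mul_ne_zero s0 a1), cpow_def_of_ne_zero s0, cpow_def_of_ne_zero a1,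
        mul_comm s, log_ofReal_mul a0 s0, ← Complex.exp_add, ofReal_log a0.le]
      congr 1; ring
    rw [← (Fin.consEquiv fun _ => ℤ).tsum_eq, ← (Fin.consEquiv fun _ => ℤ).tsum_eq]
    rw [← (Fin.consEquiv fun _ => ℤ).summable_iff] at S1 S2
    simp only [Function.comp_def] at S1 S2
    rw [S1.tsum_prod, S2.tsum_prod, ← Summable.tsum_comm (f := fun m n => cexp (-π * s * qg (cx A)
        (fun i => ((Fin.consEquiv fun _ => ℤ) (m, n)) i) +
          2 * π * ∑ i, b i * ((Fin.consEquiv fun _ => ℤ) (m, n)) i)) S1]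
    have k1 : ∀ n : Fin d → ℤ, ∑' m : ℤ, cexp (-π * s * qg (cx A)
        (fun i => ((Fin.consEquiv fun _ => ℤ) (m, n)) i) +
          2 * π * ∑ i, b i * ((Fin.consEquiv fun _ => ℤ) (m, n)) i) =
          1 / (s * A 0 0) ^ (1 / 2 : ℂ) * ∑' m, G m n := by
      intro n
      have := congrArg (cexp (-π * s * qg (lo (cx A)) (fun i => n i) + 2 * π * ∑ i, b i.succ * n i) * ·)
        (tsum_exp_neg_quadratic hsa (b 0 - s * ∑ j, cx A 0 j.succ * n j))
      simp only [mul_left_comm _ (1 / _ : ℂ), ← tsum_mul_left, ← Complex.exp_add] at this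
      simp only [← tsum_mul_left]
      refine Eq.trans (tsum_congr fun m => ?_) (this.trans (tsum_congr fun m => ?_))
      · simp only [Fin.consEquiv, Equiv.coe_fn_mk, cc0, qg_cons _ hA', Fin.sum_univ_succ, Fin.cons_zero,
          Fin.cons_succ]
        congr 1
        simp only [cx]; ring
      · simp only [G, ← Complex.exp_add, e1, qg_sc, add_mul, sum_add_distrib]
        have : ∑ i : Fin d, I * (m + I * b 0) * A 0 i.succ / A 0 0 * n i =
            I * (m + I * b 0) / A 0 0 * ∑ j, cx A 0 j.succ * n j := by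
          rw [mul_sum]; exact sum_congr rfl fun i _ => by simp only [cx]; ring
        rw [this]
        congr 2
        simp only [show cx A 0 0 = A 0 0 from rfl]
        field_simp
        linear_combination (-(s ^ 2 * (∑ j, cx A 0 j.succ * n j) ^ 2)) * I_mul_I
    have k2 : ∀ m : ℤ, ∑' n, G m n = κ / (s ^ (1 / 2 : ℂ)) ^ d * ∑' n : Fin d → ℤ,
        cexp (-π / s * qg (cx C) (fun i => ((Fin.consEquiv fun _ => ℤ) (m, n)) i + I * b i)) := by
      intro m
      simp only [G]
      rw [tsum_mul_left, ih s hs, mul_left_comm, ← tsum_mul_left]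
      congr 2 with n
      simp only [Fin.consEquiv, Equiv.coe_fn_mk, cc, hI'.qg hC' a1, ← Complex.exp_add]
      congr 1
      rw [mul_add (-π / s : ℂ)]
      congr 1
      · simp only [show cx A 0 0 = A 0 0 from rfl]; field_simp
      · congr 2 with i
        simp only [cx]
        linear_combination ((m + I * b 0) * A 0 i.succ / A 0 0) * I_mul_I
    simp only [k1]
    rw [tsum_mul_left, S3.tsum_comm]
    simp only [k2]
    rw [tsum_mul_left, hcp, ← mul_assoc]
    congr 1
    rw [pow_succ]; ring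

end Cfsg.Agent.Theta
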