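import Cfsg.Agent.Lib.Fusion.Th1

set_option autoImplicit false
set_option linter.unusedSectionVars false

/-! Theta series of an even unimodular lattice of rank 24. -/
namespace Cfsg.Agent.Theta
open Complex Real Finset Matrix
open UpperHalfPlane hiding I
open ModularForm MatrixGroups EisensteinSeries SlashInvariantForm

variable {d : ℕ}

theorem co_of {A C : Fin d → Fin d → ℝ} (hA : ∀ i j, A i j = A j i) (hI : Inv A C)
    (h : ∀ x, 0 ≤ qg A x) : Co A := by
  set M := 1 + ∑ i, |C i i| with hM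
  have M0 : 0 < M := by positivity
  have k : ∀ x i, x i ^ 2 / M ≤ qg A x := by
    intro x i
    have h1 := h fun j => x j + -(x i / M) * C j i
    have h2 : ∀ k, ∑ j, A k j * (-(x i / M) * C j i) = if k = i then -(x i / M) else 0 := fun k => by
      simp only [mul_left_comm (A k _), ← mul_sum, hI k i]; split_ifs <;> simp
    rw [qg_add A hA] at h1
    simp only [h2, mul_ite, ite_mul, mul_zero, zero_mul, sum_ite_eq', mem_univ, if_true] at h1
    have h3 : C i i ≤ M := by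
      have := single_le_sum (f := fun i => |C i i|) (fun i _ => abs_nonneg _) (mem_univ i)
      linarith [le_abs_self (C i i)]
    have h4 : (x i / M) ^ 2 * C i i ≤ x i ^ 2 / M := by
      calc _ ≤ (x i / M) ^ 2 * M := by gcongr
        _ = _ := by field_simp
    have h5 : x i / M * x i = x i ^ 2 / M := by ring
    nlinarith
  refine ⟨1 / (M * (d + 1)), by positivity, fun x => ?_⟩
  have h1 : ∑ i, x i ^ 2 / M ≤ ∑ _i : Fin d, qg A x := sum_le_sum fun i _ => k x i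
  rw [← sum_div, sum_const, card_univ, Fintype.card_fin, nsmul_eq_mul, div_le_iff₀ M0] at h1
  rw [one_div_mul_eq_div, div_le_iff₀ (by positivity)]
  nlinarith [h x]

def re (B : Matrix (Fin d) (Fin d) ℤ) : Fin d → Fin d → ℝ := fun i j => B i j

theorem qg_re (B : Matrix (Fin d) (Fin d) ℤ) (n : Fin d → ℤ) :
    qg (re B) (fun i => n i) = (n ⬝ᵥ B *ᵥ n : ℤ) := by
  simp [qg, re, dotProduct, mulVec, mul_sum, mul_assoc]

theorem psd {B : Matrix (Fin d) (Fin d) ℤ} (h : ∀ x, 0 ≤ x ⬝ᵥ B *ᵥ x) (x : Fin d → ℝ) :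
    0 ≤ qg (re B) x := by
  refine (DenseRange.piMap fun _ : Fin d => Rat.denseRange_cast (𝕜 := ℝ)).induction_on x
    (isClosed_le continuous_const (by unfold qg; fun_prop)) fun y => ?_
  obtain ⟨⟨D, hD⟩, hy⟩ := IsLocalization.exist_integer_multiples_of_finite (nonZeroDivisors ℤ) y
  choose z hz using hy
  have D0 : (D : ℝ) ≠ 0 := by exact_mod_cast nonZeroDivisors.ne_zero hD
  have h1 : ∀ i, (z i : ℝ) = D * y i := fun i => by
    have := congrArg (fun q : ℚ => (q : ℝ)) (hz i)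
    simpa using this
  have h2 : (D : ℝ) ^ 2 * qg (re B) (Pi.map (fun _ => Rat.cast) y) = (z ⬝ᵥ B *ᵥ z : ℤ) := by
    rw [← qg_re]
    simp only [qg, h1, mul_sum, Pi.map_apply]
    exact sum_congr rfl fun i _ => sum_congr rfl fun j _ => by ring
  refine (mul_nonneg_iff_of_pos_left (sq_pos_of_ne_zero D0)).1 ?_
  rw [h2]; exact_mod_cast h z

theorem inv_re {B C : Matrix (Fin d) (Fin d) ℤ} (h : B * C = 1) : Inv (re B) (re C) := fun i j => by
  have := congrArg (fun M : Matrix (Fin d) (Fin d) ℤ => (M i j : ℝ)) h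
  simpa [re, mul_apply, one_apply] using this

noncomputable def th (B : Matrix (Fin d) (Fin d) ℤ) (z : ℂ) : ℂ :=
  ∑' n : Fin d → ℤ, cexp (π * I * z * (n ⬝ᵥ B *ᵥ n : ℤ))

section
variable {B : Matrix (Fin 24) (Fin 24) ℤ} (hs : B.IsSymm)
  (hp : ∀ x : Fin 24 → ℤ, x ≠ 0 → 0 < x ⬝ᵥ (B *ᵥ x)) (hd : B.det = 1)
include hp

theorem nn (x : Fin 24 → ℤ) : 0 ≤ x ⬝ᵥ (B *ᵥ x) := by
  by_cases h : x = 0
  · simp [h]
  · exact (hp x h).le

include hs hd

theorem coB : Co (re B) :=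
  co_of (fun i j => by simp [re, hs.apply]) (inv_re (mul_nonsing_inv B (by simp [hd]))) (psd (nn hp))

theorem qg_cx' (B : Matrix (Fin d) (Fin d) ℤ) (n : Fin d → ℤ) :
    qg (cx (re B)) (fun i => n i) = (n ⬝ᵥ B *ᵥ n : ℤ) := by rw [qg_cx, qg_re]; simp

theorem summ {z : ℂ} (hz : 0 < z.im) :
    Summable fun n : Fin 24 → ℤ => ‖cexp (π * I * z * (n ⬝ᵥ B *ᵥ n : ℤ))‖ := by
  refine (summQ (coB hs hp hd) (s := -(π * I * z)) (by simp [mul_pos pi_pos hz]) 0 0).congr fun n => ?_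
  rw [qg_cx' hs hp hd]; simp

theorem th_S {z : ℂ} (hz : 0 < z.im) : th B (-z⁻¹) = z ^ 12 * th B z := by
  have u : IsUnit B.det := by simp [hd]
  have h1 := mul_nonsing_inv B u
  have h2 := nonsing_inv_mul B u
  have h3 : ∀ n : Fin 24 → ℤ, (B *ᵥ n) ⬝ᵥ B⁻¹ *ᵥ (B *ᵥ n) = n ⬝ᵥ B *ᵥ n := fun n => by
    rw [mulVec_mulVec, h2, one_mulVec, dotProduct_comm]
  let e : (Fin 24 → ℤ) ≃ (Fin 24 → ℤ) := ⟨fun n => B *ᵥ n, fun n => B⁻¹ *ᵥ n,
    fun n => by simp [mulVec_mulVec, h2], fun n => by simp [mulVec_mulVec, h1]⟩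
  have hs' : ∀ i j, re B⁻¹ i j = re B⁻¹ j i := fun i j => by simp [re, hs.inv.apply]
  obtain ⟨κ, hκ⟩ := poisson 24 (re B) (re B⁻¹) (fun i j => by simp [re, hs.apply]) hs' (inv_re h1)
    (coB hs hp hd) (co_of hs' (inv_re h2) (psd fun x => by
      obtain ⟨y, rfl⟩ := e.surjective x
      exact h3 y ▸ nn hp y))
  have k : ∀ z : ℂ, 0 < z.im → z ^ 12 * th B z = κ * th B (-z⁻¹) := by
    intro z hz
    have z0 : z ≠ 0 := fun h => by simp [h] at hz
    have := hκ (-I * z) (by simpa using hz) 0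
    simp only [Pi.zero_apply, zero_mul, sum_const_zero, mul_zero, add_zero, qg_cx' hs hp hd] at this
    rw [← cpow_nat_mul, show ((24 : ℕ) : ℂ) * (1 / 2) = (12 : ℕ) by norm_num, cpow_natCast,
      ← e.tsum_eq (fun n => cexp (-π / (-I * z) * (n ⬝ᵥ B⁻¹ *ᵥ n : ℤ)))] at this
    simp only [e, Equiv.coe_fn_mk, h3] at this
    have e1 : (-I * z) ^ 12 = z ^ 12 := by
      rw [mul_pow, show 12 = 4 * 3 from rfl, pow_mul, neg_pow, I_pow_four]; norm_num
    have e2 : -π / (-I * z) = π * I * -z⁻¹ := by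
      field_simp; linear_combination I_mul_I
    rw [e1, e2, show -π * (-I * z) = π * I * z by ring] at this
    unfold th
    rw [this]; field_simp
  have k1 := k I (by simp)
  rw [inv_I, neg_neg, show 12 = 4 * 3 from rfl, pow_mul, I_pow_four, one_pow] at k1
  have k2 : th B I ≠ 0 := by
    have e1 : ∀ n : Fin 24 → ℤ, cexp (π * I * I * (n ⬝ᵥ B *ᵥ n : ℤ)) =
        (‖cexp (π * I * I * (n ⬝ᵥ B *ᵥ n : ℤ))‖ : ℝ) := fun n => by
      rw [show (π * I * I * (n ⬝ᵥ B *ᵥ n : ℤ) : ℂ) = (-π * (n ⬝ᵥ B *ᵥ n : ℤ) : ℝ) by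
        push_cast; linear_combination (π * (n ⬝ᵥ B *ᵥ n : ℤ) : ℂ) * I_mul_I, norm_exp_ofReal, ofReal_exp]
    unfold th
    rw [tsum_congr e1, ← ofReal_tsum, ofReal_ne_zero]
    exact ((summ hs hp hd (z := I) (by simp)).tsum_pos (fun _ => norm_nonneg _) 0
      (norm_pos_iff.2 (Complex.exp_ne_zero _))).ne'
  rw [k z hz, ← mul_right_cancel₀ k2 k1, one_mul]

theorem th_diff : DifferentiableOn ℂ (th B) {z | 0 < z.im} := by
  intro z hz
  have hz' : 0 < z.im := hz
  have ho : IsOpen {w : ℂ | z.im / 2 < w.im} := isOpen_lt continuous_const continuous_im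
  refine ((differentiableOn_tsum_of_summable_norm (summ hs hp hd (z := (z.im / 2 : ℝ) * I)
    (by simpa using hz')) (fun n => by fun_prop) ho fun n w hw => ?_).differentiableAt
      (ho.mem_nhds (by simpa using hz'))).differentiableWithinAt
  rw [norm_exp, norm_exp, Real.exp_le_exp]
  have h0 : (0 : ℝ) ≤ (n ⬝ᵥ B *ᵥ n : ℤ) := by exact_mod_cast nn hp n
  have h1 : z.im / 2 < w.im := hw
  generalize n ⬝ᵥ B *ᵥ n = N at *
  simp
  nlinarith [mul_nonneg h0 (mul_pos pi_pos (sub_pos.2 h1)).le]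

variable (he : ∀ x : Fin 24 → ℤ, (2 : ℤ) ∣ x ⬝ᵥ (B *ᵥ x))
include he

theorem th_sum (τ : ℍ) : HasSum (fun m : ℕ => ({x : Fin 24 → ℤ | x ⬝ᵥ (B *ᵥ x) = 2 * m}.ncard : ℂ) •
    Function.Periodic.qParam 1 τ ^ m) (th B τ) := by
  let h : (Fin 24 → ℤ) → ℕ := fun x => (x ⬝ᵥ (B *ᵥ x) / 2).toNat
  have hh : ∀ x m, h x = m ↔ x ⬝ᵥ (B *ᵥ x) = 2 * m := fun x m => by
    have := nn hp x
    have := he x
    simp only [h]; omega
  have S := (summ hs hp hd τ.2).of_norm
  have S1 := (Equiv.sigmaFiberEquiv h).hasSum_iff.2 S.hasSum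
  refine S1.sigma fun m => ?_
  have e : ∀ c : {x // h x = m}, cexp (π * I * τ * (c.1 ⬝ᵥ B *ᵥ c.1 : ℤ)) =
      Function.Periodic.qParam 1 τ ^ m := fun c => by
    rw [(hh _ _).1 c.2, Function.Periodic.qParam, ← Complex.exp_nat_mul]
    congr 1; push_cast; ring
  have S2 := (S.subtype {x | h x = m}).hasSum
  have : ∑' c : {x | h x = m}, ((fun n : Fin 24 → ℤ => cexp (π * I * τ * (n ⬝ᵥ B *ᵥ n : ℤ))) ∘ Subtype.val) c =
      ({x : Fin 24 → ℤ | x ⬝ᵥ (B *ᵥ x) = 2 * m}.ncard : ℂ) • Function.Periodic.qParam 1 τ ^ m := by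
    refine (tsum_congr e).trans ((tsum_const _).trans ?_)
    rw [show Nat.card {x // h x = m} = {x | h x = m}.ncard from Nat.card_coe_set_eq _]
    simp only [hh, nsmul_eq_mul, smul_eq_mul]
  exact this ▸ S2

theorem sl_T : (fun τ : ℍ => th B τ) ∣[(12 : ℤ)] ModularGroup.T = fun τ : ℍ => th B τ := by
  ext z
  have hT : denom ModularGroup.T z = 1 := by
    rw [ModularGroup.denom_apply, show ModularGroup.T 1 0 = 0 from rfl,
      show ModularGroup.T 1 1 = 1 from rfl]; simp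
  rw [SL_slash_apply, hT, modular_T_smul, _root_.one_zpow, mul_one, coe_vadd, ofReal_one]
  simp only [th]
  refine tsum_congr fun n => ?_
  obtain ⟨k, hk⟩ := he n
  have : ∀ N : ℂ, N = 2 * k → cexp (π * I * (1 + z) * N) = cexp (π * I * z * N) := fun N h => by
    rw [h, show (π * I * (1 + z) * (2 * k) : ℂ) = π * I * z * (2 * k) + k * (2 * π * I) by ring,
      Complex.exp_add, exp_int_mul_two_pi_mul_I, mul_one]
  exact this _ (by exact_mod_cast hk)

omit he in
theorem sl_S : (fun τ : ℍ => th B τ) ∣[(12 : ℤ)] ModularGroup.S = fun τ : ℍ => th B τ := by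
  ext z
  suffices th B (-(↑z)⁻¹) * ((z : ℂ) ^ 12)⁻¹ = th B z by
    rw [SL_slash_apply, UpperHalfPlane.modular_S_smul, ModularGroup.denom_S]
    simpa
  rw [th_S hs hp hd z.2]
  field_simp [z.ne_zero]

noncomputable def mf : ModularForm 𝒮ℒ 12 where
  toFun τ := th B τ
  slash_action_eq' A hA := by
    obtain ⟨A, rfl⟩ := hA
    exact slash_action_generators_SL2Z (sl_S hs hp hd) (sl_T hs hp hd he) A
  holo' := by
    rw [UpperHalfPlane.mdifferentiable_iff]
    refine (th_diff hs hp hd).congr fun z hz => ?_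
    simp [ofComplex_apply_of_im_pos hz]
  bdd_at_cusps' hc := by
    rw [Subgroup.IsArithmetic.isCusp_iff_isCusp_SL2Z] at hc
    rw [OnePoint.isBoundedAt_iff_forall_SL2Z hc]
    intro γ _
    rw [slash_action_generators_SL2Z (sl_S hs hp hd) (sl_T hs hp hd he)]
    exact isBoundedAtImInfty_of_hasSum_qExpansion one_pos (th_sum hs hp hd he)

theorem leech (h2 : ∀ x : Fin 24 → ℤ, x ⬝ᵥ (B *ᵥ x) ≠ 2) :
    {x : Fin 24 → ℤ | x ⬝ᵥ (B *ᵥ x) = 4}.ncard = 196560 ∧
      {x : Fin 24 → ℤ | x ⬝ᵥ (B *ᵥ x) = 6}.ncard = 16773120 ∧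
      {x : Fin 24 → ℤ | x ⬝ᵥ (B *ᵥ x) = 8}.ncard = 398034000 := by
  have hc := ModularFormClass.qExpansion_coeff_unique (f := mf hs hp hd he) one_pos
    one_mem_strictPeriods_SL (th_sum hs hp hd he)
  let g : ModularForm 𝒮ℒ 12 := (7 / 12 : ℂ) • ModularForm.mcast (by decide) (E₄.pow 3) +
    (5 / 12 : ℂ) • ModularForm.mcast (by decide) (E₆.pow 2)
  have hg : qExpansion 1 g = (7 / 12 : ℂ) • (qExpansion 1 E₄ * qExpansion 1 E₄ * qExpansion 1 E₄) +
      (5 / 12 : ℂ) • (qExpansion 1 E₆ * qExpansion 1 E₆) := by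
    simp only [g]
    rw [FunLike.coe_add, ModularForm.qExpansion_add one_pos one_mem_strictPeriods_SL]
    simp only [FunLike.coe_smul, ModularForm.qExpansion_smul one_pos one_mem_strictPeriods_SL, coe_mcast,
      ModularForm.qExpansion_pow one_pos one_mem_strictPeriods_SL]
    rw [pow_three', sq]
  have s4 : ∀ m, (qExpansion 1 E₄).coeff m = if m = 0 then 1 else 240 * (ArithmeticFunction.sigma 3 m : ℂ) :=
    fun m => by norm_num [E_qExpansion_coeff _ ⟨2, rfl⟩, show bernoulli 4 = -1 / 30 by decide +kernel]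
  have s6 : ∀ m, (qExpansion 1 E₆).coeff m = if m = 0 then 1 else -504 * (ArithmeticFunction.sigma 5 m : ℂ) :=
    fun m => by norm_num [E_qExpansion_coeff _ ⟨3, rfl⟩, show bernoulli 6 = 1 / 42 by decide +kernel]
  have hv : (qExpansion 1 g).coeff 0 = 1 ∧ (qExpansion 1 g).coeff 1 = 0 ∧
      (qExpansion 1 g).coeff 2 = 196560 ∧ (qExpansion 1 g).coeff 3 = 16773120 ∧
      (qExpansion 1 g).coeff 4 = 398034000 := by
    rw [hg]
    norm_num [PowerSeries.coeff_mul, Finset.Nat.antidiagonal_succ, s4, s6,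
      -PowerSeries.coeff_zero_eq_constantCoeff,
      show ArithmeticFunction.sigma 3 2 = 9 by decide, show ArithmeticFunction.sigma 3 3 = 28 by decide,
      show ArithmeticFunction.sigma 3 4 = 73 by decide, show ArithmeticFunction.sigma 5 2 = 33 by decide,
      show ArithmeticFunction.sigma 5 3 = 244 by decide,
      show ArithmeticFunction.sigma 5 4 = 1057 by decide]
  have h0 : {x : Fin 24 → ℤ | x ⬝ᵥ (B *ᵥ x) = 0} = {0} := by
    ext x
    exact ⟨fun h => by_contra fun k => (hp x k).ne' h, fun h => by simp [show x = 0 from h]⟩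
  have h1 : {x : Fin 24 → ℤ | x ⬝ᵥ (B *ᵥ x) = 2} = ∅ := by
    ext x; simpa using h2 x
  have : mf hs hp hd he - g = 0 := by
    refine sturm_bound_levelOne (lt_of_lt_of_le ?_ (PowerSeries.nat_le_order _ 2 fun i hi => ?_))
    · norm_num; decide
    · rw [FunLike.coe_sub, ModularForm.qExpansion_sub one_pos one_mem_strictPeriods_SL, map_sub, ← hc]
      interval_cases i
      · simp [h0, hv.1]
      · simp [h1, hv.2.1]
  rw [sub_eq_zero.1 this] at hc
  have c2 := hc 2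
  have c3 := hc 3
  have c4 := hc 4
  rw [hv.2.2.1] at c2
  rw [hv.2.2.2.1] at c3
  rw [hv.2.2.2.2] at c4
  exact ⟨by exact_mod_cast c2, by exact_mod_cast c3, by exact_mod_cast c4⟩

end
end Cfsg.Agent.Theta
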