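import Cfsg.Agent.Lib.BG.TB
import Cfsg.Agent.Lib.Transfer.Hall

/-!
The Thompson–Bender lemma for Sylow subgroups of class two and the transitivity theorem.
-/

set_option autoImplicit false
set_option linter.unusedSectionVars false
set_option linter.unusedVariables false
set_option linter.style.haveILetI false

namespace Cfsg.Agent.BG

open Subgroup Cfsg.Agent.Comp
open scoped commutatorElement Pointwise

universe u

variable {G : Type u} [Group G] {p : ℕ} [Finite G] [hp : Fact p.Prime]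

theorem tb2_core {R A Q : Subgroup G} (hR : IsPGroup p R) (hA : IsPGroup p A) (hAR : A ≤ Nm(R))
    (hQR : Q ≤ Nm(R)) (hAQ : A ≤ Nm(Q)) (hQ : (Nat.card Q).Coprime p) (hC : Ct(R) ≤ R)
    (h2 : ⁅R ⊔ A, R ⊔ A⁆ ≤ Ct(R ⊔ A)) (h : R ⊓ Ct(A) ≤ Ct(Q)) : Q = ⊥ := by
  have hc : ∀ X : Subgroup G, X ≤ Q → ∀ Y : Subgroup G, IsPGroup p Y → (Nat.card X).Coprime (Nat.card Y) :=
    fun X hX Y hY => (coprime_card_of_isPGroup hY (hQ.of_dvd_left (card_dvd_of_le hX))).symm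
  have hb : ∀ X : Subgroup G, X ≤ Q → X ≤ Ct(R) → X = ⊥ := fun X h1 h3 =>
    eq_bot_of_isPGroup_of_coprime (hR.to_le (h3.trans hC)) (hQ.of_dvd_left (card_dvd_of_le h1))
  have h1 : ⁅R, R ⊔ A⁆ ≤ R ⊓ Ct(Q) := by
    have h3 : ⁅R, R ⊔ A⁆ ≤ R := Solv.commutator_le_left_of_le_normalizer (sup_le le_normalizer hAR)
    refine le_inf h3 (le_trans (le_inf h3 ?_) h)
    exact ((commutator_mono le_sup_left le_rfl).trans h2).trans
      (centralizer_le (show (A : Set G) ⊆ (R ⊔ A : Subgroup G) from (le_sup_right : A ≤ R ⊔ A)))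
  have hD : R ≤ Nm(R ⊓ Ct(Q)) := le_normalizer_iff_commutator_le_right.2
    ((commutator_mono le_rfl (inf_le_left.trans le_sup_left)).trans h1)
  have h3 : ⁅⁅Q, A⁆, R⁆ ≤ R ⊓ Ct(Q) := by
    refine three_subgroups_le (le_normalizer_inf hAR (le_normalizer_centralizer hAQ)) hD
      (le_normalizer_inf hQR (le_normalizer_centralizer le_normalizer)) ?_ ?_
    · rw [commutator_comm A R]
      refine le_trans (le_of_eq (commutator_eq_bot_iff_le_centralizer.2 ?_)) bot_le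
      exact ((commutator_mono le_rfl le_sup_right).trans h1).trans inf_le_right
    · exact (commutator_mono (Solv.commutator_le_left_of_le_normalizer hQR) le_sup_right).trans h1
  have h4 : ⁅Q, A⁆ ≤ Q := Solv.commutator_le_left_of_le_normalizer hAQ
  have h5 : ⁅Q, A⁆ = ⊥ := hb _ h4 (le_Ct_of_commutator_le (hc _ h4 _ (hR.to_le inf_le_left))
    (by rwa [commutator_comm]) (h4.trans (le_Ct_comm.1 inf_le_right)))
  exact hb Q le_rfl (Solv.thompson_pxq hA hQ hR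
    (le_Ct_comm.1 (commutator_eq_bot_iff_le_centralizer.1 h5)) hAR hQR h)

theorem thompson_bender2 (h2 : ∀ T : Subgroup G, IsPGroup p T → ⁅T, T⁆ ≤ Ct(T))
    (hG : PLay p (⊤ : Subgroup G) = ⊥) {A Q : Subgroup G} (hA : IsPGroup p A)
    (h : ∀ x ∈ Ct(A), IsPGroup p (zpowers x) → x ∈ A) (hQ : (Nat.card Q).Coprime p) (hAQ : A ≤ Nm(Q)) :
    Q ≤ pPrimeCore p G := by
  let f := QuotientGroup.mk' (pPrimeCore p G)
  have hk : ⊤ ⊓ f.ker = Opp p (⊤ : Subgroup G) := by rw [top_inf_eq, QuotientGroup.ker_mk', Opp_top]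
  have h1 := charP_map_of_PLay_eq_bot _ hk hG
  rw [Solv.map_top_mk, charP_top_iff] at h1
  have h3 := map_inf_centralizer f (M := ⊤) (A := A) le_normalizer_of_normal
    (by rw [hk]; exact coprime_card_of_isPGroup hA (coprime_Opp p _)) (Or.inl (isSolvable_of_isPGroup hA))
  rw [top_inf_eq, Solv.map_top_mk, top_inf_eq] at h3
  have h4 : (Nat.card (Q.map f)).Coprime p := hQ.of_dvd_left (card_map_dvd _ _)
  have hR := Solv.isPGroup_pCore p (G ⧸ pPrimeCore p G)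
  have h5 := tb2_core hR (hA.map f) le_normalizer_of_normal le_normalizer_of_normal
    (map_le_normalizer_map f hAQ) h4 h1 (by
      obtain ⟨T, -, t2, t3⟩ := exists_isPGroup_map_eq f (X := ⊤) (Q := pCore p _ ⊔ A.map f)
        (by rw [Solv.map_top_mk]; exact le_top) (hR.to_sup_of_normal_left (hA.map f))
      rw [← t3, ← map_commutator]
      refine (map_mono (h2 T t2)).trans ?_
      rintro _ ⟨x, hx, rfl⟩ _ ⟨y, hy, rfl⟩
      rw [← map_mul, ← map_mul, hx y hy]) fun x hx => by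
      obtain ⟨P, p1, p2, p3⟩ := exists_isPGroup_map_eq f (X := Ct(A)) (Q := zpowers x) (zpowers_le.2 (h3.ge hx.2))
        (hR.to_le (zpowers_le.2 hx.1))
      obtain ⟨y, hy, rfl⟩ := p3.ge (mem_zpowers x)
      have p5 : y ∈ A := h y (p1 hy) (p2.to_le (zpowers_le.2 hy))
      refine fun q hq => commutatorElement_eq_one_iff_mul_comm.1 (mem_bot.1 ((eq_bot_of_isPGroup_of_coprime
        (hR.to_inf_left (K := Q.map f)) (h4.of_dvd_left (card_dvd_of_le inf_le_right))).le ⟨?_, ?_⟩))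
      · exact commutator_le_right ⊤ _ (commutator_mem_commutator (mem_top _) hx.1)
      · exact Solv.commutator_le_left_of_le_normalizer (map_le_normalizer_map f hAQ)
          (commutator_mem_commutator hq (mem_map_of_mem f p5))
  rwa [Subgroup.map_eq_bot_iff, QuotientGroup.ker_mk'] at h5

theorem tb_rel (h2 : p = 2 → ∀ T : Subgroup G, IsPGroup p T → ⁅T, T⁆ ≤ Ct(T)) {M A Q : Subgroup G}
    (hM : IsPConstrained p M) (hA : IsPGroup p A) (h : ∀ x ∈ Ct(A), IsPGroup p (zpowers x) → x ∈ A)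
    (hAM : A ≤ M) (hQM : Q ≤ M) (hQ : (Nat.card Q).Coprime p) (hAQ : A ≤ Nm(Q)) : Q ≤ Opp p M := by
  have h1 : ∀ x ∈ Ct(A.subgroupOf M), IsPGroup p (zpowers x) → x ∈ A.subgroupOf M := fun x hx hx2 => by
    refine h x (fun a ha => congrArg Subtype.val (hx ⟨a, hAM ha⟩ ha)) ?_
    have := hx2.map M.subtype
    rwa [MonoidHom.map_zpowers] at this
  have h3 : (Nat.card (Q.subgroupOf M)).Coprime p := by
    rwa [Nat.card_congr (subgroupOfEquivOfLe hQM).toEquiv]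
  have h4 : A.subgroupOf M ≤ Nm(Q.subgroupOf M) := by
    rw [← subgroupOf_normalizer_eq hQM]
    exact comap_mono hAQ
  have h5 : Q.subgroupOf M ≤ pPrimeCore p M := by
    by_cases e : p = 2
    · refine thompson_bender2 (fun T hT => ?_) (isPConstrained_iff.1 hM) hA.comap_subtype h1 h3 h4
      intro x hx y hy
      have := h2 e _ (hT.map M.subtype) (by rw [← map_commutator]; exact mem_map_of_mem M.subtype hx) y
        (mem_map_of_mem M.subtype hy)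
      exact Subtype.ext this
    · exact thompson_bender e (isPConstrained_iff.1 hM) hA.comap_subtype (fun x hx hx1 => h1 x hx
        (IsPGroup.of_card (n := 1) (by rw [Nat.card_zpowers, hx1, pow_one]))) h3 h4
  have := map_mono (f := M.subtype) h5
  rwa [subgroupOf_map_subtype, inf_of_le_left hQM] at this

theorem isPGroup_of_primes {q : ℕ} [hq : Fact q.Prime] {Y : Subgroup G}
    (h : ∀ r : ℕ, r.Prime → r ∣ Nat.card Y → r ∈ ({q} : Set ℕ)) : IsPGroup q Y :=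
  IsPGroup.of_card (Nat.eq_prime_pow_of_unique_prime_dvd Nat.card_pos.ne' fun hr h1 => h _ hr h1)

theorem primes_of_isPGroup {q : ℕ} [hq : Fact q.Prime] {Y : Subgroup G} (h : IsPGroup q Y) (r : ℕ)
    (hr : r.Prime) (h1 : r ∣ Nat.card Y) : r ∈ ({q} : Set ℕ) := by
  obtain ⟨n, hn⟩ := h.exists_card_eq
  rw [hn] at h1
  exact (Nat.prime_dvd_prime_iff_eq hr hq.out).1 (hr.dvd_of_dvd_pow h1)

theorem exists_maxInv {E Y : Subgroup G} {π : Set ℕ} (h : Y ∈ invSubgroups ⊤ E π) :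
    ∃ Q ∈ maxInvSubgroups ⊤ E π, Y ≤ Q := by
  obtain ⟨Q, h1, h2⟩ := (wellFounded_gt (α := Subgroup G)).has_min {Q | Q ∈ invSubgroups ⊤ E π ∧ Y ≤ Q}
    ⟨Y, h, le_rfl⟩
  exact ⟨Q, ⟨h1.1, fun R hR h3 => by_contra fun h4 =>
    h2 R ⟨hR, h1.2.trans h3⟩ (lt_of_le_of_ne h3 (Ne.symm h4))⟩, h1.2⟩

theorem cj_inv {E Y : Subgroup G} {π : Set ℕ} (h : Y ∈ invSubgroups ⊤ E π) {c : G} (hc : c ∈ Ct(E)) :
    Transfer.cj c Y ∈ invSubgroups ⊤ E π := by
  refine ⟨le_top, fun r hr h1 => h.2.1 r hr (by rwa [Transfer.card_cj] at h1), fun e he => ?_⟩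
  rw [Transfer.mem_normalizer_iff_cj, Transfer.cj_cj, hc e he, ← Transfer.cj_cj,
    Transfer.cj_eq_of_mem_normalizer (h.2.2 he)]

theorem cj_maxInv {E Y : Subgroup G} {π : Set ℕ} (h : Y ∈ maxInvSubgroups ⊤ E π) {c : G} (hc : c ∈ Ct(E)) :
    Transfer.cj c Y ∈ maxInvSubgroups ⊤ E π := by
  refine ⟨cj_inv h.1 hc, fun R hR h1 => ?_⟩
  rw [← h.2 _ (cj_inv hR (inv_mem hc)) (Transfer.cj_le_iff_le_cj_inv.1 h1), Transfer.cj_cj_inv]

theorem transitivity (hloc : ∀ T : Subgroup G, IsPGroup p T → T ≠ ⊥ → IsPConstrained p Nm(T))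
    (h2 : p = 2 → ∀ T : Subgroup G, IsPGroup p T → ⁅T, T⁆ ≤ Ct(T)) {E A K : Subgroup G}
    (hEp : IsPGroup p E) (hEc : E ≤ Ct(E)) (hAE : A ≤ E) (hA : IsElementaryAbelian p A)
    (hA3 : p ^ 2 < Nat.card A) (hE : ∀ x ∈ Ct(E), IsPGroup p (zpowers x) → x ∈ E) (hK : K ≤ Ct(E))
    (hK2 : ∀ x ∈ Ct(E), (orderOf x).Coprime p → x ∈ K) {q : ℕ} [hq : Fact q.Prime] (hqp : q ≠ p)
    (D : Subgroup G) : ∀ Q₁ ∈ maxInvSubgroups ⊤ E {q}, ∀ Q₂ ∈ maxInvSubgroups ⊤ E {q}, Q₁ ⊓ Q₂ = D →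
      ∃ k ∈ K, Q₂ = Transfer.cj k Q₁ := by
  induction D using WellFoundedGT.induction with
  | _ D ih =>
  intro Q₁ h₁ Q₂ h₂ hD
  by_cases e : Q₁ = Q₂
  · exact ⟨1, one_mem _, by simp [e]⟩
  have g₁ := isPGroup_of_primes h₁.1.2.1
  have g₂ := isPGroup_of_primes h₂.1.2.1
  have hco : ∀ Y : Subgroup G, IsPGroup q Y → (Nat.card Y).Coprime p := fun Y hY => by
    obtain ⟨n, hn⟩ := hY.exists_card_eq
    rw [hn]
    exact ((Nat.coprime_primes hq.out hp.out).2 hqp).pow_left _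
  have l₁ : D < Q₁ := lt_of_le_of_ne (hD ▸ inf_le_left) fun h =>
    e (h₁.2 _ h₂.1 (inf_eq_left.1 (hD.trans h))).symm
  have l₂ : D < Q₂ := lt_of_le_of_ne (hD ▸ inf_le_right) fun h =>
    e (h₂.2 _ h₁.1 (inf_eq_right.1 (hD.trans h)))
  have hED : E ≤ Nm(D) := hD ▸ le_normalizer_inf h₁.1.2.2 h₂.1.2.2
  have hN : ∀ Q : Subgroup G, E ≤ Nm(Q) → E ≤ Nm(Q ⊓ Nm(D)) := fun Q h =>
    le_normalizer_inf h (Solv.le_normalizer_normalizer hED)
  have hA1 : A ≠ ⊥ := by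
    rintro rfl
    have := Nat.one_le_pow 2 p hp.out.pos
    simp only [card_bot] at hA3
    omega
  obtain ⟨B, b1, b2, b3⟩ : ∃ B, B ≤ A ∧ B.relIndex A = p ∧ ¬ Q₁ ⊓ Nm(D) ⊓ Ct(B) ≤ D := by
    by_contra h
    push Not at h
    exact (Transfer.lt_inf_normalizer g₁ l₁).not_ge (le_of_forall_hyperplane hA hA1
      (hAE.trans (hN _ h₁.1.2.2)) (hco _ (g₁.to_le inf_le_left)) h)
  have b4 : ¬ IsCyclic B := fun h => by
    have h3 := Transfer.card_mul_relIndex b1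
    have h4 : Nat.card B ∣ p := by
      rw [← IsCyclic.exponent_eq_card]
      exact Monoid.exponent_dvd_of_forall_pow_eq_one fun x => Subtype.ext (hA.2 x (b1 x.2))
    have h5 := Nat.le_of_dvd hp.out.pos h4
    rw [b2] at h3
    nlinarith
  obtain ⟨u, u1, u2, u3⟩ : ∃ u ∈ B, u ≠ 1 ∧ ¬ Q₂ ⊓ Nm(D) ⊓ C1(u) ≤ D := by
    by_contra h
    push Not at h
    refine (Transfer.lt_inf_normalizer g₂ l₂).not_ge (le_of_forall_C1 (A := B) ?_ b4
      (b1.trans (hAE.trans (hN _ h₂.1.2.2))) ?_ h)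
    · exact le_centralizer_iff_isMulCommutative.1 ((b1.trans (hAE.trans hEc)).trans
        (centralizer_le (b1.trans hAE)))
    · exact coprime_card_of_isPGroup (hEp.to_le (b1.trans hAE)) (hco _ (g₂.to_le inf_le_left))
  have u4 : ¬ Q₁ ⊓ Nm(D) ⊓ C1(u) ≤ D := fun h =>
    b3 ((inf_le_inf_left _ (centralizer_le (Set.singleton_subset_iff.2 u1))).trans h)
  have uE := hAE (b1 u1)
  have hCM : C1(u) ≤ Nm(zpowers u) := fun x hx => centralizer_le_normalizer _ (by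
    rintro _ ⟨n, rfl⟩
    exact ((show Commute u x from (mem_centralizer_singleton_iff.1 hx).symm).zpow_left n).eq)
  have hEu : E ≤ C1(u) := hEc.trans (centralizer_le (Set.singleton_subset_iff.2 uE))
  have hM := hloc (zpowers u) (hEp.to_le (zpowers_le.2 uE)) (by simpa using u2)
  set L := Opp p Nm(zpowers u) ⊓ Nm(D) with hL
  have hEL : E ≤ Nm(L) := hN _ (le_normalizer_Opp_of_le (hEu.trans hCM))
  have hLc : (Nat.card L).Coprime p := (coprime_Opp p _).of_dvd_left (card_dvd_of_le inf_le_left)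
  have hcop := coprime_card_of_isPGroup hEp hLc
  have hs : Group.IsSolvable E ∨ Group.IsSolvable L := Or.inl (isSolvable_of_isPGroup hEp)
  have key : ∀ Q : Subgroup G, IsPGroup q Q → E ≤ Nm(Q) → ∃ S, Solv.IsSylowIn q S L ∧
      Q ⊓ Nm(D) ⊓ C1(u) ≤ S ∧ E ≤ Nm(S) := fun Q g h => by
    have h3 : E ≤ Nm(Q ⊓ Nm(D) ⊓ C1(u)) := le_normalizer_inf (hN Q h) (hEu.trans le_normalizer)
    have h4 : IsPGroup q (Q ⊓ Nm(D) ⊓ C1(u) : Subgroup G) := g.to_le (inf_le_left.trans inf_le_left)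
    exact Solv.coprime_exists_sylowIn_ge hEL hcop hs (le_inf (tb_rel h2 hM hEp hE (hEu.trans hCM)
      (inf_le_right.trans hCM) (hco _ h4) h3) (inf_le_left.trans inf_le_right)) h4 h3
  obtain ⟨S₁, s1, s2, s3⟩ := key Q₁ g₁ h₁.1.2.2
  obtain ⟨S₂, t1, t2, t3⟩ := key Q₂ g₂ h₂.1.2.2
  obtain ⟨c, hc, hc2⟩ := Solv.coprime_sylowIn_conj hEL hcop hs s1 t1 s3 t3
  rw [← Transfer.cj_eq_smul] at hc2
  have hcK := hK2 c hc.2 (hLc.of_dvd_left (L.orderOf_dvd_natCard hc.1))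
  obtain ⟨Q₃, h₃, h4⟩ := exists_maxInv (E := E) (Y := D ⊔ S₁) (π := {q}) ⟨le_top, primes_of_isPGroup
    ((g₁.to_le l₁.le).to_sup_of_normal_left' s1.isPGroup (s1.le.trans inf_le_right)),
    le_normalizer_sup hED s3⟩
  have h5 := cj_maxInv h₃ hc.2
  obtain ⟨k, hk, h6⟩ := ih (Q₁ ⊓ Q₃) (lt_of_le_not_ge (le_inf l₁.le (le_sup_left.trans h4)) fun h =>
    u4 ((le_inf (inf_le_left.trans inf_le_left) (s2.trans (le_sup_right.trans h4))).trans h)) Q₁ h₁ Q₃ h₃ rfl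
  have h7 : D ⊔ S₂ ≤ Transfer.cj c Q₃ := by
    rw [← hc2, ← Transfer.cj_eq_of_mem_normalizer hc.1.2, ← Transfer.cj_sup]
    exact Transfer.cj_mono _ h4
  obtain ⟨k', hk', h8⟩ := ih (Transfer.cj c Q₃ ⊓ Q₂) (lt_of_le_not_ge (le_inf (le_sup_left.trans h7) l₂.le)
    fun h => u3 ((le_inf (t2.trans (le_sup_right.trans h7)) (inf_le_left.trans inf_le_left)).trans h))
      _ h5 Q₂ h₂ rfl
  exact ⟨k' * (c * k), mul_mem hk' (mul_mem hcK hk), by rw [h8, h6, Transfer.cj_cj, Transfer.cj_cj, mul_assoc]⟩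

end Cfsg.Agent.BG
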