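import Cfsg.Agent.S2420
import Cfsg.Agent.Lib.Char.Induce

set_option autoImplicit false
set_option linter.unusedSectionVars false

/-! Double cosets of standard parabolic subgroups of `GL_n` and of Young subgroups. -/
namespace Cfsg.Agent.Unip
open Finset Matrix Cfsg.Agent.S2420 MatrixGroups

theorem burn {G : Type*} [Group G] [Fintype G] (H K : Subgroup G) {T : Type*} (w : T → G)
    (h1 : ∀ g, ∃ t, ∃ h ∈ H, ∃ k ∈ K, g = h * w t * k)
    (h2 : ∀ t t', ∀ h ∈ H, ∀ k ∈ K, w t' = h * w t * k → t = t') :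
    (Nat.card G : ℂ)⁻¹ * ∑ g, fixedPointCharacter H g * fixedPointCharacter K g = Nat.card T := by
  classical
  have := Fintype.ofFinite (MulAction.orbitRel.Quotient G ((G ⧸ H) × G ⧸ K))
  have b := congrArg (Nat.cast : ℕ → ℂ)
    (MulAction.sum_card_fixedBy_eq_card_orbits_mul_card_group G ((G ⧸ H) × G ⧸ K))
  simp only [← Nat.card_eq_fintype_card, Nat.cast_mul, Nat.cast_sum] at b
  have e : ∀ g : G, fixedPointCharacter H g * fixedPointCharacter K g =
      Nat.card (MulAction.fixedBy ((G ⧸ H) × G ⧸ K) g) := fun g => by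
    rw [fixedPointCharacter, fixedPointCharacter, ← Nat.cast_mul, ← Nat.card_prod,
      ← Nat.card_congr (Equiv.Set.prod _ _)]
    congr 3
    ext p; simp [Prod.ext_iff]
  simp only [e, b]
  rw [mul_comm, mul_assoc, mul_inv_cancel₀ (by exact_mod_cast Nat.card_pos.ne'), mul_one]
  congr 1
  refine (Nat.card_congr (Equiv.ofBijective (fun t => (Quotient.mk'' ((1 : G), w t) :
    MulAction.orbitRel.Quotient G ((G ⧸ H) × G ⧸ K))) ⟨fun t t' h => ?_, fun x => ?_⟩)).symm
  · obtain ⟨g, hg⟩ := Quotient.exact' h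
    simp only [Prod.smul_mk, Prod.mk.injEq, MulAction.Quotient.smul_mk, smul_eq_mul, mul_one,
      QuotientGroup.eq] at hg
    exact (h2 _ _ g (by simpa using hg.1) _ hg.2 (by group)).symm
  · obtain ⟨⟨a, b⟩, rfl⟩ := Quotient.exists_rep x
    obtain ⟨a, rfl⟩ := QuotientGroup.mk_surjective a
    obtain ⟨b, rfl⟩ := QuotientGroup.mk_surjective b
    obtain ⟨t, h, hh, k, hk, e⟩ := h1 (a⁻¹ * b)
    refine ⟨t, Quotient.sound' ⟨(a * h)⁻¹, ?_⟩⟩
    simp only [Prod.smul_mk, Prod.mk.injEq, MulAction.Quotient.smul_mk, smul_eq_mul, QuotientGroup.eq]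
    refine ⟨by simpa using hh, ?_⟩
    rw [show b = a * (h * w t * k) by rw [← e]; group]
    simpa [mul_assoc] using hk

theorem fib {X Y L : Type*} [Fintype X] [Fintype Y] [DecidableEq L] (f : X → L) (g : Y → L)
    (h : ∀ c, #{x | f x = c} = #{y | g y = c}) : ∃ e : X ≃ Y, ∀ x, g (e x) = f x :=
  ⟨.ofFiberEquiv fun c => Fintype.equivOfCardEq (by simpa [Fintype.card_subtype] using h c),
    Equiv.ofFiberEquiv_map _⟩

variable {n : ℕ} {F : Type*} [Field F]

theorem mono (μ : Fin n → ℕ) : Monotone (compLabel μ) := fun _ _ h =>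
  card_le_card fun _ hj => mem_filter.2 ⟨mem_univ _, (mem_filter.1 hj).2.trans h⟩

variable (F) in
noncomputable def pm : Equiv.Perm (Fin n) →* GL (Fin n) F := permMatrixHom.toHomUnits

theorem pm_apply (σ : Equiv.Perm (Fin n)) (i j : Fin n) :
    (pm F σ : Matrix (Fin n) (Fin n) F) i j = if i = σ j then 1 else 0 := by
  simp [pm, Equiv.Perm.permMatrix, PEquiv.toMatrix_apply, Equiv.symm_apply_eq]

theorem mem_par {μ : Fin n → ℕ} {g : GL (Fin n) F} : g ∈ parabolicGL n F μ ↔
    ∀ i j, compLabel μ j < compLabel μ i → g.val i j = 0 := Iff.rfl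

theorem pm_mem {μ : Fin n → ℕ} {σ : Equiv.Perm (Fin n)} (h : σ ∈ youngSubgroup μ) :
    pm F σ ∈ parabolicGL n F μ := mem_par.2 fun i j hij => by
  rw [pm_apply, if_neg]
  rintro rfl
  exact hij.ne (h j).symm

theorem bruhat (α β : Fin n → ℕ) (g : GL (Fin n) F) : ∃ w, ∃ p ∈ parabolicGL n F α,
    ∃ p' ∈ parabolicGL n F β, g = p * pm F w * p' := by
  classical
  have ex : ∃ m, ∃ u ∈ parabolicGL n F β, ∃ f : Fin n → ℕ, (∀ i j, (g * u).val i j ≠ 0 → i.val < f j) ∧
      ∑ j, f j = m := ⟨_, 1, one_mem _, fun _ => n, fun i _ _ => i.2, rfl⟩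
  obtain ⟨u, hu, f, hf, hm⟩ := Nat.find_spec ex
  have mn : ∀ u' ∈ parabolicGL n F β, ∀ j, ¬ ∀ i j', (g * u').val i j' ≠ 0 →
      i.val < Function.update f j (f j - 1) j' := by
    intro u' hu' j h
    have h0 : f j ≠ 0 := fun h0 => by
      refine (g * u').det_ne_zero (det_eq_zero_of_column_eq_zero j fun i => ?_)
      by_contra k
      have := h i j k
      simp [h0] at this
    have := Nat.find_min' ex ⟨u', hu', _, h, rfl⟩
    rw [← hm, sum_update_of_mem (mem_univ j), ← add_sum_erase _ _ (mem_univ j), sdiff_singleton_eq_erase]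
      at this
    omega
  have tight : ∀ j, ∃ i : Fin n, i.val + 1 = f j ∧ (g * u).val i j ≠ 0 := by
    intro j
    by_contra! h
    refine mn u hu j fun i j' k => ?_
    have := hf i j' k
    by_cases e : j' = j
    · subst e
      have : ¬ i.val + 1 = f j' := fun e => k (h i e)
      simp only [Function.update_self]; omega
    · rwa [Function.update_of_ne e]
  choose w hw hw' using tight
  have inj : ∀ j j', j < j' → w j ≠ w j' := by
    intro j j' hj e
    let c := -(g * u).val (w j') j' / (g * u).val (w j) j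
    let t : GL (Fin n) F := GeneralLinearGroup.mkOfDetNeZero (transvection j j' c)
      (by rw [det_transvection_of_ne _ _ hj.ne]; exact one_ne_zero)
    have ht : t ∈ parabolicGL n F β := blockTriangular_transvection (mono β hj.le) c
    refine mn (u * t) (mul_mem hu ht) j' fun i k hk => ?_
    rw [← mul_assoc, Units.val_mul, show t.val = transvection j j' c from rfl] at hk
    by_cases e' : k = j'
    · subst e'
      rw [mul_transvection_apply_same] at hk
      have h1 : i ≠ w k := by
        rintro rfl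
        apply hk
        have := hw' j
        simp only [c]
        rw [e] at this ⊢
        field_simp; ring
      have h2 : i.val < f k := by
        by_cases h3 : (g * u).val i k = 0
        · rw [h3, zero_add] at hk
          have := hf i j (right_ne_zero_of_mul hk)
          rwa [← hw, e, hw] at this
        · exact hf i k h3
      have := hw k
      have := Fin.val_ne_of_ne h1
      simp only [Function.update_self]; omega
    · rw [mul_transvection_apply_of_ne _ _ _ _ e'] at hk
      rw [Function.update_of_ne e']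
      exact hf i k hk
  let W : Equiv.Perm (Fin n) := Equiv.ofBijective w (Finite.injective_iff_bijective.1 fun j j' e => by
    rcases lt_trichotomy j j' with h | h | h
    exacts [absurd e (inj _ _ h), h, absurd e.symm (inj _ _ h)])
  refine ⟨W, g * u * pm F W⁻¹, mem_par.2 fun i k hik => ?_, u⁻¹, inv_mem hu, by simp⟩
  rw [Units.val_mul, mul_apply]
  simp only [pm_apply, mul_ite, mul_one, mul_zero, sum_ite_eq', mem_univ, if_true]
  by_contra h
  have h1 := hf _ _ h
  rw [← hw, show w (W⁻¹ k) = k from W.apply_symm_apply k] at h1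
  exact hik.not_ge (mono α (Fin.le_def.2 (by omega)))

def cum (α β : Fin n → ℕ) (w : Equiv.Perm (Fin n)) (r s : ℕ) : ℕ :=
  #{j | r ≤ compLabel α (w j) ∧ compLabel β j < s}

def cnt (α β : Fin n → ℕ) (w : Equiv.Perm (Fin n)) (r s : Fin n) : ℕ :=
  #{j | compLabel α (w j) = r ∧ compLabel β j = s}

theorem cum_le {α β : Fin n → ℕ} {w w' : Equiv.Perm (Fin n)} {p p' : GL (Fin n) F}
    (hp : p ∈ parabolicGL n F α) (hp' : p' ∈ parabolicGL n F β) (e : pm F w' = p * pm F w * p')
    (r s : ℕ) : cum α β w' r s ≤ cum α β w r s := by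
  classical
  let D : Matrix (Fin n) (Fin n) F := diagonal fun i => if r ≤ compLabel α i then 1 else 0
  let E : Matrix (Fin n) (Fin n) F := diagonal fun i => if compLabel β i < s then 1 else 0
  have h1 : ∀ w, (D * (pm F w).val * E).rank = cum α β w r s := fun w => by
    have : D * (pm F w).val * E = (pm F w).val * diagonal fun j =>
        if r ≤ compLabel α (w j) ∧ compLabel β j < s then 1 else 0 := by
      ext i j
      simp only [D, E, mul_diagonal, diagonal_mul, pm_apply]
      by_cases h : i = w j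
      · subst h; simp [ite_and]; split_ifs <;> rfl
      · simp [h]
    rw [this, rank_mul_eq_right_of_isUnit_det _ _ (pm F w).det_ne_zero.isUnit, rank_diagonal,
      Fintype.card_subtype]
    simp [cum]
  have h2 : D * p.val = D * p.val * D := by
    ext i j
    simp only [D, mul_diagonal, diagonal_mul]
    split_ifs with a b <;> simp
    exact mem_par.1 hp i j (by omega)
  have h3 : p'.val * E = E * (p'.val * E) := by
    ext i j
    simp only [E, mul_diagonal, diagonal_mul]
    split_ifs with a b <;> simp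
    exact mem_par.1 hp' i j (by omega)
  rw [← h1, ← h1, e]
  have : D * (p * pm F w * p').val * E = D * p.val * (D * (pm F w).val * E) * (p'.val * E) := by
    calc _ = D * p.val * (pm F w).val * (p'.val * E) := by simp [Matrix.mul_assoc]
      _ = D * p.val * D * (pm F w).val * (E * (p'.val * E)) := by rw [← h2, ← h3]
      _ = _ := by simp only [Matrix.mul_assoc]
  rw [this]
  exact (rank_mul_le_left _ _).trans (rank_mul_le_right _ _)

theorem cnt_eq {α β : Fin n → ℕ} {w w' : Equiv.Perm (Fin n)} {p p' : GL (Fin n) F}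
    (hp : p ∈ parabolicGL n F α) (hp' : p' ∈ parabolicGL n F β) (e : pm F w' = p * pm F w * p') :
    cnt α β w = cnt α β w' := by
  have h : ∀ r s, cum α β w' r s = cum α β w r s := fun r s => (cum_le hp hp' e r s).antisymm
    (cum_le (inv_mem hp) (inv_mem hp') (by rw [e]; group) r s)
  have k : ∀ w (r s : Fin n), cum α β w r (s + 1) + cum α β w (r + 1) s =
      cnt α β w r s + cum α β w (r + 1) (s + 1) + cum α β w r s := fun w r s => by
    simp only [cum, cnt, card_filter, ← sum_add_distrib]
    exact sum_congr rfl fun j _ => by split_ifs <;> omega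
  funext r s
  have := k w r s
  have := k w' r s
  simp only [h] at this
  omega

def TT (α β : Fin n → ℕ) : Finset (Fin n → Fin n → ℕ) :=
  {M ∈ Fintype.piFinset fun r => piAntidiag univ (α r) | ∑ r, M r = β}

variable {α β : Fin n → ℕ} (hα : ∑ i, α i = n) (hβ : ∑ i, β i = n)

def la (α : Fin n → ℕ) (hα : ∑ i, α i = n) (i : Fin n) : Fin n := ⟨compLabel α i, label_lt α hα i⟩

theorem la_eq (i r : Fin n) : la α hα i = r ↔ compLabel α i = r := Fin.ext_iff

include hα hβ

theorem cnt_mem (w : Equiv.Perm (Fin n)) : cnt α β w ∈ TT α β := by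
  simp only [TT, mem_filter, Fintype.mem_piFinset, mem_piAntidiag, mem_univ, implies_true, and_true]
  refine ⟨fun r => ?_, funext fun s => ?_⟩
  · rw [← card_label α hα, ← card_equiv (s := {j | compLabel α (w j) = r}) w (by simp),
      card_eq_sum_card_fiberwise (f := la β hβ) (t := univ) (by simp)]
    exact sum_congr rfl fun s _ => by simp [cnt, filter_filter, la_eq]
  · rw [← card_label β hβ, card_eq_sum_card_fiberwise (f := fun j => la α hα (w j)) (t := univ) (by simp),
      Finset.sum_apply]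
    exact sum_congr rfl fun s _ => by simp [cnt, filter_filter, la_eq, and_comm]

theorem exists_cnt {M : Fin n → Fin n → ℕ} (hM : M ∈ TT α β) : ∃ w, cnt α β w = M := by
  simp only [TT, mem_filter, Fintype.mem_piFinset, mem_piAntidiag, mem_univ, implies_true, and_true] at hM
  have hS : ∀ (P : Fin n × Fin n → Prop) [DecidablePred P],
      #{x : Σ p : Fin n × Fin n, Fin (M p.1 p.2) | P x.1} = ∑ r, ∑ s, if P (r, s) then M r s else 0 := by
    intro P _
    rw [card_filter, Fintype.sum_sigma, Fintype.sum_prod_type]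
    exact sum_congr rfl fun r _ => sum_congr rfl fun s _ => by split_ifs <;> simp
  obtain ⟨u, hu⟩ := fib (fun x : Σ p : Fin n × Fin n, Fin (M p.1 p.2) => x.1.1) (la α hα) fun c => by
    rw [hS fun p => p.1 = c]
    simp [la_eq, card_label α hα, ← hM.1, sum_comm (γ := Fin n)]
  obtain ⟨v, hv⟩ := fib (fun x : Σ p : Fin n × Fin n, Fin (M p.1 p.2) => x.1.2) (la β hβ) fun c => by
    rw [hS fun p => p.2 = c]
    simpa [la_eq, card_label β hβ] using congrFun hM.2 c
  refine ⟨v.symm.trans u, funext fun r => funext fun s => ?_⟩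
  have := hS fun p => p.1 = r ∧ p.2 = s
  rw [show (∑ r', ∑ s', if r' = r ∧ s' = s then M r' s' else 0) = M r s by
    simp [ite_and, sum_comm (γ := Fin n) (f := fun r' s' => if r' = r then if s' = s then M r' s' else 0 else 0)]] at this
  rw [← this, cnt]
  exact (card_equiv v (by simp [← la_eq hα, ← la_eq hβ, hu, hv])).symm

theorem young {w w' : Equiv.Perm (Fin n)} (h : cnt α β w = cnt α β w') :
    ∃ σ ∈ youngSubgroup α, ∃ τ ∈ youngSubgroup β, w' = σ * w * τ := by
  obtain ⟨τ, hτ⟩ := fib (fun j => (la α hα (w' j), la β hβ j)) (fun j => (la α hα (w j), la β hβ j))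
    fun c => by simpa [cnt, Prod.ext_iff, la_eq] using (congrFun (congrFun h c.1) c.2).symm
  simp only [Prod.mk.injEq, la, Fin.mk.injEq] at hτ
  refine ⟨w' * (τ : Equiv.Perm (Fin n))⁻¹ * w⁻¹, fun i => ?_, τ, fun j => (hτ j).2, by group⟩
  have := (hτ (τ.symm (w.symm i))).1
  simpa using this.symm

theorem inner_GL [Fintype (GL (Fin n) F)] : (Nat.card (GL (Fin n) F) : ℂ)⁻¹ * ∑ g,
    fixedPointCharacter (parabolicGL n F α) g * fixedPointCharacter (parabolicGL n F β) g = #(TT α β) := by
  choose w hw using fun M : TT α β => exists_cnt hα hβ M.2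
  rw [burn _ _ (fun M => pm F (w M)) (fun g => ?_) fun t t' p hp p' hp' e =>
    Subtype.ext (by rw [← hw, ← hw, cnt_eq hp hp' e]), Nat.card_eq_finsetCard]
  obtain ⟨v, p, hp, p', hp', rfl⟩ := bruhat α β g
  obtain ⟨σ, hσ, τ, hτ, e⟩ := young hα hβ (hw ⟨_, cnt_mem hα hβ v⟩)
  refine ⟨⟨_, cnt_mem hα hβ v⟩, _, mul_mem hp (pm_mem hσ), _, mul_mem (pm_mem hτ) hp', ?_⟩
  conv_lhs => rw [e]
  simp [mul_assoc]

theorem inner_S : (Nat.card (Equiv.Perm (Fin n)) : ℂ)⁻¹ * ∑ g,
    fixedPointCharacter (youngSubgroup α) g * fixedPointCharacter (youngSubgroup β) g = #(TT α β) := by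
  choose w hw using fun M : TT α β => exists_cnt hα hβ M.2
  rw [burn _ _ w (fun g => ⟨⟨_, cnt_mem hα hβ g⟩, young hα hβ (hw _)⟩) fun t t' p hp p' hp' e =>
    Subtype.ext (by rw [← hw, ← hw, cnt_eq (F := ℚ) (pm_mem hp) (pm_mem hp') (by rw [← map_mul, ← map_mul, ← e])]),
    Nat.card_eq_finsetCard]

end Cfsg.Agent.Unip
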