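import Cfsg.Agent.Lib.Fusion.Un1

set_option autoImplicit false
set_option linter.unusedSectionVars false
set_option maxHeartbeats 200000

/-! Jacobi–Trudi orthogonality and the unipotent characters of `GL_n(q)`. -/
namespace Cfsg.Agent.Unip
open Finset Matrix Cfsg.Agent.S2420 MatrixGroups MvPolynomial Cfsg.Agent.Char

variable {n : ℕ}

noncomputable def mon (l : Fin n → ℕ) : MvPolynomial (Fin n) ℂ := ∏ j, X j ^ l j
noncomputable def co (l : Fin n → ℕ) : MvPolynomial (Fin n) ℂ →+ ℂ :=
  coeffAddMonoidHom (Finsupp.equivFunOnFinite.symm l)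
noncomputable def hh (n m : ℕ) : MvPolynomial (Fin n) ℂ := ∑ l ∈ piAntidiag univ m, mon l

theorem mon_eq (l : Fin n → ℕ) : mon l = monomial (Finsupp.equivFunOnFinite.symm l) 1 := by
  rw [monomial_eq, Finsupp.prod_fintype _ _ (by simp)]; simp [mon]

theorem co_mon (l l' : Fin n → ℕ) : co l (mon l') = if l' = l then 1 else 0 := by
  simp [co, mon_eq, coeff_monomial]

theorem co_mul (l k : Fin n → ℕ) (p : MvPolynomial (Fin n) ℂ) :
    co l (mon k * p) = if ∀ i, k i ≤ l i then co (fun i => l i - k i) p else 0 := by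
  simp only [co, mon_eq, coeffAddMonoidHom_apply, coeff_monomial_mul', one_mul, Finsupp.le_def,
    Finsupp.equivFunOnFinite_symm_apply_apply]
  congr 2
  ext; simp

theorem co_hh (α β : Fin n → ℕ) : co β (∏ i, hh n (α i)) = #(TT α β) := by
  have : ∀ M : Fin n → Fin n → ℕ, ∏ i, mon (M i) = mon (∑ i, M i) := fun M => by
    simp only [mon, Finset.sum_apply, ← prod_pow_eq_pow_sum]; exact prod_comm
  simp only [hh, prod_univ_sum, this, map_sum, co_mon, TT, card_filter]
  simp

theorem exists_c : ∃ c : Fin n → Fin n → MvPolynomial (Fin n) ℂ, ∀ (j : Fin n) (m : ℕ),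
    X j ^ m = ∑ k : Fin n, (if k.val ≤ m then hh n (m - k) else 0) * c k j := by
  let G : Fin n → PowerSeries (MvPolynomial (Fin n) ℂ) := fun j => .mk fun m => X j ^ m
  let e : Fin n → Polynomial (MvPolynomial (Fin n) ℂ) := fun i => 1 - Polynomial.C (X i) * Polynomial.X
  have h1 : ∀ i, G i * e i = 1 := fun i => by
    ext1 m
    cases m <;> simp [G, e, mul_sub, ← mul_assoc, PowerSeries.coeff_succ_mul_X, pow_succ,
      PowerSeries.coeff_one]
  have h2 : ∀ m, PowerSeries.coeff m (∏ j, G j) = hh n m := fun m => by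
    rw [PowerSeries.coeff_prod]
    exact sum_equiv Finsupp.equivFunOnFinite (by simp) (by simp [G, mon])
  refine ⟨fun k j => (∏ i ∈ univ.erase j, e i).coeff k, fun j m => ?_⟩
  have h3 : (∏ i ∈ univ.erase j, e i : Polynomial _) * ∏ j, G j = G j := by
    rw [← mul_prod_erase _ _ (mem_univ j), mul_left_comm, ← Polynomial.coeToPowerSeries.ringHom_apply,
      map_prod, ← prod_mul_distrib]
    simp only [Polynomial.coeToPowerSeries.ringHom_apply, mul_comm _ (G _), h1, prod_const_one, mul_one]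
  have h4 : ∀ k, n ≤ k → (∏ i ∈ univ.erase j, e i).coeff k = 0 := fun k hk => by
    refine Polynomial.coeff_eq_zero_of_natDegree_lt ((Polynomial.natDegree_prod_le _ _).trans_lt ?_)
    refine (sum_le_card_nsmul _ _ 1 fun i _ => by simp only [e]; compute_degree).trans_lt ?_
    have := j.pos
    simp; omega
  have h5 := congrArg (PowerSeries.coeff m) h3
  rw [PowerSeries.coeff_mul, Nat.sum_antidiagonal_eq_sum_range_succ_mk] at h5
  simp only [h2, Polynomial.coeff_coe, G, PowerSeries.coeff_mk] at h5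
  rw [← h5, Fin.sum_univ_eq_sum_range (fun k => (if k ≤ m then hh n (m - k) else 0) *
    (∏ i ∈ univ.erase j, e i).coeff k), sum_subset (range_subset_range.2 (Nat.le_add_right n (m + 1)))
      fun k _ hk => by rw [h4 k (by simpa using hk), mul_zero],
    ← sum_subset (range_subset_range.2 (Nat.le_add_left (m + 1) n)) fun k _ hk => by
      rw [if_neg (by simp at hk; omega), zero_mul]]
  exact sum_congr rfl fun k hk => by rw [if_pos (by simp at hk; omega), mul_comm]

theorem jt (l : Fin n → ℕ) : ∑ σ : Equiv.Perm (Fin n), Equiv.Perm.sign σ • mon (l ∘ σ) =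
    (∑ σ : Equiv.Perm (Fin n), Equiv.Perm.sign σ • mon fun i => σ i) *
      ∑ κ : Equiv.Perm (Fin n), Equiv.Perm.sign κ •
        if ∀ i, (κ i).val ≤ l i then ∏ i, hh n (l i - κ i) else 0 := by
  obtain ⟨c, hc⟩ := exists_c (n := n)
  let H : (Fin n → ℕ) → Matrix (Fin n) (Fin n) (MvPolynomial (Fin n) ℂ) :=
    fun l => of fun k i => if k.val ≤ l i then hh n (l i - k) else 0
  have h1 : ∀ l : Fin n → ℕ, ∑ σ : Equiv.Perm (Fin n), Equiv.Perm.sign σ • mon (l ∘ σ) =
      (H l).det * (of c).det := fun l => by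
    rw [← det_transpose (H l), ← det_mul, show (H l)ᵀ * of c = of fun i j => X j ^ l i by
      ext1 i j; simp [H, mul_apply, hc], det_apply]
    simp only [mon, of_apply, Function.comp]
  have h2 : (H Fin.val).det = 1 := by
    rw [det_of_upperTriangular (M := H Fin.val) fun i j h => if_neg (not_le.2 h)]
    simp [H, hh, mon]
  have h3 := h1 Fin.val
  rw [h2, one_mul] at h3
  rw [h1, ← h3, mul_comm, det_apply]
  simp only [H, of_apply, Fintype.prod_ite_zero, Function.comp_def]
  congr!

theorem orth {l l' : Fin n → ℕ} (h : StrictMono l) (h' : StrictMono l') :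
    ∑ κ : Equiv.Perm (Fin n), ∑ κ' : Equiv.Perm (Fin n),
      (if ∀ i, (κ i).val ≤ l i then if ∀ i, (κ' i).val ≤ l' i then
        ((Equiv.Perm.sign κ : ℤ) : ℂ) * ((Equiv.Perm.sign κ' : ℤ) : ℂ) *
          #(TT (fun i => l i - κ i) fun i => l' i - κ' i) else 0 else 0) = if l = l' then 1 else 0 := by
  have h1 := congrArg (co l') (jt l)
  rw [sum_mul_sum, sum_comm] at h1
  simp only [map_sum, Units.smul_def, smul_mul_assoc, mul_smul_comm, map_zsmul,
    co_mul, co_mon] at h1
  rw [sum_eq_single 1 (fun σ _ hσ => ?_) (by simp)] at h1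
  · rw [show (if l = l' then (1 : ℂ) else 0) = _ by simpa using h1]
    refine sum_congr rfl fun κ _ => sum_congr rfl fun κ' _ => ?_
    split_ifs <;> simp [co_hh, mul_assoc]
  · rw [if_neg, smul_zero]
    intro e
    have : l = l' := (h.range_inj h').1 (by rw [← e, σ.surjective.range_comp])
    exact hσ (Equiv.ext fun i => h.injective ((congrFun e i).trans (congrFun this i).symm))

variable {F : Type*} [Field F] [Fintype F]

theorem sum_sub {ν : Fin n → ℕ} (hν : ∑ i, ν i = n) {κ : Equiv.Perm (Fin n)}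
    (h : ∀ i, (κ i).val ≤ ν i + i) : ∑ i, (ν i + i - κ i) = n := by
  rw [sum_tsub_distrib _ fun i _ => h i, sum_add_distrib, Equiv.sum_comp κ Fin.val, hν]; simp

theorem uc_eq (ν : Fin n → ℕ) : unipotentCharacterGL n F ν = ∑ κ : Equiv.Perm (Fin n),
    (((if ∀ i, (κ i).val ≤ ν i + i then Equiv.Perm.sign κ else 0 : ℤ)) : ℂ) •
      fixedPointCharacter (parabolicGL n F fun i => ν i + i - κ i) := by
  ext g
  simp only [unipotentCharacterGL, Finset.sum_apply, Pi.smul_apply, smul_eq_mul]
  exact sum_congr rfl fun κ _ => by split_ifs <;> simp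

theorem sm {ν : Fin n → ℕ} (h : Monotone ν) : StrictMono fun i => ν i + i.val := fun _ _ hij =>
  add_lt_add_of_le_of_lt (h hij.le) hij

theorem inner_uc [Fintype (GL (Fin n) F)] {ν ν' : Fin n → ℕ} (h : Monotone ν) (hν : ∑ i, ν i = n)
    (h' : Monotone ν') (hν' : ∑ i, ν' i = n) :
    classInner (unipotentCharacterGL n F ν) (unipotentCharacterGL n F ν') = if ν = ν' then 1 else 0 := by
  rw [show (if ν = ν' then (1 : ℂ) else 0) = if (fun i => ν i + i.val) = fun i => ν' i + i.val then 1 else 0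
    by simp [funext_iff], ← orth (sm h) (sm h'), uc_eq, uc_eq, classInner_sum_left]
  refine sum_congr rfl fun κ _ => ?_
  rw [classInner_sum_right]
  refine sum_congr rfl fun κ' _ => ?_
  rw [classInner_smul_left, classInner_smul_right]
  split_ifs with a b
  · rw [← inner_GL (F := F) (sum_sub hν a) (sum_sub hν' b), map_intCast, mul_assoc]
    simp [classInner, fixedPointCharacter]
  all_goals simp

theorem degree {q : ℕ} (hq : Fintype.card F = q) (ν : Fin n → ℕ) (hsum : ∑ i, ν i = n) :
    unipotentCharacterGL n F ν 1 * (q : ℂ) ^ (n * (n - 1) * (n - 2) / 6) *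
        ∏ i : Fin n, ∏ j ∈ range (ν i + i.val), ((∑ l ∈ range (j + 1), q ^ l : ℕ) : ℂ) =
      (∏ j ∈ range n, ((∑ l ∈ range (j + 1), q ^ l : ℕ) : ℂ)) *
        ∏ i : Fin n, ∏ j ∈ univ.filter (fun j : Fin n => i < j),
          (((∑ l ∈ range (ν j + j.val), q ^ l : ℕ) : ℂ) - ((∑ l ∈ range (ν i + i.val), q ^ l : ℕ) : ℂ)) := by
  set Q : ℕ → ℂ := fun r => ((∑ l ∈ range r, q ^ l : ℕ) : ℂ) with hQ
  have q1 : ∀ k m, Q (k + m) - Q k = q ^ k * Q m := fun k m => by
    simp [Q, sum_range_add, pow_add, mul_sum]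
  have q2 : ∀ k m, (∏ t ∈ range k, (Q (k + m) - Q t)) * ∏ j ∈ range m, Q (j + 1) =
      q ^ (∑ t ∈ range k, t) * ∏ j ∈ range (k + m), Q (j + 1) := fun k => by
    induction k with
    | zero => simp
    | succ k ih =>
      intro m
      rw [prod_range_succ, sum_range_succ, pow_add, show k + 1 + m = k + (m + 1) by ring, q1,
        mul_right_comm (_ ^ _), ← ih, prod_range_succ]
      ring
  have n1 : ∀ k, 2 * ∑ t ∈ range k, t + k = k ^ 2 := fun k => by
    induction k with
    | zero => simp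
    | succ k ih => rw [sum_range_succ]; linarith
  have n2 : ∀ k, 6 * ∑ j ∈ range k, ∑ t ∈ range j, t + 3 * k ^ 2 = k ^ 3 + 2 * k := fun k => by
    induction k with
    | zero => simp
    | succ k ih => rw [sum_range_succ]; linarith [n1 k]
  have n3 : n * (n - 1) * (n - 2) / 6 = ∑ j ∈ range n, ∑ t ∈ range j, t := by
    refine Nat.div_eq_of_eq_mul_right (by norm_num) ?_
    have := n2 n
    rcases n with _ | _ | m
    · simp
    · simp
    · simp only [Nat.add_succ_sub_one, show m + 1 + 1 - 2 = m from rfl]; linarith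
  have v := det_eval_matrixOfPolynomials_eq_det_vandermonde (fun i : Fin n => Q (ν i + i))
    (fun k => ∏ t ∈ range k, (Polynomial.X - Polynomial.C (Q t)))
    (fun k => by rw [Polynomial.natDegree_finsetProd_X_sub_C_eq_card, card_range])
    fun k => Polynomial.monic_prod_X_sub_C _ _
  rw [det_vandermonde, ← det_transpose, det_apply] at v
  simp only [filter_lt_eq_Ioi]
  rw [v, mul_sum, unipotentCharacterGL, sum_mul, sum_mul]
  refine sum_congr rfl fun κ _ => ?_
  simp only [transpose_apply, of_apply, Polynomial.eval_prod, Polynomial.eval_sub, Polynomial.eval_X,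
    Polynomial.eval_C, Units.smul_def, zsmul_eq_mul]
  split_ifs with a
  · have s := congrArg (Nat.cast : ℕ → ℂ) (S2420.result hq _ (sum_sub hsum a))
    simp only [Nat.cast_mul, Nat.cast_prod] at s
    have s2 : ∀ i : Fin n, (∏ t ∈ range (κ i), (Q (ν i + i) - Q t)) * ∏ j ∈ range (ν i + i - κ i), Q (j + 1) =
        q ^ (∑ t ∈ range (κ i), t) * ∏ j ∈ range (ν i + i), Q (j + 1) := fun i => by
      have := q2 (κ i) (ν i + i - κ i)
      rwa [Nat.add_sub_cancel' (a i)] at this
    have s3 := prod_congr (s₁ := univ) rfl fun i _ => s2 i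
    rw [prod_mul_distrib, prod_mul_distrib, prod_pow_eq_pow_sum,
      Equiv.sum_comp κ fun k => ∑ t ∈ range k, t, Fin.sum_univ_eq_sum_range (fun k => ∑ t ∈ range k, t),
      ← n3] at s3
    rw [← s, fixedPointCharacter, MulAction.fixedBy_one_eq_univ, Nat.card_univ, mul_assoc, ← s3]
    ring
  · obtain ⟨i, hi⟩ := not_forall.1 a
    rw [prod_eq_zero (f := fun i : Fin n => ∏ t ∈ range (κ i), (Q (ν i + i) - Q t)) (mem_univ i)
      (prod_eq_zero (mem_range.2 (not_le.1 hi)) (sub_self _))]
    simp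

theorem irr {ν : Fin n → ℕ} (h : Monotone ν) (hν : ∑ i, ν i = n) :
    IsIrrCharacter (GL (Fin n) F) (unipotentCharacterGL n F ν) := by
  classical
  refine IsGeneralizedCharacter.isIrr_of_re_nonneg ?_ (by simp [inner_uc h hν h hν]) ?_
  · rw [uc_eq]
    exact .sum fun κ _ => (isCharacter_perm (G := GL (Fin n) F) (_ ⧸ _)).isGen.intCast_smul _
  · obtain ⟨A, B, hA, hB, e⟩ : ∃ A B : ℝ, 0 < A ∧ 0 ≤ B ∧ unipotentCharacterGL n F ν 1 * A = B := by
      set q := Fintype.card F
      have q0 : 0 < q := Fintype.card_pos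
      have q1 : ∀ j, (0 : ℝ) < (∑ l ∈ range (j + 1), q ^ l : ℕ) := fun j =>
        Nat.cast_pos.2 (sum_pos (fun _ _ => pow_pos q0 _) (by simp))
      refine ⟨(q : ℝ) ^ (n * (n - 1) * (n - 2) / 6) * ∏ i : Fin n, ∏ j ∈ range (ν i + i.val),
        ((∑ l ∈ range (j + 1), q ^ l : ℕ) : ℝ), (∏ j ∈ range n, ((∑ l ∈ range (j + 1), q ^ l : ℕ) : ℝ)) *
        ∏ i : Fin n, ∏ j ∈ univ.filter (fun j : Fin n => i < j),
          (((∑ l ∈ range (ν j + j.val), q ^ l : ℕ) : ℝ) - ((∑ l ∈ range (ν i + i.val), q ^ l : ℕ) : ℝ)),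
        mul_pos (pow_pos (Nat.cast_pos.2 q0) _) (prod_pos fun i _ => prod_pos fun j _ => q1 j),
        mul_nonneg (prod_nonneg fun j _ => (q1 j).le)
        (prod_nonneg fun i _ => prod_nonneg fun j hj => sub_nonneg.2 (Nat.cast_le.2
          (sum_le_sum_of_subset (range_subset_range.2 (sm h (mem_filter.1 hj).2).le)))), ?_⟩
      simp only [Complex.ofReal_mul, Complex.ofReal_prod, Complex.ofReal_natCast, Complex.ofReal_pow,
        Complex.ofReal_sub, ← mul_assoc]
      exact degree rfl ν hν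
    have := congrArg Complex.re e
    rw [Complex.re_mul_ofReal, Complex.ofReal_re] at this
    exact nonneg_of_mul_nonneg_left (this ▸ hB) hA

end Cfsg.Agent.Unip
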