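import Cfsg.Agent.Lib.Fusion.Sparse

/-! Weak closure of central elements: the trace argument on chief factors. -/

set_option autoImplicit false
set_option linter.unusedSectionVars false

universe u v

namespace Cfsg.Agent.Fusion

open Cfsg Cfsg.FusionSystem Subgroup
open scoped commutatorElement

section Grp

variable {G : Type u} [Group G] [Finite G] {p : ℕ} [hp : Fact p.Prime] {M X Y V : Subgroup G}

theorem npc_of_centric (S : Sylow p G) {T : Subgroup G} (hTn : S.1 ≤ normalizer (T : Set G))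
    (hC : S.1 ⊓ centralizer (T : Set G) ≤ T) (hN : ∀ g ∈ normalizer (T : Set G),
      (orderOf g).Coprime p → g ∈ centralizer (T : Set G)) :
    HasNormalPComplement p (normalizer (T : Set G)) :=
  (Transfer.hasNPC_res_iff _).1 (Transfer.hasNPC_mono
    ((((Transfer.isSyl_top S).mono hTn le_top).inf_of_le_normalizer (centralizer_le_normalizer _)
      fun _ h => Transfer.mem_normalizer_centralizer h).hasNPC_of_le_centralizer
      (inf_le_left.trans (centralizer_le hC))) (Transfer.res_le_iff.2 hN))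

theorem fix_of_trace (S : Sylow p G) (hM : M ≠ ⊤) (hSM : S.1 ≤ M)
    (hm : ∀ H, S.1 ≤ H → H ≠ ⊤ → H ≤ M) {u : G} (hu : u ∈ S.1) (hu' : u ∉ pCore p G)
    (c : IsChiefFactor X Y) (hX : IsPGroup p X) (h4 : iterCommutator X (zpowers u) (p - 1) ≤ Y)
    {x : G} (hx : x ∈ X) (hfix : ∀ m ∈ M, ⁅x, m⁆ ∈ Y) (g : G) : ⁅x, g⁆ ∈ Y := by
  classical
  have hXn := c.2.1
  have hYn := c.2.2.1
  let := Fintype.ofFinite (G ⧸ M)
  obtain ⟨A, _, φ, -, hφ⟩ := exists_quot_hom (S := X) (D := Y) (KInf.chief_comm c hX le_rfl)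
  have hF : ∀ μ : X →* A, (∀ y : X, y.1 ∈ Y → μ y = 1) → ∀ t : G,
      ap μ ((t : G ⧸ M).out * x * (t : G ⧸ M).out⁻¹) = ap μ (t * x * t⁻¹) := fun μ hμ t => by
    obtain ⟨m, hm⟩ := QuotientGroup.mk_out_eq_mul M t
    have h1 := hYn.conj_mem _ (Y.inv_mem (hfix m m.2)) t
    rw [hm, show t * m * x * (t * m)⁻¹ = t * ⁅x, m.1⁆⁻¹ * t⁻¹ * (t * x * t⁻¹) by
      simp only [commutatorElement_def]; group, ap_mul _ (c.1.le h1) (hXn.conj_mem _ hx t),
      ap_of_mem _ (c.1.le h1), hμ _ h1, one_mul]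
  have key : ∀ μ : X →* A, (∀ y : X, y.1 ∈ Y → μ y = 1) →
      ∏ y : G ⧸ M, ap μ (y.out * x * y.out⁻¹) = ap μ x := fun μ hμ => by
    have h5 := trace_eq S hM hSM hm (S.1.inv_mem hu) (fun h => hu' (by simpa using h))
      (fun y => ap μ (y.out * x * y.out⁻¹)) fun g w => by
        obtain ⟨t, rfl⟩ := QuotientGroup.mk_surjective w
        have := prod_conj_eq_one c hX h4 μ hμ g (hXn.conj_mem _ hx t)
        refine (Finset.prod_congr rfl fun i _ => ?_).trans this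
        rw [show (g * u⁻¹ * g⁻¹) ^ i • (t : G ⧸ M) = ((g * u⁻¹ * g⁻¹) ^ i * t : G) from rfl,
          hF μ hμ, conj_pow, conj_pow]
        congr 1
        group
    simpa only [hF μ hμ, inv_one, one_mul, mul_one] using h5
  have h0 : ∀ y : X, y.1 ∈ Y → φ y = 1 := fun y hy => (ap_coe φ y).symm.trans ((hφ _ y.2).2 hy)
  have h1 : ∀ y ∈ X, ap (φ.comp (MulAut.conjNormal g : MulAut X).toMonoidHom) y =
      ap φ (g * y * g⁻¹) := fun y hy => by
    rw [ap_of_mem _ hy, ap_of_mem _ (hXn.conj_mem _ hy g)]; rfl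
  have h2 := key (φ.comp (MulAut.conjNormal g : MulAut X).toMonoidHom) fun y hy =>
    h0 _ (hYn.conj_mem _ hy g)
  rw [h1 x hx, Finset.prod_congr rfl fun y _ => h1 _ (hXn.conj_mem _ hx _)] at h2
  have h3 := key φ h0
  rw [← Equiv.prod_comp (MulAction.toPerm g)] at h3
  have h6 : ap φ x = ap φ (g * x * g⁻¹) := by
    rw [← h2, ← h3]
    refine Finset.prod_congr rfl fun y _ => ?_
    have : MulAction.toPerm g y = ((g * y.out : G) : G ⧸ M) := by
      conv_lhs => rw [← y.out_eq']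
      rfl
    rw [this, hF φ h0]
    congr 1
    group
  rw [← hφ _ (by rw [commutatorElement_def, mul_assoc, mul_assoc, ← mul_assoc g]
                 exact X.mul_mem hx (hXn.conj_mem _ (X.inv_mem hx) g)),
    show ⁅x, g⁆ = x * (g * x * g⁻¹)⁻¹ by simp only [commutatorElement_def]; group,
    ap_mul _ hx (X.inv_mem (hXn.conj_mem _ hx g)), ap_inv _ (hXn.conj_mem _ hx g), h6,
    mul_inv_cancel]

theorem exists_chief_elt (P : Sylow p G) [hn : V.Normal] (hV : IsPGroup p V) {y : G} (hy : y ∈ V)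
    (hP : ∀ t ∈ P.1, ⁅y, t⁆ = 1) (hne : ∃ g : G, ⁅y, g⁆ ≠ 1) : ∃ X Y z, IsChiefFactor X Y ∧ X ≤ V ∧
      z ∈ X ∧ (∀ g : G, ⁅z, g⁆ ∈ Y ↔ ⁅y, g⁆ ∈ Y) ∧ ∃ g : G, ⁅y, g⁆ ∉ Y := by
  obtain ⟨Y, ⟨h1, h2, h3⟩, hm⟩ := exists_maximal_of_wellFoundedGT
    (fun Y : Subgroup G => Y.Normal ∧ Y ≤ V ∧ ∃ g : G, ⁅y, g⁆ ∉ Y) ⟨⊥, inferInstance, bot_le, hne⟩
  have hV' : ∀ g : G, ⁅y, g⁆ ∈ V := fun g => by
    rw [commutatorElement_def, mul_assoc, mul_assoc, ← mul_assoc g]
    exact V.mul_mem hy (hn.conj_mem _ (V.inv_mem hy) g)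
  obtain ⟨X, c, h4⟩ := KInf.exists_chief_up (V := Y) (U := V) (lt_of_le_of_ne h2 fun e =>
    h3.elim fun g hg => hg (e ▸ hV' g))
  have h5 : ∀ g : G, ⁅y, g⁆ ∈ X := fun g => by_contra fun h =>
    c.1.not_ge (hm ⟨c.2.1, h4, g, h⟩ c.1.le)
  have := c.2.1
  let π := QuotientGroup.mk' Y
  have hs : Function.Surjective π := QuotientGroup.mk'_surjective Y
  obtain ⟨_, ⟨z, hz, rfl⟩, e⟩ := exists_coboundary (p := p) (T := P.1.map π) (C := X.map π)
    (fun h => P.not_dvd_index (h.trans (index_map_dvd _ hs))) (Normal.map c.2.1 π hs)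
    ((hV.to_le h4).map π) (by
      rintro _ ⟨a, ha, rfl⟩ _ ⟨b, hb, rfl⟩
      exact commutatorElement_eq_one_iff_mul_comm.1 ((QuotientGroup.eq_one_iff ⁅a, b⁆).2
        (KInf.chief_comm c (hV.to_le h4) le_rfl (commutator_mem_commutator ha hb))))
    (fun g => ⁅π y, g⁆) (fun g => by
      obtain ⟨g, rfl⟩ := hs g
      exact ⟨_, h5 g, map_commutatorElement π y g⟩)
    (fun g h => by simp only [commutatorElement_def]; group) (by
      rintro _ ⟨t, ht, rfl⟩
      rw [← map_commutatorElement, hP t ht, map_one])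
  refine ⟨X, Y, z, c, h4, hz, fun g => ?_, h3⟩
  rw [← QuotientGroup.eq_one_iff, ← QuotientGroup.eq_one_iff]
  change π _ = 1 ↔ π _ = 1
  rw [map_commutatorElement, map_commutatorElement, e]; rfl

/-- The base case of Glauberman's weak closure theorems. -/
theorem central_of_chief (P : Sylow p G) [V.Normal] (hV : IsPGroup p V) {y : G} (hy : y ∈ V)
    (hP : y ∈ centralizerIn P.1 P)
    (hmin : ∀ H : Subgroup G, P ≤ H → H ≠ ⊤ → ∀ g ∈ H, g * y * g⁻¹ = y) {u : G} (hu : u ∈ P.1)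
    (hu' : u ∉ pCore p G) (h : ∀ X Y, IsChiefFactor X Y → X ≤ V →
      iterCommutator X (zpowers u) (p - 1) ≤ Y) (g : G) : g * y * g⁻¹ = y := by
  by_contra hg
  have e : ∀ g : G, ⁅y, g⁆ = 1 ↔ g * y * g⁻¹ = y := fun g => by
    rw [commutatorElement_eq_one_iff_mul_comm, mul_inv_eq_iff_eq_mul, eq_comm]
  obtain ⟨X, Y, z, c, h1, h2, h3, k, h4⟩ := exists_chief_elt P hV hy
    (fun t ht => commutatorElement_eq_one_iff_mul_comm.2 (hP.2 t ht).symm) ⟨g, fun h => hg ((e g).1 h)⟩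
  refine h4 ((h3 k).1 (fix_of_trace P (M := centralizer {y}) (fun h => hg ?_)
    (fun t ht => mem_centralizer_singleton_iff.2 (hP.2 t ht)) (fun H h1 h2 g hg =>
      mem_centralizer_singleton_iff.2 (mul_inv_eq_iff_eq_mul.1 (hmin H h1 h2 g hg))) hu hu' c
    (hV.to_le h1) (h X Y c h1) h2 (fun m hm => (h3 m).2 ?_) k))
  · exact mul_inv_eq_iff_eq_mul.2 (mem_centralizer_singleton_iff.1 (h.ge (mem_top g)))
  · rw [commutatorElement_eq_one_iff_mul_comm.2 (mem_centralizer_singleton_iff.1 hm).symm]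
    exact Y.one_mem

/-- A Hall–Higman type lemma for groups with a maximal Sylow subgroup. -/
theorem chief_central_of_coatom (P : Sylow p G) (hm : IsCoatom P.1) {u : G} (hu : u ∈ P.1)
    (hu' : u ∉ pCore p G) (c : IsChiefFactor X Y) (hX : IsPGroup p X)
    (h : iterCommutator X (zpowers u) (p - 1) ≤ Y) : ⁅X, ⊤⁆ ≤ Y := by
  have := c.2.1
  have := c.2.2.1
  have hXP : X ≤ P := (le_pCore c.2.1 hX).trans (pCore_le_sylow P)
  obtain ⟨x, hx, h1, h2⟩ : ∃ x ∈ X, x ∉ Y ∧ ∀ m ∈ P.1, ⁅x, m⁆ ∈ Y := by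
    let π := QuotientGroup.mk' Y
    have := Normal.map c.2.1 π (QuotientGroup.mk'_surjective Y)
    obtain ⟨⟨_, ⟨x, hx, rfl⟩, h1⟩, h2⟩ := Subgroup.ne_bot_iff_exists_ne_one.1
      (Transfer.inf_centralizer_ne_bot (P.2.map π) (map_mono hXP) le_normalizer_of_normal
        fun e => c.1.not_ge (by simpa [π] using (Subgroup.map_eq_bot_iff _).1 e))
    refine ⟨x, hx, fun h => h2 (Subtype.ext ((QuotientGroup.eq_one_iff x).2 h)), fun m hm => ?_⟩
    exact (QuotientGroup.eq_one_iff _).1 (commutatorElement_eq_one_iff_mul_comm.2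
      (h1 _ ⟨m, hm, rfl⟩).symm)
  have h3 := fix_of_trace P hm.1 le_rfl (fun H h1 h2 => h1.eq_or_lt.elim (·.ge)
    fun h => absurd (hm.2 _ h) h2) hu hu' c hX h hx h2
  let Z : Subgroup G := X ⊓ (center (G ⧸ Y)).comap (QuotientGroup.mk' Y)
  have h4 : ∀ z, z ∈ Z ↔ z ∈ X ∧ ∀ g : G, ⁅z, g⁆ ∈ Y := fun z => and_congr_right fun _ => by
    refine Subgroup.mem_center_iff.trans ⟨fun h g => (QuotientGroup.eq_one_iff _).1
      (commutatorElement_eq_one_iff_mul_comm.2 (h g).symm), fun h g => ?_⟩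
    obtain ⟨g, rfl⟩ := QuotientGroup.mk_surjective g
    exact (commutatorElement_eq_one_iff_mul_comm.1 ((QuotientGroup.eq_one_iff ⁅z, g⁆).2 (h g))).symm
  rcases c.2.2.2 Z inferInstance (fun y hy => (h4 y).2 ⟨c.1.le hy, fun g =>
    commutator_le_left Y ⊤ (commutator_mem_commutator hy (mem_top g))⟩) inf_le_left with e | e
  · exact absurd (e.le ((h4 x).2 ⟨hx, h3⟩)) h1
  · exact commutator_le.2 fun z hz g _ => ((h4 z).1 (e.ge hz)).2 g

end Grp

/-- Transport of a normality hypothesis from the sections of a group to the groups involved in it. -/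
theorem base_of_sec {G : Type u} [Group G] [Finite G] {p : ℕ} [Fact p.Prime]
    {W : ∀ (Q : Type u) [Group Q], Subgroup Q} (hW : IsCharPFunctor p W)
    (h : ∀ (K R : Subgroup G) [(R.subgroupOf K).Normal], Con p (K ⧸ R.subgroupOf K) →
      HasNormalPComplement p ((K ⧸ R.subgroupOf K) ⧸ pCore p (K ⧸ R.subgroupOf K)) →
      ∀ T : Sylow p (K ⧸ R.subgroupOf K), IsCoatom T.1 → (inducedFunctor W T.1).Normal)
    (L : Type u) [Group L] [Finite L] (P : Sylow p L) (hL : Involves L G) (hc : Con p L)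
    (h1 : HasNormalPComplement p (L ⧸ pCore p L)) (h2 : IsCoatom P.1) :
    (inducedFunctor W P.1).Normal := by
  obtain ⟨K, R, _, ⟨e⟩⟩ := hL
  have hs := e.symm.surjective
  have := h K R (Con.equiv hc e.symm) ((Transfer.hasNPC_congr (QuotientGroup.congr _ _ e.symm
    (Solv.map_pCore_equiv e.symm))).1 h1) (P.mapSurjective (f := e.symm.toMonoidHom) hs)
    ((OrderIso.isCoatom_iff e.symm.mapSubgroup P.1).2 h2)
  have h3 := Normal.map this e.toMonoidHom e.surjective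
  rwa [ind_map hW (Sylow.isPGroup' _) (Transfer.inf_ker_eq_bot_of_injective e.injective _),
    show (P.mapSurjective (f := e.symm.toMonoidHom) hs).1.map e.toMonoidHom = P by
      change (P.1.map _).map _ = _
      rw [map_map]; simp] at h3

end Cfsg.Agent.Fusion
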