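import Cfsg.Agent.Lib.Fusion.WMap2

/-! Lifting normal subsystems through central quotients. -/

set_option autoImplicit false
set_option linter.unusedSectionVars false

namespace Cfsg.Agent.Fusion

open Cfsg Cfsg.FusionSystem

variable {Ω : Type*} [Group Ω] {S : Subgroup Ω} {F : FusionSystem S} {P Q R T U U' K : Subgroup Ω}
  {f g k ψ : Ω → Ω} {p : ℕ} {E D : FusionSystem T}

theorem autGroup_transport {a : MulAut U} {a' : MulAut U'} (hf : Mor F U f) (e : img f U = U')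
    (ha : a ∈ F.autGroup U) (e' : ∀ x ∈ U, afun a' (f x) = f (afun a x)) : a' ∈ F.autGroup U' := by
  obtain ⟨τ, hτ, h2, -⟩ := hf.exists_transport e
  have : a' = τ a := aut_ext fun y hy => by
    obtain ⟨x, hx, rfl⟩ := hf.mem_img.1 (e.symm ▸ hy)
    rw [e' x hx, hτ a x hx]
  rw [this]; exact (h2 a).2 ha

theorem tc_of_receptive (hT : F.StronglyClosed T) (hr : F.IsReceptive P) (hP : P ≤ T)
    (hc : centralizerIn T P ≤ P) : TC F T P := ⟨hP, fun f hf c hc' => by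
  obtain ⟨i, hi, i1, -, -, i4⟩ := hf.inv
  obtain ⟨g, hg, e⟩ := IsReceptive.ext hr hi i4
  have h1 := centralizerIn_le_Next (f := i) (centralizerIn_mono hT.1 hc')
  have h2 := hg.mem_centralizer_img hi.le_Next h1 (mem_centralizerIn.1 hc').2
  rw [img_congr e, i4] at h2
  have h3 : g c ∈ img g (img f P) := by
    rw [img_congr e, i4]
    exact hc ⟨StronglyClosed.mem hT hg h1 hc'.1, h2.2⟩
  exact (hg.apply_mem_img_iff hi.le_Next h1).1 h3⟩

theorem mem_of_same_conj' (hc : centralizerIn T U ≤ U) {a b : Ω} (ha : a ∈ T) (hb : b ∈ T)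
    (e : ∀ x ∈ U, a * x * a⁻¹ = b * x * b⁻¹) : b⁻¹ * a ∈ U :=
  hc (mem_centralizerIn.2 ⟨T.mul_mem (T.inv_mem hb) ha, fun x hx => by
    rw [show b⁻¹ * a * x * (b⁻¹ * a)⁻¹ = b⁻¹ * (a * x * a⁻¹) * b by group, e x hx]; group⟩)

variable [hp : Fact p.Prime] [Finite S]

theorem fullyNormalized_of_ar (hS : IsPGroup p S) (h1 : F.IsFullyAutomized p P)
    (h2 : F.IsReceptive P) : F.IsFullyNormalized P := ⟨h1.1, fun Q hQ => by
  obtain ⟨g, hg, e⟩ := exists_normalizer_mor hS h1 h2 (isConj_symm hQ)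
  have := finite_of_le (normalizerIn_le : normalizerIn S P ≤ S)
  exact hg.card_le fun x hx => e ▸ hg.normalizerIn_mem (isConj_le_right hQ) hx⟩

theorem exists_ext_K (hT : F.StronglyClosed T) (hr : F.IsReceptive U) (hc : centralizerIn T U ≤ U)
    (h1 : U ≤ K) (h2 : K ≤ normalizerIn T U) {a : MulAut U} (ha : a ∈ F.autGroup U)
    (h3 : ∀ σ ∈ autInducedBy K U, a * σ * a⁻¹ ∈ autInducedBy K U) :
    ∃ b ∈ F.autGroup K, ∀ x ∈ U, afun b x = afun a x := by
  obtain ⟨g, hg, e⟩ := IsReceptive.ext hr ((mem_autGroup hr.1).1 ha) (img_afun a)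
  have hK : K ≤ T := h2.trans normalizerIn_le
  have hN : K ≤ Next S U (afun a) := fun s hs => by
    obtain ⟨σ, eσ⟩ := exists_cAut (h2 hs).2
    exact (mem_Next_afun_iff (hT.1 (hK hs)) eσ).2 (autInducedBy_mono (hK.trans hT.1)
      (h3 σ (mem_autInducedBy.2 ⟨s, hs, eσ⟩)))
  have hg' := hg.mono hN
  have := finite_of_le hg'.le
  obtain ⟨b, hb, eb⟩ := hg'.exists_aut (hg'.img_eq_self fun s hs => by
    obtain ⟨σ, eσ⟩ := exists_cAut (h2 hs).2
    obtain ⟨t, ht, et⟩ := mem_autInducedBy.1 (h3 σ (mem_autInducedBy.2 ⟨s, hs, eσ⟩))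
    have h4 := mem_of_same_conj' hc (StronglyClosed.mem hT hg' hs (hK hs)) (hK ht) fun x hx => by
      have h5 := afun_mem a⁻¹ hx
      rw [← et x hx, afun_mul _ _ hx, afun_mul _ _ h5, ← e _ (afun_mem _ h5), eσ _ h5,
        hg'.map_conj hs (h1 h5), e _ h5, afun_afun_inv _ hx]
    have h5 := mul_mem ht (h1 h4)
    rwa [mul_inv_cancel_left] at h5)
  exact ⟨b, hb, fun x hx => by rw [eb x (h1 hx), e x hx]⟩

theorem ext_mem_E (hS : IsPGroup p S) (hE : E.IsInvariantIn F) (hr : E.IsReceptive U)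
    (hc : centralizerIn T U ≤ U) (h1 : U ≤ K) (h2 : K ≤ normalizerIn T U) {b : MulAut K}
    (hb : b ∈ F.autGroup K) (hb' : (orderOf b).Coprime p) {a : MulAut U} (ha : a ∈ E.autGroup U)
    (e : ∀ x ∈ U, afun b x = afun a x) : b ∈ E.autGroup K := by
  have hK : K ≤ T := h2.trans normalizerIn_le
  have hT := hE.2.1
  have := finite_of_le hT.1
  have := finite_of_le hK
  obtain ⟨c, hc', ec⟩ := exists_ext_K (stronglyClosed_top E) hr hc h1 h2 ha fun σ hσ => by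
    obtain ⟨s, hs, eσ⟩ := mem_autInducedBy.1 hσ
    refine mem_autInducedBy.2 ⟨afun b s, afun_mem _ hs, fun x hx => ?_⟩
    have h5 := afun_mem a⁻¹ hx
    rw [afun_mul _ _ hx, afun_mul _ _ h5, ← e _ (afun_mem _ h5), eσ _ h5,
      afun_map_conj b hs (h1 h5), e _ h5, afun_afun_inv _ hx]
  have e1 : ∀ x ∈ U, afun (b * c⁻¹) x = x := fun x hx => by
    have h3 : afun c⁻¹ x = afun a⁻¹ x := by
      conv_lhs => rw [← afun_afun_inv a hx, ← ec _ (afun_mem _ hx),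
        afun_inv_afun _ (h1 (afun_mem _ hx))]
    rw [afun_mul _ _ (h1 hx), h3, e _ (afun_mem _ hx), afun_afun_inv _ hx]
  obtain ⟨j, hj⟩ := pelt_of_step (pgroup_of_le hS (hK.trans hT.1)) h1 e1 fun x hx =>
    mem_of_same_conj' hc (hK (afun_mem _ hx)) (hK hx) fun y hy => by
      rw [← e1 _ (conj_mem_of_mem_normalizerIn (h2 hx) hy), afun_map_conj _ hx (h1 hy), e1 y hy]
  have h4 := pelt_mem_of_mul (A := E.autGroup K) (fun x hx => by
    have := (IsInvariantIn.strongInv hE).conj_autGroup hK (hK.trans hT.1) _ (inv_mem hb) x hx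
    rwa [inv_inv] at this) hb' (inv_mem hc') hj
  have h5 := mul_mem h4 hc'
  rwa [inv_mul_cancel_right] at h5

variable {Ω' : Type*} [Group Ω'] {S' T' : Subgroup Ω'} {θ : S →* Ω'} {F' : FusionSystem S'}
  {E' : FusionSystem T'}

theorem Surj.fullyNormalized (h : Surj F F' θ) (hS : IsPGroup p S) (hF : F.IsSaturated p)
    (hn : F.IsFullyNormalized P) (hk : preimageAlong θ ⊥ ≤ P) :
    F'.IsFullyNormalized (imageAlong θ P) := by
  have := h.finite
  have h1 := IsSaturated.fullyAutomized hS hF hn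
  exact fullyNormalized_of_ar (h.pgroup hS) (h.automized h1 hk)
    (h.receptive hS h1 (IsSaturated.receptive' hS hF hn) hk)

theorem ap_mem_imageAlong' {x : Ω} (hx : x ∈ P) : ap θ x ∈ imageAlong θ P := by
  by_cases h : x ∈ S
  · exact mem_imageAlong.2 ⟨x, hx, h, rfl⟩
  · rw [ap, dif_neg h]; exact one_mem _

theorem mem_of_ap_mem (hP : P ≤ S) (hk : preimageAlong θ ⊥ ≤ P) {x : Ω} (hx : x ∈ S)
    (h : ap θ x ∈ imageAlong θ P) : x ∈ P :=
  (preimage_image_of_le hP hk).le (mem_preimageAlong.2 ⟨hx, h⟩)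

/-- the automorphisms inducing an automorphism in `E'` -/
def liftL (F : FusionSystem S) (θ : S →* Ω') (E' : FusionSystem T') (U : Subgroup Ω) :
    Subgroup (MulAut U) where
  carrier := {a | a ∈ F.autGroup U ∧ ∃ a' ∈ E'.autGroup (imageAlong θ U),
    ∀ x ∈ U, afun a' (ap θ x) = ap θ (afun a x)}
  one_mem' := ⟨one_mem _, 1, one_mem _, fun x _ => by rw [afun_one, afun_one]⟩
  mul_mem' := by
    rintro a b ⟨h1, a', h2, e⟩ ⟨h3, b', h4, e'⟩
    exact ⟨mul_mem h1 h3, _, mul_mem h2 h4, fun x hx => by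
      rw [afun_mul _ _ (ap_mem_imageAlong' hx), e' x hx, e _ (afun_mem _ hx), afun_mul _ _ hx]⟩
  inv_mem' := by
    rintro a ⟨h1, a', h2, e⟩
    exact ⟨inv_mem h1, _, inv_mem h2, fun x hx => by
      conv_lhs => rw [← afun_afun_inv a hx, ← e _ (afun_mem _ hx),
        afun_inv_afun _ (ap_mem_imageAlong' (afun_mem _ hx))]⟩

theorem mem_liftL (hU : U ≤ S) {a : MulAut U} (ha : a ∈ F.autGroup U) {f' : Ω' → Ω'}
    (hf : Mor E' (imageAlong θ U) f') (e : ∀ x ∈ U, f' (ap θ x) = ap θ (afun a x)) :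
    a ∈ liftL F θ E' U := by
  obtain ⟨a', h1, e'⟩ := hf.exists_aut (by
    rw [img_induced ((mem_autGroup hU).1 ha) e le_rfl, img_afun])
  exact ⟨ha, a', h1, fun x hx => by rw [e' _ (ap_mem_imageAlong' hx), e x hx]⟩

theorem lift_wdata (hS : IsPGroup p S) (hF : F.IsSaturated p) (h : Surj F F' θ)
    (hZ : F.IsCentral (preimageAlong θ ⊥)) (hE : E'.IsNormalIn F' p) :
    WData F (preimageAlong θ T') p (fun U => preimageAlong θ ⊥ ≤ U ∧ U ≤ preimageAlong θ T' ∧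
      TC F' T' (imageAlong θ U)) (liftL F θ E') := by
  have := h.finite
  have hS' := h.pgroup hS
  have hF' := h.saturated hS hF
  have hT' := IsNormalIn.sc hE
  have hT := h.toMorph.preimage_stronglyClosed hT'
  have hZs := IsNormal.stronglyClosed (IsCentral.isNormal hZ)
  have hZT : preimageAlong θ ⊥ ≤ preimageAlong θ T' := preimageAlong_mono bot_le
  have him : ∀ {U}, U ≤ preimageAlong θ T' → imageAlong θ U ≤ T' := fun hU =>
    (imageAlong_le_iff (hU.trans hT.1)).2 fun x hx => (mem_preimageAlong.1 (hU hx)).2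
  have hZf : ∀ {U f}, Mor F U f → preimageAlong θ ⊥ ≤ U → preimageAlong θ ⊥ ≤ img f U :=
    fun hf hU z hz => IsCentral.fix hZ hf (hU hz) hz ▸ subset_img (hU hz)
  have hcen : ∀ z ∈ preimageAlong θ ⊥, ∀ s ∈ S, s * z = z * s := fun z hz s hs => by
    have := IsCentral.fix hZ (mor_conj F le_rfl hs) (hZ.1 hz) hz
    exact mul_inv_eq_iff_eq_mul.1 this
  have htc : ∀ {U}, preimageAlong θ ⊥ ≤ U ∧ U ≤ preimageAlong θ T' ∧ TC F' T' (imageAlong θ U) →
      TC F (preimageAlong θ T') U := fun {U} hU => ⟨hU.2.1, fun f hf c hc => by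
    obtain ⟨f', hf', e⟩ := h.mor hf
    refine mem_of_ap_mem hf.img_le (hZf hf hU.1) (hT.1 hc.1) ?_
    rw [← img_induced hf e le_rfl]
    refine hU.2.2.2 f' hf' (mem_centralizerIn.2 ⟨(mem_preimageAlong.1 hc.1).2, fun y hy => ?_⟩)
    rw [img_induced hf e le_rfl] at hy
    obtain ⟨x, hx, rfl⟩ := (mem_imageAlong' hf.img_le).1 hy
    rw [← ap_conj _ (hT.1 hc.1) (hf.img_le hx), (mem_centralizerIn.1 hc).2 x hx]⟩
  have hcore : ∀ {U}, U ≤ S → modKer F U (preimageAlong θ ⊥) ≤ autCore F p U := fun hU a ha =>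
    chain_mem_autCore hS hZs hU ha.1 (fun x hx hx' => IsCentral.fix hZ ((mem_autGroup hU).1 ha.1)
      hx hx') ha.2
  refine ⟨hT, htc, fun {U f} hU hf => ⟨hZf hf hU.1, StronglyClosed.img_le hT hf hU.2.1, ?_⟩,
    fun hU h1 h2 => ⟨hU.1.trans h1, h2, hU.2.2.mono (imageAlong_mono h1) (him h2)⟩,
    fun {P} hP hn hH hh => hH ?_, fun _ _ ha => ha.1, fun {U} hU σ hσ => ?_,
    fun {U U' f a a'} hU hf e ha e' => ?_, fun {U r l} hU hn hr hr' hl hl' => ?_,
    fun {U K a b} hU h1 h2 hb _ e => ?_, fun {U K a} hU hn h1 h2 ha hc h3 => ?_⟩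
  · obtain ⟨f', hf', e⟩ := h.mor hf
    rw [← img_induced hf e le_rfl]
    exact hU.2.2.image hT' hf'
  · have h1 : preimageAlong θ ⊥ ≤ P := fun z hz => hh ⟨centralizerIn_le_hat (mem_centralizerIn.2
      ⟨hZ.1 hz, fun x hx => by rw [← hcen z hz x (hn.1 hx), mul_inv_cancel_right]⟩), hZT hz⟩
    refine ⟨h1, hP, tc_of_receptive hT' (IsSaturated.receptive' hS' hF'
      (h.fullyNormalized hS hF hn h1)) (him hP) fun c' hc' => ?_⟩
    obtain ⟨c, hc, rfl⟩ := h.pre hT'.1 hc'.1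
    obtain ⟨σ, eσ⟩ := exists_cAut (mem_normalizer_of_ap hn.1 h1 (hT.1 hc)
      (centralizerIn_le_normalizerIn hc').2).2
    refine ap_mem_imageAlong' (hh ⟨mem_hat.2 ⟨hT.1 hc, σ, hcore hn.1 ⟨autInducedBy_le_autGroup F hn.1
      (mem_autInducedBy.2 ⟨c, hT.1 hc, eσ⟩), fun x hx => ?_⟩, eσ⟩, hc⟩)
    rw [mem_ker_iff (hn.1 hx) (hn.1 (afun_mem _ hx)), eσ x hx, ap_conj _ (hT.1 hc) (hn.1 hx),
      (mem_centralizerIn.1 hc').2 _ (ap_mem_imageAlong' hx)]
  · obtain ⟨t, ht, e⟩ := mem_autInducedBy.1 hσ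
    have hUS := hU.2.1.trans hT.1
    exact mem_liftL hUS (autInducedBy_le_autGroup F hUS (autInducedBy_mono hT.1 hσ))
      (mor_conj E' hU.2.2.1 (mem_preimageAlong.1 ht).2) fun x hx => by
        rw [e x hx, ap_conj _ (hT.1 ht) (hUS hx)]
  · obtain ⟨ha, b, hb, eb⟩ := ha
    obtain ⟨f', hf', ef⟩ := h.mor hf
    obtain ⟨g, hg, eg⟩ := IsInvariantIn.strongInv (IsNormalIn.inv hE) _ _ _ _
      ((mem_autGroup hU.2.2.1).1 hb) le_rfl hU.2.2.1 (fun x hx => afun_mem _ hx) hf'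
    rw [img_induced hf ef le_rfl, e] at hg
    refine mem_liftL (e ▸ hf.img_le) (autGroup_transport hf e ha e') hg fun y hy => ?_
    obtain ⟨x, hx, rfl⟩ := hf.mem_img.1 (e.symm ▸ hy)
    rw [e' x hx, ← ef x hx, eg _ (ap_mem_imageAlong' hx), eb x hx, ef _ (afun_mem _ hx)]
  · have hn' := h.fullyNormalized hS hF hn hU.1
    obtain ⟨s, hs, es⟩ := mem_autInducedBy.1 hr'
    obtain ⟨hr, r', h1, er⟩ := hr
    obtain ⟨hl, l', h2, el⟩ := hl
    obtain ⟨t', ht', et'⟩ := mem_autInducedBy.1 (aut_E_inf hS' hE.1 hU.2.2.1 hn' h1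
      (mem_autInducedBy.2 ⟨ap θ s, h.mem s hs, fun y hy => by
        obtain ⟨x, hx, rfl⟩ := (mem_imageAlong' hn.1).1 hy
        rw [er x hx, es x hx, ap_conj _ hs (hn.1 hx)]⟩))
    obtain ⟨t, ht, rfl⟩ := h.pre hT'.1 ht'
    obtain ⟨τ, eτ⟩ := exists_cAut (mem_normalizer_of_ap hn.1 hU.1 (hT.1 ht)
      (mem_normalizer_of_afun et')).2
    have hτ := mem_autInducedBy.2 ⟨t, ht, eτ⟩
    have hc : t⁻¹ * s ∈ S := mul_mem (inv_mem (hT.1 ht)) hs
    have en : ∀ x ∈ U, afun (τ⁻¹ * r) x = (t⁻¹ * s) * x * (t⁻¹ * s)⁻¹ := fun x hx => by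
      rw [afun_mul _ _ hx, afun_inv_conj eτ (afun_mem _ hx), es x hx]; group
    have hc' : ap θ (t⁻¹ * s) ∈ centralizerIn S' (imageAlong θ U) :=
      mem_centralizerIn.2 ⟨h.mem _ hc, fun y hy => by
        obtain ⟨x, hx, rfl⟩ := (mem_imageAlong' hn.1).1 hy
        have h3 := et' _ hy
        rw [er x hx, es x hx, ap_conj _ hs (hn.1 hx)] at h3
        rw [ap_mul _ (inv_mem (hT.1 ht)) hs, ap_inv _ (hT.1 ht)]
        calc _ = (ap θ t)⁻¹ * (ap θ s * ap θ x * (ap θ s)⁻¹) * ap θ t := by group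
          _ = _ := by rw [h3]; group⟩
    have hN : τ⁻¹ * r ∈ modKer F U (preimageAlong θ ⊥) := ⟨mul_mem (inv_mem
      (autInducedBy_le_autGroup F hn.1 (autInducedBy_mono hT.1 hτ))) hr, fun x hx => by
      rw [mem_ker_iff (hn.1 hx) (hn.1 (afun_mem _ hx)), en x hx, ap_conj _ hc (hn.1 hx),
        (mem_centralizerIn.1 hc').2 _ (ap_mem_imageAlong' hx)]⟩
    obtain ⟨β, hβ, eβ⟩ := mem_XA.1 (core_ext hS' hE hU.2.2
      (IsSaturated.fullyCentralized hS' hF' hn') h2)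
    obtain ⟨g, hg, eg⟩ := h.lift ((mem_autGroup (Vc_le hn'.1)).1 hβ.1)
    have hUV : U ≤ preimageAlong θ (Vc S' (imageAlong θ U)) := fun x hx =>
      mem_preimageAlong.2 ⟨hn.1 hx, Subgroup.mem_sup_left (ap_mem_imageAlong' hx)⟩
    have hcV : t⁻¹ * s ∈ preimageAlong θ (Vc S' (imageAlong θ U)) :=
      mem_preimageAlong.2 ⟨hc, Subgroup.mem_sup_right hc'⟩
    generalize t⁻¹ * s = c at hc en hc' hcV
    have h3 : g c * c⁻¹ ∈ preimageAlong θ T' := by
      have h4 : c⁻¹ * g c ∈ preimageAlong θ T' := mem_preimageAlong.2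
        ⟨mul_mem (inv_mem hc) (hg.mem hcV), by
          rw [ap_mul _ (inv_mem hc) (hg.mem hcV), ap_inv _ hc, ← eg c hcV]
          exact hβ.2 _ (Subgroup.mem_sup_right hc')⟩
      have h5 := StronglyClosed.conj_mem hT hc h4
      rwa [mul_inv_cancel_left] at h5
    have h4 : l * (τ⁻¹ * r) * l⁻¹ * (τ⁻¹ * r)⁻¹ ∈ autInducedBy (preimageAlong θ T') U := by
      refine mem_autInducedBy.2 ⟨_, h3, fun x hx => ?_⟩
      have h5 := afun_mem (τ⁻¹ * r)⁻¹ hx
      have h6 := afun_mem l⁻¹ h5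
      rw [afun_mul _ _ hx, afun_mul _ _ h5, afun_mul _ _ h6,
        show g c * c⁻¹ * x * (g c * c⁻¹)⁻¹ = g c * (c⁻¹ * x * c) * (g c)⁻¹ by group,
        ← afun_inv_conj en hx, ← afun_afun_inv l h5]
      rw [afun_inv_afun _ h6]
      generalize afun l⁻¹ (afun (τ⁻¹ * r)⁻¹ x) = y at h6
      have hw := hN.2 y h6
      have hz : (afun l y)⁻¹ * g y ∈ preimageAlong θ ⊥ := by
        rw [mem_ker_iff (hn.1 (afun_mem _ h6)) (hg.mem (hUV h6)), ← eg y (hUV h6),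
          eβ _ (ap_mem_imageAlong' h6), el y h6]
      have h7 := hg.map_conj hcV (hUV h6)
      have h8 : afun (τ⁻¹ * r) y = y * (y⁻¹ * afun (τ⁻¹ * r) y) := by group
      rw [← en y h6, h8, hg.map_mul (hUV h6) (hUV (hU.1 hw)), IsCentral.fix hZ hg (hUV (hU.1 hw)) hw]
        at h7
      rw [h8, afun_map_mul _ h6 (hU.1 hw), IsCentral.fix hZ ((mem_autGroup hn.1).1 hl) (hU.1 hw) hw]
      generalize y⁻¹ * afun (τ⁻¹ * r) y = w at hw h7
      have h9 := hcen _ hz _ (inv_mem (hg.mem hcV))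
      have h10 := hcen _ hz _ (hZ.1 hw)
      have h11 : g y = afun l y * ((afun l y)⁻¹ * g y) := by group
      generalize (afun l y)⁻¹ * g y = z at h9 h10 h11
      rw [h11, mul_assoc, ← h10, ← mul_assoc, ← mul_assoc, mul_assoc _ z, ← h9, ← mul_assoc,
        mul_left_inj] at h7
      exact h7
    have h5 : l * τ * l⁻¹ ∈ autInducedBy (preimageAlong θ T') U := by
      refine ((telt_of_mem hn.1 hτ).transport ((mem_autGroup hn.1).1 hl) (img_afun l)
        (afun_conj_eq l τ)).mem hT (IsSaturated.receptive' hS hF hn) ?_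
      have h6 := mul_mem hl' (inv_mem (autCore_le_of_fn hS hF hn (hcore hn.1
        (modKer_conj hZs hn.1 l hl _ hN))))
      rwa [show l * r * l⁻¹ * (l * (τ⁻¹ * r) * l⁻¹)⁻¹ = l * τ * l⁻¹ by group] at h6
    have h6 := mul_mem (mul_mem h5 h4) (inv_mem hτ)
    rwa [show l * τ * l⁻¹ * (l * (τ⁻¹ * r) * l⁻¹ * (τ⁻¹ * r)⁻¹) * τ⁻¹ = l * r * l⁻¹ * r⁻¹ by group]
      at h6
  · obtain ⟨hb, b', h3, eb⟩ := hb
    exact mem_liftL (hU.2.1.trans hT.1) ((((mem_autGroup (h2.trans hT.1)).1 hb).mono h1).mem_autGroup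
      fun x hx => (e x hx).symm) (((mem_autGroup (him h2)).1 h3).mono (imageAlong_mono h1))
      fun x hx => by rw [eb x (h1 hx), e x hx]
  · obtain ⟨ha, a', h4, ea⟩ := ha
    have hK := h2.trans normalizerIn_le
    obtain ⟨b₀, hb₀, e₀⟩ := exists_ext_K hT (IsSaturated.receptive' hS hF hn) ((htc hU).cent hT.1)
      h1 h2 ha h3
    obtain ⟨b, hb, -, hb', e⟩ := exists_coprime_ext h1 ((mem_autGroup (hK.trans hT.1)).1 hb₀)
      (img_afun b₀) e₀ hc
    obtain ⟨ρ, r1, r2⟩ := h.toMorph.exists_autHom (hK.trans hT.1) rfl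
    have := finite_of_le hT'.1
    refine ⟨b, ⟨hb, ρ ⟨b, hb⟩, ext_mem_E hS' (IsNormalIn.inv hE) (IsSaturated.receptive'
      (pgroup_of_le hS' hT'.1) (IsNormalIn.sat hE) (fullyNormalized_of_sub hS' hF' hT'
        (IsNormalIn.sub hE) hU.2.2.1 (h.fullyNormalized hS hF hn hU.1))) (hU.2.2.cent hT'.1)
      (imageAlong_mono h1) (fun y hy => ?_) (r1 _) (hb'.coprime_dvd_left ((orderOf_map_dvd _ _).trans
        (Subgroup.orderOf_mk _ _).dvd)) h4 fun y hy => ?_, r2 _⟩, e⟩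
    · obtain ⟨x, hx, rfl⟩ := (mem_imageAlong' (hK.trans hT.1)).1 hy
      have := finite_of_le hn.1
      have := finite_of_le (hU.2.2.1)
      refine ⟨him hK hy, mem_normalizer_of_finite fun z hz => ?_⟩
      obtain ⟨w, hw, rfl⟩ := (mem_imageAlong' hn.1).1 hz
      rw [← ap_conj _ (hT.1 (hK hx)) (hn.1 hw)]
      exact ap_mem_imageAlong' (conj_mem_of_mem_normalizerIn (h2 hx) hw)
    · obtain ⟨x, hx, rfl⟩ := (mem_imageAlong' hn.1).1 hy
      rw [r2 _ x (h1 hx), ea x hx, e x hx]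

end Cfsg.Agent.Fusion
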