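import Cfsg.Agent.Lib.Fusion.Glue

/-! Weakly normal subsystems from families of automorphism groups. -/

set_option autoImplicit false
set_option linter.unusedSectionVars false

namespace Cfsg.Agent.Fusion

open Cfsg Cfsg.FusionSystem

variable {Ω : Type*} [Group Ω] {S : Subgroup Ω} {F : FusionSystem S} {P Q R T U U' K : Subgroup Ω}
  {f g k ψ : Ω → Ω} {p : ℕ} {E D : FusionSystem T}

theorem ap_aut (γ : MulAut T) {x : Ω} (hx : x ∈ T) :
    ap (T.subtype.comp γ.toMonoidHom) x = afun γ x := by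
  rw [ap_of_mem _ hx, afun_of_mem _ hx]; rfl

theorem imageAlong_aut (γ : MulAut T) (hP : P ≤ T) :
    imageAlong (T.subtype.comp γ.toMonoidHom) P = img (afun γ) P := by
  ext y
  rw [mem_imageAlong' hP, mem_img_afun hP]
  exact exists_congr fun x => and_congr_right fun hx => by rw [ap_aut _ (hP hx)]

theorem preimageAlong_aut (γ : MulAut T) (hP : P ≤ T) :
    preimageAlong (T.subtype.comp γ.toMonoidHom) P = img (afun γ⁻¹) P := by
  ext y
  rw [mem_preimageAlong, mem_img_afun hP]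
  exact ⟨fun ⟨h1, h2⟩ => ⟨_, h2, by rw [ap_aut _ h1, afun_inv_afun _ h1]⟩, fun ⟨x, hx, e⟩ => by
    subst e
    exact ⟨afun_mem _ (hP hx), by rwa [ap_aut _ (afun_mem _ (hP hx)), afun_afun_inv _ (hP hx)]⟩⟩

theorem Pres.fiso {γ : MulAut T} (h : Pres E γ) (h' : Pres E γ⁻¹) :
    FIso E E (T.subtype.comp γ.toMonoidHom) where
  mem x hx := by rw [ap_aut _ hx]; exact afun_mem _ hx
  mor {P f} hf := by
    obtain ⟨g, hg, e⟩ := h P f hf
    exact ⟨g, by rwa [imageAlong_aut _ hf.le], fun x hx => by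
      rw [ap_aut _ (hf.le hx), ap_aut _ (hf.mem hx), e x hx]⟩
  range := by
    ext y
    rw [mem_range_iff]
    exact ⟨fun ⟨x, hx, e⟩ => by rw [← e, ap_aut _ hx]; exact afun_mem _ hx, fun hy =>
      ⟨_, afun_mem γ⁻¹ hy, by rw [ap_aut _ (afun_mem _ hy), afun_afun_inv _ hy]⟩⟩
  lift {P f} hf := by
    obtain ⟨g, hg, e⟩ := h' P f hf
    rw [preimageAlong_aut _ hf.le]
    refine ⟨g, hg, fun y hy => ?_⟩
    obtain ⟨x, hx, rfl⟩ := (mem_img_afun hf.le).1 hy
    rw [ap_aut _ (hg.le hy), ap_aut _ (hg.mem hy), e x hx, afun_afun_inv _ (hf.le hx),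
      afun_afun_inv _ (hf.mem hx)]
  inj := T.subtype_injective.comp γ.injective

variable [hp : Fact p.Prime] [Finite S]

theorem FIso.satClass {Ω' : Type*} [Group Ω'] {S' : Subgroup Ω'} {F' : FusionSystem S'}
    {α : S →* Ω'} (h : FIso F F' α) (hS : IsPGroup p S) (hs : SatClass F p P) :
    SatClass F' p (imageAlong α P) := by
  obtain ⟨Q, h1, h2, h3⟩ := hs
  have hk : preimageAlong α ⊥ ≤ Q := by rw [preimage_bot_of_inj h.inj]; exact bot_le
  exact ⟨_, h.isConj h1, h.toSurj.automized h2 hk, h.toSurj.receptive hS h2 h3 hk⟩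

theorem alp_T (hS : IsPGroup p S) (hF : F.IsSaturated p) (hT : F.StronglyClosed T)
    (h1 : F.autGroup T ≤ D.autGroup T)
    (h2 : ∀ P, P < T → F.IsFullyNormalized P → (∀ (Q : Subgroup Ω) f, Q ≤ T →
      Nat.card P < Nat.card Q → Mor F Q f → Mor D Q f) → F.autGroup P ≤ D.autGroup P) :
    ∀ P, P ≤ T → ∀ f, Mor F P f → Mor D P f := by
  have := finite_of_le hT.1
  refine downward_induction fun P hP ih f hf => ?_
  rcases hP.eq_or_lt with rfl | hlt
  · obtain ⟨α, hα, e⟩ := hf.exists_aut (StronglyClosed.img_eq hT hf le_rfl)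
    exact ((mem_autGroup le_rfl).1 (h1 hα)).congr e
  have key : ∀ (R : Subgroup Ω) θ, R ≤ T → Nat.card R = Nat.card P → Mor F (normalizerIn S R) θ →
      Mor D R θ := fun R θ hR hc hθ =>
    have := finite_of_le (normalizerIn_le : normalizerIn T R ≤ T)
    (ih _ normalizerIn_le (hc ▸ card_lt_of_lt (lt_normalizerIn (pgroup_of_le hS hT.1)
      (eq_or_lt_of_card hR hlt hc))) θ (hθ.mono (normalizerIn_mono hT.1))).mono (le_normalizerIn hR)
  obtain ⟨θ, hθ, hn⟩ := IsSaturated.exists_normalizer_mor' hS hF hf.le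
  have hθ' := hθ.mono (le_normalizerIn hf.le)
  obtain ⟨χ, hχ, e⟩ := IsSaturated.exists_normalizer_mor hS hF hn
    (isConj_trans (isConj_symm hf.isConj) hθ'.isConj)
  have d1 := key P θ hP rfl hθ
  have d2 := key _ χ (StronglyClosed.img_le hT hf hP) hf.card_img hχ
  obtain ⟨i, hi, i1, i2, -, i4⟩ := hθ'.inv
  have hg := (hi.comp hf i2).comp (hχ.mono (le_normalizerIn hf.img_le)) fun x hx =>
    subset_img (i2 x hx)
  obtain ⟨a, ha, ea⟩ := hg.exists_aut (by
    rw [(hi.comp hf i2).img_comp', hi.img_comp', i4, e])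
  have d3 := (mem_autGroup d1.img_le).1 (h2 _ (eq_or_lt_of_card d1.img_le hlt d1.card_img) hn
    (fun Q g hQ hc => ih Q hQ (d1.card_img ▸ hc) g) ha)
  obtain ⟨j, hj, j1, -⟩ := d2.inv' e
  refine ((d1.comp d3 fun x hx => subset_img hx).comp hj fun x hx =>
    afun_mem _ (subset_img hx)).congr fun x hx => ?_
  rw [ea _ (subset_img hx)]
  beta_reduce
  rw [i1 x hx, j1 _ (subset_img hx)]

theorem gen_top {X : Subgroup Ω → (Ω → Ω) → Prop} {B : Subgroup (MulAut S)}
    (hgen : ∀ D : FusionSystem S, (∀ Q g, X Q g → Mor D Q g) → F.IsSubsystemOf D)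
    (hX : ∀ Q g, X Q g → Mor F Q g) (hB : autInducedBy S S ≤ B) (hXB : ∀ g, X S g → InB B g) :
    F.autGroup S ≤ B := by
  have D : SysData S (fun R f => Mor F R f ∧ (R = S → InB B f)) :=
    SysData.ofSub F (fun h => h.1) (fun h => h.1.le) (fun h _ hx => h.1.mem hx)
      (fun h e => ⟨h.1.congr e, fun hc => (h.2 hc).congr (hc ▸ e)⟩)
      (fun hR hs => ⟨mor_conj F hR hs, fun _ => by
        obtain ⟨σ, e⟩ := exists_cAut (Subgroup.le_normalizer hs)
        exact ⟨σ, hB (mem_autInducedBy.2 ⟨_, hs, e⟩), e⟩⟩)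
      (fun {P Q f g} h1 h2 e => ⟨h1.1.comp h2.1 e, fun hc => (h1.2 hc).comp (h2.2 (by
        subst hc
        exact le_antisymm h2.1.le ((h1.1.img_eq_self fun x hx => h1.1.mem hx).ge.trans
          (img_le_iff.2 e))))⟩)
      fun {P f g} h hg e => ⟨hg, fun hc => by
        have h3 : P = S := by
          by_contra hne
          have := card_lt_of_lt (lt_of_le_of_ne h.1.le hne)
          rw [← h.1.card_img, hc] at this; exact lt_irrefl _ this
        exact (h.2 h3).inv (h3 ▸ e)⟩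
  intro α hα
  obtain ⟨b, hb, e⟩ := (D.mor_iff.1 (((mem_autGroup le_rfl).1 hα).sub (hgen D.sys fun Q g h =>
    D.mor_iff.2 ⟨hX Q g h, fun e => hXB g (e ▸ h)⟩))).2 rfl
  rwa [← aut_ext e]

/-- a weakly normal map -/
structure AData (F : FusionSystem S) (T : Subgroup Ω) (p : ℕ) (H : Subgroup Ω → Prop)
    (A : ∀ U : Subgroup Ω, Subgroup (MulAut U)) : Prop where
  sc : F.StronglyClosed T
  tc : ∀ {U}, H U → TC F T U
  conj : ∀ {U f}, H U → Mor F U f → H (img f U)
  up : ∀ {U K}, H U → U ≤ K → K ≤ T → H K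
  star : ∀ {P}, P ≤ T → F.IsFullyNormalized P → ¬ H P → ¬ hat F p P ⊓ T ≤ P
  le : ∀ {U}, H U → A U ≤ F.autGroup U
  inner : ∀ {U}, H U → autInducedBy T U ≤ A U
  inv : ∀ {U U' f a a'}, H U → Mor F U f → img f U = U' → a ∈ A U →
    (∀ x ∈ U, afun a' (f x) = f (afun a x)) → a' ∈ A U'
  syl : ∀ {U}, H U → F.IsFullyNormalized U → A U ⊓ autInducedBy S U ≤ autInducedBy T U
  res : ∀ {U K a b}, H U → U ≤ K → K ≤ T → b ∈ A K → (∀ x ∈ U, afun b x = afun a x) → a ∈ A U
  ext : ∀ {U K a}, H U → F.IsFullyNormalized U → U ≤ K → K ≤ normalizerIn T U → a ∈ A U →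
    (orderOf a).Coprime p → (∀ σ ∈ autInducedBy K U, a * σ * a⁻¹ ∈ autInducedBy K U) →
    ∃ b ∈ A K, ∀ x ∈ U, afun b x = afun a x

variable {H : Subgroup Ω → Prop} {A : ∀ U : Subgroup Ω, Subgroup (MulAut U)}

/-- the generated system -/
def AData.sys (h : AData F T p H A) : FusionSystem T :=
  genSys (fullSys F h.sc.1) fun Q g => H Q ∧ ∃ a ∈ A Q, g = afun a

theorem AData.sub (h : AData F T p H A) : h.sys.IsSubsystemOf F :=
  IsSubsystemOf.trans genSys_sub fullSys_sub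

theorem AData.full (h : AData F T p H A) (hU : H U) {a : MulAut U} (ha : a ∈ A U) :
    Mor (fullSys F h.sc.1) U (afun a) :=
  fullSys_mor.2 ⟨(mem_autGroup ((h.tc hU).1.trans h.sc.1)).1 (h.le hU ha), (h.tc hU).1,
    fun _ hx => (h.tc hU).1 (afun_mem _ hx)⟩

theorem AData.ge (h : AData F T p H A) (hU : H U) : A U ≤ h.sys.autGroup U := fun a ha =>
  (mem_autGroup (h.tc hU).1).2 (genSys_mem (h.full hU ha) ⟨hU, a, ha, rfl⟩)

theorem AData.sys_le (h : AData F T p H A) (h' : ∀ U, H U → A U ≤ D.autGroup U) :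
    h.sys.IsSubsystemOf D :=
  genSys_le (by
    rintro Q _ ⟨hQ, a, ha, rfl⟩
    exact (mem_autGroup (h.tc hQ).1).1 (h' Q hQ ha))

theorem AData.normal (h : AData F T p H A) (hU : H U) :
    ∀ a ∈ F.autGroup U, ∀ b ∈ A U, a * b * a⁻¹ ∈ A U := fun a ha b hb =>
  h.inv hU ((mem_autGroup ((h.tc hU).1.trans h.sc.1)).1 ha) (img_afun a) hb fun x hx => by
    rw [afun_mul _ _ (afun_mem _ hx), afun_inv_afun _ hx, afun_mul _ _ hx]

theorem AData.sylow (hS : IsPGroup p S) (hF : F.IsSaturated p) (h : AData F T p H A) (hU : H U)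
    (hn : F.IsFullyNormalized U) : SylowIn p (autInducedBy T U) (A U) := by
  have := finite_autGroup F hn.1
  have h1 := (IsFullyAutomized.sylowIn (IsSaturated.fullyAutomized hS hF hn)).inf_normal (h.le hU)
    (h.normal hU)
  rwa [le_antisymm (inf_comm (autInducedBy S U) _ ▸ h.syl hU hn)
    (le_inf (autInducedBy_mono h.sc.1) (h.inner hU))] at h1

theorem AData.pres (h : AData F T p H A) : ∀ γ ∈ F.autGroup T, Pres h.sys γ := fun γ hγ =>
  genSys_pres (by
    rintro Q _ ⟨hQ, a, ha, rfl⟩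
    have hm := ((mem_autGroup h.sc.1).1 hγ).mono (h.tc hQ).1
    obtain ⟨τ, hτ, -⟩ := hm.exists_transport rfl
    exact ⟨h.full hQ ha, _, (mem_autGroup (h.tc (h.conj hQ hm)).1).1
      (h.ge (h.conj hQ hm) (h.inv hQ hm rfl ha (hτ a))), hτ a⟩)

theorem AData.top (h : AData F T p H A) : H T := by
  by_contra hh
  exact h.star le_rfl (fullyNormalized_of_normal h.sc.1 (StronglyClosed.le_normalizer h.sc)) hh
    inf_le_right

theorem hat_le_Next (hS : IsPGroup p S) (hF : F.IsSaturated p) (hn : F.IsFullyNormalized P)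
    {a : MulAut P} (ha : a ∈ F.autGroup P) : hat F p P ≤ Next S P (afun a) := fun s hs => by
  obtain ⟨h1, σ, hσ, e⟩ := mem_hat.1 hs
  exact (mem_Next_afun_iff h1 e).2 (autCore_le_of_fn hS hF hn (autCore_conj a ha σ hσ))

theorem AData.invariant (hS : IsPGroup p S) (hF : F.IsSaturated p) (h : AData F T p H A) :
    h.sys.IsInvariantIn F := by
  have := finite_of_le h.sc.1
  refine isInvariantIn_iff.2 ⟨h.sub, h.sc, fun P f hf α hα => h.pres α hα P f hf,
    fun P f hP hf => twist_mor.1 (alp_T hS hF h.sc (D := twist h.sys h.pres) le_twist_aut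
      (fun P hlt hn ih a ha => ?_) P hP f hf)⟩
  have hm := (mem_autGroup hn.1).1 ha
  have hr := IsSaturated.receptive' hS hF hn
  refine (mem_autGroup hlt.le).2 ?_
  by_cases hH : H P
  · obtain ⟨c, hc, ψ, hψ, e⟩ := exists_ext_mod hS hr (h.sylow hS hF hH hn)
      (autInducedBy_mono h.sc.1) (h.le hH) hm (img_afun a) (N := normalizerIn T P)
      (normalizerIn_mono h.sc.1) fun n hn' β _ eβ => by
        obtain ⟨σ, eσ⟩ := exists_cAut hn'.2
        exact h.inv hH hm (img_afun a) (h.inner hH (mem_autInducedBy.2 ⟨n, hn'.1, eσ⟩))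
          fun x hx => by rw [eβ x hx, eσ x hx]
    rw [normalizerIn_sup_self hlt.le] at hψ
    have := finite_of_le hψ.le
    have d1 := (ih _ ψ normalizerIn_le (card_lt_of_lt (lt_normalizerIn (pgroup_of_le hS h.sc.1) hlt))
      hψ).mono (le_normalizerIn hlt.le)
    have d2 := ((mem_autGroup hlt.le).1 (h.ge hH (inv_mem hc))).sub (sub_twist (hK := h.pres))
    exact (d1.comp d2 fun x hx => e x hx ▸ afun_mem _ (afun_mem _ hx)).congr fun x hx => by
      rw [e x hx, afun_inv_afun _ (afun_mem _ hx)]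
  · obtain ⟨g, hg, e⟩ := IsReceptive.ext hr hm (img_afun a)
    have hl : P ≤ hat F p P ⊓ T := le_inf (le_hat hS hn.1) hlt.le
    have := finite_of_le (inf_le_right : hat F p P ⊓ T ≤ T)
    exact ((ih _ g inf_le_right (card_lt_of_lt (lt_of_le_of_ne hl fun e => h.star hlt.le hn hH e.ge))
      (hg.mono (inf_le_left.trans (hat_le_Next hS hF hn ha)))).mono hl).congr e

theorem hat_inf_le (hE : E.IsSubsystemOf F) (hP : P ≤ T) : hat F p P ⊓ T ≤ hat E p P := fun s hs => by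
  obtain ⟨-, σ, hσ, e⟩ := mem_hat.1 hs.1
  refine mem_hat.2 ⟨hs.2, σ, le_autCore (N := autCore F p P ⊓ E.autGroup P) inf_le_right
    (pgroup_of_le autCore_pgroup inf_le_left) (fun a ha n hn => ⟨autCore_conj a
      (IsSubsystemOf.autGroup_le hE hP ha) n hn.1, Subgroup.mul_mem _ (Subgroup.mul_mem _ ha hn.2)
      (Subgroup.inv_mem _ ha)⟩) ⟨hσ, autInducedBy_le_autGroup E hP (mem_autInducedBy.2 ⟨s, hs.2, e⟩)⟩, e⟩

theorem AData.step (hS : IsPGroup p S) (hF : F.IsSaturated p) (h : AData F T p H A) (hP : P ≤ T)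
    (hn : F.IsFullyNormalized P)
    (ih : ∀ Q, Q ≤ T → Nat.card P < Nat.card Q → SatClass h.sys p Q ∧ (H Q → h.sys.autGroup Q ≤ A Q)) :
    SatClass h.sys p P ∧ (H P → h.sys.autGroup P ≤ A P) := by
  have := finite_of_le h.sc.1
  have hT := pgroup_of_le hS h.sc.1
  have hX : ∀ Q g, (H Q ∧ ∃ a ∈ A Q, g = afun a) → Mor h.sys Q g ∧ img g Q = Q := by
    rintro Q _ ⟨hQ, a, ha, rfl⟩
    exact ⟨(mem_autGroup (h.tc hQ).1).1 (h.ge hQ ha), img_afun a⟩
  by_cases hH : H P
  · have key : (∀ Q, h.sys.IsConj P Q → Jn h.sys Q P) ∧ h.sys.autGroup P ≤ A P := by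
      rcases hP.eq_or_lt with rfl | hlt
      · refine ⟨fun Q hQ => ?_, gen_top (fun D => genSys_le) (fun Q g hg => (hX Q g hg).1)
          (h.inner hH) ?_⟩
        · obtain ⟨f, hf, rfl⟩ := isConj_iff.1 hQ
          rw [hf.img_eq_self fun x hx => hf.mem hx]; exact Jn.refl _ _
        · rintro _ ⟨-, a, ha, rfl⟩
          exact ⟨a, ha, fun _ _ => rfl⟩
      refine glue_step hT (fun D => genSys_le) hX (fullyNormalized_of_sub hS hF h.sc h.sub hP hn) hlt
        (fun Q h1 h2 => (ih Q h1 h2).1) (fun R h1 h2 α hα hs => ?_) ?_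
      · have hR := h2.trans normalizerIn_le
        have := finite_of_le hR
        obtain ⟨a, e⟩ := exists_resAut h1.le hs
        exact ⟨a, h.res hH h1.le hR ((ih R hR (card_lt_of_lt h1)).2 (h.up hH h1.le hR) hα) e,
          fun x hx => (e x hx).symm⟩
      · rintro Q _ ψ ⟨hQ, a, ha, rfl⟩ hψ e
        obtain ⟨τ, hτ, -⟩ := hψ.exists_transport e
        exact ⟨_, h.inv hQ (hψ.sub h.sub) e ha (hτ a), hτ a⟩
    have hs := h.sylow hS hF hH hn
    refine ⟨⟨P, isConj_refl _ hP, isFullyAutomized_iff.2 ⟨hP, by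
      rwa [le_antisymm key.2 (h.ge hH)]⟩, receptive_of_jn hP key.1 fun a ha =>
        ext_of_local hT hP ((h.tc hH).cent h.sc.1) hs (fun K h1 h2 a ha h3 h4 => ?_) (key.2 ha)⟩,
      fun _ => key.2⟩
    obtain ⟨b, hb, e⟩ := h.ext hH hn h1 h2 ha h3 h4
    exact ⟨b, h.ge (h.up hH h1 (h2.trans normalizerIn_le)) hb, e⟩
  · refine ⟨satClass_of_up hT hP (fun Q h1 h2 => (ih Q h1 h2).1) (fun Q f hc hf => up_of_gen (H := H)
      (lt_of_le_of_ne hP fun e => hH (e ▸ h.top)) (fun R hR hh => hH ?_) (fun D hD => le_iff_mor.2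
        (isSubsystemOf_iff.1 (genSys_le fun Q g hg => hD Q g hg.1 (hX Q g hg).1))) hc hf)
      ⟨P, isConj_refl _ hP, fun hh => h.star hP hn hH ((hat_inf_le h.sub hP).trans hh)⟩,
      fun hh => absurd hh hH⟩
    obtain ⟨g, hg, rfl⟩ := isConj_iff.1 (isConj_symm hR)
    exact h.conj hh (hg.sub h.sub)

theorem AData.main (hS : IsPGroup p S) (hF : F.IsSaturated p) (h : AData F T p H A) :
    ∀ P, P ≤ T → SatClass h.sys p P ∧ (H P → h.sys.autGroup P ≤ A P) := by
  have := finite_of_le h.sc.1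
  have hi := h.invariant hS hF
  refine downward_induction fun P hP ih => ?_
  obtain ⟨P₀, hc, hn⟩ := exists_fullyNormalized F (hP.trans h.sc.1)
  obtain ⟨f, hf, rfl⟩ := isConj_iff.1 hc
  have hP₀ := StronglyClosed.img_le h.sc hf hP
  obtain ⟨h1, h2⟩ := h.step hS hF hP₀ hn fun Q h1 h2 => ih Q h1 (hf.card_img ▸ h2)
  refine ⟨?_, fun hH a ha => ?_⟩
  · obtain ⟨α, hα, g, hg, e⟩ := IsInvariantIn.frattini hi hP hf
    have h3 := ((h.pres _ (inv_mem hα)).fiso (by rw [inv_inv]; exact h.pres _ hα)).satClass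
      (pgroup_of_le hS h.sc.1) h1
    rw [imageAlong_aut _ hP₀, img_img_afun hg e, img_afun_inv hg.img_le] at h3
    exact h3.of_conj (isConj_symm hg.isConj)
  · obtain ⟨τ, hτ, -⟩ := hf.exists_transport rfl
    have h3 := h2 (h.conj hH hf) ((mem_autGroup hP₀).2 ((IsInvariantIn.strongInv hi).mor
      ((mem_autGroup hP).1 ha) le_rfl hP (fun x hx => afun_mem _ hx) hf (hτ a)))
    obtain ⟨i, hi, i1, -, i3, i4⟩ := hf.inv
    refine h.inv (h.conj hH hf) hi i4 h3 fun y hy => ?_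
    obtain ⟨x, hx, rfl⟩ := hf.mem_img.1 hy
    rw [i1 x hx, hτ a x hx, i1 _ (afun_mem _ hx)]

theorem AData.weaklyNormal (hS : IsPGroup p S) (hF : F.IsSaturated p) (h : AData F T p H A) :
    h.sys.IsWeaklyNormalIn F p :=
  ⟨fun P hP => (h.main hS hF P hP).1, hF, h.invariant hS hF⟩

theorem AData.aut (hS : IsPGroup p S) (hF : F.IsSaturated p) (h : AData F T p H A) (hU : H U) :
    h.sys.autGroup U = A U :=
  le_antisymm ((h.main hS hF U (h.tc hU).1).2 hU) (h.ge hU)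

end Cfsg.Agent.Fusion
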