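import Cfsg.Agent.Lib.Fusion.WMap

/-! Weakly normal subsystems from families of automorphism groups: the focal version. -/

set_option autoImplicit false
set_option linter.unusedSectionVars false

namespace Cfsg.Agent.Fusion

open Cfsg Cfsg.FusionSystem
open scoped commutatorElement

variable {Ω : Type*} [Group Ω] {S : Subgroup Ω} {F : FusionSystem S} {P Q R T U U' K : Subgroup Ω}
  {f g k ψ : Ω → Ω} {p : ℕ} {E D : FusionSystem T}

/-- `a` is `F`-conjugate to a conjugation by an element of `T` -/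
def TElt (F : FusionSystem S) (T : Subgroup Ω) (a : MulAut U) : Prop :=
  ∃ f, Mor F U f ∧ ∃ t ∈ T, ∀ x ∈ U, f (afun a x) = t * f x * t⁻¹

theorem TElt.transport {a : MulAut U} {a' : MulAut U'} (h : TElt F T a) (hf : Mor F U f)
    (e : img f U = U') (e' : ∀ x ∈ U, afun a' (f x) = f (afun a x)) : TElt F T a' := by
  obtain ⟨g, hg, t, ht, et⟩ := h
  obtain ⟨i, hi, i1, i2, -⟩ := hf.inv' e
  refine ⟨_, hi.comp hg i2, t, ht, fun y hy => ?_⟩
  obtain ⟨x, hx, rfl⟩ := hf.mem_img.1 (e.symm ▸ hy)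
  rw [e' x hx, i1 _ (afun_mem _ hx), i1 x hx, et x hx]

theorem TElt.res {a : MulAut U} {b : MulAut K} (h : TElt F T b) (hU : U ≤ K)
    (e : ∀ x ∈ U, afun b x = afun a x) : TElt F T a := by
  obtain ⟨g, hg, t, ht, et⟩ := h
  exact ⟨g, hg.mono hU, t, ht, fun x hx => by rw [← e x hx, et x (hU hx)]⟩

theorem telt_of_mem (hU : U ≤ S) {a : MulAut U} (h : a ∈ autInducedBy T U) : TElt F T a :=
  ⟨_, mor_id F hU, mem_autInducedBy.1 h⟩

theorem TElt.mem (hT : F.StronglyClosed T) (hr : F.IsReceptive U) {a : MulAut U} (h : TElt F T a)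
    (ha : a ∈ autInducedBy S U) : a ∈ autInducedBy T U := by
  obtain ⟨f, hf, t, ht, et⟩ := h
  obtain ⟨s, hs, es⟩ := mem_autInducedBy.1 ha
  obtain ⟨i, hi, i1, -, -, i4⟩ := hf.inv
  obtain ⟨g, hg, eg⟩ := IsReceptive.ext hr hi i4
  have h1 : t ∈ Next S (img f U) i := mem_Next.2 ⟨mem_normalizerIn.2 ⟨hT.1 ht, fun y => ⟨fun hy => by
    obtain ⟨x, hx, rfl⟩ := hf.mem_img.1 hy
    exact et x hx ▸ subset_img (afun_mem _ hx), fun hy => by
    obtain ⟨x, hx, e⟩ := hf.mem_img.1 hy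
    have h2 := et _ (afun_mem a⁻¹ hx)
    rw [afun_afun_inv _ hx, e, mul_left_inj, mul_right_inj] at h2
    exact h2 ▸ subset_img (afun_mem _ hx)⟩⟩, s, hs, fun y hy => by
    obtain ⟨x, hx, rfl⟩ := hf.mem_img.1 hy
    rw [← et x hx, i1 _ (afun_mem _ hx), i1 x hx, es x hx]⟩
  refine mem_autInducedBy.2 ⟨g t, StronglyClosed.mem hT hg h1 ht, fun x hx => ?_⟩
  have h2 := hg.map_conj h1 (hi.le_Next (subset_img hx))
  rwa [← et x hx, eg _ (subset_img (afun_mem _ hx)), eg _ (subset_img hx), i1 _ (afun_mem _ hx),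
    i1 x hx] at h2

theorem orderOf_transport {a : MulAut U} {a' : MulAut U'} (hf : Mor F U f) (e : img f U = U')
    (e' : ∀ x ∈ U, afun a' (f x) = f (afun a x)) : orderOf a' = orderOf a := by
  obtain ⟨τ, hτ, -⟩ := hf.exists_transport e
  have : a' = τ a := aut_ext fun y hy => by
    obtain ⟨x, hx, rfl⟩ := hf.mem_img.1 (e.symm ▸ hy)
    rw [e' x hx, hτ a x hx]
  rw [this]; exact τ.orderOf_eq a

variable [hp : Fact p.Prime] [Finite S]

theorem TElt.pelt (hS : IsPGroup p S) (hT : T ≤ S) {a : MulAut U} (h : TElt F T a) :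
    ∃ k, a ^ p ^ k = 1 := by
  obtain ⟨f, hf, t, ht, et⟩ := h
  obtain ⟨k, hk⟩ := pullAut_pgroup hS hf ⟨a, t, hT ht, et⟩
  exact ⟨k, congrArg Subtype.val hk⟩

/-- data for a weakly normal map -/
structure WData (F : FusionSystem S) (T : Subgroup Ω) (p : ℕ) (H : Subgroup Ω → Prop)
    (L : ∀ U : Subgroup Ω, Subgroup (MulAut U)) : Prop where
  sc : F.StronglyClosed T
  tc : ∀ {U}, H U → TC F T U
  conj : ∀ {U f}, H U → Mor F U f → H (img f U)
  up : ∀ {U K}, H U → U ≤ K → K ≤ T → H K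
  star : ∀ {P}, P ≤ T → F.IsFullyNormalized P → ¬ H P → ¬ hat F p P ⊓ T ≤ P
  le : ∀ {U}, H U → L U ≤ F.autGroup U
  inner : ∀ {U}, H U → autInducedBy T U ≤ L U
  inv : ∀ {U U' f a a'}, H U → Mor F U f → img f U = U' → a ∈ L U →
    (∀ x ∈ U, afun a' (f x) = f (afun a x)) → a' ∈ L U'
  foc : ∀ {U r l}, H U → F.IsFullyNormalized U → r ∈ L U → r ∈ autInducedBy S U → l ∈ L U →
    l * r * l⁻¹ ∈ autInducedBy S U → l * r * l⁻¹ * r⁻¹ ∈ autInducedBy T U
  res : ∀ {U K a b}, H U → U ≤ K → K ≤ T → b ∈ L K → (orderOf b).Coprime p →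
    (∀ x ∈ U, afun b x = afun a x) → a ∈ L U
  ext : ∀ {U K a}, H U → F.IsFullyNormalized U → U ≤ K → K ≤ normalizerIn T U → a ∈ L U →
    (orderOf a).Coprime p → (∀ σ ∈ autInducedBy K U, a * σ * a⁻¹ ∈ autInducedBy K U) →
    ∃ b ∈ L K, ∀ x ∈ U, afun b x = afun a x

/-- the subgroup generated by the `p'`-elements and the `T`-elements -/
def WA (F : FusionSystem S) (T : Subgroup Ω) (p : ℕ) (L : ∀ U : Subgroup Ω, Subgroup (MulAut U))
    (U : Subgroup Ω) : Subgroup (MulAut U) :=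
  Subgroup.closure {a | a ∈ L U ∧ ((orderOf a).Coprime p ∨ TElt F T a)}

variable {H : Subgroup Ω → Prop} {L : ∀ U : Subgroup Ω, Subgroup (MulAut U)}

theorem WA_le : WA F T p L U ≤ L U := (Subgroup.closure_le _).2 fun _ h => h.1

theorem mem_WA {a : MulAut U} (h : a ∈ L U) (h' : (orderOf a).Coprime p ∨ TElt F T a) :
    a ∈ WA F T p L U := Subgroup.subset_closure ⟨h, h'⟩

theorem WData.inv' (h : WData F T p H L) (hU : H U) (hf : Mor F U f) (e : img f U = U')
    {a : MulAut U} {a' : MulAut U'} (ha : a ∈ WA F T p L U)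
    (e' : ∀ x ∈ U, afun a' (f x) = f (afun a x)) : a' ∈ WA F T p L U' := by
  obtain ⟨τ, hτ, -⟩ := hf.exists_transport e
  have : a' = τ a := aut_ext fun y hy => by
    obtain ⟨x, hx, rfl⟩ := hf.mem_img.1 (e.symm ▸ hy)
    rw [e' x hx, hτ a x hx]
  rw [this]
  refine (Subgroup.closure_le ((WA F T p L U').comap τ.toMonoidHom)).2 (fun b hb => ?_) ha
  exact mem_WA (h.inv hU hf e hb.1 (hτ b)) (hb.2.imp (fun h1 =>
    (orderOf_transport hf e (hτ b)).symm ▸ h1) fun h1 => h1.transport hf e (hτ b))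

theorem WData.mem_of_telt (h : WData F T p H L) (hU : H U) {a : MulAut U} (ha : TElt F T a) :
    a ∈ L U := by
  obtain ⟨f, hf, t, ht, e⟩ := ha
  obtain ⟨τ, hτ, -⟩ := hf.exists_transport rfl
  obtain ⟨i, hi, i1, -, -, i4⟩ := hf.inv
  refine h.inv (h.conj hU hf) hi i4 (h.inner (h.conj hU hf) (mem_autInducedBy.2
    ⟨t, ht, fun y hy => ?_⟩ : τ a ∈ _)) fun y hy => ?_
  · obtain ⟨x, hx, rfl⟩ := hf.mem_img.1 hy
    rw [hτ a x hx, e x hx]
  · obtain ⟨x, hx, rfl⟩ := hf.mem_img.1 hy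
    rw [i1 x hx, hτ a x hx, i1 _ (afun_mem _ hx)]

theorem afun_conj_eq (a b : MulAut U) : ∀ x ∈ U, afun (a * b * a⁻¹) (afun a x) = afun a (afun b x) :=
  fun x hx => by rw [afun_mul _ _ (afun_mem _ hx), afun_inv_afun _ hx, afun_mul _ _ hx]

theorem WData.syl (hS : IsPGroup p S) (hF : F.IsSaturated p) (h : WData F T p H L) (hU : H U)
    (hn : F.IsFullyNormalized U) : WA F T p L U ⊓ autInducedBy S U ≤ autInducedBy T U := by
  have := finite_of_le hn.1
  have := finite_mulAut U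
  have hR := (IsFullyAutomized.sylowIn (IsSaturated.fullyAutomized hS hF hn)).inf_normal (h.le hU)
    fun a ha b hb => h.inv hU ((mem_autGroup hn.1).1 ha) (img_afun a) hb (afun_conj_eq a b)
  have h1 := Transfer.IsSyl.inf_commutator_sup_res_le (p := p) (Q₁ := autInducedBy T U)
    ⟨hR.le, hR.pgroup, hR.not_dvd_relIndex⟩ fun x hx k hk hkx => h.foc hU hn hx.2 hx.1 hk hkx.1
  have h2 : WA F T p L U ≤ (⁅L U, L U⁆ ⊔ Transfer.res p (L U)) ⊔ autInducedBy T U := by
    refine (Subgroup.closure_le _).2 ?_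
    rintro a ⟨ha, hc | ht⟩
    · exact Subgroup.mem_sup_left (Subgroup.mem_sup_right (Transfer.mem_res ha hc))
    obtain ⟨k, hk⟩ := ht.pelt hS h.sc.1
    obtain ⟨c, hc, hc'⟩ := hR.conj ((Subgroup.zpowers_le).2 ha) (pgroup_zpowers hk)
    have h3 := hc' a (Subgroup.mem_zpowers a)
    have h4 := (ht.transport ((mem_autGroup hn.1).1 (h.le hU hc)) (img_afun c)
      (afun_conj_eq c a)).mem h.sc (IsSaturated.receptive' hS hF hn) h3.1
    have h5 : a = ⁅a, c⁆ * (c * a * c⁻¹) := by rw [commutatorElement_def]; group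
    rw [SetLike.mem_coe, h5]
    exact mul_mem (Subgroup.mem_sup_left (Subgroup.mem_sup_left
      (Subgroup.commutator_mem_commutator ha hc))) (Subgroup.mem_sup_right h4)
  rintro a ⟨ha, ha'⟩
  have hN : autInducedBy T U ≤ Subgroup.normalizer
      ((⁅L U, L U⁆ ⊔ Transfer.res p (L U) : Subgroup _) : Set (MulAut U)) :=
    (h.inner hU).trans (le_normalizer_of_conj_mem fun s hs x hx => by
      have h3 : ⁅L U, L U⁆ ⊔ Transfer.res p (L U) ≤ L U :=
        sup_le (Subgroup.commutator_le.2 fun a ha b hb => by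
          rw [commutatorElement_def]
          exact mul_mem (mul_mem (mul_mem ha hb) (inv_mem ha)) (inv_mem hb)) (Transfer.res_le _)
      have h4 : s * x * s⁻¹ = ⁅s, x⁆ * x := by rw [commutatorElement_def]; group
      rw [h4]
      exact mul_mem (Subgroup.mem_sup_left (Subgroup.commutator_mem_commutator hs (h3 hx))) hx)
  have h3 := h2 ha
  rw [sup_comm] at h3
  obtain ⟨r, hr, n, hn', rfl⟩ := (mem_sup_of_le_normalizer hN).1 h3
  have h4 : n ∈ autInducedBy S U ⊓ L U := by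
    have := Subgroup.mul_mem (autInducedBy S U ⊓ L U) (Subgroup.inv_mem _
      ⟨autInducedBy_mono h.sc.1 hr, h.inner hU hr⟩) ⟨ha', WA_le ha⟩
    rwa [inv_mul_cancel_left] at this
  exact mul_mem hr (h1 ⟨h4, hn'⟩)

theorem WData.telt (hS : IsPGroup p S) (hF : F.IsSaturated p) (h : WData F T p H L) (hU : H U)
    {a : MulAut U} (ha : a ∈ WA F T p L U) {k : ℕ} (hk : a ^ p ^ k = 1) : TElt F T a := by
  obtain ⟨P₀, hc, hn⟩ := exists_fullyNormalized F ((h.tc hU).1.trans h.sc.1)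
  obtain ⟨f, hf, rfl⟩ := isConj_iff.1 hc
  obtain ⟨τ, hτ, -⟩ := hf.exists_transport rfl
  have := finite_autGroup F hn.1
  have hU' := h.conj hU hf
  obtain ⟨c, hc, hc'⟩ := (IsFullyAutomized.sylowIn (IsSaturated.fullyAutomized hS hF hn)).conj
    ((Subgroup.zpowers_le).2 (h.le hU' (h.inv hU hf rfl (WA_le ha) (hτ a))))
    (pgroup_zpowers (k := k) (by rw [← map_pow, hk, map_one]))
  have hm := (mem_autGroup hn.1).1 hc
  obtain ⟨t, ht, e⟩ := mem_autInducedBy.1 (h.syl hS hF hU' hn ⟨h.inv' hU' hm (img_afun c)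
    (h.inv' hU hf rfl ha (hτ a)) (afun_conj_eq c _), hc' _ (Subgroup.mem_zpowers _)⟩)
  exact ⟨_, hf.comp hm fun x hx => subset_img hx, t, ht, fun x hx => by
    rw [← hτ a x hx, ← afun_conj_eq c _ _ (subset_img hx), e _ (afun_mem _ (subset_img hx))]⟩

theorem WData.adata (hS : IsPGroup p S) (hF : F.IsSaturated p) (h : WData F T p H L) :
    AData F T p H (WA F T p L) where
  sc := h.sc
  tc := h.tc
  conj := h.conj
  up := h.up
  star := h.star
  le hU := WA_le.trans (h.le hU)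
  inner hU a ha := mem_WA (h.inner hU ha) (.inr (telt_of_mem ((h.tc hU).1.trans h.sc.1) ha))
  inv hU hf e ha e' := h.inv' hU hf e ha e'
  syl := h.syl hS hF
  res {U K a b} hU h1 h2 hb e := by
    have := finite_of_le (h2.trans h.sc.1)
    have := finite_mulAut K
    obtain ⟨x, hx, y, hy, e1, ⟨k, hk⟩, hc⟩ := Transfer.exists_pPart p
      (⟨b, mem_stabAut_of_eq h1 e⟩ : stabAut K U)
    have h3 : Subgroup.zpowers (⟨b, mem_stabAut_of_eq h1 e⟩ : stabAut K U) ≤
        (WA F T p L K).subgroupOf _ := (Subgroup.zpowers_le).2 hb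
    have h4 : a = resAut h1 x * resAut h1 y := by
      rw [← map_mul, ← e1]
      exact aut_ext fun z hz => by rw [afun_resAut _ _ hz, e z hz]
    have r := fun (z : stabAut K U) w hw => (afun_resAut h1 z (x := w) hw).symm
    rw [h4]
    have h5 := (h.telt hS hF (h.up hU h1 h2) (h3 hx) (k := k) (congrArg Subtype.val hk)).res h1 (r x)
    exact mul_mem (mem_WA (h.mem_of_telt hU h5) (.inr h5))
      (mem_WA (h.res hU h1 h2 (WA_le (h3 hy)) ((Subgroup.orderOf_coe y).symm ▸ hc) (r y))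
        (.inl (hc.coprime_dvd_left (orderOf_map_dvd _ y))))
  ext {U K a} hU hn h1 h2 ha hc h3 := by
    obtain ⟨b, hb, e⟩ := h.ext hU hn h1 h2 (WA_le ha) hc h3
    have := finite_of_le (h2.trans (normalizerIn_le.trans h.sc.1))
    have := finite_mulAut K
    obtain ⟨m, hm1, hm2⟩ := exists_pow_coprime_ext b hc
    exact ⟨b ^ m, mem_WA (pow_mem hb m) (.inl hm1), fun x hx => by
      rw [afun_pow_of_eq h1 e m x hx, pow_eq_self_of_modEq hm2]⟩

theorem WData.exists_sys (hS : IsPGroup p S) (hF : F.IsSaturated p) (h : WData F T p H L) :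
    ∃ E : FusionSystem T, E.IsWeaklyNormalIn F p ∧ (∀ U, H U → E.autGroup U ≤ L U) ∧
      (∀ U, H U → ∀ a ∈ L U, (orderOf a).Coprime p → a ∈ E.autGroup U) ∧
      ∀ {T' : Subgroup Ω} (D : FusionSystem T'), T ≤ T' → (∀ U, H U → L U ≤ D.autGroup U) →
        E.IsSubsystemOf D :=
  ⟨_, (h.adata hS hF).weaklyNormal hS hF, fun _ hU => ((h.adata hS hF).aut hS hF hU).le.trans WA_le,
    fun _ hU _ ha hc => (h.adata hS hF).ge hU (mem_WA ha (.inl hc)), fun D hT hD =>
    IsSubsystemOf.trans ((h.adata hS hF).sys_le (D := fullSys D hT) fun U hU => by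
      rw [fullSys_autGroup (h.tc hU).1]; exact WA_le.trans (hD U hU)) fullSys_sub⟩

end Cfsg.Agent.Fusion
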