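import Mathlib

set_option autoImplicit false
set_option linter.unusedSectionVars false
set_option maxHeartbeats 400000

/-! Wielandt's theorem on primitive groups of degree `2p`. -/
namespace Cfsg.Agent.Wd
open Finset MulAction ComplexConjugate

variable {p : ℕ} [hp : Fact p.Prime]

noncomputable def ψ (p : ℕ) [Fact p.Prime] : AddChar (ZMod p) ℂ :=
  AddChar.zmodChar p (Complex.isPrimitiveRoot_exp p (NeZero.ne p)).pow_eq_one

noncomputable def F (f : ZMod p → ℚ) : ℂ := ∑ x, (f x : ℂ) * ψ p x

theorem lin {f : ZMod p → ℚ} (h : F f = 0) (x y : ZMod p) : f x = f y := by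
  have k := (Complex.isPrimitiveRoot_exp p (NeZero.ne p)).sum_eq_zero_iff_forall_eq hp.out
  have := hp.out.pos
  obtain ⟨n, rfl⟩ : ∃ n, p = n + 1 := ⟨p - 1, by omega⟩
  exact (k f).1 h x y

theorem F_conv (f g : ZMod p → ℚ) : conj (F f) * F g = F fun x => ∑ y, f (y - x) * g y := by
  simp only [F, map_sum, map_mul, map_ratCast, ← AddChar.map_neg_eq_conj, Rat.cast_sum, Rat.cast_mul,
    sum_mul, mul_sum]
  conv_rhs => rw [sum_comm]
  refine sum_congr rfl fun y _ => ?_
  rw [← Equiv.sum_comp (Equiv.subLeft y)]
  refine sum_congr rfl fun x _ => ?_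
  have : ψ p x = ψ p (-(y - x)) * ψ p y := by rw [← AddChar.map_add_eq_mul]; congr 1; ring
  rw [this, Equiv.subLeft_apply]; ring

theorem F_neg (f : ZMod p → ℚ) : conj (F fun x => f (-x)) = F f := by
  simp only [F, map_sum, map_mul, map_ratCast, ← AddChar.map_neg_eq_conj]
  exact Equiv.sum_comp (Equiv.neg _) fun x => (f x : ℂ) * ψ p x

theorem F_add (f g : ZMod p → ℚ) : F (fun x => f x + g x) = F f + F g := by
  simp [F, add_mul, sum_add_distrib]
theorem F_sub (f g : ZMod p → ℚ) : F (fun x => f x - g x) = F f - F g := by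
  simp [F, sub_mul, sum_sub_distrib]
theorem F_mul (c : ℚ) (f : ZMod p → ℚ) : F (fun x => c * f x) = c * F f := by
  simp [F, mul_sum, mul_assoc]
theorem F_one (c : ℚ) : F (fun x : ZMod p => if x = 0 then c else 0) = c := by
  simp [F, apply_ite]
theorem F_sum {ι : Type*} [Fintype ι] (f : ι → ZMod p → ℚ) : F (fun x => ∑ i, f i x) = ∑ i, F (f i) := by
  simp only [F, Rat.cast_sum, sum_mul]; exact sum_comm

theorem lin0 {f : ZMod p → ℚ} (h : F f = 0) (h' : ∑ x, f x = 0) (x : ZMod p) : f x = 0 := by
  rw [sum_congr rfl fun y _ => lin h y x] at h'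
  simpa [hp.out.ne_zero] using h'

variable {G α : Type*} [Group G] [Fintype G] [Fintype α] [MulAction G α] (e : ZMod p × Bool ≃ α)

def h (y : α) : ℚ := if (e.symm y).2 then 1 else -1
def Iv (G : Type*) [Group G] [MulAction G α] (K : α → α → ℚ) : Prop := ∀ (g : G) x y, K (g • x) (g • y) = K x y
def bl (K : α → α → ℚ) (r s : Bool) (z : ZMod p) : ℚ := K (e (0, r)) (e (z, s))
def sm (K : α → α → ℚ) (r s : Bool) : ℚ := ∑ z, bl e K r s z
def lam (K : α → α → ℚ) : ℚ := sm e K true true - sm e K true false
noncomputable def v (g : G) (r : Bool) : ℂ := F fun x => h e (g • e (x, r))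
def T (G : Type*) [Group G] [Fintype G] [MulAction G α] (x y : α) : ℚ := ∑ g : G, h e (g • x) * h e (g • y)

theorem h_sq (x : α) : h e x * h e x = 1 := by unfold h; split_ifs <;> norm_num
theorem sum_e (f : α → ℚ) : ∑ y, f y = ∑ z, f (e (z, true)) + ∑ z, f (e (z, false)) := by
  rw [← Equiv.sum_comp e, Fintype.sum_prod_type_right, Fintype.sum_bool]
theorem sum_h (g : G) : ∑ y, h e (g • y) = 0 := by
  rw [show ∑ y, h e (g • y) = ∑ y, h e y from Equiv.sum_comp (MulAction.toPerm g) _, sum_e e]; simp [h]
theorem T_iv : Iv G (T e G) := fun g x y => by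
  simp only [T, ← mul_smul]
  exact Equiv.sum_comp (Equiv.mulRight g) fun k => h e (k • x) * h e (k • y)
theorem T_row (x : α) : ∑ y, T e G x y = 0 := by
  simp only [T]; rw [sum_comm]; simp [← mul_sum, sum_h]

theorem prim_rel [hG : IsPreprimitive G α] {β : Type*} (φ : α → β)
    (hφ : ∀ (g : G) x y, φ x = φ y → φ (g • x) = φ (g • y)) {x y : α} (hxy : x ≠ y) (k : φ x = φ y) (z : α) :
    φ z = φ x := by
  have : IsBlock G {w | φ w = φ x} := isBlock_iff_smul_eq_of_mem.2 fun g a ha hga => by
    ext w
    rw [Set.mem_smul_set_iff_inv_smul_mem]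
    exact ⟨fun hw => by simpa using (hφ g _ _ (hw.trans ha.symm)).trans hga,
      fun hw => (by simpa using hφ g⁻¹ _ _ (hw.trans hga.symm) : _ = φ a).trans ha⟩
  rcases hG.isTrivialBlock_of_isBlock this with h | h
  · exact absurd (h rfl k.symm) hxy
  · exact h.ge (Set.mem_univ z)

theorem sep [IsPreprimitive G α] {x y : α} (hxy : x ≠ y) :
    ¬ ∀ g g' : G, h e (g • x) * h e (g' • x) = h e (g • y) * h e (g' • y) := fun k => by
  have k1 := prim_rel (G := G) (fun x (g : G × G) => h e (g.1 • x) * h e (g.2 • x))
    (fun g x y k => funext fun a => by simpa [mul_smul] using congrFun k (a.1 * g, a.2 * g)) hxy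
    (funext fun a => k a.1 a.2)
  have k2 := prim_rel (G := G) (h e) (fun g a b k => by
    have := congrFun ((k1 a).trans (k1 b).symm) (g, 1)
    simp only [one_smul, k] at this
    linear_combination h e b * this - (h e (g • a) - h e (g • b)) * h_sq e b)
    (x := e (0, true)) (y := e (1, true)) (by simp) (by simp [h]) (e (0, false))
  norm_num [h] at k2

variable {e} {c : G} (hc : ∀ x r, c • e (x, r) = e (x + 1, r)) {K K' : α → α → ℚ} [hG : IsPreprimitive G α]
include hc

theorem shift (hK : Iv G K) (x y : ZMod p) (r s : Bool) : K (e (x, r)) (e (y, s)) = bl e K r s (y - x) := by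
  have : ∀ (n : ℕ) x r, c ^ n • e (x, r) = e (x + n, r) := fun n => by
    induction n with
    | zero => simp
    | succ n ih => intro x r; rw [pow_succ', mul_smul, ih, hc]; simp [add_assoc]
  obtain ⟨n, rfl⟩ := ZMod.natCast_zmod_surjective x
  rw [bl, ← hK (c ^ n) (e (0, r)), this, this]; simp

theorem sm_T (hK : Iv G K) (r s : Bool) : sm e (fun x y => K y x) r s = sm e K s r := by
  exact (sum_congr rfl fun z _ => by rw [bl, shift hc hK, zero_sub]; rfl).trans
    (Equiv.sum_comp (Equiv.neg (ZMod p)) fun x => bl e K s r x)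

theorem sms (hK : Iv G K) : sm e K false false = sm e K true true ∧ sm e K false true = sm e K true false := by
  have : ∀ K, Iv G K → sm e K true true + sm e K true false = sm e K false true + sm e K false false := by
    intro K hK
    obtain ⟨g, hg⟩ := exists_smul_eq G (e (0, true)) (e (0, false))
    simp only [sm, bl, ← sum_e e, ← hg]
    exact (sum_congr rfl fun y _ => (hK g _ y).symm).trans
      (Equiv.sum_comp (MulAction.toPerm g) fun y => K (g • e (0, true)) y)
  have h1 := this K hK
  have h2 := this (fun x y => K y x) fun g x y => hK g y x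
  simp only [sm_T hc hK] at h2
  constructor <;> linarith

theorem eig (hK : Iv G K) (g : G) (x : α) : ∑ y, K x y * h e (g • y) = lam e K * h e (g • x) := by
  rw [show ∑ y, K x y * h e (g • y) = ∑ y, K (g • x) y * h e y from
    (sum_congr rfl fun y _ => by rw [← hK g]; rfl).trans
      (Equiv.sum_comp (MulAction.toPerm g) fun y => K (g • x) y * h e y)]
  obtain ⟨⟨z, r⟩, hz⟩ := e.surjective (g • x)
  have : ∀ s, ∑ y, bl e K r s (y - z) = sm e K r s := fun s => Equiv.sum_comp (Equiv.subRight z) _
  rw [← hz, sum_e e]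
  cases r <;> simp [h, shift hc hK, this, lam, sms hc hK] <;> ring

theorem row (hK : Iv G K) (g : G) (r : Bool) : conj (F (bl e K r true)) * v e g true +
    conj (F (bl e K r false)) * v e g false = lam e K * v e g r := by
  simp only [v, F_conv, ← F_add, ← F_mul, ← eig hc hK, sum_e e, shift hc hK]

theorem row' (hK : Iv G K) (g : G) (r : Bool) : F (bl e K true r) * v e g true +
    F (bl e K false r) * v e g false = lam e K * v e g r := by
  have := row hc (K := fun x y => K y x) (fun g x y => hK g y x) g r
  have e1 : ∀ s, bl e (fun x y => K y x) r s = fun x => bl e K s r (-x) := fun s => by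
    funext x; rw [bl, shift hc hK, zero_sub]
  rwa [e1, e1, F_neg, F_neg, lam, sm_T hc hK, sm_T hc hK, (sms hc hK).2] at this

omit hc in
theorem v_ne : ∃ g : G, v e g true ≠ 0 := by
  by_contra! k
  exact sep (G := G) e (x := e (0, true)) (y := e (1, true)) (by simp) fun g g' => by
    rw [lin (k g) 0 1, lin (k g') 0 1]

theorem ident (hK : Iv G K) (hK' : Iv G K') (d : ∀ x, K x x = 0) (d' : ∀ x, K' x x = 0) :
    ∑ y, bl e K true true y * bl e K' false false y + lam e K * lam e K' =
      ∑ y, bl e K true false y * bl e K' true false y := by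
  obtain ⟨g, hg⟩ := v_ne (e := e) (G := G)
  have h1 := row hc hK g true
  have h2 := row' hc hK' g false
  have h3 : conj (F fun x => bl e K true true x - if x = 0 then lam e K else 0) *
      F (fun x => bl e K' false false x - if x = 0 then lam e K' else 0) -
      conj (F (bl e K true false)) * F (bl e K' true false) = 0 := by
    rw [F_sub, F_sub, F_one, F_one, map_sub, map_ratCast]
    refine mul_right_cancel₀ hg ?_
    linear_combination (F (bl e K' false false) - lam e K') * h1 - conj (F (bl e K true false)) * h2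
  rw [F_conv, F_conv, ← F_sub] at h3
  have s : ∀ f f' : ZMod p → ℚ, ∑ x, ∑ y, f (y - x) * f' y = (∑ x, f x) * ∑ x, f' x := fun f f' => by
    rw [sum_comm, mul_sum]
    exact sum_congr rfl fun y _ => by rw [← sum_mul, ← Equiv.sum_comp (Equiv.subLeft y) f]; rfl
  have h4 := lin0 h3 (by
    rw [sum_sub_distrib, s (fun x => bl e K true true x - if x = 0 then lam e K else 0), s]
    have := (sms hc hK').1
    simp only [sum_sub_distrib, sum_ite_eq', mem_univ, if_true, lam, sm] at this ⊢
    rw [this]; ring) 0
  simp only [sub_zero, mul_sub, sub_mul, sum_sub_distrib, mul_ite, ite_mul, mul_zero, zero_mul,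
    sum_ite_eq', mem_univ, if_true, show bl e K true true 0 = 0 from d _,
    show bl e K' false false 0 = 0 from d' _] at h4
  linear_combination h4

theorem bal (hK : Iv G K) (g : G) : (conj (F (bl e K true true)) - lam e K) * (v e g true * conj (v e g true)) =
    (conj (F (bl e K false false)) - lam e K) * (v e g false * conj (v e g false)) := by
  have h1 := row hc hK g true
  have h2 := congrArg conj (row' hc hK g false)
  simp only [map_add, map_mul, map_ratCast] at h2
  linear_combination conj (v e g true) * h1 - v e g false * h2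

theorem anti (col : ∀ g g' : G, v e g true * v e g' false = v e g false * v e g' true) {z : ZMod p}
    (hz : z ≠ 0) : bl e (T e G) true true z + bl e (T e G) false false z = 0 := by
  have f : ∀ r s, (p : ℂ) * F (bl e (T e G) r s) = ∑ g : G, conj (v e g r) * v e g s := fun r s => by
    simp only [v, F_conv, ← F_sum]
    rw [← Rat.cast_natCast, ← F_mul]
    congr 1 with x
    refine Eq.trans ?_ (sum_comm.trans (sum_congr rfl fun y _ => shift hc (T_iv e) (y - x) y r s)).symm
    simp
  have d : F (bl e (T e G) true true) * F (bl e (T e G) false false) =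
      F (bl e (T e G) true false) * F (bl e (T e G) false true) := by
    refine mul_left_cancel₀ (mul_self_ne_zero.2 (Nat.cast_ne_zero.2 hp.out.ne_zero : (p : ℂ) ≠ 0)) ?_
    rw [mul_mul_mul_comm, mul_mul_mul_comm (p : ℂ) p, f, f, f, f, sum_mul_sum, sum_mul_sum]
    exact sum_congr rfl fun g _ => sum_congr rfl fun g' _ => by
      linear_combination conj (v e g true) * conj (v e g' false) * col g g'
  have l0 : lam e (T e G) ≠ 0 := fun l0 => by
    have h1 : ∑ g : G, (∑ x, h e (g • x) * h e x) ^ 2 = ∑ x, h e x * ∑ y, T e G x y * h e ((1 : G) • y) := by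
      simp only [T, sq, sum_mul_sum, one_smul, mul_sum, sum_mul]
      rw [sum_comm]
      refine sum_congr rfl fun x _ => sum_comm.trans (sum_congr rfl fun y _ => sum_congr rfl fun g _ => ?_)
      ring
    simp only [eig hc (T_iv e), l0, zero_mul, mul_zero, sum_const_zero] at h1
    have h0 := (sum_eq_zero_iff_of_nonneg fun _ _ => sq_nonneg _).1 h1 1 (mem_univ _)
    have : Nonempty α := ⟨e (0, true)⟩
    simp [h_sq] at h0
  obtain ⟨g, hg⟩ := v_ne (e := e) (G := G)
  have h1 := row' hc (T_iv e) g true
  have h2 := row' hc (T_iv e) g false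
  have h3 : F (fun x => bl e (T e G) true true x + bl e (T e G) false false x -
      if x = 0 then lam e (T e G) else 0) = 0 := by
    rw [F_sub, F_add, F_one]
    refine mul_left_cancel₀ (mul_ne_zero hg (Rat.cast_ne_zero.2 l0)) ?_
    linear_combination (lam e (T e G) - F (bl e (T e G) false false)) * h1 +
      F (bl e (T e G) false true) * h2 + v e g true * d
  simpa [hz] using lin0 h3 (by
    have := T_row (G := G) e (e (0, true))
    have h4 := (sms hc (T_iv (G := G) e)).1
    rw [sum_e e] at this
    simp only [sum_sub_distrib, sum_add_distrib, sum_ite_eq', mem_univ, if_true, lam, sm, bl] at h4 ⊢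
    linear_combination this + h4) z

end Cfsg.Agent.Wd
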