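import Cfsg.Agent.Lib.Fusion.Wd1

set_option autoImplicit false
set_option linter.unusedSectionVars false
set_option maxHeartbeats 400000

namespace Cfsg.Agent.Wd
open Finset MulAction ComplexConjugate

variable {p : ℕ} [hp : Fact p.Prime] {G α : Type*} [Group G] [Fintype G] [Fintype α] [MulAction G α]

open Classical in
noncomputable def O (G : Type*) [Group G] [MulAction G α] (a b x y : α) : ℚ :=
  if ∃ g : G, g • a = x ∧ g • b = y then 1 else 0

theorem O_ne {a b x y : α} : O G a b x y ≠ 0 ↔ ∃ g : G, g • a = x ∧ g • b = y := by simp [O]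
theorem O_congr {a b x y a' b' x' y' : α}
    (h : (∃ g : G, g • a = x ∧ g • b = y) ↔ ∃ g : G, g • a' = x' ∧ g • b' = y') :
    O G a b x y = O G a' b' x' y' := by
  unfold O; rw [propext h]
theorem O_iv (a b : α) : Iv G (O G a b) := fun g x y =>
  O_congr ⟨fun ⟨k, h1, h2⟩ => ⟨g⁻¹ * k, by simp [mul_smul, h1], by simp [mul_smul, h2]⟩,
    fun ⟨k, h1, h2⟩ => ⟨g * k, by simp [mul_smul, h1], by simp [mul_smul, h2]⟩⟩
theorem O_d {a b : α} (h : b ≠ a) (x : α) : O G a b x x = 0 :=
  if_neg fun ⟨g, h1, h2⟩ => h (smul_left_cancel g (h2.trans h1.symm))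
theorem O_nn (a b x y : α) : 0 ≤ O G a b x y := by unfold O; split_ifs <;> norm_num
theorem O_sq (a b x y : α) : O G a b x y * O G a b x y = O G a b x y := by unfold O; split_ifs <;> norm_num
theorem O_T (e : ZMod p × Bool ≃ α) {a b x y : α} (h : O G a b x y ≠ 0) : T e G x y = T e G a b := by
  obtain ⟨g, rfl, rfl⟩ := O_ne.1 h; exact T_iv e g a b
theorem mem_orb {a b y : α} : y ∈ orbit (stabilizer G a) b ↔ ∃ g : G, g • a = a ∧ g • b = y :=
  ⟨fun ⟨g, h⟩ => ⟨g, g.2, h⟩, fun ⟨g, h1, h2⟩ => ⟨⟨g, h1⟩, h2⟩⟩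
theorem O_ne' {a b y : α} : O G a b a y ≠ 0 ↔ y ∈ orbit (stabilizer G a) b := O_ne.trans mem_orb.symm
theorem card_orb (a b : α) : (Nat.card (orbit (stabilizer G a) b) : ℚ) = ∑ y, O G a b a y := by
  classical
  simp only [O, ← mem_orb, sum_boole]
  rw [Nat.card_eq_fintype_card, Fintype.card_subtype]
theorem sm_nat (e : ZMod p × Bool ≃ α) (a b : α) (r s : Bool) : ∃ m : ℕ, sm e (O G a b) r s = m :=
  ⟨_, by simp only [sm, bl, O, sum_boole]; rfl⟩
theorem T_d (e : ZMod p × Bool ≃ α) (x : α) : T e G x x = Fintype.card G := by simp [T, h_sq]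

variable {e : ZMod p × Bool ≃ α} {c : G} (hc : ∀ x r, c • e (x, r) = e (x + 1, r)) [hG : IsPreprimitive G α]
include hc

local notation "a₀" => e (0, true)
local notation "k" => O G (e (0, true))

omit hc in
theorem card_orb' (b : α) :
    (Nat.card (orbit (stabilizer G a₀) b) : ℚ) = sm e (k b) true true + sm e (k b) true false := by
  rw [card_orb, sum_e e]; rfl

theorem cn (b : α) : T e G a₀ b * (sm e (k b) true true + sm e (k b) true false) =
    Fintype.card G * lam e (k b) := by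
  have : ∑ y, k b a₀ y * T e G a₀ y = Fintype.card G * lam e (k b) := by
    simp only [T, mul_sum]
    rw [sum_comm, sum_congr rfl fun (g : G) _ =>
      show ∑ y, k b a₀ y * (h e (g • a₀) * h e (g • y)) = lam e (k b) from by
        simp only [mul_left_comm _ (h e (g • a₀)), ← mul_sum, eig hc (O_iv _ _)]
        linear_combination lam e (k b) * h_sq e (g • a₀)]
    simp
  rw [← this, ← card_orb', card_orb, mul_sum]
  refine sum_congr rfl fun y _ => ?_
  by_cases h : k b a₀ y = 0
  · simp [h]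
  · rw [O_T e h, mul_comm]

theorem A_pos {b : α} (hb : b ≠ a₀) : 0 < sm e (k b) true true := by
  obtain ⟨g, hg⟩ : ∃ g : G, h e (g • a₀) = h e (g • b) := by
    by_contra! q
    have q' : ∀ g : G, h e (g • a₀) = - h e (g • b) := fun g => by
      have := q g
      unfold h at this ⊢
      split_ifs at this ⊢ <;> simp_all
    exact sep (G := G) e hb.symm fun g g' => by rw [q', q']; ring
  obtain ⟨⟨x, r⟩, hx⟩ := e.surjective (g • a₀)
  obtain ⟨⟨y, s⟩, hy⟩ := e.surjective (g • b)
  obtain rfl : r = s := by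
    rw [← hx, ← hy] at hg
    cases r <;> cases s <;> simp [h] at hg ⊢ <;> norm_num at hg
  have : 0 < sm e (k b) r r := sum_pos' (fun _ _ => O_nn ..) ⟨y - x, mem_univ _, by
    rw [← shift hc (O_iv _ _)]; exact (O_nn ..).lt_of_ne' (O_ne.2 ⟨g, hx.symm, hy.symm⟩)⟩
  cases r
  · rwa [(sms hc (O_iv _ _)).1] at this
  · exact this

theorem A_ex {b : α} (hb : b ≠ a₀) : ∃ z, z ≠ 0 ∧ bl e (k b) true true z ≠ 0 := by
  obtain ⟨z, -, hz⟩ := exists_ne_zero_of_sum_ne_zero (A_pos hc hb).ne'
  exact ⟨z, fun q => hz (by subst q; exact O_d hb _), hz⟩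

theorem noncol {g g' : G} (col : v e g true * v e g' false ≠ v e g false * v e g' true) {b : α}
    (hb : b ≠ a₀) : e (1, true) ∈ orbit (stabilizer G a₀) b := by
  have h1 := row hc (O_iv a₀ b) g true
  have h2 := row hc (O_iv a₀ b) g' true
  have h3 : conj (F fun x => bl e (k b) true true x - if x = 0 then lam e (k b) else 0) = 0 := by
    rw [F_sub, F_one, map_sub, map_ratCast]
    refine mul_right_cancel₀ (sub_ne_zero.2 col) ?_
    linear_combination v e g' false * h1 - v e g false * h2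
  obtain ⟨z, hz, hz'⟩ := A_ex hc hb
  have := lin ((map_eq_zero _).1 h3) z 1
  simp only [hz, one_ne_zero, if_false, sub_zero] at this
  exact O_ne'.1 (this ▸ hz' :)

variable (col : ∀ g g' : G, v e g true * v e g' false = v e g false * v e g' true)
include col

omit col in
theorem id1 {b : α} (hb : b ≠ a₀) : ∑ y, bl e (k b) true true y * bl e (k b) false false y +
    lam e (k b) * lam e (k b) = sm e (k b) true false := by
  rw [ident hc (O_iv _ _) (O_iv _ _) (O_d hb) (O_d hb)]; simp only [bl, O_sq, sm]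

omit col in
theorem id2 {b b' : α} (hb : b ≠ a₀) (hb' : b' ≠ a₀) (l : 0 < lam e (k b) * lam e (k b')) :
    b' ∈ orbit (stabilizer G a₀) b := by
  have := ident hc (O_iv (G := G) _ _) (O_iv _ _) (O_d hb) (O_d hb')
  have h1 : 0 ≤ ∑ y, bl e (k b) true true y * bl e (k b') false false y :=
    sum_nonneg fun _ _ => mul_nonneg (O_nn ..) (O_nn ..)
  obtain ⟨z, -, hz⟩ := exists_ne_zero_of_sum_ne_zero (this.symm.trans_gt (by linarith)).ne'
  rw [← orbit_eq_iff, ← orbit_eq_iff.2 (O_ne'.1 (left_ne_zero_of_mul hz)),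
    ← orbit_eq_iff.2 (O_ne'.1 (right_ne_zero_of_mul hz))]

theorem lam_ne {b : α} (hb : b ≠ a₀) : lam e (k b) ≠ 0 := fun l => by
  have h1 := id1 hc hb
  have h2 := (sms hc (O_iv a₀ b)).1
  have h3 : ∑ y, (bl e (k b) true true y - bl e (k b) false false y) ^ 2 = 0 := by
    rw [l] at h1
    simp only [sub_sq, sum_add_distrib, sum_sub_distrib, mul_assoc, ← mul_sum]
    simp only [sq, bl, O_sq, lam, sm] at h1 h2 l ⊢
    linarith
  have h4 : bl e (k b) false false = bl e (k b) true true := funext fun y => by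
    have := (sum_eq_zero_iff_of_nonneg fun _ _ => sq_nonneg _).1 h3 y (mem_univ _)
    linarith [pow_eq_zero_iff two_ne_zero |>.1 this]
  obtain ⟨g, hg⟩ := v_ne (e := e) (G := G)
  have h5 := bal hc (O_iv a₀ b) g
  rw [h4, l, Rat.cast_zero, sub_zero] at h5
  obtain ⟨z, hz, hz'⟩ := A_ex hc hb
  have h6 := mul_left_cancel₀ (fun q => hz' ((lin ((map_eq_zero _).1 q) z 0).trans (O_d hb _))) h5
  have h7 := bal hc (T_iv e) g
  rw [← h6] at h7
  have h8 := mul_right_cancel₀ (mul_ne_zero hg ((map_ne_zero _).2 hg)) h7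
  have h9 : F (fun x => bl e (T e G) true true x - bl e (T e G) false false x) = 0 := by
    rw [F_sub, (starRingEnd ℂ).injective (sub_left_inj.1 h8), sub_self]
  have h10 : ∀ y ≠ a₀, T e G a₀ y = 0 := fun y hy => by
    obtain ⟨w, hw, hw'⟩ := A_ex hc hy
    have h11 := lin h9 w 0
    have h12 := anti hc col hw
    rw [← O_T e hw']
    simp only [bl, T_d] at h11 h12
    linarith
  have := T_row (G := G) e a₀
  rw [sum_eq_single a₀ (fun y _ => h10 y) (by simp), T_d] at this
  simp at this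

theorem c_sign {b : α} (hb : b ≠ a₀) : 0 < T e G a₀ b * lam e (k b) := by
  have h1 := cn hc b
  have h2 := A_pos hc hb
  have h3 : 0 ≤ sm e (k b) true false := sum_nonneg fun _ _ => O_nn ..
  have h4 := mul_self_pos.2 (lam_ne hc col hb)
  have h5 : (0 : ℚ) < Fintype.card G := by simp [Fintype.card_pos]
  refine pos_of_mul_pos_left (b := sm e (k b) true true + sm e (k b) true false) ?_ (by linarith)
  rw [mul_right_comm, h1, mul_assoc]; positivity

theorem B_eq {b : α} (hb : b ≠ a₀) : sm e (k b) true false = lam e (k b) * lam e (k b) := by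
  rw [← id1 hc hb, sum_eq_zero, zero_add]
  intro z _
  by_contra q
  have h1 := anti hc col (z := z) fun q' => left_ne_zero_of_mul q (by subst q'; exact O_d hb _)
  have h2 := c_sign hc col hb
  rw [bl, bl, O_T e (left_ne_zero_of_mul q), O_T e (right_ne_zero_of_mul q), add_self_eq_zero] at h1
  simp [h1] at h2

theorem pm : ∃ b b', b ≠ a₀ ∧ b' ≠ a₀ ∧ 0 < lam e (k b) ∧ lam e (k b') < 0 := by
  obtain ⟨g, hg⟩ := exists_smul_eq G a₀ (e (0, false))
  have n1 : e (1, true) ≠ a₀ := by simp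
  have n2 : g⁻¹ • e (1, false) ≠ a₀ := by rw [Ne, inv_smul_eq_iff, hg]; simp
  have h1 := anti hc col (z := 1) one_ne_zero
  have h2 := c_sign hc col n1
  have h3 := c_sign hc col n2
  rw [← T_iv e g, hg, smul_inv_smul] at h3
  rw [bl, bl] at h1
  rcases (lam_ne hc col n1).lt_or_gt with l | l
  · exact ⟨_, _, n2, n1, by nlinarith [neg_of_mul_pos_left h2 l.le], l⟩
  · exact ⟨_, _, n1, n2, l, by nlinarith [pos_of_mul_pos_left h2 l.le]⟩

theorem colin : Nat.card (orbitRel.Quotient (stabilizer G a₀) α) = 3 ∧ ∃ a : ℕ, 0 < a ∧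
    p = 2 * a ^ 2 + 2 * a + 1 ∧ ∀ b : α, b ≠ a₀ → Nat.card (orbit (stabilizer G a₀) b) = a * (2 * a + 1) ∨
      Nat.card (orbit (stabilizer G a₀) b) = (a + 1) * (2 * a + 1) := by
  classical
  obtain ⟨b, b', hb, hb', l, l'⟩ := pm hc col
  have cov : ∀ y ≠ a₀, y ∈ orbit (stabilizer G a₀) b ∨ y ∈ orbit (stabilizer G a₀) b' := fun y hy => by
    rcases (lam_ne hc col hy).lt_or_gt with q | q
    · exact .inr (id2 hc hb' hy (mul_pos_of_neg_of_neg l' q))
    · exact .inl (id2 hc hb hy (mul_pos l q))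
  have kk : ∀ {x y}, x ∈ orbit (stabilizer G a₀) y → k x = k y := fun {x y} q => by
    obtain ⟨g, h1, rfl⟩ := mem_orb.1 q
    funext u w
    exact O_congr ⟨fun ⟨t, t1, t2⟩ => ⟨t * g, by simp [mul_smul, h1, t1], by simp [mul_smul, t2]⟩,
      fun ⟨t, t1, t2⟩ => ⟨t * g⁻¹, by rw [mul_smul, inv_smul_eq_iff.2 h1.symm, t1],
        by simp [mul_smul, t2]⟩⟩
  have dj : ∀ y, y ∈ orbit (stabilizer G a₀) b → y ∉ orbit (stabilizer G a₀) b' := fun y q q' => by
    rw [← kk q, kk q'] at l; linarith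
  have n0 : ∀ y ≠ a₀, a₀ ∉ orbit (stabilizer G a₀) y := fun y hy q => O_ne'.2 q (O_d hy _)
  have tot : ∀ y, k b a₀ y + k b' a₀ y = if y = a₀ then 0 else 1 := fun y => by
    split_ifs with q
    · rw [q, O_d hb, O_d hb', add_zero]
    · simp only [O, ← mem_orb]
      rcases cov y q with q | q
      · simp [q, dj y q]
      · rw [if_pos q, if_neg fun q' => dj y q' q, zero_add]
  have B : sm e (k b) true false + sm e (k b') true false = p := by
    simp [sm, bl, ← sum_add_distrib, tot]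
  have A : sm e (k b) true true + sm e (k b') true true + 1 = p := by
    have : ∑ z : ZMod p, ((if z = 0 then 0 else 1) + if z = 0 then 1 else 0 : ℚ) = p :=
      (sum_congr rfl fun z _ => show _ = (1 : ℚ) by split_ifs <;> simp).trans (by simp)
    rw [← this, sum_add_distrib]
    simp [sm, bl, ← sum_add_distrib, tot]
  have e1 := B_eq hc col hb
  have e2 := B_eq hc col hb'
  have c1 := card_orb' (G := G) (e := e) b
  have c2 := card_orb' (G := G) (e := e) b'
  obtain ⟨m, hm⟩ := sm_nat (G := G) e a₀ b true true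
  obtain ⟨n, hn⟩ := sm_nat (G := G) e a₀ b true false
  have l2 : lam e (k b') = -lam e (k b) - 1 := by simp only [lam]; linarith
  obtain ⟨a, rfl⟩ : ∃ a, m = n + a := Nat.exists_eq_add_of_le (by
    rw [lam, hm, hn, sub_pos] at l; exact_mod_cast l.le)
  have l1 : lam e (k b) = a := by rw [lam, hm, hn]; simp
  refine ⟨?_, a, by exact_mod_cast l1 ▸ l, ?_, fun y hy => (cov y hy).imp (fun q => ?_) fun q => ?_⟩
  · rw [← Set.ncard_univ, Set.ncard_eq_three]
    refine ⟨Quotient.mk'' a₀, Quotient.mk'' b, Quotient.mk'' b', fun q => n0 b hb (Quotient.exact' q),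
      fun q => n0 b' hb' (Quotient.exact' q), fun q => dj b (mem_orbit_self _) (Quotient.exact' q), ?_⟩
    refine (Set.eq_univ_of_forall fun q => Quotient.inductionOn' q fun y => ?_).symm
    by_cases hy : y = a₀
    · exact .inl (congrArg _ hy)
    · exact .inr ((cov y hy).imp (fun q => Quotient.sound' q) fun q => Quotient.sound' q)
  · have : (p : ℚ) = 2 * a ^ 2 + 2 * a + 1 := by rw [← B, e1, e2, l2, l1]; ring
    exact_mod_cast this
  · have : (Nat.card (orbit (stabilizer G a₀) b) : ℚ) = a * (2 * a + 1) := by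
      rw [l1] at e1; rw [lam] at l1; linear_combination c1 + l1 + 2 * e1
    rw [orbit_eq_iff.2 q]; exact_mod_cast this
  · have : (Nat.card (orbit (stabilizer G a₀) b') : ℚ) = (a + 1) * (2 * a + 1) := by
      rw [l1] at l2; rw [l2] at e2; rw [lam] at l2; linear_combination c2 + l2 + 2 * e2
    rw [orbit_eq_iff.2 q]; exact_mod_cast this

end Cfsg.Agent.Wd
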