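import Cfsg.Agent.Lib.Fusion.Comp2

/-! The intersection `E₁ ∧ E₂` of normal subsystems. -/

set_option autoImplicit false
set_option linter.unusedSectionVars false

namespace Cfsg.Agent.Fusion

open Cfsg Cfsg.FusionSystem

universe u

variable {Ω : Type u} [Group Ω] {S : Subgroup Ω} {F : FusionSystem S}
  {P Q R T T₁ T₂ U U' W W' M N K : Subgroup Ω} {E : FusionSystem T} {E₁ : FusionSystem T₁}
  {E₂ : FusionSystem T₂} {f g k ψ θ : Ω → Ω} {p : ℕ}

theorem modKer_mem {b : MulAut W} (hb : b ∈ modKer F W T) {x : Ω} (hx : x ∈ W ⊓ T) :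
    afun b x ∈ W ⊓ T := ⟨afun_mem _ hx.1, by
  have := T.mul_mem hx.2 (hb.2 x hx.1)
  rwa [mul_inv_cancel_left] at this⟩

/-- automorphisms trivial modulo `T` whose restriction to `T` lies in `E` -/
def YE (F : FusionSystem S) (E : FusionSystem T) (W : Subgroup Ω) : Subgroup (MulAut W) where
  carrier := {b | b ∈ modKer F W T ∧ Mor E (W ⊓ T) (afun b)}
  one_mem' := ⟨one_mem _, (mor_id E inf_le_right).congr fun x _ => (afun_one x).symm⟩
  mul_mem' := fun ha hb => ⟨mul_mem ha.1 hb.1, (hb.2.comp ha.2 fun _ hx => modKer_mem hb.1 hx).congr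
    fun _ hx => (afun_mul _ _ hx.1).symm⟩
  inv_mem' := fun {a} ha => ⟨inv_mem ha.1, (ha.2.eq_inv fun _ hx => afun_inv_afun _ hx.1).mono
    fun y hy => afun_afun_inv a hy.1 ▸ subset_img (modKer_mem (inv_mem ha.1) hy)⟩

theorem aut_eq_transport {a : MulAut U} {a' : MulAut U'} (hf : Mor F U f) (e : img f U = U')
    {τ : MulAut U ≃* MulAut U'} (hτ : ∀ α, ∀ x ∈ U, afun (τ α) (f x) = f (afun α x))
    (e' : ∀ x ∈ U, afun a' (f x) = f (afun a x)) : a' = τ a := aut_ext fun y hy => by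
  obtain ⟨x, hx, rfl⟩ := hf.mem_img.1 (e.symm ▸ hy)
  rw [e' x hx, hτ a x hx]

theorem YE_transport (hE : E.IsInvariantIn F) (hf : Mor F W f) (e : img f W = W') {b : MulAut W}
    {b' : MulAut W'} (hb : b ∈ YE F E W) (e' : ∀ x ∈ W, afun b' (f x) = f (afun b x)) :
    b' ∈ YE F E W' := by
  have hT := hE.2.1
  refine ⟨⟨autGroup_transport hf e hb.1.1 e', fun y hy => ?_⟩, ?_⟩
  · obtain ⟨x, hx, rfl⟩ := hf.mem_img.1 (e.symm ▸ hy)
    rw [e' x hx, ← hf.map_inv hx, ← hf.map_mul (inv_mem hx) (afun_mem _ hx)]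
    exact StronglyClosed.mem hT hf (mul_mem (inv_mem hx) (afun_mem _ hx)) (hb.1.2 x hx)
  · have h1 := (IsInvariantIn.strongInv hE).mor hb.2 le_rfl inf_le_right
      (fun x hx => modKer_mem hb.1 hx) (hf.mono inf_le_left) fun x hx => e' x hx.1
    rwa [StronglyClosed.img_inf hT hf, e] at h1

theorem YE_conj (hE : E.IsInvariantIn F) (hW : W ≤ S) :
    ∀ a ∈ F.autGroup W, ∀ b ∈ YE F E W, a * b * a⁻¹ ∈ YE F E W := fun a ha b hb =>
  YE_transport hE ((mem_autGroup hW).1 ha) (img_afun a) hb (afun_conj_eq a b)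

theorem YE_res (hW : W ≤ S) (h : W' ≤ W) {b : MulAut W} {b' : MulAut W'} (hb : b ∈ YE F E W)
    (e : ∀ x ∈ W', afun b x = afun b' x) : b' ∈ YE F E W' :=
  ⟨⟨(((mem_autGroup hW).1 hb.1.1).mono h).mem_autGroup fun x hx => (e x hx).symm, fun x hx =>
    e x hx ▸ hb.1.2 x (h hx)⟩, (hb.2.mono (inf_le_inf_right _ h)).congr fun x hx => e x hx.1⟩

theorem cAut_mem_YE (hT : F.StronglyClosed T) (hW : W ≤ S) {t : Ω} (ht : t ∈ T) {σ : MulAut W}
    (e : ∀ x ∈ W, afun σ x = t * x * t⁻¹) : σ ∈ YE F E W :=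
  ⟨⟨autInducedBy_le_autGroup F hW (mem_autInducedBy.2 ⟨t, hT.1 ht, e⟩),
    fun x hx => by rw [e x hx]; exact conj_mod hT (hW hx) ht⟩,
    (mor_conj E inf_le_right ht).congr fun x hx => (e x hx.1).symm⟩

/-- a family given on fully centralized subgroups, spread to all subgroups -/
def spread (F : FusionSystem S) (X : ∀ U : Subgroup Ω, Subgroup (MulAut U)) (U : Subgroup Ω) :
    Subgroup (MulAut U) where
  carrier := {a | a ∈ F.autGroup U ∧ ∀ (U' : Subgroup Ω) f (τ : MulAut U ≃* MulAut U'), Mor F U f → img f U = U' →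
    F.IsFullyCentralized U' → (∀ α, ∀ x ∈ U, afun (τ α) (f x) = f (afun α x)) → τ a ∈ X U'}
  one_mem' := ⟨one_mem _, fun _ _ _ _ _ _ _ => by rw [map_one]; exact one_mem _⟩
  mul_mem' := fun ha hb => ⟨mul_mem ha.1 hb.1, fun U' f τ h1 h2 h3 h4 => by
    rw [map_mul]; exact mul_mem (ha.2 U' f τ h1 h2 h3 h4) (hb.2 U' f τ h1 h2 h3 h4)⟩
  inv_mem' := fun ha => ⟨inv_mem ha.1, fun U' f τ h1 h2 h3 h4 => by
    rw [map_inv]; exact inv_mem (ha.2 U' f τ h1 h2 h3 h4)⟩

variable {X : ∀ U : Subgroup Ω, Subgroup (MulAut U)}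

theorem spread_out {a : MulAut U} {a' : MulAut U'} (ha : a ∈ spread F X U) (hf : Mor F U f)
    (e : img f U = U') (hc : F.IsFullyCentralized U')
    (e' : ∀ x ∈ U, afun a' (f x) = f (afun a x)) : a' ∈ X U' := by
  obtain ⟨τ, hτ, -⟩ := hf.exists_transport e
  rw [aut_eq_transport hf e hτ e']
  exact ha.2 U' f τ hf e hc hτ

theorem spread_inv {a : MulAut U} {a' : MulAut U'} (hf : Mor F U f) (e : img f U = U')
    (ha : a ∈ spread F X U) (e' : ∀ x ∈ U, afun a' (f x) = f (afun a x)) : a' ∈ spread F X U' :=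
  ⟨autGroup_transport hf e ha.1 e', fun U'' g τ hg e1 hc hτ =>
    spread_out ha (hf.comp hg fun x hx => e ▸ subset_img hx) (by rw [hf.img_comp', e, e1]) hc
      fun x hx => by rw [hτ _ _ (e ▸ subset_img hx), e' x hx]⟩

theorem spread_le (hc : F.IsFullyCentralized U) : spread F X U ≤ X U := fun _ ha =>
  spread_out ha (mor_id F hc.1) (img_id _) hc fun _ _ => rfl

/-- the family is invariant under isomorphisms between fully centralized subgroups -/
def XTrans (F : FusionSystem S) (X : ∀ U : Subgroup Ω, Subgroup (MulAut U)) : Prop :=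
  ∀ U U' f a a', Mor F U f → img f U = U' → F.IsFullyCentralized U → F.IsFullyCentralized U' →
    a ∈ X U → (∀ x ∈ U, afun a' (f x) = f (afun a x)) → a' ∈ X U'

theorem mem_spread (hX : XTrans F X) (hc : F.IsFullyCentralized U) {a : MulAut U}
    (ha : a ∈ F.autGroup U) (h : a ∈ X U) : a ∈ spread F X U :=
  ⟨ha, fun U' f τ hf e hc' hτ => hX U U' f a _ hf e hc hc' h (hτ a)⟩

theorem spread_back {a : MulAut U} {a' : MulAut U'} (hf : Mor F U f) (e : img f U = U')
    (ha : a' ∈ spread F X U') (e' : ∀ x ∈ U, afun a' (f x) = f (afun a x)) : a ∈ spread F X U := by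
  obtain ⟨i, hi, i1, -, -, i4⟩ := hf.inv' e
  refine spread_inv hi i4 ha fun y hy => ?_
  obtain ⟨x, hx, rfl⟩ := hf.mem_img.1 (e.symm ▸ hy)
  rw [i1 x hx, e' x hx, i1 _ (afun_mem _ hx)]

variable [hp : Fact p.Prime] [Finite S]

theorem pgroup_of_coprime {Γ : Type*} [Group Γ] [Finite Γ] {B : Subgroup Γ}
    (h : ∀ b ∈ B, (orderOf b).Coprime p → b = 1) : IsPGroup p B := fun b => by
  obtain ⟨k, hk⟩ := Transfer.exists_pow_coprime (p := p) (b : Γ)
  exact ⟨k, Subtype.ext (h _ (pow_mem b.2 _) hk)⟩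

theorem xtrans_res (hS : IsPGroup p S) (hF : F.IsSaturated p)
    {Y : ∀ U : Subgroup Ω, Subgroup (MulAut U)}
    (hY : ∀ W W' f b b', Mor F W f → img f W = W' → b ∈ Y W →
      (∀ x ∈ W, afun b' (f x) = f (afun b x)) → b' ∈ Y W') :
    XTrans F fun U => resImg (le_sup_left : U ≤ Vc S U) (Y _) := by
  intro U U' f a a' hf e hc hc' ha e'
  obtain ⟨b, hb, eb⟩ := (mem_resImg _).1 ha
  obtain ⟨g, hg, eg⟩ := IsReceptive.ext (IsSaturated.receptive hS hF hc') hf e
  have hle : Vc S U ≤ Next S U f := sup_le hf.le_Next centralizerIn_le_Next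
  have e1 := hg.img_Vc hle hc
  rw [img_congr eg, e] at e1
  obtain ⟨τ, hτ, -⟩ := (hg.mono hle).exists_transport e1
  refine (mem_resImg _).2 ⟨τ b, hY _ _ g b _ (hg.mono hle) e1 hb (hτ b), fun y hy => ?_⟩
  obtain ⟨x, hx, rfl⟩ := hf.mem_img.1 (e.symm ▸ hy)
  rw [e' x hx, ← eg x hx, hτ b x (Subgroup.mem_sup_left hx), eb x hx, eg _ (afun_mem _ hx)]

theorem mem_T_mul (hS : IsPGroup p S) (hE : E.IsWeaklyNormalIn F p) (hK : F.IsFullyCentralized K)
    (h1 : K ≤ U) (hU : U ≤ T) (h2 : Vc S K ≤ normalizerIn S U) {s : Ω} (hs : s ∈ normalizerIn S U)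
    (h : Mor E U fun x => s * x * s⁻¹) : ∃ c ∈ centralizerIn S K, s * c⁻¹ ∈ T := by
  have hT := hE.2.2.2.1
  have hUS := hU.trans hT.1
  obtain ⟨θ, hθ, hn⟩ := IsSaturated.exists_normalizer_mor' hS hE.2.1 hUS
  have hl := le_normalizerIn hUS
  have hθ' := hθ.mono hl
  obtain ⟨σ, eσ⟩ := exists_cAut (hθ.normalizerIn_mem hUS hs).2
  obtain ⟨t, ht, et⟩ := mem_autInducedBy.1 (aut_E_inf hS hE (StronglyClosed.img_le hT hθ' hU) hn
    (((IsInvariantIn.strongInv hE.2.2).mor h le_rfl hU (fun x hx => conj_mem_of_mem_normalizerIn hs hx)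
      hθ' fun x hx => (eσ _ (subset_img hx)).trans (hθ.map_conj hs (hl hx)).symm).mem_autGroup
      fun _ _ => rfl) (mem_autInducedBy.2 ⟨_, hθ.mem hs, eσ⟩))
  have h3 : t⁻¹ * θ s ∈ centralizerIn S (img θ K) := centralizerIn_anti (img_mono h1)
    (mem_centralizerIn.2 ⟨mul_mem (inv_mem (hT.1 ht)) (hθ.mem hs), fun y hy => by
      calc _ = t⁻¹ * (θ s * y * (θ s)⁻¹) * t := by group
        _ = y := by rw [← eσ y hy, et y hy]; group⟩)
  rw [← hθ.img_centralizerIn (le_sup_left.trans h2) (le_sup_right.trans h2) hK] at h3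
  obtain ⟨c, hc, e⟩ := (hθ.mono (le_sup_right.trans h2)).mem_img.1 h3
  have hc' := h2 (Subgroup.mem_sup_right hc)
  refine ⟨c, hc, (StronglyClosed.mem_iff hT hθ (mul_mem hs (inv_mem hc'))).1 ?_⟩
  rw [hθ.map_mul hs (inv_mem hc'), hθ.map_inv hc', e]
  simpa using ht

theorem tc_inf' (hS : IsPGroup p S) (hF : F.IsSaturated p) (hT : F.StronglyClosed T)
    (hK : F.IsFullyCentralized K) (h1 : K ≤ T) (h2 : Vc S K ≤ M) : TC F T (M ⊓ T) :=
  ⟨inf_le_right, fun f hf c hc => by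
  have hKM : K ≤ M ⊓ T := le_inf (le_sup_left.trans h2) h1
  have hCM : centralizerIn T K ≤ M ⊓ T :=
    le_inf ((centralizerIn_mono hT.1).trans (le_sup_right.trans h2)) centralizerIn_le
  have h3 := centralizerIn_anti (img_mono hKM) hc
  have := finite_of_le hT.1
  have := finite_of_le (centralizerIn_le : centralizerIn T (img f K) ≤ T)
  have := finite_of_le (centralizerIn_le : centralizerIn T K ≤ T)
  obtain ⟨i, hi, -, -, -, i4⟩ := (hf.mono hKM).inv
  obtain ⟨g, hg, e⟩ := IsReceptive.ext (IsSaturated.receptive hS hF hK) hi i4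
  have hN := (centralizerIn_mono hT.1).trans (centralizerIn_le_Next (S := S) (P := img f K) (f := i))
  have h4 := (hf.mono hCM).img_eq_of_card_le (Q := centralizerIn T (img f K)) (fun x hx =>
    ⟨StronglyClosed.mem hT hf (hCM hx) hx.1, (hf.mem_centralizer_img hKM (hCM hx)
      (mem_centralizerIn.1 hx).2).2⟩) ((hg.mono hN).card_le fun x hx =>
    ⟨StronglyClosed.mem hT hg (hN hx) hx.1, by
      have := hg.mem_centralizer_img hi.le_Next (hN hx) (mem_centralizerIn.1 hx).2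
      rw [img_congr e, i4] at this
      exact this.2⟩)
  exact img_mono hCM (h4 ▸ h3)⟩

theorem YE_grow (hS : IsPGroup p S) (hE : E.IsWeaklyNormalIn F p) (hK : F.IsFullyCentralized K)
    (h1 : K ≤ T) (h2 : Vc S K ≤ M) (h3 : M ≤ W) (h4 : W ≤ normalizerIn S M) {β : MulAut W}
    (hβ : β ∈ F.autGroup W) (hc : (orderOf β).Coprime p) {b : MulAut M} (hb : b ∈ YE F E M)
    (e : ∀ x ∈ M, afun β x = afun b x) : β ∈ YE F E W := by
  have hT := hE.2.2.2.1
  have hW := h4.trans normalizerIn_le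
  have hM := h3.trans hW
  have := finite_of_le hT.1
  have := finite_of_le hW
  have hm := (mem_autGroup hW).1 hβ
  have hN : W ≤ normalizerIn S (M ⊓ T) := le_inf hW (le_normalizer_of_conj_mem fun s hs x hx =>
    ⟨conj_mem_of_mem_normalizerIn (h4 hs) hx.1, StronglyClosed.conj_mem hT (hW hs) hx.2⟩)
  have htc := tc_inf' hS hE.2.1 hT hK h1 h2
  have hMT : M ≤ Subgroup.normalizer (T : Set Ω) := hM.trans (StronglyClosed.le_normalizer hT)
  refine ⟨⟨hβ, fun x hx => ?_⟩, ?_⟩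
  · obtain ⟨y, hy, hyW, ey⟩ := comm_rep (pgroup_of_le hS hW) hc (C := M ⊔ T)
      (le_normalizer_of_conj_mem fun s hs x hx => by
        obtain ⟨m, hm, t, ht, rfl⟩ := (mem_sup_of_le_normalizer hMT).1 hx
        rw [show s * (m * t) * s⁻¹ = (s * m * s⁻¹) * (s * t * s⁻¹) by group]
        exact Subgroup.mul_mem_sup (conj_mem_of_mem_normalizerIn (h4 hs) hm)
          (StronglyClosed.conj_mem hT (hW hs) ht)) (fun w hw => by
        have h5 := mul_mem (inv_mem hw) (afun_mem β hw)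
        obtain ⟨σ, eσ⟩ := exists_cAut (h4 hw).2
        have hσ := autInducedBy_le_autGroup F hM (mem_autInducedBy.2 ⟨w, hW hw, eσ⟩)
        have h6 := mul_mem (YE_conj hE.2.2 hM _ (inv_mem hσ) b hb) (inv_mem hb)
        obtain ⟨c, hc, h7⟩ := mem_T_mul hS hE hK (le_inf (le_sup_left.trans h2) h1) inf_le_right
          (h2.trans (h3.trans hN)) (hN h5) (h6.2.congr fun u hu => by
            have hu' := afun_mem b⁻¹ hu.1
            rw [inv_inv, afun_mul _ _ hu.1, afun_mul _ _ hu', afun_mul _ _ (afun_mem σ hu'),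
              afun_inv_conj eσ (afun_mem b (afun_mem σ hu')), ← e _ (afun_mem σ hu'), eσ _ hu',
              hm.map_conj hw (h3 hu'), e _ hu', afun_afun_inv _ hu.1]
            group)
        have := mul_mem (Subgroup.mem_sup_right h7 : _ ∈ M ⊔ T)
          (Subgroup.mem_sup_left (h2 (Subgroup.mem_sup_right hc)))
        rwa [inv_mul_cancel_right] at this) hx
    rw [ey]
    obtain ⟨m, hm', t, ht, rfl⟩ := (mem_sup_of_le_normalizer hMT).1 hy
    have htW := (Subgroup.mul_mem_cancel_left _ (h3 hm')).1 hyW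
    rw [afun_map_mul _ (h3 hm') htW, e m hm', show (m * t)⁻¹ * (afun b m * afun β t) =
      t⁻¹ * (m⁻¹ * afun b m) * afun β t by group]
    exact mul_mem (mul_mem (inv_mem ht) (hb.1.2 m hm')) (StronglyClosed.mem hT hm htW ht)
  · obtain ⟨β', b1, b2, b3⟩ := exists_res_aut hT hW hβ
    have := finite_of_le (inf_le_right : M ⊓ T ≤ T)
    obtain ⟨a, ha, ea⟩ := hb.2.exists_aut (hb.2.img_eq_self fun x hx => modKer_mem hb.1 hx)
    exact ((mem_autGroup inf_le_right).1 (ext_mem_E hS hE.2.2 (IsSaturated.receptive_of_centric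
      (pgroup_of_le hS hT.1) hE.1 ((IsInvariantIn.centric_iff hE.2.2).2 htc)) (htc.cent hT.1)
      (inf_le_inf_right _ h3) (fun x hx => ⟨hx.2, (hN hx.1).2⟩) b1 (hc.coprime_dvd_left b3) ha
      fun x hx => by rw [← b2 x ⟨h3 hx.1, hx.2⟩, e x hx.1, ea x hx])).congr fun x hx => (b2 x hx).symm

theorem pgroup_ker (hW : IsPGroup p W) [Finite W] (hc : centralizerIn T U ≤ U)
    (h1 : U ≤ W) (h2 : W ≤ Subgroup.normalizer (U : Set Ω)) {B : Subgroup (MulAut W)}
    (h : ∀ b ∈ B, b ∈ modKer F W T ∧ ∀ x ∈ U, afun b x = x) : IsPGroup p B :=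
  have := finite_mulAut W
  pgroup_of_coprime fun b hb hc' => aut_ext fun x hx => by
    obtain ⟨h3, h4⟩ := h b hb
    have h5 := h3.2 x hx
    have h6 := mul_mem (inv_mem hx) (afun_mem b hx)
    rw [afun_one]
    refine afun_fix_step hW hc' hx (afun_fix_step hW hc' h6 (h4 _ (hc (mem_centralizerIn.2
      ⟨h3.2 _ h6, comm_cent h1 h4 h6 fun y hy => conj_mem_of_mem_normalizer (h2 h6) hy⟩))))

/-- the automorphism family of the wedge -/
abbrev YW (F : FusionSystem S) (E₁ : FusionSystem T₁) (E₂ : FusionSystem T₂) (W : Subgroup Ω) :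
    Subgroup (MulAut W) := YE F E₁ W ⊓ YE F E₂ W

/-- the automorphism family of the wedge -/
noncomputable abbrev LW (F : FusionSystem S) (E₁ : FusionSystem T₁) (E₂ : FusionSystem T₂) (U : Subgroup Ω) :
    Subgroup (MulAut U) := spread F (fun U => resImg (le_sup_left : U ≤ Vc S U) (YW F E₁ E₂ _)) U

theorem YW_ker {b : MulAut W} (h : b ∈ YW F E₁ E₂ W) : b ∈ modKer F W (T₁ ⊓ T₂) :=
  ⟨h.1.1.1, fun x hx => ⟨h.1.1.2 x hx, h.2.1.2 x hx⟩⟩

theorem YW_transport (h₁ : E₁.IsWeaklyNormalIn F p) (h₂ : E₂.IsWeaklyNormalIn F p) :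
    ∀ W W' f b b', Mor F W f → img f W = W' → b ∈ YW F E₁ E₂ W →
      (∀ x ∈ W, afun b' (f x) = f (afun b x)) → b' ∈ YW F E₁ E₂ W' := fun _ _ _ _ _ hf e hb e' =>
  ⟨YE_transport h₁.2.2 hf e hb.1 e', YE_transport h₂.2.2 hf e hb.2 e'⟩

theorem mem_LW (hS : IsPGroup p S) (h₁ : E₁.IsWeaklyNormalIn F p) (h₂ : E₂.IsWeaklyNormalIn F p)
    (hU : F.IsFullyCentralized U) (hM : M ≤ S) (h : Vc S U ≤ M) {b : MulAut M}
    (hb : b ∈ YW F E₁ E₂ M) {a : MulAut U} (e : ∀ x ∈ U, afun b x = afun a x) :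
    a ∈ LW F E₁ E₂ U := by
  have hm := (mem_autGroup hM).1 hb.1.1.1
  have := finite_of_le (Vc_le hU.1)
  obtain ⟨c, -, ec⟩ := (hm.mono h).exists_aut ((hm.mono h).img_eq_self fun x hx => by
    have := hm.maps_Vc h x hx
    rwa [img_eq_of_afun e] at this)
  exact mem_spread (xtrans_res hS h₁.2.1 (YW_transport h₁ h₂)) hU
    ((hm.mono (le_sup_left.trans h)).mem_autGroup fun x hx => (e x hx).symm) ((mem_resImg _).2
      ⟨c, ⟨YE_res hM h hb.1 fun x hx => (ec x hx).symm, YE_res hM h hb.2 fun x hx => (ec x hx).symm⟩,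
        fun x hx => by rw [ec x (Subgroup.mem_sup_left hx), e x hx]⟩)

theorem exists_coprime_lift {Y : Subgroup (MulAut W)} [Finite W] (h : U ≤ W) {a : MulAut U}
    (ha : a ∈ resImg h Y) (hc : (orderOf a).Coprime p) :
    ∃ b ∈ Y, (orderOf b).Coprime p ∧ ∀ x ∈ U, afun b x = afun a x := by
  obtain ⟨b, hb, e⟩ := (mem_resImg _).1 ha
  have := finite_mulAut W
  obtain ⟨m, hm1, hm2⟩ := exists_pow_coprime_ext b hc
  exact ⟨b ^ m, pow_mem hb m, hm1, fun x hx => by
    rw [afun_pow_of_eq h e m x hx, pow_eq_self_of_modEq hm2]⟩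

theorem claimG_fn (hS : IsPGroup p S) (h₁ : E₁.IsWeaklyNormalIn F p) (h₂ : E₂.IsWeaklyNormalIn F p)
    (hU : TC F (T₁ ⊓ T₂) U) (hn : F.IsFullyNormalized U) :
    ∀ M, M ≤ normalizerIn S U → U ≤ M → ∀ K, F.IsFullyCentralized K → K ≤ T₁ ⊓ T₂ → Vc S K ≤ M →
      ∀ b ∈ YW F E₁ E₂ M, (orderOf b).Coprime p → ∀ a : MulAut U, (∀ x ∈ U, afun b x = afun a x) →
        a ∈ LW F E₁ E₂ U := by
  have hF := h₁.2.1
  have hT := stronglyClosed_inf h₁.2.2.2.1 h₂.2.2.2.1
  have := finite_of_le (normalizerIn_le : normalizerIn S U ≤ S)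
  have hS' := pgroup_of_le hS (normalizerIn_le : normalizerIn S U ≤ S)
  have hN := normSys_spec F hn.1
  have hNs := normalizer_saturated hS hF hn hN
  have hUs := IsNormal.stronglyClosed (normSys_normal hN hn.1)
  refine downward_induction fun M hM ih h1 K hK h2 h3 b hb hc a e => ?_
  by_cases hC : centralizerIn S U ≤ M
  · exact mem_LW hS h₁ h₂ (IsSaturated.fullyCentralized hS hF hn) (hM.trans normalizerIn_le)
      (sup_le h1 hC) hb e
  have key : ∀ M', (normSys F hn.1).IsFullyNormalized M' → Nat.card M = Nat.card M' → U ≤ M' →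
      ∀ K, F.IsFullyCentralized K → K ≤ T₁ ⊓ T₂ → Vc S K ≤ M' →
      ∀ w ∈ centralizerIn S U, w ∈ Subgroup.normalizer (M' : Set Ω) → w ∉ M' →
      ∀ b ∈ YW F E₁ E₂ M', (orderOf b).Coprime p → ∀ a : MulAut U, (∀ x ∈ U, afun b x = afun a x) →
        a ∈ LW F E₁ E₂ U := by
    intro M hM hcard h1 K hK h2 h3 w hw hw1 hw2 b hb hc a e
    have hMS := hM.1.trans normalizerIn_le
    have := finite_of_le hMS
    have hm := normSys_mor_of hN hM.1 ((mem_autGroup hMS).1 hb.1.1.1) le_rfl h1 (img_eq_of_afun e)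
    have hbN := (mem_autGroup hM.1).2 hm
    obtain ⟨g, hg, eg⟩ := IsReceptive.ext (IsSaturated.receptive' hS' hNs hM) hm (img_afun b)
    have hle : normalizerIn (centralizerIn S U) M ≤ Next (normalizerIn S U) M (afun b) :=
      fun w hw => by
      obtain ⟨σ, eσ⟩ := exists_cAut hw.2
      have hwN := centralizerIn_le_normalizerIn hw.1
      have hσ := mem_autInducedBy.2 ⟨w, hwN, eσ⟩
      have hσ' := autInducedBy_le_autGroup (normSys F hn.1) hM.1 hσ
      have h4 : b * (σ * b⁻¹ * σ⁻¹) ∈ autCore (normSys F hn.1) p M := by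
        refine le_autCore (N := modKer F M (T₁ ⊓ T₂) ⊓ fixAll ((normSys F hn.1).autGroup M) U)
          (fun x hx => hx.2.1) (pgroup_ker (F := F) (pgroup_of_le hS hMS) (hU.cent hT.1) h1
            (fun x hx => (hM.1 hx).2) fun x hx => ⟨hx.1, fun y hy => fixAll.fix hx.2 (h1 hy) hy⟩)
          (fun c hc x hx => ⟨modKer_conj hT hMS c (IsSubsystemOf.autGroup_le (normSys_sub hN) hM.1 hc)
            x hx.1, fixAll_conj c hc x hx.2⟩) ⟨mul_mem (YW_ker hb) (modKer_conj hT hMS σ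
              (IsSubsystemOf.autGroup_le (normSys_sub hN) hM.1 hσ') _ (inv_mem (YW_ker hb))),
            mul_mem hbN (mul_mem (mul_mem hσ' (inv_mem hbN)) (inv_mem hσ')), fun γ hγ x hx hx' => ?_⟩
        have h5 := StronglyClosed.mem hUs ((mem_autGroup hM.1).1 hγ) hx hx'
        generalize afun γ x = y at h5
        have h6 := StronglyClosed.mem hUs ((mem_autGroup hM.1).1 (inv_mem hbN)) (h1 h5) h5
        have h7 := (mem_centralizerIn.1 (inv_mem hw.1)).2 y h5
        rw [inv_inv] at h7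
        rw [afun_mul _ _ (h1 h5), afun_mul _ _ (h1 h5), afun_inv_conj eσ (h1 h5), h7,
          afun_mul _ _ (h1 h5), eσ _ (h1 h6), (mem_centralizerIn.1 hw.1).2 _ h6,
          afun_afun_inv _ (h1 h5)]
      refine (mem_Next_afun_iff hwN eσ).2 ?_
      have := mul_mem (autCore_le_of_fn hS' hNs hM h4) hσ
      rwa [show b * (σ * b⁻¹ * σ⁻¹) * σ = b * σ * b⁻¹ by group] at this
    have hW : M ⊔ normalizerIn (centralizerIn S U) M ≤ _ := sup_le hm.le_Next hle
    have hg' := (hg.mono hW).sub (normSys_sub hN)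
    have := finite_of_le hg'.le
    have eM : img g M = M := img_eq_of_afun eg
    have eU : img g U = U := img_eq_of_afun (α := a) fun x hx => by rw [eg x (h1 hx), e x hx]
    obtain ⟨β, b1, -, b2, b3⟩ := exists_coprime_ext le_sup_left hg' (hg'.img_eq_self (hg'.mem_of_sup
      (fun x hx => Subgroup.mem_sup_left (eM ▸ subset_img hx)) fun x hx => Subgroup.mem_sup_right
        ⟨eU ▸ hg'.mem_centralizer_img (h1.trans le_sup_left) (Subgroup.mem_sup_right hx)
          (mem_centralizerIn.1 hx.1).2, (eM ▸ hg'.mem_normalizer_img le_sup_left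
            (Subgroup.mem_sup_right hx) hx.2).2⟩)) eg hc
    have h4 : M ⊔ normalizerIn (centralizerIn S U) M ≤ normalizerIn S M :=
      sup_le (le_normalizerIn hMS) (normalizerIn_mono centralizerIn_le)
    exact ih _ (hg.mono hW).le (hcard ▸ card_lt_of_lt (lt_of_le_of_ne le_sup_left fun e =>
      hw2 (e.ge (Subgroup.mem_sup_right ⟨hw, hw1⟩)))) (h1.trans le_sup_left) K hK h2
      (h3.trans le_sup_left) β ⟨YE_grow hS h₁ hK (h2.trans inf_le_left) h3 le_sup_left h4 b1 b2 hb.1 b3,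
        YE_grow hS h₂ hK (h2.trans inf_le_right) h3 le_sup_left h4 b1 b2 hb.2 b3⟩ b2 a
      fun x hx => by rw [b3 x (h1 hx), e x hx]
  obtain ⟨w, hw, hw1, hw2⟩ : ∃ w ∈ centralizerIn S U, w ∈ Subgroup.normalizer (M : Set Ω) ∧ w ∉ M := by
    by_contra hh
    push Not at hh
    exact hC (le_of_normalizer_inf_le hS (hM.trans normalizerIn_le) centralizerIn_le
      (le_normalizer_of_conj_mem fun s hs x hx => cent_conj_mem (hM hs) hx) hh)
  obtain ⟨θ, hθ, hn'⟩ := IsSaturated.exists_normalizer_mor' hS' hNs hM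
  have hl := le_normalizerIn hM
  have hθF := hθ.sub (normSys_sub hN)
  have hθM := hθF.mono hl
  have eU := StronglyClosed.img_eq hUs hθ (h1.trans hl)
  have hwN : w ∈ normalizerIn (normalizerIn S U) M := ⟨centralizerIn_le_normalizerIn hw, hw1⟩
  obtain ⟨τ, hτ, -⟩ := hθM.exists_transport rfl
  obtain ⟨τ', hτ', -⟩ := (hθM.mono h1).exists_transport eU
  refine spread_back (hθM.mono h1) eU (key _ hn' hθM.card_img.symm (eU.ge.trans (img_mono h1)) _
    (fullyCentralized_img hθM h3 hK) (StronglyClosed.img_le hT (hθM.mono (le_sup_left.trans h3)) h2)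
    (by rw [← hθM.img_Vc h3 hK]; exact img_mono h3) (θ w)
    (eU ▸ hθF.mem_centralizer_img (h1.trans hl) hwN (mem_centralizerIn.1 hw).2)
    (hθF.mem_normalizer_img hl hwN hw1).2 (fun h => hw2 ((hθF.apply_mem_img_iff hl hwN).1 h)) (τ b)
    (YW_transport h₁ h₂ _ _ _ _ _ hθM rfl hb (hτ b)) (by rwa [τ.orderOf_eq]) (τ' a) fun y hy => ?_)
    (hτ' a)
  obtain ⟨x, hx, rfl⟩ := (hθM.mono h1).mem_img.1 (eU.symm ▸ hy)
  rw [hτ b x (h1 hx), hτ' a x hx, e x hx]

theorem claimG (hS : IsPGroup p S) (h₁ : E₁.IsWeaklyNormalIn F p) (h₂ : E₂.IsWeaklyNormalIn F p)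
    (hU : TC F (T₁ ⊓ T₂) U) (hM : M ≤ normalizerIn S U) (h1 : U ≤ M) (hK : F.IsFullyCentralized K)
    (h2 : K ≤ T₁ ⊓ T₂) (h3 : Vc S K ≤ M) {b : MulAut M} (hb : b ∈ YW F E₁ E₂ M)
    (hc : (orderOf b).Coprime p) {a : MulAut U} (e : ∀ x ∈ U, afun b x = afun a x) :
    a ∈ LW F E₁ E₂ U := by
  have hT := stronglyClosed_inf h₁.2.2.2.1 h₂.2.2.2.1
  have hUS := hU.1.trans hT.1
  obtain ⟨θ, hθ, hn⟩ := IsSaturated.exists_normalizer_mor' hS h₁.2.1 hUS
  have hθM := hθ.mono hM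
  obtain ⟨τ, hτ, -⟩ := hθM.exists_transport rfl
  obtain ⟨τ', hτ', -⟩ := (hθM.mono h1).exists_transport rfl
  refine spread_back (hθM.mono h1) rfl (claimG_fn hS h₁ h₂ (hU.image hT (hθM.mono h1)) hn _
    (hθM.img_le_normalizerIn h1 hM) (img_mono h1) _ (fullyCentralized_img hθM h3 hK)
    (StronglyClosed.img_le hT (hθM.mono (le_sup_left.trans h3)) h2)
    (by rw [← hθM.img_Vc h3 hK]; exact img_mono h3) (τ b)
    (YW_transport h₁ h₂ _ _ _ _ _ hθM rfl hb (hτ b)) (by rwa [τ.orderOf_eq]) (τ' a) fun y hy => ?_)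
    (hτ' a)
  obtain ⟨x, hx, rfl⟩ := (hθM.mono h1).mem_img.1 hy
  rw [hτ b x (h1 hx), hτ' a x hx, e x hx]

end Cfsg.Agent.Fusion
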