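import Cfsg.Agent.Lib.Fusion.Wedge

/-! The intersection `E₁ ∧ E₂` of normal subsystems, part 2. -/

set_option autoImplicit false
set_option linter.unusedSectionVars false

namespace Cfsg.Agent.Fusion

open Cfsg Cfsg.FusionSystem

universe u

variable {Ω : Type u} [Group Ω] {S : Subgroup Ω} {F : FusionSystem S}
  {P Q R T T₁ T₂ U U' W W' M N K : Subgroup Ω} {E : FusionSystem T} {E₁ : FusionSystem T₁}
  {E₂ : FusionSystem T₂} {f g k ψ θ : Ω → Ω} {p : ℕ} [hp : Fact p.Prime] [Finite S]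

theorem LW_res_normal (hS : IsPGroup p S) (h₁ : E₁.IsWeaklyNormalIn F p)
    (h₂ : E₂.IsWeaklyNormalIn F p) (hU : TC F (T₁ ⊓ T₂) U) (h1 : U ≤ K)
    (h2 : K ≤ normalizerIn (T₁ ⊓ T₂) U) {b : MulAut K} (hb : b ∈ LW F E₁ E₂ K)
    (hc : (orderOf b).Coprime p) {a : MulAut U} (e : ∀ x ∈ U, afun b x = afun a x) :
    a ∈ LW F E₁ E₂ U := by
  have hT := stronglyClosed_inf h₁.2.2.2.1 h₂.2.2.2.1
  have hKT := h2.trans normalizerIn_le
  obtain ⟨K', hK', hc'⟩ := exists_fullyCentralized F (hKT.trans hT.1)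
  obtain ⟨θ, hθ, rfl⟩ := isConj_iff.1 hK'
  obtain ⟨τ, hτ, -⟩ := hθ.exists_transport rfl
  obtain ⟨τ', hτ', -⟩ := (hθ.mono h1).exists_transport rfl
  have := finite_of_le (Vc_le hc'.1)
  obtain ⟨β, b1, b2, b3⟩ := exists_coprime_lift le_sup_left (spread_out hb hθ rfl hc' (hτ b))
    (by rwa [τ.orderOf_eq])
  refine spread_back (hθ.mono h1) rfl (claimG hS h₁ h₂ (hU.image hT (hθ.mono h1)) (sup_le
    (hθ.img_le_normalizerIn h1 (h2.trans (normalizerIn_mono hT.1))) ((centralizerIn_anti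
      (img_mono h1)).trans centralizerIn_le_normalizerIn)) ((img_mono h1).trans le_sup_left) hc'
    (StronglyClosed.img_le hT hθ hKT) le_rfl b1 b2 fun y hy => ?_) (hτ' a)
  obtain ⟨x, hx, rfl⟩ := (hθ.mono h1).mem_img.1 hy
  rw [b3 _ (subset_img (h1 hx)), hτ b x (h1 hx), hτ' a x hx, e x hx]

theorem mem_autS_of_ker (hS : IsPGroup p S) (hF : F.IsSaturated p) (hT : F.StronglyClosed T)
    (hU : TC F T U) (hn : F.IsFullyNormalized U) {b : MulAut (Vc S U)} (hb : b ∈ modKer F _ T)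
    {a : MulAut U} (ha : a ∈ autInducedBy S U) (e : ∀ x ∈ U, afun b x = afun a x) :
    b ∈ autInducedBy S (Vc S U) := by
  have hV := hU.fn_Vc hT hn
  have := finite_of_le hV.1
  have hs := modKer_sylow hT (IsSaturated.fullyAutomized hS hF hV)
  have := finite_mulAut (Vc S U)
  refine (hs.max (modKer F _ T ⊓ resPre le_sup_left (autInducedBy S U)) inf_le_left
    (pgroup_of_coprime fun c hc hc' => ?_) (fun c hc => ⟨hc.2, ?_⟩)
    ⟨hb, (mem_resPre _).2 ⟨a, ha, e⟩⟩).1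
  · obtain ⟨d, hd, ed⟩ := (mem_resPre _).1 hc.2
    obtain ⟨k, hk⟩ := autInducedBy_pgroup hS U ⟨d, hd⟩
    have h1 : ∀ x ∈ U, afun (c ^ p ^ k) x = x := fun x hx => by
      rw [afun_pow_of_eq le_sup_left ed _ x hx, show d ^ p ^ k = 1 from congrArg Subtype.val hk,
        afun_one]
    obtain ⟨j, hj⟩ := pelt_of_step (pgroup_of_le hS hV.1) le_sup_left h1 fun x hx =>
      hU.mem_of_Vc hT.1 (mul_mem (inv_mem hx) (afun_mem _ hx)) ((pow_mem hc.1 _).2 x hx)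
    exact eq_one_of_coprime_pelt hc' (k := k + j) (by rw [pow_add, pow_mul, hj])
  · obtain ⟨s, hs, es⟩ := mem_autInducedBy.1 hc.1
    have := finite_of_le hn.1
    obtain ⟨σ, eσ⟩ := exists_cAut (mem_normalizer_of_finite (P := U) (g := s) fun x hx =>
      hU.mem_of_Vc hT.1 (es x (Subgroup.mem_sup_left hx) ▸ afun_mem _ (Subgroup.mem_sup_left hx))
        (StronglyClosed.conj_mem hT hs (hU.1 hx)))
    exact (mem_resPre _).2 ⟨σ, mem_autInducedBy.2 ⟨s, hs, eσ⟩, fun x hx => by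
      rw [es x (Subgroup.mem_sup_left hx), eσ x hx]⟩

theorem YE_foc (hS : IsPGroup p S) (hE : E.IsWeaklyNormalIn F p) (hU : F.IsFullyCentralized U)
    (h : U ≤ T) {s : Ω} (hs : s ∈ S) {r l : MulAut (Vc S U)} (hr : r ∈ YE F E _) (hl : l ∈ YE F E _)
    (es : ∀ x ∈ Vc S U, afun r x = s * x * s⁻¹) (hg : Mor F N g) (h1 : Vc S U ≤ N) (h2 : s ∈ N)
    (e : ∀ x ∈ Vc S U, g x = afun l x) : g s * s⁻¹ ∈ T := by
  have hT := hE.2.2.2.1
  have hN : normalizerIn S (Vc S U) ≤ normalizerIn S (Vc S U ⊓ T) := le_inf normalizerIn_le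
    (le_normalizer_of_conj_mem fun s hs x hx =>
      ⟨conj_mem_of_mem_normalizerIn hs hx.1, StronglyClosed.conj_mem hT hs.1 hx.2⟩)
  obtain ⟨c, hc, h3⟩ := mem_T_mul hS hE hU (le_inf le_sup_left h) inf_le_right
    ((le_normalizerIn (Vc_le hU.1)).trans hN) (hN ⟨hs, mem_normalizer_of_afun es⟩)
    (hr.2.congr fun x hx => es x hx.1)
  have hcV : c ∈ Vc S U := Subgroup.mem_sup_right hc
  have h4 := mul_mem h2 (inv_mem (h1 hcV))
  have h5 := StronglyClosed.mem hT hg h4 h3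
  rw [hg.map_mul h2 (inv_mem (h1 hcV)), hg.map_inv (h1 hcV), e c hcV] at h5
  have h6 := mul_mem (mul_mem h5 (StronglyClosed.conj_mem hT hc.1 (hl.1.2 c hcV))) (inv_mem h3)
  rwa [show g s * (afun l c)⁻¹ * (c * (c⁻¹ * afun l c) * c⁻¹) * (s * c⁻¹)⁻¹ = g s * s⁻¹ by group] at h6

theorem wedge_wdata (hS : IsPGroup p S) (h₁ : E₁.IsWeaklyNormalIn F p)
    (h₂ : E₂.IsWeaklyNormalIn F p) : WData F (T₁ ⊓ T₂) p (TC F (T₁ ⊓ T₂)) (LW F E₁ E₂) := by
  have hF := h₁.2.1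
  have hT₁ := h₁.2.2.2.1
  have hT₂ := h₂.2.2.2.1
  have hT := stronglyClosed_inf hT₁ hT₂
  refine ⟨hT, id, fun hU hf => hU.image hT hf, fun hU h1 h2 => hU.mono h1 h2,
    fun {P} hP hn hH hh => hH (tc_of_receptive hT (IsSaturated.receptive' hS hF hn) hP
      fun c hc => hh ⟨centralizerIn_le_hat (centralizerIn_mono hT.1 hc), hc.1⟩), fun _ _ ha => ha.1,
    fun {U} hU σ hσ => ?_, fun _ hf e ha e' => spread_inv hf e ha e',
    fun {U r l} hU hn hr hr' hl hl' => ?_, fun {U K a b} hU h1 h2 hb hc e => ?_,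
    fun {U K a} hU hn h1 h2 ha hc h3 => ?_⟩
  · obtain ⟨t, ht, e⟩ := mem_autInducedBy.1 hσ
    have hUS := hU.1.trans hT.1
    obtain ⟨θ, hθ, hn⟩ := IsSaturated.exists_normalizer_mor' hS hF hUS
    have hl := le_normalizerIn hUS
    have h1 : t ∈ normalizerIn S U := ⟨hT.1 ht, mem_normalizer_of_afun e⟩
    have h2 := StronglyClosed.mem hT hθ h1 ht
    obtain ⟨τ, hτ, -⟩ := (hθ.mono hl).exists_transport rfl
    obtain ⟨β, eβ⟩ := exists_cAut (norm_le_norm_Vc (hθ.normalizerIn_mem hUS h1))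
    refine spread_back (hθ.mono hl) rfl (mem_LW hS h₁ h₂ (IsSaturated.fullyCentralized hS hF hn)
      (Vc_le hn.1) le_rfl ⟨cAut_mem_YE hT₁ (Vc_le hn.1) h2.1 eβ, cAut_mem_YE hT₂ (Vc_le hn.1) h2.2 eβ⟩
      fun y hy => ?_) (hτ σ)
    obtain ⟨x, hx, rfl⟩ := (hθ.mono hl).mem_img.1 hy
    rw [eβ _ (Subgroup.mem_sup_left hy), hτ σ x hx, e x hx, hθ.map_conj h1 (hl hx)]
  · have hc := IsSaturated.fullyCentralized hS hF hn
    have hV := hU.fn_Vc hT hn
    obtain ⟨r', r1, er⟩ := (mem_resImg _).1 (spread_le hc hr)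
    obtain ⟨l', l1, el⟩ := (mem_resImg _).1 (spread_le hc hl)
    obtain ⟨s, hs, es⟩ := mem_autInducedBy.1 (mem_autS_of_ker hS hF hT hU hn (YW_ker r1) hr' er)
    have el' : ∀ x ∈ U, afun l'⁻¹ x = afun l⁻¹ x := fun x hx => by
      conv_lhs => rw [← afun_afun_inv l hx, ← el _ (afun_mem _ hx),
        afun_inv_afun _ (Subgroup.mem_sup_left (afun_mem _ hx))]
    have h1 := mem_autS_of_ker hS hF hT hU hn
      (mul_mem (mul_mem (YW_ker l1) (YW_ker r1)) (inv_mem (YW_ker l1))) hl' fun x hx => by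
        have h2 := afun_mem l⁻¹ hx
        rw [afun_mul _ _ (Subgroup.mem_sup_left hx), el' x hx,
          afun_mul _ _ (Subgroup.mem_sup_left h2), er _ h2, el _ (afun_mem _ h2), afun_mul _ _ hx,
          afun_mul _ _ h2]
    have hm := (mem_autGroup hV.1).1 l1.1.1.1
    obtain ⟨g, hg, eg⟩ := IsReceptive.ext (IsSaturated.receptive' hS hF hV) hm (img_afun _)
    have h2 := (mem_Next_afun_iff hs es).2 h1
    refine mem_autInducedBy.2 ⟨g s * s⁻¹, ⟨YE_foc hS h₁ hc (hU.1.trans inf_le_left) hs r1.1 l1.1 es hg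
      hm.le_Next h2 eg, YE_foc hS h₂ hc (hU.1.trans inf_le_right) hs r1.2 l1.2 es hg hm.le_Next h2 eg⟩,
      fun x hx => ?_⟩
    have es' : ∀ x ∈ U, afun r x = s * x * s⁻¹ := fun x hx => by
      rw [← er x hx, es x (Subgroup.mem_sup_left hx)]
    have h3 := afun_mem r⁻¹ hx
    have h4 := afun_mem l⁻¹ h3
    rw [afun_mul _ _ hx, afun_mul _ _ h3, afun_mul _ _ h4, ← el _ (afun_mem _ h4),
      ← eg _ (Subgroup.mem_sup_left (afun_mem _ h4)), es' _ h4,
      hg.map_conj h2 (hm.le_Next (Subgroup.mem_sup_left h4)), eg _ (Subgroup.mem_sup_left h4),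
      el _ h4, afun_afun_inv _ h3, afun_inv_conj es' hx]
    group
  · have := finite_of_le (h2.trans hT.1)
    refine downward_induction (S := K) (C := fun U => TC F (T₁ ⊓ T₂) U → ∀ a : MulAut U,
      (∀ x ∈ U, afun b x = afun a x) → a ∈ LW F E₁ E₂ U) ?_ U h1 hU a e
    intro U h1 ih hU a e
    rcases h1.eq_or_lt with rfl | hlt
    · rwa [← aut_ext e]
    have hKS := h2.trans hT.1
    have hm := ((mem_autGroup hKS).1 hb.1).mono (normalizerIn_le : normalizerIn K U ≤ K)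
    have := finite_of_le (normalizerIn_le : normalizerIn K U ≤ K)
    have hl := le_normalizerIn h1
    have hst : b ∈ stabAut K (normalizerIn K U) := mem_stabAut_of_finite normalizerIn_le
      fun x hx => ⟨afun_mem _ hx.1, by
        have := hm.mem_normalizer_img hl hx hx.2
        rw [img_eq_of_afun e] at this
        exact this.2⟩
    have e' := fun x hx => (afun_resAut normalizerIn_le ⟨b, hst⟩ (x := x) hx).symm
    exact LW_res_normal hS h₁ h₂ hU hl (normalizerIn_mono h2) (ih _ normalizerIn_le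
      (card_lt_of_lt (lt_normalizerIn (pgroup_of_le hS hKS) hlt))
      (hU.mono hl (normalizerIn_le.trans h2)) _ e') (hc.coprime_dvd_left
        ((orderOf_map_dvd _ _).trans (Subgroup.orderOf_mk _ _).dvd))
      fun x hx => by rw [← e' x (hl hx), e x hx]
  · have hc' := IsSaturated.fullyCentralized hS hF hn
    have hV := hU.fn_Vc hT hn
    have := finite_of_le hV.1
    have hK := h2.trans normalizerIn_le
    have hKN := h2.trans (normalizerIn_mono hT.1)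
    obtain ⟨β, b1, b2, b3⟩ := exists_coprime_lift le_sup_left (spread_le hc' ha) hc
    have hm := (mem_autGroup hV.1).1 b1.1.1.1
    obtain ⟨g, hg, eg⟩ := IsReceptive.ext (IsSaturated.receptive' hS hF hV) hm (img_afun _)
    have key : ∀ s ∈ K, ∃ t ∈ K, ∀ x ∈ U, afun a (s * x * s⁻¹) = t * afun a x * t⁻¹ := fun s hs => by
      obtain ⟨σ, eσ⟩ := exists_cAut (h2 hs).2
      obtain ⟨t, ht, et⟩ := mem_autInducedBy.1 (h3 σ (mem_autInducedBy.2 ⟨s, hs, eσ⟩))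
      exact ⟨t, ht, fun x hx => by rw [← et _ (afun_mem _ hx), afun_conj_eq _ _ x hx, eσ x hx]⟩
    have hN : K ≤ Next S _ (afun β) := fun s hs => by
      obtain ⟨σ, eσ⟩ := exists_cAut (norm_le_norm_Vc (hKN hs))
      obtain ⟨t, ht, et⟩ := key s hs
      obtain ⟨σ', eσ'⟩ := exists_cAut (hKN ht).2
      refine (mem_Next_afun_iff (hKN hs).1 eσ).2 (mem_autS_of_ker hS hF hT hU hn
        (modKer_conj hT hV.1 _ b1.1.1.1 _ (cAut_mem_modKer hT hV.1 (hK hs) eσ))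
        (mem_autInducedBy.2 ⟨t, (hKN ht).1, eσ'⟩) fun x hx => ?_)
      have h4 := afun_mem a⁻¹ hx
      conv_lhs => rw [← afun_afun_inv a hx, ← b3 _ h4,
        afun_conj_eq _ _ _ (Subgroup.mem_sup_left h4), eσ _ (Subgroup.mem_sup_left h4),
        b3 _ (conj_mem_of_mem_normalizerIn (hKN hs) h4), et _ h4, afun_afun_inv _ hx, ← eσ' x hx]
    have hW : Vc S U ⊔ K ≤ _ := sup_le hm.le_Next hN
    have hg' := hg.mono hW
    have := finite_of_le hg'.le
    have hgK : ∀ s ∈ K, g s ∈ K := fun s hs => by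
      obtain ⟨t, ht, et⟩ := key s hs
      have h4 := mem_of_same_conj' (hU.cent hT.1) (StronglyClosed.mem hT hg (hN hs) (hK hs)) (hK ht)
        fun x hx => by
          have h5 := afun_mem a⁻¹ hx
          have h6 := hg.map_conj (hN hs) (hm.le_Next (Subgroup.mem_sup_left h5))
          have h7 := conj_mem_of_mem_normalizerIn (hKN hs) h5
          rw [eg _ (Subgroup.mem_sup_left h7), eg _ (Subgroup.mem_sup_left h5), b3 _ h7, b3 _ h5,
            et _ h5, afun_afun_inv _ hx] at h6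
          exact h6.symm
      have h5 := mul_mem ht (h1 h4)
      rwa [mul_inv_cancel_left] at h5
    obtain ⟨γ, c1, ⟨m, γ₀, c0, e₀, rfl⟩, c2, c3⟩ := exists_coprime_ext le_sup_left hg'
      (hg'.img_eq_self (hg'.mem_of_sup (fun x hx => Subgroup.mem_sup_left (eg x hx ▸ afun_mem _ hx))
        fun x hx => Subgroup.mem_sup_right (hgK x hx))) eg b2
    have h4 : Vc S U ⊔ K ≤ normalizerIn S (Vc S U) :=
      sup_le (le_normalizerIn hV.1) (le_inf (hK.trans hT.1) (hKN.trans norm_le_norm_Vc))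
    have hst : γ₀ ^ m ∈ stabAut _ K := pow_mem (mem_stabAut_of_finite le_sup_right fun x hx =>
      e₀ x (Subgroup.mem_sup_right hx) ▸ hgK x hx) m
    obtain ⟨b, eb⟩ := exists_resAut le_sup_right hst
    have := finite_of_le (hK.trans hT.1)
    refine ⟨b, claimG hS h₁ h₂ (hU.mono h1 hK) (sup_le (sup_le (h1.trans (le_normalizerIn
      (hK.trans hT.1))) fun c (hc : c ∈ centralizerIn S U) => ⟨hc.1, mem_normalizer_of_finite fun x hx => ?_⟩)
      (le_normalizerIn (hK.trans hT.1))) le_sup_right hc' hU.1 le_sup_left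
      ⟨YE_grow hS h₁ hc' (hU.1.trans inf_le_left) le_rfl le_sup_left h4 c1 c2 b1.1 c3,
        YE_grow hS h₂ hc' (hU.1.trans inf_le_right) le_rfl le_sup_left h4 c1 c2 b1.2 c3⟩ c2 eb,
      fun x hx => by rw [← eb x (h1 hx), c3 x (Subgroup.mem_sup_left hx), b3 x hx]⟩
    have h5 : x⁻¹ * (c * x * c⁻¹) ∈ U := hU.cent hT.1 ⟨Subgroup.mul_mem _ (Subgroup.inv_mem _ (hK hx))
      (StronglyClosed.conj_mem hT hc.1 (hK hx)), by
        have h6 := mul_mem (cent_conj_mem (inv_mem (hKN hx)) hc) (inv_mem hc)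
        rw [show x⁻¹ * c * x⁻¹⁻¹ * c⁻¹ = x⁻¹ * (c * x * c⁻¹) by group] at h6
        exact h6.2⟩
    have h6 := mul_mem hx (h1 h5)
    rwa [mul_inv_cancel_left] at h6

theorem mem_YE_of_XA (hS : IsPGroup p S) (hE : E.IsWeaklyNormalIn F p) (hT : R ≤ T)
    (hR : F.StronglyClosed R) (hU : TC F R U) {β : MulAut (Vc S U)} (hβ : β ∈ modKer F _ R)
    (hc : (orderOf β).Coprime p) {a : MulAut U} (ha : a ∈ XA E R U)
    (e : ∀ x ∈ U, afun β x = afun a x) : β ∈ YE F E (Vc S U) := by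
  have hT' := hE.2.2.2.1
  have hUS := hU.1.trans hR.1
  have hUT := hU.1.trans hT
  have e1 : Vc T U = Vc S U ⊓ T := le_antisymm (le_inf (sup_le_sup_left (centralizerIn_mono hT'.1) _)
    (Vc_le hUT)) fun x hx => by
      obtain ⟨c, hc, u, hu, rfl⟩ := mem_Vc.1 hx.1
      exact mem_Vc.2 ⟨c, ⟨(Subgroup.mul_mem_cancel_right _ (hUT hu)).1 hx.2, hc.2⟩, u, hu, rfl⟩
  refine ⟨⟨hβ.1, fun x hx => hT (hβ.2 x hx)⟩, ?_⟩
  obtain ⟨β', b1, b2, b3⟩ := exists_res_aut hT' (Vc_le hUS) hβ.1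
  obtain ⟨c, hc', ec⟩ := mem_XA.1 ha
  have hm := ((mem_autGroup (Vc_le hUT)).1 hc'.1).mono e1.ge
  have hle : Vc S U ⊓ T ≤ S := inf_le_right.trans hT'.1
  have := finite_of_le hle
  obtain ⟨d, hd, ed⟩ := hm.exists_aut (hm.img_eq_self fun x hx => e1.le (afun_mem c (e1.ge hx)))
  have hUV : U ≤ Vc S U ⊓ T := le_inf le_sup_left hUT
  obtain ⟨j, hj⟩ := pelt_of_step (η := β' * d⁻¹) (pgroup_of_le hS hle) hUV (fun x hx => by
    have h1 := afun_mem a⁻¹ hx
    have h2 : afun d⁻¹ x = afun a⁻¹ x := by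
      conv_lhs => rw [← afun_afun_inv a hx, ← ec _ h1, ← ed _ (hUV h1), afun_inv_afun _ (hUV h1)]
    rw [afun_mul _ _ (hUV hx), h2, ← b2 _ (hUV h1), e _ h1, afun_afun_inv _ hx]) fun x hx => by
    have h1 := afun_mem d⁻¹ hx
    refine hU.mem_of_Vc hR.1 (mul_mem (inv_mem hx.1) (afun_mem _ hx).1) ?_
    have h2 := mul_mem (inv_mem (hc'.2 _ (e1.ge h1))) (hβ.2 _ h1.1)
    rw [← ed _ h1, afun_afun_inv _ hx, b2 _ h1, ← afun_mul _ _ hx] at h2
    rwa [show x⁻¹ * afun (β' * d⁻¹) x = ((afun d⁻¹ x)⁻¹ * x)⁻¹ * ((afun d⁻¹ x)⁻¹ *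
      afun (β' * d⁻¹) x) by group]
  have h4 := pelt_mem_of_mul (A := E.autGroup _) (fun x hx => by
    have := (IsInvariantIn.strongInv hE.2.2).conj_autGroup inf_le_right hle _ (inv_mem b1) x hx
    rwa [inv_inv] at this) (hc.coprime_dvd_left b3) (inv_mem hd) hj
  have h5 := mul_mem h4 hd
  rw [inv_mul_cancel_right] at h5
  exact ((mem_autGroup inf_le_right).1 h5).congr fun x hx => (b2 x hx).symm

theorem TC.of_sub (h : TC F R U) (hE : E.IsSubsystemOf F) : TC E R U :=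
  ⟨h.1, fun f hf => h.2 f (hf.sub hE)⟩

theorem normal_side (hS : IsPGroup p S) (hE : E.IsWeaklyNormalIn F p) {D : FusionSystem R}
    (hD : D.IsWeaklyNormalIn F p) (h : D.IsSubsystemOf E)
    (h' : ∀ a ∈ D.autGroup R, ∃ β ∈ modKer F (Vc S R) R, Mor E (Vc S R ⊓ T) (afun β) ∧
      ∀ x ∈ R, afun β x = afun a x) : D.IsNormalIn E p := by
  have hT := hE.2.2.2.1
  have := finite_of_le hT.1
  refine isNormalIn_of (IsWeaklyNormalIn.of_sub hS hD hE.1 h hE.2.2.1) fun a ha => ?_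
  obtain ⟨β, b1, b2, b3⟩ := h' a ha
  exact ⟨_, b2.mono (le_inf (sup_le_sup_left (centralizerIn_mono hT.1) _)
    (Vc_le (IsSubsystemOf.le h))), b3, fun c hc => b1.2 c
      (Subgroup.mem_sup_right (centralizerIn_mono hT.1 hc))⟩

theorem exists_wedge (hS : IsPGroup p S) (h₁ : E₁.IsWeaklyNormalIn F p)
    (h₂ : E₂.IsWeaklyNormalIn F p) : ∃ D : FusionSystem (T₁ ⊓ T₂),
      (D.IsNormalIn F p ∧ D.IsNormalIn E₁ p ∧ D.IsNormalIn E₂ p) ∧
      ∀ D' : FusionSystem (T₁ ⊓ T₂), D'.IsNormalIn F p → D'.IsNormalIn E₁ p → D'.IsNormalIn E₂ p →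
        D'.IsSubsystemOf D := by
  have hF := h₁.2.1
  have hT₁ := h₁.2.2.2.1
  have hT₂ := h₂.2.2.2.1
  have hT := stronglyClosed_inf hT₁ hT₂
  have := finite_of_le hT.1
  have := finite_of_le hT₁.1
  have := finite_of_le hT₂.1
  obtain ⟨D, d1, d2, d3, d4⟩ := (wedge_wdata hS h₁ h₂).exists_sys hS hF
  have hc := IsSaturated.fullyCentralized hS hF
    (fullyNormalized_of_normal hT.1 (StronglyClosed.le_normalizer hT))
  have key : ∀ a ∈ D.autGroup (T₁ ⊓ T₂), ∃ β ∈ YW F E₁ E₂ (Vc S (T₁ ⊓ T₂)),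
      ∀ x ∈ T₁ ⊓ T₂, afun β x = afun a x := fun a ha =>
    (mem_resImg _).1 (spread_le hc (d2 _ (TC.top hT) ha))
  have side : ∀ {T' : Subgroup Ω} {E : FusionSystem T'}, E.IsWeaklyNormalIn F p → T₁ ⊓ T₂ ≤ T' →
      (∀ W, YW F E₁ E₂ W ≤ YE F E W) → D.IsNormalIn E p := fun {T' E} hE h1 h2 => by
    refine normal_side hS hE d1 (d4 E h1 fun U hU a ha => ?_) fun a ha => ?_
    · obtain ⟨U', hU', hc'⟩ := exists_fullyCentralized F (hU.1.trans hT.1)
      obtain ⟨θ, hθ, rfl⟩ := isConj_iff.1 hU'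
      obtain ⟨τ, hτ, -⟩ := hθ.exists_transport rfl
      obtain ⟨b, hb, eb⟩ := (mem_resImg _).1 (spread_out ha hθ rfl hc' (hτ a))
      exact (IsInvariantIn.strongInv hE.2.2).mem_of_conj hE.2.2.2.1 (hU.1.trans h1) hθ
        ((h2 _ hb).2.mono (le_inf le_sup_left ((StronglyClosed.img_le hT hθ hU.1).trans h1)))
        fun x hx => by rw [eb _ (subset_img hx), hτ a x hx]
    · obtain ⟨β, b1, b2⟩ := key a ha
      exact ⟨β, YW_ker b1, (h2 _ b1).2, b2⟩
  refine ⟨D, ⟨isNormalIn_of d1 fun a ha => ?_, side h₁ inf_le_left fun _ => inf_le_left,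
    side h₂ inf_le_right fun _ => inf_le_right⟩, fun D' n0 n1 n2 => ?_⟩
  · obtain ⟨β, b1, b2⟩ := key a ha
    exact ⟨_, (mem_autGroup (Vc_le hT.1)).1 b1.1.1.1, b2, fun c hc =>
      (YW_ker b1).2 c (Subgroup.mem_sup_right hc)⟩
  refine sub_of_coprime (pgroup_of_le hS hT.1) (IsNormalIn.sat n0) le_rfl
    fun P hP _ hc _ a ha hco => ?_
  have h1 := (IsInvariantIn.centric_iff (IsNormalIn.inv n0)).1 hc
  refine d3 P h1 a ?_ hco
  obtain ⟨U', hU', hc'⟩ := exists_fullyCentralized F (hP.trans hT.1)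
  obtain ⟨θ, hθ, rfl⟩ := isConj_iff.1 hU'
  obtain ⟨τ, hτ, -⟩ := hθ.exists_transport rfl
  have h2 := h1.image hT hθ
  have h3 : τ a ∈ D'.autGroup _ := ((IsInvariantIn.strongInv (IsNormalIn.inv n0)).mor
    ((mem_autGroup hP).1 ha) le_rfl hP (fun _ hx => afun_mem _ hx) hθ (hτ a)).mem_autGroup
      fun _ _ => rfl
  obtain ⟨β, b1, b2, b3⟩ := XA_coprime hc'.1 (core_ext hS n0 h2 hc' h3) (by rwa [τ.orderOf_eq])
  exact spread_back hθ rfl (mem_LW hS h₁ h₂ hc' (Vc_le hc'.1) le_rfl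
    ⟨mem_YE_of_XA hS h₁ inf_le_left hT h2 b1 b2 (core_ext (pgroup_of_le hS hT₁.1) n1
      (h2.of_sub h₁.2.2.1) (fullyCentralized_of_sub hS hF hT₁ h₁.2.2.1 (h2.1.trans inf_le_left) hc')
        h3) b3,
    mem_YE_of_XA hS h₂ inf_le_right hT h2 b1 b2 (core_ext (pgroup_of_le hS hT₂.1) n2
      (h2.of_sub h₂.2.2.1) (fullyCentralized_of_sub hS hF hT₂ h₂.2.2.1 (h2.1.trans inf_le_right) hc')
        h3) b3⟩ b3) (hτ a)

end Cfsg.Agent.Fusion
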