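import Cfsg.Agent.Lib.Fusion.Good2

/-! Weakly normal subsystems from families of automorphism groups (abstract form of the wedge). -/

set_option autoImplicit false
set_option linter.unusedSectionVars false

namespace Cfsg.Agent.Fusion

open Cfsg Cfsg.FusionSystem

variable {Ω : Type*} [Group Ω] {S : Subgroup Ω} {F : FusionSystem S}
  {P Q R T U U' W W' M N K : Subgroup Ω} {f g k ψ θ : Ω → Ω} {p : ℕ}

structure YData (F : FusionSystem S) (T : Subgroup Ω) (p : ℕ)
    (Y : ∀ W : Subgroup Ω, Subgroup (MulAut W)) : Prop where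
  sc : F.StronglyClosed T
  ker : ∀ {W b}, b ∈ Y W → b ∈ modKer F W T
  transport : ∀ W W' f b b', Mor F W f → img f W = W' → b ∈ Y W →
    (∀ x ∈ W, afun b' (f x) = f (afun b x)) → b' ∈ Y W'
  res : ∀ {K M M' : Subgroup Ω} {b : MulAut M} {b' : MulAut M'}, F.IsFullyCentralized K →
    Vc S K ≤ M → M ≤ S → M' ≤ M → b ∈ Y M → (orderOf b).Coprime p →
    (∀ x ∈ M', afun b x = afun b' x) → b' ∈ Y M'
  inner : ∀ {W : Subgroup Ω} {t : Ω} {σ : MulAut W}, W ≤ S → t ∈ T →
    (∀ x ∈ W, afun σ x = t * x * t⁻¹) → σ ∈ Y W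
  grow : ∀ {K M W : Subgroup Ω} {β : MulAut W} {b : MulAut M}, F.IsFullyCentralized K →
    Vc S K ≤ M → M ≤ W → W ≤ normalizerIn S M → β ∈ F.autGroup W → (orderOf β).Coprime p →
    b ∈ Y M → (∀ x ∈ M, afun β x = afun b x) → β ∈ Y W
  foc : ∀ {U : Subgroup Ω} {s : Ω} {r : MulAut (Vc S U)}, F.IsFullyCentralized U → s ∈ S →
    r ∈ Y _ → (∀ x ∈ Vc S U, afun r x = s * x * s⁻¹) → ∃ c ∈ Vc S U, s * c⁻¹ ∈ T

noncomputable abbrev LY (F : FusionSystem S) (Y : ∀ W : Subgroup Ω, Subgroup (MulAut W))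
    (U : Subgroup Ω) : Subgroup (MulAut U) :=
  spread F (fun U => resImg (le_sup_left : U ≤ Vc S U) (Y _)) U

variable {Y : ∀ W : Subgroup Ω, Subgroup (MulAut W)} [hp : Fact p.Prime] [Finite S]

theorem YData.foc' (hY : YData F T p Y) (hU : F.IsFullyCentralized U) {s : Ω} (hs : s ∈ S)
    {r l : MulAut (Vc S U)} (hr : r ∈ Y _) (hl : l ∈ Y _)
    (es : ∀ x ∈ Vc S U, afun r x = s * x * s⁻¹) (hg : Mor F N g) (h1 : Vc S U ≤ N) (h2 : s ∈ N)
    (e : ∀ x ∈ Vc S U, g x = afun l x) : g s * s⁻¹ ∈ T := by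
  have hT := hY.sc
  obtain ⟨c, hcV, h3⟩ := hY.foc hU hs hr es
  have h4 := mul_mem h2 (inv_mem (h1 hcV))
  have h5 := StronglyClosed.mem hT hg h4 h3
  rw [hg.map_mul h2 (inv_mem (h1 hcV)), hg.map_inv (h1 hcV), e c hcV] at h5
  have h6 := mul_mem (mul_mem h5 (StronglyClosed.conj_mem hT (Vc_le hU.1 hcV)
    ((hY.ker hl).2 c hcV))) (inv_mem h3)
  rwa [show g s * (afun l c)⁻¹ * (c * (c⁻¹ * afun l c) * c⁻¹) * (s * c⁻¹)⁻¹ = g s * s⁻¹ by group]
    at h6

theorem mem_LY' (hS : IsPGroup p S) (hF : F.IsSaturated p) (hY : YData F T p Y)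
    (hU : F.IsFullyCentralized U) {b : MulAut (Vc S U)} (hb : b ∈ Y _) {a : MulAut U}
    (e : ∀ x ∈ U, afun b x = afun a x) : a ∈ LY F Y U :=
  mem_spread (xtrans_res hS hF hY.transport) hU
    ((((mem_autGroup (Vc_le hU.1)).1 (hY.ker hb).1).mono le_sup_left).mem_autGroup
      fun x hx => (e x hx).symm) ((mem_resImg _).2 ⟨b, hb, e⟩)

theorem mem_LY (hS : IsPGroup p S) (hF : F.IsSaturated p) (hY : YData F T p Y)
    (hU : F.IsFullyCentralized U) (hM : M ≤ S) (h : Vc S U ≤ M) {b : MulAut M}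
    (hb : b ∈ Y M) (hc : (orderOf b).Coprime p) {a : MulAut U}
    (e : ∀ x ∈ U, afun b x = afun a x) : a ∈ LY F Y U := by
  have hm := (mem_autGroup hM).1 (hY.ker hb).1
  have := finite_of_le (Vc_le hU.1)
  obtain ⟨c, -, ec⟩ := (hm.mono h).exists_aut ((hm.mono h).img_eq_self fun x hx => by
    have := hm.maps_Vc h x hx
    rwa [img_eq_of_afun e] at this)
  exact mem_LY' hS hF hY hU (hY.res hU h hM h hb hc fun x hx => (ec x hx).symm)
    fun x hx => by rw [ec x (Subgroup.mem_sup_left hx), e x hx]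

theorem claimY_fn (hS : IsPGroup p S) (hF : F.IsSaturated p) (hY : YData F T p Y)
    (hU : TC F T U) (hn : F.IsFullyNormalized U) :
    ∀ M, M ≤ normalizerIn S U → U ≤ M → ∀ K, F.IsFullyCentralized K → K ≤ T → Vc S K ≤ M →
      ∀ b ∈ Y M, (orderOf b).Coprime p → ∀ a : MulAut U, (∀ x ∈ U, afun b x = afun a x) →
        a ∈ LY F Y U := by
  have hT := hY.sc
  have := finite_of_le (normalizerIn_le : normalizerIn S U ≤ S)
  have hS' := pgroup_of_le hS (normalizerIn_le : normalizerIn S U ≤ S)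
  have hN := normSys_spec F hn.1
  have hNs := normalizer_saturated hS hF hn hN
  have hUs := IsNormal.stronglyClosed (normSys_normal hN hn.1)
  refine downward_induction fun M hM ih h1 K hK h2 h3 b hb hc a e => ?_
  by_cases hC : centralizerIn S U ≤ M
  · exact mem_LY hS hF hY (IsSaturated.fullyCentralized hS hF hn) (hM.trans normalizerIn_le)
      (sup_le h1 hC) hb hc e
  have key : ∀ M', (normSys F hn.1).IsFullyNormalized M' → Nat.card M = Nat.card M' → U ≤ M' →
      ∀ K, F.IsFullyCentralized K → K ≤ T → Vc S K ≤ M' →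
      ∀ w ∈ centralizerIn S U, w ∈ Subgroup.normalizer (M' : Set Ω) → w ∉ M' →
      ∀ b ∈ Y M', (orderOf b).Coprime p → ∀ a : MulAut U, (∀ x ∈ U, afun b x = afun a x) →
        a ∈ LY F Y U := by
    intro M hM hcard h1 K hK h2 h3 w hw hw1 hw2 b hb hc a e
    have hMS := hM.1.trans normalizerIn_le
    have := finite_of_le hMS
    have hm := normSys_mor_of hN hM.1 ((mem_autGroup hMS).1 (hY.ker hb).1) le_rfl h1 (img_eq_of_afun e)
    have hbN := (mem_autGroup hM.1).2 hm
    obtain ⟨g, hg, eg⟩ := IsReceptive.ext (IsSaturated.receptive' hS' hNs hM) hm (img_afun b)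
    have hle : normalizerIn (centralizerIn S U) M ≤ Next (normalizerIn S U) M (afun b) :=
      fun w hw => by
      obtain ⟨σ, eσ⟩ := exists_cAut hw.2
      have hwN := centralizerIn_le_normalizerIn hw.1
      have hσ := mem_autInducedBy.2 ⟨w, hwN, eσ⟩
      have hσ' := autInducedBy_le_autGroup (normSys F hn.1) hM.1 hσ
      have h4 : b * (σ * b⁻¹ * σ⁻¹) ∈ autCore (normSys F hn.1) p M := by
        refine le_autCore (N := modKer F M T ⊓ fixAll ((normSys F hn.1).autGroup M) U)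
          (fun x hx => hx.2.1) (pgroup_ker (F := F) (pgroup_of_le hS hMS) (hU.cent hT.1) h1
            (fun x hx => (hM.1 hx).2) fun x hx => ⟨hx.1, fun y hy => fixAll.fix hx.2 (h1 hy) hy⟩)
          (fun c hc x hx => ⟨modKer_conj hT hMS c (IsSubsystemOf.autGroup_le (normSys_sub hN) hM.1 hc)
            x hx.1, fixAll_conj c hc x hx.2⟩) ⟨mul_mem (hY.ker hb) (modKer_conj hT hMS σ
              (IsSubsystemOf.autGroup_le (normSys_sub hN) hM.1 hσ') _ (inv_mem (hY.ker hb))),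
            mul_mem hbN (mul_mem (mul_mem hσ' (inv_mem hbN)) (inv_mem hσ')), fun γ hγ x hx hx' => ?_⟩
        have h5 := StronglyClosed.mem hUs ((mem_autGroup hM.1).1 hγ) hx hx'
        generalize afun γ x = y at h5
        have h6 := StronglyClosed.mem hUs ((mem_autGroup hM.1).1 (inv_mem hbN)) (h1 h5) h5
        have h7 := (mem_centralizerIn.1 (inv_mem hw.1)).2 y h5
        rw [inv_inv] at h7
        rw [afun_mul _ _ (h1 h5), afun_mul _ _ (h1 h5), afun_inv_conj eσ (h1 h5), h7,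
          afun_mul _ _ (h1 h5), eσ _ (h1 h6), (mem_centralizerIn.1 hw.1).2 _ h6,
          afun_afun_inv _ (h1 h5)]
      refine (mem_Next_afun_iff hwN eσ).2 ?_
      have := mul_mem (autCore_le_of_fn hS' hNs hM h4) hσ
      rwa [show b * (σ * b⁻¹ * σ⁻¹) * σ = b * σ * b⁻¹ by group] at this
    have hW : M ⊔ normalizerIn (centralizerIn S U) M ≤ _ := sup_le hm.le_Next hle
    have hg' := (hg.mono hW).sub (normSys_sub hN)
    have := finite_of_le hg'.le
    have eM : img g M = M := img_eq_of_afun eg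
    have eU : img g U = U := img_eq_of_afun (α := a) fun x hx => by rw [eg x (h1 hx), e x hx]
    obtain ⟨β, b1, -, b2, b3⟩ := exists_coprime_ext le_sup_left hg' (hg'.img_eq_self (hg'.mem_of_sup
      (fun x hx => Subgroup.mem_sup_left (eM ▸ subset_img hx)) fun x hx => Subgroup.mem_sup_right
        ⟨eU ▸ hg'.mem_centralizer_img (h1.trans le_sup_left) (Subgroup.mem_sup_right hx)
          (mem_centralizerIn.1 hx.1).2, (eM ▸ hg'.mem_normalizer_img le_sup_left
            (Subgroup.mem_sup_right hx) hx.2).2⟩)) eg hc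
    have h4 : M ⊔ normalizerIn (centralizerIn S U) M ≤ normalizerIn S M :=
      sup_le (le_normalizerIn hMS) (normalizerIn_mono centralizerIn_le)
    exact ih _ (hg.mono hW).le (hcard ▸ card_lt_of_lt (lt_of_le_of_ne le_sup_left fun e =>
      hw2 (e.ge (Subgroup.mem_sup_right ⟨hw, hw1⟩)))) (h1.trans le_sup_left) K hK h2
      (h3.trans le_sup_left) β (hY.grow hK h3 le_sup_left h4 b1 b2 hb b3) b2 a
      fun x hx => by rw [b3 x (h1 hx), e x hx]
  obtain ⟨w, hw, hw1, hw2⟩ : ∃ w ∈ centralizerIn S U, w ∈ Subgroup.normalizer (M : Set Ω) ∧ w ∉ M := by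
    by_contra hh
    push Not at hh
    exact hC (le_of_normalizer_inf_le hS (hM.trans normalizerIn_le) centralizerIn_le
      (le_normalizer_of_conj_mem fun s hs x hx => cent_conj_mem (hM hs) hx) hh)
  obtain ⟨θ, hθ, hn'⟩ := IsSaturated.exists_normalizer_mor' hS' hNs hM
  have hl := le_normalizerIn hM
  have hθF := hθ.sub (normSys_sub hN)
  have hθM := hθF.mono hl
  have eU := StronglyClosed.img_eq hUs hθ (h1.trans hl)
  have hwN : w ∈ normalizerIn (normalizerIn S U) M := ⟨centralizerIn_le_normalizerIn hw, hw1⟩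
  obtain ⟨τ, hτ, -⟩ := hθM.exists_transport rfl
  obtain ⟨τ', hτ', -⟩ := (hθM.mono h1).exists_transport eU
  refine spread_back (hθM.mono h1) eU (key _ hn' hθM.card_img.symm (eU.ge.trans (img_mono h1)) _
    (fullyCentralized_img hθM h3 hK) (StronglyClosed.img_le hT (hθM.mono (le_sup_left.trans h3)) h2)
    (by rw [← hθM.img_Vc h3 hK]; exact img_mono h3) (θ w)
    (eU ▸ hθF.mem_centralizer_img (h1.trans hl) hwN (mem_centralizerIn.1 hw).2)
    (hθF.mem_normalizer_img hl hwN hw1).2 (fun h => hw2 ((hθF.apply_mem_img_iff hl hwN).1 h)) (τ b)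
    (hY.transport _ _ _ _ _ hθM rfl hb (hτ b)) (by rwa [τ.orderOf_eq]) (τ' a) fun y hy => ?_)
    (hτ' a)
  obtain ⟨x, hx, rfl⟩ := (hθM.mono h1).mem_img.1 (eU.symm ▸ hy)
  rw [hτ b x (h1 hx), hτ' a x hx, e x hx]

theorem claimY (hS : IsPGroup p S) (hF : F.IsSaturated p) (hY : YData F T p Y)
    (hU : TC F T U) (hM : M ≤ normalizerIn S U) (h1 : U ≤ M) (hK : F.IsFullyCentralized K)
    (h2 : K ≤ T) (h3 : Vc S K ≤ M) {b : MulAut M} (hb : b ∈ Y M)
    (hc : (orderOf b).Coprime p) {a : MulAut U} (e : ∀ x ∈ U, afun b x = afun a x) :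
    a ∈ LY F Y U := by
  have hT := hY.sc
  have hUS := hU.1.trans hT.1
  obtain ⟨θ, hθ, hn⟩ := IsSaturated.exists_normalizer_mor' hS hF hUS
  have hθM := hθ.mono hM
  obtain ⟨τ, hτ, -⟩ := hθM.exists_transport rfl
  obtain ⟨τ', hτ', -⟩ := (hθM.mono h1).exists_transport rfl
  refine spread_back (hθM.mono h1) rfl (claimY_fn hS hF hY (hU.image hT (hθM.mono h1)) hn _
    (hθM.img_le_normalizerIn h1 hM) (img_mono h1) _ (fullyCentralized_img hθM h3 hK)
    (StronglyClosed.img_le hT (hθM.mono (le_sup_left.trans h3)) h2)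
    (by rw [← hθM.img_Vc h3 hK]; exact img_mono h3) (τ b)
    (hY.transport _ _ _ _ _ hθM rfl hb (hτ b)) (by rwa [τ.orderOf_eq]) (τ' a) fun y hy => ?_)
    (hτ' a)
  obtain ⟨x, hx, rfl⟩ := (hθM.mono h1).mem_img.1 hy
  rw [hτ b x (h1 hx), hτ' a x hx, e x hx]

theorem LY_res_normal (hS : IsPGroup p S) (hF : F.IsSaturated p)
    (hY : YData F T p Y) (hU : TC F T U) (h1 : U ≤ K)
    (h2 : K ≤ normalizerIn T U) {b : MulAut K} (hb : b ∈ LY F Y K)
    (hc : (orderOf b).Coprime p) {a : MulAut U} (e : ∀ x ∈ U, afun b x = afun a x) :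
    a ∈ LY F Y U := by
  have hT := hY.sc
  have hKT := h2.trans normalizerIn_le
  obtain ⟨K', hK', hc'⟩ := exists_fullyCentralized F (hKT.trans hT.1)
  obtain ⟨θ, hθ, rfl⟩ := isConj_iff.1 hK'
  obtain ⟨τ, hτ, -⟩ := hθ.exists_transport rfl
  obtain ⟨τ', hτ', -⟩ := (hθ.mono h1).exists_transport rfl
  have := finite_of_le (Vc_le hc'.1)
  obtain ⟨β, b1, b2, b3⟩ := exists_coprime_lift le_sup_left (spread_out hb hθ rfl hc' (hτ b))
    (by rwa [τ.orderOf_eq])
  refine spread_back (hθ.mono h1) rfl (claimY hS hF hY (hU.image hT (hθ.mono h1)) (sup_le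
    (hθ.img_le_normalizerIn h1 (h2.trans (normalizerIn_mono hT.1))) ((centralizerIn_anti
      (img_mono h1)).trans centralizerIn_le_normalizerIn)) ((img_mono h1).trans le_sup_left) hc'
    (StronglyClosed.img_le hT hθ hKT) le_rfl b1 b2 fun y hy => ?_) (hτ' a)
  obtain ⟨x, hx, rfl⟩ := (hθ.mono h1).mem_img.1 hy
  rw [b3 _ (subset_img (h1 hx)), hτ b x (h1 hx), hτ' a x hx, e x hx]

theorem YData.wdata (hS : IsPGroup p S) (hF : F.IsSaturated p)
    (hY : YData F T p Y) : WData F T p (TC F T) (LY F Y) := by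
  have hT := hY.sc
  refine ⟨hT, id, fun hU hf => hU.image hT hf, fun hU h1 h2 => hU.mono h1 h2,
    fun {P} hP hn hH hh => hH (tc_of_receptive hT (IsSaturated.receptive' hS hF hn) hP
      fun c hc => hh ⟨centralizerIn_le_hat (centralizerIn_mono hT.1 hc), hc.1⟩), fun _ _ ha => ha.1,
    fun {U} hU σ hσ => ?_, fun _ hf e ha e' => spread_inv hf e ha e',
    fun {U r l} hU hn hr hr' hl hl' => ?_, fun {U K a b} hU h1 h2 hb hc e => ?_,
    fun {U K a} hU hn h1 h2 ha hc h3 => ?_⟩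
  · obtain ⟨t, ht, e⟩ := mem_autInducedBy.1 hσ
    have hUS := hU.1.trans hT.1
    obtain ⟨θ, hθ, hn⟩ := IsSaturated.exists_normalizer_mor' hS hF hUS
    have hl := le_normalizerIn hUS
    have h1 : t ∈ normalizerIn S U := ⟨hT.1 ht, mem_normalizer_of_afun e⟩
    have h2 := StronglyClosed.mem hT hθ h1 ht
    obtain ⟨τ, hτ, -⟩ := (hθ.mono hl).exists_transport rfl
    obtain ⟨β, eβ⟩ := exists_cAut (norm_le_norm_Vc (hθ.normalizerIn_mem hUS h1))
    refine spread_back (hθ.mono hl) rfl (mem_LY' hS hF hY (IsSaturated.fullyCentralized hS hF hn)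
      (hY.inner (Vc_le hn.1) h2 eβ)
      fun y hy => ?_) (hτ σ)
    obtain ⟨x, hx, rfl⟩ := (hθ.mono hl).mem_img.1 hy
    rw [eβ _ (Subgroup.mem_sup_left hy), hτ σ x hx, e x hx, hθ.map_conj h1 (hl hx)]
  · have hc := IsSaturated.fullyCentralized hS hF hn
    have hV := hU.fn_Vc hT hn
    obtain ⟨r', r1, er⟩ := (mem_resImg _).1 (spread_le hc hr)
    obtain ⟨l', l1, el⟩ := (mem_resImg _).1 (spread_le hc hl)
    obtain ⟨s, hs, es⟩ := mem_autInducedBy.1 (mem_autS_of_ker hS hF hT hU hn (hY.ker r1) hr' er)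
    have el' : ∀ x ∈ U, afun l'⁻¹ x = afun l⁻¹ x := fun x hx => by
      conv_lhs => rw [← afun_afun_inv l hx, ← el _ (afun_mem _ hx),
        afun_inv_afun _ (Subgroup.mem_sup_left (afun_mem _ hx))]
    have h1 := mem_autS_of_ker hS hF hT hU hn
      (mul_mem (mul_mem (hY.ker l1) (hY.ker r1)) (inv_mem (hY.ker l1))) hl' fun x hx => by
        have h2 := afun_mem l⁻¹ hx
        rw [afun_mul _ _ (Subgroup.mem_sup_left hx), el' x hx,
          afun_mul _ _ (Subgroup.mem_sup_left h2), er _ h2, el _ (afun_mem _ h2), afun_mul _ _ hx,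
          afun_mul _ _ h2]
    have hm := (mem_autGroup hV.1).1 (hY.ker l1).1
    obtain ⟨g, hg, eg⟩ := IsReceptive.ext (IsSaturated.receptive' hS hF hV) hm (img_afun _)
    have h2 := (mem_Next_afun_iff hs es).2 h1
    refine mem_autInducedBy.2 ⟨g s * s⁻¹, hY.foc' hc hs r1 l1 es hg hm.le_Next h2 eg,
      fun x hx => ?_⟩
    have es' : ∀ x ∈ U, afun r x = s * x * s⁻¹ := fun x hx => by
      rw [← er x hx, es x (Subgroup.mem_sup_left hx)]
    have h3 := afun_mem r⁻¹ hx
    have h4 := afun_mem l⁻¹ h3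
    rw [afun_mul _ _ hx, afun_mul _ _ h3, afun_mul _ _ h4, ← el _ (afun_mem _ h4),
      ← eg _ (Subgroup.mem_sup_left (afun_mem _ h4)), es' _ h4,
      hg.map_conj h2 (hm.le_Next (Subgroup.mem_sup_left h4)), eg _ (Subgroup.mem_sup_left h4),
      el _ h4, afun_afun_inv _ h3, afun_inv_conj es' hx]
    group
  · have := finite_of_le (h2.trans hT.1)
    refine downward_induction (S := K) (C := fun U => TC F T U → ∀ a : MulAut U,
      (∀ x ∈ U, afun b x = afun a x) → a ∈ LY F Y U) ?_ U h1 hU a e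
    intro U h1 ih hU a e
    rcases h1.eq_or_lt with rfl | hlt
    · rwa [← aut_ext e]
    have hKS := h2.trans hT.1
    have hm := ((mem_autGroup hKS).1 hb.1).mono (normalizerIn_le : normalizerIn K U ≤ K)
    have := finite_of_le (normalizerIn_le : normalizerIn K U ≤ K)
    have hl := le_normalizerIn h1
    have hst : b ∈ stabAut K (normalizerIn K U) := mem_stabAut_of_finite normalizerIn_le
      fun x hx => ⟨afun_mem _ hx.1, by
        have := hm.mem_normalizer_img hl hx hx.2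
        rw [img_eq_of_afun e] at this
        exact this.2⟩
    have e' := fun x hx => (afun_resAut normalizerIn_le ⟨b, hst⟩ (x := x) hx).symm
    exact LY_res_normal hS hF hY hU hl (normalizerIn_mono h2) (ih _ normalizerIn_le
      (card_lt_of_lt (lt_normalizerIn (pgroup_of_le hS hKS) hlt))
      (hU.mono hl (normalizerIn_le.trans h2)) _ e') (hc.coprime_dvd_left
        ((orderOf_map_dvd _ _).trans (Subgroup.orderOf_mk _ _).dvd))
      fun x hx => by rw [← e' x (hl hx), e x hx]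
  · have hc' := IsSaturated.fullyCentralized hS hF hn
    have hV := hU.fn_Vc hT hn
    have := finite_of_le hV.1
    have hK := h2.trans normalizerIn_le
    have hKN := h2.trans (normalizerIn_mono hT.1)
    obtain ⟨β, b1, b2, b3⟩ := exists_coprime_lift le_sup_left (spread_le hc' ha) hc
    have hm := (mem_autGroup hV.1).1 (hY.ker b1).1
    obtain ⟨g, hg, eg⟩ := IsReceptive.ext (IsSaturated.receptive' hS hF hV) hm (img_afun _)
    have key : ∀ s ∈ K, ∃ t ∈ K, ∀ x ∈ U, afun a (s * x * s⁻¹) = t * afun a x * t⁻¹ := fun s hs => by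
      obtain ⟨σ, eσ⟩ := exists_cAut (h2 hs).2
      obtain ⟨t, ht, et⟩ := mem_autInducedBy.1 (h3 σ (mem_autInducedBy.2 ⟨s, hs, eσ⟩))
      exact ⟨t, ht, fun x hx => by rw [← et _ (afun_mem _ hx), afun_conj_eq _ _ x hx, eσ x hx]⟩
    have hN : K ≤ Next S _ (afun β) := fun s hs => by
      obtain ⟨σ, eσ⟩ := exists_cAut (norm_le_norm_Vc (hKN hs))
      obtain ⟨t, ht, et⟩ := key s hs
      obtain ⟨σ', eσ'⟩ := exists_cAut (hKN ht).2
      refine (mem_Next_afun_iff (hKN hs).1 eσ).2 (mem_autS_of_ker hS hF hT hU hn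
        (modKer_conj hT hV.1 _ (hY.ker b1).1 _ (cAut_mem_modKer hT hV.1 (hK hs) eσ))
        (mem_autInducedBy.2 ⟨t, (hKN ht).1, eσ'⟩) fun x hx => ?_)
      have h4 := afun_mem a⁻¹ hx
      conv_lhs => rw [← afun_afun_inv a hx, ← b3 _ h4,
        afun_conj_eq _ _ _ (Subgroup.mem_sup_left h4), eσ _ (Subgroup.mem_sup_left h4),
        b3 _ (conj_mem_of_mem_normalizerIn (hKN hs) h4), et _ h4, afun_afun_inv _ hx, ← eσ' x hx]
    have hW : Vc S U ⊔ K ≤ _ := sup_le hm.le_Next hN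
    have hg' := hg.mono hW
    have := finite_of_le hg'.le
    have hgK : ∀ s ∈ K, g s ∈ K := fun s hs => by
      obtain ⟨t, ht, et⟩ := key s hs
      have h4 := mem_of_same_conj' (hU.cent hT.1) (StronglyClosed.mem hT hg (hN hs) (hK hs)) (hK ht)
        fun x hx => by
          have h5 := afun_mem a⁻¹ hx
          have h6 := hg.map_conj (hN hs) (hm.le_Next (Subgroup.mem_sup_left h5))
          have h7 := conj_mem_of_mem_normalizerIn (hKN hs) h5
          rw [eg _ (Subgroup.mem_sup_left h7), eg _ (Subgroup.mem_sup_left h5), b3 _ h7, b3 _ h5,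
            et _ h5, afun_afun_inv _ hx] at h6
          exact h6.symm
      have h5 := mul_mem ht (h1 h4)
      rwa [mul_inv_cancel_left] at h5
    obtain ⟨γ, c1, ⟨m, γ₀, c0, e₀, rfl⟩, c2, c3⟩ := exists_coprime_ext le_sup_left hg'
      (hg'.img_eq_self (hg'.mem_of_sup (fun x hx => Subgroup.mem_sup_left (eg x hx ▸ afun_mem _ hx))
        fun x hx => Subgroup.mem_sup_right (hgK x hx))) eg b2
    have h4 : Vc S U ⊔ K ≤ normalizerIn S (Vc S U) :=
      sup_le (le_normalizerIn hV.1) (le_inf (hK.trans hT.1) (hKN.trans norm_le_norm_Vc))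
    have hst : γ₀ ^ m ∈ stabAut _ K := pow_mem (mem_stabAut_of_finite le_sup_right fun x hx =>
      e₀ x (Subgroup.mem_sup_right hx) ▸ hgK x hx) m
    obtain ⟨b, eb⟩ := exists_resAut le_sup_right hst
    have := finite_of_le (hK.trans hT.1)
    refine ⟨b, claimY hS hF hY (hU.mono h1 hK) (sup_le (sup_le (h1.trans (le_normalizerIn
      (hK.trans hT.1))) fun c (hc : c ∈ centralizerIn S U) => ⟨hc.1, mem_normalizer_of_finite fun x hx => ?_⟩)
      (le_normalizerIn (hK.trans hT.1))) le_sup_right hc' hU.1 le_sup_left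
      (hY.grow hc' le_rfl le_sup_left h4 c1 c2 b1 c3) c2 eb,
      fun x hx => by rw [← eb x (h1 hx), c3 x (Subgroup.mem_sup_left hx), b3 x hx]⟩
    have h5 : x⁻¹ * (c * x * c⁻¹) ∈ U := hU.cent hT.1 ⟨Subgroup.mul_mem _ (Subgroup.inv_mem _ (hK hx))
      (StronglyClosed.conj_mem hT hc.1 (hK hx)), by
        have h6 := mul_mem (cent_conj_mem (inv_mem (hKN hx)) hc) (inv_mem hc)
        rw [show x⁻¹ * c * x⁻¹⁻¹ * c⁻¹ = x⁻¹ * (c * x * c⁻¹) by group] at h6
        exact h6.2⟩
    have h6 := mul_mem hx (h1 h5)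
    rwa [mul_inv_cancel_left] at h6

end Cfsg.Agent.Fusion
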